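import Cfsg.Prelude.Def_Local
import Cfsg.Prelude.Def_Solvable
import Mathlib.GroupTheory.SchurZassenhaus
import Mathlib.GroupTheory.Sylow

set_option autoImplicit false

namespace Cfsg.Agent.Lib.Helper81

open Cfsg

variable {G : Type*} [Group G]

theorem pPrimeCore_normal (p : ℕ) : (pPrimeCore p G).Normal :=
  Subgroup.sSup_normal _ (fun _ h => h.1)

theorem pCore_normal (p : ℕ) : (pCore p G).Normal :=
  Subgroup.sSup_normal _ (fun _ h => h.1)

theorem le_pPrimeCore {p : ℕ} {N : Subgroup G} (hN : N.Normal) (hc : (Nat.card N).Coprime p) :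
    N ≤ pPrimeCore p G :=
  le_sSup ⟨hN, hc⟩

theorem le_pCore {p : ℕ} {N : Subgroup G} (hN : N.Normal) (hc : IsPGroup p N) :
    N ≤ pCore p G :=
  le_sSup ⟨hN, hc⟩

/-- In a finite lattice of subgroups, the supremum of a family closed under binary joins and
containing `⊥` belongs to the family. -/
theorem sSup_mem_of_sup_closed [Finite G] (S : Set (Subgroup G)) (hbot : ⊥ ∈ S)
    (hsup : ∀ A ∈ S, ∀ B ∈ S, A ⊔ B ∈ S) : sSup S ∈ S := by
  classical
  have hfin : S.Finite := Set.toFinite S
  have : sSup S = hfin.toFinset.sup id := by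
    rw [Finset.sup_id_eq_sSup]; simp
  rw [this]
  apply Finset.sup_induction (p := fun A => A ∈ S) hbot
  · intro a ha b hb; exact hsup a ha b hb
  · intro b hb; simpa using hb

theorem card_sup_eq_of_normal (A B : Subgroup G) [hB : B.Normal] :
    Nat.card (A ⊔ B : Subgroup G) = Nat.card B * B.relIndex A := by
  rw [← Subgroup.relIndex_bot_left, ← Subgroup.relIndex_bot_left,
    ← Subgroup.relIndex_mul_relIndex ⊥ B (A ⊔ B) bot_le le_sup_right, Subgroup.relIndex_sup_right]

theorem card_sup_dvd_of_normal (A B : Subgroup G) [hB : B.Normal] :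
    Nat.card (A ⊔ B : Subgroup G) ∣ Nat.card B * Nat.card A := by
  rw [card_sup_eq_of_normal]
  exact Nat.mul_dvd_mul_left _ (Subgroup.relIndex_dvd_card B A)

theorem card_pPrimeCore_coprime [Finite G] (p : ℕ) : (Nat.card (pPrimeCore p G)).Coprime p := by
  have := sSup_mem_of_sup_closed {N : Subgroup G | N.Normal ∧ (Nat.card N).Coprime p}
    ⟨inferInstance, by simp⟩ (by
      rintro A ⟨hA, hAc⟩ B ⟨hB, hBc⟩
      refine ⟨inferInstance, ?_⟩
      exact Nat.Coprime.coprime_dvd_left (card_sup_dvd_of_normal A B) (Nat.Coprime.mul_left hBc hAc))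
  exact this.2

theorem isPGroup_pCore [Finite G] (p : ℕ) [hp : Fact p.Prime] : IsPGroup p (pCore p G) := by
  have := sSup_mem_of_sup_closed {N : Subgroup G | N.Normal ∧ IsPGroup p N}
    ⟨inferInstance, IsPGroup.of_bot⟩ (by
      rintro A ⟨hA, hAc⟩ B ⟨hB, hBc⟩
      refine ⟨inferInstance, ?_⟩
      exact IsPGroup.to_sup_of_normal_right hAc hBc)
  exact this.2

end Cfsg.Agent.Lib.Helper81
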