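import Cfsg.Agent.Lib.Helper81.Cores

set_option autoImplicit false

namespace Cfsg.Agent.Lib.Helper81

open Cfsg

variable {G : Type*} [Group G]

theorem relIndex_dvd_relIndex_of_normal (H K L : Subgroup G) [H.Normal] (hKL : K ≤ L) :
    H.relIndex K ∣ H.relIndex L := by
  rw [← Subgroup.relIndex_subgroupOf hKL]
  exact Subgroup.relIndex_dvd_index_of_normal (H.subgroupOf L) (K.subgroupOf L)

/-- A `p`-power or `p'` number: closed under divisors. -/
theorem pow_or_coprime_of_dvd {p : ℕ} (hp : p.Prime) {a b : ℕ} (hab : a ∣ b)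
    (hb : (∃ m : ℕ, b = p ^ m) ∨ b.Coprime p) : (∃ m : ℕ, a = p ^ m) ∨ a.Coprime p := by
  rcases hb with ⟨m, rfl⟩ | hb
  · left
    obtain ⟨k, _, hk⟩ := (Nat.dvd_prime_pow hp).mp hab
    exact ⟨k, hk⟩
  · right
    exact Nat.Coprime.coprime_dvd_left hab hb

/-- Key lemma on `p`-solvable groups: between two normal subgroups `R < X` there is a normal
subgroup `Y` with `R < Y ≤ X` and `|Y : R|` a `p`-power or prime to `p`. -/
theorem IsPSolvable.exists_normal_between {p : ℕ} (hp : p.Prime) (hG : IsPSolvable p G)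
    (R X : Subgroup G) [hR : R.Normal] [hX : X.Normal] (hRX : R ≤ X) (hne : R ≠ X) :
    ∃ Y : Subgroup G, Y.Normal ∧ R ≤ Y ∧ Y ≤ X ∧ R ≠ Y ∧
      ((∃ m : ℕ, R.relIndex Y = p ^ m) ∨ (R.relIndex Y).Coprime p) := by
  obtain ⟨n, H, h0, hlast, hmono, hnorm, hstep⟩ := hG
  let Y : Fin (n + 1) → Subgroup G := fun i => R ⊔ (X ⊓ H i)
  have hY0 : Y 0 = R := by simp [Y, h0]
  have hYlast : Y (Fin.last n) = X := by simp [Y, hlast, hRX]
  have hex : ∃ i : Fin n, Y i.castSucc = R ∧ Y i.succ ≠ R := by
    by_contra hcon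
    push Not at hcon
    have : ∀ i : Fin (n + 1), Y i = R := by
      intro i
      induction i using Fin.induction with
      | zero => exact hY0
      | succ i ih => exact hcon i ih
    exact hne ((this (Fin.last n)).symm.trans hYlast)
  obtain ⟨i, hi1, hi2⟩ := hex
  haveI := hnorm i.succ
  haveI := hnorm i.castSucc
  refine ⟨Y i.succ, inferInstance, le_sup_left, sup_le hRX inf_le_left, fun h => hi2 h.symm, ?_⟩
  apply pow_or_coprime_of_dvd hp _ (hstep i)
  have hle : X ⊓ H i.castSucc ≤ R := by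
    rw [← hi1]; exact le_sup_right
  have hHH : H i.castSucc ≤ H i.succ := hmono (Fin.castSucc_le_succ i)
  show R.relIndex (R ⊔ (X ⊓ H i.succ)) ∣ _
  rw [Subgroup.relIndex_sup_left]
  -- R.relIndex (X ⊓ H_{i+1}) ∣ (X ⊓ H_i).relIndex (X ⊓ H_{i+1})
  have h1 : R.relIndex (X ⊓ H i.succ) ∣ (X ⊓ H i.castSucc).relIndex (X ⊓ H i.succ) := by
    rw [← Subgroup.inf_relIndex_right R]
    apply Subgroup.relIndex_dvd_of_le_left
    exact le_inf hle (inf_le_inf_left X hHH)
  have h2 : (X ⊓ H i.castSucc).relIndex (X ⊓ H i.succ) = (H i.castSucc).relIndex (X ⊓ H i.succ) := by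
    rw [← Subgroup.inf_relIndex_right (X ⊓ H i.castSucc), ← Subgroup.inf_relIndex_right (H i.castSucc)]
    congr 1
    apply le_antisymm
    · exact le_inf (inf_le_left.trans inf_le_right) inf_le_right
    · exact le_inf (le_inf (inf_le_right.trans inf_le_left) inf_le_left) inf_le_right
  rw [h2] at h1
  exact h1.trans (relIndex_dvd_relIndex_of_normal _ _ _ inf_le_right)


/-- A central `p`-subgroup `Z` of `p'` index `m` has a complement, which is exactly the set of
elements of order dividing `m`. -/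
theorem exists_central_complement {D : Type*} [Group D] [Finite D] {p : ℕ} [hp : Fact p.Prime]
    (Z : Subgroup D) (hZc : Z ≤ Subgroup.center D) (hZp : IsPGroup p Z)
    (hm : (Z.index).Coprime p) :
    ∃ K : Subgroup D, Nat.card K = Z.index ∧ ∀ d : D, d ∈ K ↔ d ^ Z.index = 1 := by
  haveI : Z.Normal := ⟨fun z hz g => by
    have := hZc hz
    rw [Subgroup.mem_center_iff] at this
    rw [this g, mul_inv_cancel_right]; exact hz⟩
  obtain ⟨k, hk⟩ := IsPGroup.iff_card.mp hZp
  have hcop : Nat.Coprime (Nat.card Z) Z.index := by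
    rw [hk]; exact Nat.Coprime.pow_left k hm.symm
  obtain ⟨K, hK⟩ := Subgroup.exists_right_complement'_of_coprime hcop
  have hKcard : Nat.card K = Z.index := by
    have h1 := hK.card_mul_card
    have h2 := Z.card_mul_index
    have hpos : 0 < Nat.card Z := Nat.card_pos
    exact Nat.eq_of_mul_eq_mul_left hpos (h1.trans h2.symm)
  refine ⟨K, hKcard, ?_⟩
  intro d
  constructor
  · intro hd
    have : (⟨d, hd⟩ : K) ^ Nat.card K = 1 := pow_card_eq_one'
    rw [hKcard] at this
    simpa using congrArg Subtype.val this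
  · intro hd
    obtain ⟨⟨z, c⟩, hzc⟩ := hK.2 d
    simp only at hzc
    have hzcomm : Commute (z : D) (c : D) := by
      have := hZc z.2
      rw [Subgroup.mem_center_iff] at this
      exact (this c).symm
    have hc : (c : D) ^ Z.index = 1 := by
      have : c ^ Nat.card K = 1 := pow_card_eq_one'
      rw [hKcard] at this
      simpa using congrArg Subtype.val this
    have hz : (z : D) ^ Z.index = 1 := by
      rw [← hzc, hzcomm.mul_pow, hc, mul_one] at hd
      exact hd
    have hz1 : (z : D) = 1 := by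
      obtain ⟨j, hj⟩ := hZp z
      have hj' : (z : D) ^ p ^ j = 1 := by simpa using congrArg Subtype.val hj
      have h1 : orderOf (z : D) ∣ Z.index := orderOf_dvd_of_pow_eq_one hz
      have h2 : orderOf (z : D) ∣ p ^ j := orderOf_dvd_of_pow_eq_one hj'
      have h3 : orderOf (z : D) ∣ Nat.gcd Z.index (p ^ j) := Nat.dvd_gcd h1 h2
      have h4 : Nat.gcd Z.index (p ^ j) = 1 := Nat.Coprime.pow_right j hm
      rw [h4, Nat.dvd_one, orderOf_eq_one_iff] at h3
      exact h3
    rw [← hzc, hz1, one_mul]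
    exact c.2


/-- Hall--Higman Lemma 1.2.3: in a finite `p`-solvable group with `O_{p'}(G) = 1`, the `p`-core
contains its centralizer. -/
theorem centralizer_pCore_le {G : Type*} [Group G] [Finite G] {p : ℕ} [hp : Fact p.Prime]
    (hG : IsPSolvable p G) (h : pPrimeCore p G = ⊥) :
    Subgroup.centralizer (pCore p G : Set G) ≤ pCore p G := by
  set R := pCore p G with hRdef
  haveI hRn : R.Normal := pCore_normal p
  have hRp : IsPGroup p R := isPGroup_pCore p
  set C := Subgroup.centralizer (R : Set G) with hCdef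
  haveI hCn : C.Normal := Subgroup.normal_centralizer
  by_contra hCR
  have hne : R ≠ C ⊔ R := by
    intro heq
    apply hCR
    rw [heq]; exact le_sup_left
  obtain ⟨Y, hYn, hRY, hYX, hRneY, hidx⟩ :=
    IsPSolvable.exists_normal_between hp.out hG R (C ⊔ R) le_sup_right hne
  have hYcard : Nat.card Y = Nat.card R * R.relIndex Y := by
    rw [← Subgroup.relIndex_bot_left, ← Subgroup.relIndex_bot_left,
      Subgroup.relIndex_mul_relIndex ⊥ R Y bot_le hRY]
  rcases hidx with ⟨m, hm⟩ | hcop
  · -- Y is a normal p-subgroup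
    obtain ⟨k, hk⟩ := IsPGroup.iff_card.mp hRp
    have : IsPGroup p Y := IsPGroup.of_card (n := k + m) (by rw [hYcard, hk, hm, pow_add])
    exact hRneY (le_antisymm hRY (le_pCore hYn this))
  · -- the p'-case
    set D := Y ⊓ C with hDdef
    haveI hDn : D.Normal := inferInstance
    have hDR : D ⊔ R = Y := by
      apply le_antisymm (sup_le inf_le_left hRY)
      intro y hy
      have hy' := hYX hy
      rw [Subgroup.mem_sup_of_normal_right] at hy'
      obtain ⟨c, hc, r, hr, rfl⟩ := hy'
      have hcY : c ∈ Y := by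
        have : c = (c * r) * r⁻¹ := by group
        rw [this]; exact Y.mul_mem hy (Y.inv_mem (hRY hr))
      exact Subgroup.mul_mem_sup ⟨hcY, hc⟩ hr
    have hidxD : R.relIndex D = R.relIndex Y := by
      rw [← hDR, Subgroup.relIndex_sup_right]
    -- inside the group D
    let Z : Subgroup D := R.subgroupOf D
    have hZidx : Z.index = R.relIndex Y := by
      rw [← hidxD]; rfl
    have hZc : Z ≤ Subgroup.center D := by
      intro z hz
      rw [Subgroup.mem_center_iff]
      intro d
      have hzR : (z : G) ∈ R := hz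
      have hdC : (d : G) ∈ C := d.2.2
      apply Subtype.ext
      simp only [Subgroup.coe_mul]
      exact (hdC (z : G) hzR).symm
    have hZp : IsPGroup p Z := hRp.comap_of_injective D.subtype D.subtype_injective
    obtain ⟨K, hKcard, hKmem⟩ := exists_central_complement Z hZc hZp (by rw [hZidx]; exact hcop)
    rw [hZidx] at hKcard hKmem
    -- push K to G
    have hKn : (K.map D.subtype).Normal := by
      refine ⟨fun x hx g => ?_⟩
      obtain ⟨d, hd, rfl⟩ := hx
      have hgd : g * (d : G) * g⁻¹ ∈ D := hDn.conj_mem _ d.2 g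
      refine ⟨⟨_, hgd⟩, ?_, rfl⟩
      show (⟨g * (d : G) * g⁻¹, hgd⟩ : D) ∈ K
      rw [hKmem]
      have h1 := (hKmem d).mp hd
      apply Subtype.ext
      have h2 : (d : G) ^ R.relIndex Y = 1 := by simpa using congrArg Subtype.val h1
      simp only [Subgroup.coe_pow, Subgroup.coe_one]
      rw [conj_pow, h2, mul_one, mul_inv_cancel]
    have hKc : Nat.card (K.map D.subtype) = R.relIndex Y := by
      rw [← hKcard]
      exact Nat.card_congr (K.equivMapOfInjective D.subtype D.subtype_injective).symm.toEquiv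
    have hKle : K.map D.subtype ≤ pPrimeCore p G := le_pPrimeCore hKn (by rw [hKc]; exact hcop)
    rw [h, le_bot_iff] at hKle
    rw [hKle, Subgroup.card_bot] at hKc
    have : Y ≤ R := Subgroup.relIndex_eq_one.mp hKc.symm
    exact hRneY (le_antisymm hRY this)



theorem IsPSolvable.quotient {p : ℕ} (hp : p.Prime) (hG : IsPSolvable p G) (N : Subgroup G) [N.Normal] :
    IsPSolvable p (G ⧸ N) := by
  obtain ⟨n, H, h0, hlast, hmono, hnorm, hstep⟩ := hG
  refine ⟨n, fun i => (H i).map (QuotientGroup.mk' N), ?_, ?_, ?_, ?_, ?_⟩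
  · simp [h0]
  · simp only [hlast]
    rw [← MonoidHom.range_eq_map, MonoidHom.range_eq_top]
    exact QuotientGroup.mk'_surjective N
  · intro i j hij
    exact Subgroup.map_mono (hmono hij)
  · intro i
    exact Subgroup.Normal.map (hnorm i) _ (QuotientGroup.mk'_surjective N)
  · intro i
    apply pow_or_coprime_of_dvd hp _ (hstep i)
    rw [Subgroup.relIndex_map_map, QuotientGroup.ker_mk']
    haveI := hnorm i.castSucc
    haveI := hnorm i.succ
    have hHH : H i.castSucc ≤ H i.succ := hmono (Fin.castSucc_le_succ i)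
    have : H i.succ ⊔ N = (H i.castSucc ⊔ N) ⊔ H i.succ := by
      rw [sup_comm (H i.castSucc) N, sup_assoc, sup_of_le_right hHH, sup_comm]
    rw [this, Subgroup.relIndex_sup_left]
    exact Subgroup.relIndex_dvd_of_le_left _ le_sup_left

theorem card_comap_mk' [Finite G] (N : Subgroup G) [N.Normal] (A : Subgroup (G ⧸ N)) :
    Nat.card (A.comap (QuotientGroup.mk' N)) = Nat.card N * Nat.card A := by
  have hle : N ≤ A.comap (QuotientGroup.mk' N) := by
    intro x hx
    rw [Subgroup.mem_comap]
    have : QuotientGroup.mk' N x = 1 := (QuotientGroup.eq_one_iff x).mpr hx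
    rw [this]; exact A.one_mem
  rw [← Subgroup.relIndex_bot_left, ← Subgroup.relIndex_mul_relIndex ⊥ N _ bot_le hle,
    Subgroup.relIndex_bot_left]
  congr 1
  have := Subgroup.relIndex_ker (K := A.comap (QuotientGroup.mk' N)) (QuotientGroup.mk' N)
  rw [QuotientGroup.ker_mk', Subgroup.map_comap_eq_self_of_surjective (QuotientGroup.mk'_surjective N)] at this
  exact this

theorem pPrimeCore_eq_bot_iff {Q : Type*} [Group Q] {p : ℕ} :
    pPrimeCore p Q = ⊥ ↔ ∀ N : Subgroup Q, N.Normal → (Nat.card N).Coprime p → N = ⊥ := by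
  unfold pPrimeCore
  rw [sSup_eq_bot]
  constructor
  · intro h N hN hp
    exact h N ⟨hN, hp⟩
  · intro h N hN
    exact h N hN.1 hN.2

theorem pPrimeCore_quotient_eq_bot [Finite G] (p : ℕ) :
    haveI := pPrimeCore_normal (G := G) p
    pPrimeCore p (G ⧸ pPrimeCore p G) = ⊥ := by
  haveI := pPrimeCore_normal (G := G) p
  rw [pPrimeCore_eq_bot_iff]
  intro A hAn hAc
  have h1 : (A.comap (QuotientGroup.mk' (pPrimeCore p G))).Normal := hAn.comap _
  have h2 : (Nat.card (A.comap (QuotientGroup.mk' (pPrimeCore p G)))).Coprime p := by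
    rw [card_comap_mk']
    exact Nat.Coprime.mul_left (card_pPrimeCore_coprime p) hAc
  have h3 := le_pPrimeCore h1 h2
  rw [eq_bot_iff]
  intro x hx
  obtain ⟨g, rfl⟩ := QuotientGroup.mk'_surjective (pPrimeCore p G) x
  rw [Subgroup.mem_bot]
  exact (QuotientGroup.eq_one_iff g).mpr (h3 hx)


/-- In a finite `p`-solvable group with `O_{p'}(G) = 1`, a `q`-subgroup (`q ≠ p`) normalized by a
Sylow `p`-subgroup is trivial. -/
theorem eq_bot_of_sylow_normalizes [Finite G] {p q : ℕ} [hp : Fact p.Prime] [hq : Fact q.Prime]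
    (hpq : p ≠ q) (hG : IsPSolvable p G) (h : pPrimeCore p G = ⊥) (P : Sylow p G) (Q : Subgroup G)
    (hQ : IsPGroup q Q) (hPQ : (P : Subgroup G) ≤ Subgroup.normalizer (Q : Set G)) : Q = ⊥ := by
  haveI hRn : (pCore p G).Normal := pCore_normal p
  have hRp : IsPGroup p (pCore p G) := isPGroup_pCore p
  have hRP : pCore p G ≤ P := hRp.le_sylow_of_normal P
  have hdisj : Disjoint (pCore p G) Q := IsPGroup.disjoint_of_ne p q hpq _ _ hRp hQ
  have hQC : Q ≤ Subgroup.centralizer (pCore p G : Set G) := by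
    intro x hx r hr
    -- r * x = x * r
    have hrN : r ∈ Subgroup.normalizer (Q : Set G) := hPQ (hRP hr)
    have h1 : r * x * r⁻¹ * x⁻¹ ∈ Q := by
      apply Q.mul_mem _ (Q.inv_mem hx)
      exact (Subgroup.mem_normalizer_iff.mp hrN x).mp hx
    have h2 : r * x * r⁻¹ * x⁻¹ ∈ pCore p G := by
      have : r * x * r⁻¹ * x⁻¹ = r * (x * r⁻¹ * x⁻¹) := by group
      rw [this]
      exact (pCore p G).mul_mem hr (hRn.conj_mem _ ((pCore p G).inv_mem hr) x)
    have h3 : r * x * r⁻¹ * x⁻¹ = 1 := by
      have := (Subgroup.disjoint_def.mp hdisj) h2 h1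
      exact this
    have : r * x = (r * x * r⁻¹ * x⁻¹) * (x * r) := by group
    rw [this, h3, one_mul]
  have hQR : Q ≤ pCore p G := hQC.trans (centralizer_pCore_le hG h)
  rw [eq_bot_iff]
  intro x hx
  rw [Subgroup.mem_bot]
  exact (Subgroup.disjoint_def.mp hdisj) (hQR hx) hx

/-- In a finite `p`-solvable group, a `q`-subgroup (`q ≠ p`) normalized by a Sylow `p`-subgroup lies
in `O_{p'}(G)`. -/
theorem le_pPrimeCore_of_sylow_normalizes [Finite G] {p q : ℕ} [hp : Fact p.Prime] [hq : Fact q.Prime]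
    (hpq : p ≠ q) (hG : IsPSolvable p G) (P : Sylow p G) (Q : Subgroup G)
    (hQ : IsPGroup q Q) (hPQ : (P : Subgroup G) ≤ Subgroup.normalizer (Q : Set G)) :
    Q ≤ pPrimeCore p G := by
  haveI := pPrimeCore_normal (G := G) p
  set f := QuotientGroup.mk' (pPrimeCore p G) with hf
  have hfs : Function.Surjective f := QuotientGroup.mk'_surjective _
  have h1 : (Q.map f) = ⊥ := by
    apply eq_bot_of_sylow_normalizes hpq (IsPSolvable.quotient hp.out hG _)
      (pPrimeCore_quotient_eq_bot p) (P.mapSurjective hfs) (Q.map f) (hQ.map f)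
    rw [Sylow.coe_mapSurjective]
    exact (Subgroup.map_mono hPQ).trans (Subgroup.le_normalizer_map f)
  intro x hx
  have : f x ∈ Q.map f := Subgroup.mem_map_of_mem f hx
  rw [h1, Subgroup.mem_bot] at this
  exact (QuotientGroup.eq_one_iff x).mp this



theorem index_dvd_card_of_sup_eq_top [Finite G] (H K : Subgroup G) [K.Normal] (h : H ⊔ K = ⊤) :
    H.index ∣ Nat.card K := by
  have h1 : Nat.card G = Nat.card K * K.relIndex H := by
    rw [← card_sup_eq_of_normal H K, h, Subgroup.card_top]
  have h2 : Nat.card H * H.index = Nat.card G := H.card_mul_index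
  have h3 : Nat.card H = Nat.card (K ⊓ H : Subgroup G) * K.relIndex H := by
    rw [← Subgroup.relIndex_bot_left, ← Subgroup.relIndex_bot_left,
      ← Subgroup.relIndex_mul_relIndex ⊥ (K ⊓ H) H bot_le inf_le_right, Subgroup.inf_relIndex_right]
  have h4 : K.relIndex H ≠ 0 := by
    haveI : K.IsFiniteRelIndex H := Subgroup.isFiniteRelIndex_of_finiteIndex
    exact Subgroup.relIndex_ne_zero
  have h5 : Nat.card (K ⊓ H : Subgroup G) * H.index = Nat.card K := by
    apply Nat.eq_of_mul_eq_mul_right (Nat.pos_of_ne_zero h4)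
    calc Nat.card (K ⊓ H : Subgroup G) * H.index * K.relIndex H
        = (Nat.card (K ⊓ H : Subgroup G) * K.relIndex H) * H.index := by ring
      _ = Nat.card K * K.relIndex H := by rw [← h3, h2, h1]
  exact Dvd.intro_left _ h5

/-- A subgroup of index prime to `p` contains a Sylow `p`-subgroup. -/
theorem exists_sylow_le_of_not_dvd_index [Finite G] {p : ℕ} [hp : Fact p.Prime] (N : Subgroup G)
    (hN : ¬ p ∣ N.index) : ∃ P : Sylow p G, (P : Subgroup G) ≤ N := by
  obtain ⟨P0⟩ : Nonempty (Sylow p N) := inferInstance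
  have hP : IsPGroup p ((P0 : Subgroup N).map N.subtype) := P0.2.map N.subtype
  have hidx : ¬ p ∣ ((P0 : Subgroup N).map N.subtype).index := by
    rw [Subgroup.index_map_subtype]
    exact Nat.Prime.not_dvd_mul hp.out P0.not_dvd_index hN
  exact ⟨hP.toSylow hidx, Subgroup.map_subtype_le _⟩

theorem exists_sylow_normalizes_of_not_dvd_index [Finite G] (p q : ℕ) [hp : Fact p.Prime]
    [hq : Fact q.Prime] (h : ¬ q ∣ (pPrimeCore p G).index) :
    ∃ (P : Sylow p G) (Q : Sylow q G),
      (P : Subgroup G) ≤ Subgroup.normalizer ((Q : Subgroup G) : Set G) := by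
  haveI hKn := pPrimeCore_normal (G := G) p
  obtain ⟨Q⟩ : Nonempty (Sylow q G) := inferInstance
  have hQK : (Q : Subgroup G) ≤ pPrimeCore p G := by
    rw [← Subgroup.relIndex_eq_one]
    have h1 : (pPrimeCore p G).relIndex Q ∣ (pPrimeCore p G).index :=
      Subgroup.relIndex_dvd_index_of_normal _ _
    have h2 : (pPrimeCore p G).relIndex Q ∣ Nat.card (Q : Subgroup G) :=
      Subgroup.relIndex_dvd_card _ _
    obtain ⟨n, hn⟩ := IsPGroup.iff_card.mp Q.2
    rw [hn] at h2
    obtain ⟨j, _, hj⟩ := (Nat.dvd_prime_pow hq.out).mp h2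
    rcases Nat.eq_zero_or_pos j with rfl | hjpos
    · simpa using hj
    · exfalso
      apply h
      refine dvd_trans ?_ h1
      rw [hj]
      exact dvd_pow_self q hjpos.ne'
  have hfr := Sylow.normalizer_sup_eq_top' Q hQK
  have hidx := index_dvd_card_of_sup_eq_top _ _ hfr
  have hnd : ¬ p ∣ (Subgroup.normalizer ((Q : Subgroup G) : Set G)).index := by
    intro hd
    have := (card_pPrimeCore_coprime (G := G) p)
    have h3 : p ∣ Nat.card (pPrimeCore p G) := hd.trans hidx
    have h4 : p ∣ Nat.gcd (Nat.card (pPrimeCore p G)) p := Nat.dvd_gcd h3 dvd_rfl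
    rw [this] at h4
    exact hp.out.one_lt.ne' (Nat.dvd_one.mp h4)
  obtain ⟨P, hP⟩ := exists_sylow_le_of_not_dvd_index _ hnd
  exact ⟨P, Q, hP⟩


end Cfsg.Agent.Lib.Helper81
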