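import Mathlib

set_option autoImplicit false

namespace Cfsg.Agent.Lib.Helper81

/-- the `n`-torsion subgroup of a commutative group -/
def torsionSub (C : Type*) [CommGroup C] (n : ℕ) : Subgroup C := (powMonoidHom n : C →* C).ker

theorem mem_torsionSub {C : Type*} [CommGroup C] (n : ℕ) (a : C) :
    a ∈ torsionSub C n ↔ a ^ n = 1 := by
  unfold torsionSub
  rw [MonoidHom.mem_ker, powMonoidHom_apply]

theorem card_torsionSub_mul_le {C : Type*} [CommGroup C] [Finite C] (p m : ℕ) :
    Nat.card (torsionSub C (p * m)) ≤ Nat.card (torsionSub C p) * Nat.card (torsionSub C m) := by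
  classical
  -- restrict the p-power map to T (p*m)
  let T := torsionSub C (p * m)
  let φ : T →* C := (powMonoidHom p : C →* C).comp T.subtype
  have hker : Nat.card φ.ker ≤ Nat.card (torsionSub C p) := by
    apply Nat.card_le_card_of_injective (fun x : φ.ker => (⟨x.1.1, by
      have := x.2
      rw [MonoidHom.mem_ker] at this
      rw [mem_torsionSub]
      simpa [φ] using this⟩ : torsionSub C p))
    intro x y hxy
    simp only [Subtype.mk.injEq] at hxy
    exact Subtype.ext (Subtype.ext hxy)
  have hrange : Nat.card φ.range ≤ Nat.card (torsionSub C m) := by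
    apply Nat.card_le_card_of_injective (fun x : φ.range => (⟨x.1, by
      obtain ⟨y, hy⟩ := x.2
      rw [mem_torsionSub, ← hy]
      have hy2 := y.2
      rw [mem_torsionSub] at hy2
      simp only [φ, MonoidHom.comp_apply, Subgroup.coe_subtype, powMonoidHom_apply]
      rw [← pow_mul]; exact hy2⟩ : torsionSub C m))
    intro x y hxy
    simp only [Subtype.mk.injEq] at hxy
    exact Subtype.ext hxy
  have hcard : Nat.card T = Nat.card φ.ker * Nat.card φ.range := by
    rw [← Subgroup.index_ker φ, mul_comm, Subgroup.index_mul_card]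
  calc Nat.card T = Nat.card φ.ker * Nat.card φ.range := hcard
    _ ≤ _ := Nat.mul_le_mul hker hrange

theorem exists_prime_lt_card_torsionSub_aux {C : Type*} [CommGroup C] [Finite C] :
    ∀ n : ℕ, 0 < n → n < Nat.card (torsionSub C n) →
      ∃ p : ℕ, p.Prime ∧ p < Nat.card (torsionSub C p) := by
  intro n
  induction n using Nat.strong_induction_on with
  | _ n ih =>
    intro hn hlt
    by_cases h1 : n = 1
    · subst h1
      exfalso
      have : Nat.card (torsionSub C 1) = 1 := by
        rw [Nat.card_eq_one_iff_unique]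
        refine ⟨⟨fun x y => ?_⟩, ⟨1⟩⟩
        have hx := x.2; have hy := y.2
        rw [mem_torsionSub, pow_one] at hx hy
        exact Subtype.ext (hx.trans hy.symm)
      omega
    · obtain ⟨p, hp, hpn⟩ := Nat.exists_prime_and_dvd h1
      obtain ⟨m, rfl⟩ := hpn
      have hm : 0 < m := Nat.pos_of_mul_pos_left hn |> fun h => by
        rcases Nat.eq_zero_or_pos m with h0 | h0
        · subst h0; simp at hn
        · exact h0
      by_cases hmm : m < Nat.card (torsionSub C m)
      · exact ih m (by nlinarith [hp.two_le]) hm hmm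
      · have hmm := not_lt.mp hmm
        refine ⟨p, hp, ?_⟩
        by_contra hle
        have hle := not_lt.mp hle
        have := card_torsionSub_mul_le (C := C) p m
        have h2 : Nat.card (torsionSub C p) * Nat.card (torsionSub C m) ≤ p * m :=
          Nat.mul_le_mul hle hmm
        omega

/-- A finite commutative group which is not cyclic has, for some prime `p`, at least `p ^ 2`
elements of order dividing `p`. -/
theorem exists_prime_sq_le_card_torsionSub {C : Type*} [CommGroup C] [Finite C]
    (h : ¬ IsCyclic C) : ∃ p : ℕ, p.Prime ∧ p ^ 2 ≤ Nat.card (torsionSub C p) := by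
  classical
  have := Fintype.ofFinite C
  have h1 : ¬ ∀ n : ℕ, 0 < n → (Finset.univ.filter (fun a : C => a ^ n = 1)).card ≤ n := by
    intro hall
    exact h (isCyclic_of_card_pow_eq_one_le hall)
  simp only [not_forall, not_le] at h1
  obtain ⟨n, hn, hlt⟩ := h1
  have hcard : Nat.card (torsionSub C n) = (Finset.univ.filter (fun a : C => a ^ n = 1)).card := by
    rw [← Fintype.card_subtype, ← Nat.card_eq_fintype_card]
    exact Nat.card_congr (Equiv.subtypeEquivRight (mem_torsionSub n))
  obtain ⟨p, hp, hplt⟩ := exists_prime_lt_card_torsionSub_aux (C := C) n hn (by rw [hcard]; exact hlt)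
  refine ⟨p, hp, ?_⟩
  have : Fact p.Prime := ⟨hp⟩
  have hpg : IsPGroup p (torsionSub C p) := by
    intro x
    refine ⟨1, ?_⟩
    have := x.2
    rw [mem_torsionSub] at this
    rw [pow_one]
    exact Subtype.ext (by simpa using this)
  obtain ⟨k, hk⟩ := IsPGroup.iff_card.mp hpg
  rw [hk] at hplt ⊢
  have : 2 ≤ k := by
    by_contra hk2
    have hk2 := not_le.mp hk2
    interval_cases k
    · simp at hplt; have := hp.two_le; omega
    · simp at hplt
  exact Nat.pow_le_pow_right hp.pos this

open scoped IsMulCommutative in
/-- A commutative, noncyclic finite subgroup `A` of a group contains, for some prime `p`, a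
subgroup `E` of exponent `p` and order at least `p ^ 2`. -/
theorem exists_exponent_prime_subgroup {G : Type*} [Group G] (A : Subgroup G) [Finite A]
    [IsMulCommutative A] (h : ¬ IsCyclic A) :
    ∃ p : ℕ, p.Prime ∧ ∃ E : Subgroup G, E ≤ A ∧ (∀ x ∈ E, x ^ p = 1) ∧ p ^ 2 ≤ Nat.card E := by
  obtain ⟨p, hp, hcard⟩ := exists_prime_sq_le_card_torsionSub (C := A) h
  refine ⟨p, hp, (torsionSub A p).map A.subtype, Subgroup.map_subtype_le _, ?_, ?_⟩
  · rintro x ⟨y, hy, rfl⟩
    have := (mem_torsionSub p y).mp hy
    rw [Subgroup.coe_subtype, ← Subgroup.coe_pow, this, Subgroup.coe_one]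
  · rwa [Subgroup.card_map_of_injective A.subtype_injective]

end Cfsg.Agent.Lib.Helper81
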