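import Mathlib
import Cfsg.Agent.Lib.Helper71.BG11b
import Cfsg.Agent.S1415

/-!
# S1417 / BG 11.7, keystone K9 (`le_normalizer_of_centralizes`): the outer layer
-/

set_option autoImplicit false

namespace Cfsg.Agent.Lib.Helper81.BG117

open Cfsg Cfsg.Agent.Lib.Helper55 Cfsg.Agent.Lib.Helper31 Cfsg.Agent.Lib.Helper71.BG10
  Cfsg.Agent.Lib.Helper71.BG11

/-- An element of `p`-power order lies in every normal subgroup of index prime to `p`. -/
theorem mem_of_pow_of_coprime_index {H : Type*} [Group H] [Finite H] (N : Subgroup H) [N.Normal]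
    {p : ℕ} (hcop : N.index.Coprime p) {x : H} {k : ℕ} (hx : x ^ (p ^ k) = 1) : x ∈ N := by
  rw [← QuotientGroup.eq_one_iff (N := N)]
  have h1 : (QuotientGroup.mk x : H ⧸ N) ^ (p ^ k) = 1 := by
    rw [← QuotientGroup.mk_pow, hx]; rfl
  have h2 : (QuotientGroup.mk x : H ⧸ N) ^ N.index = 1 := by
    rw [Subgroup.index_eq_card]; exact pow_card_eq_one'
  have h3 : orderOf (QuotientGroup.mk x : H ⧸ N) ∣ Nat.gcd (p ^ k) N.index :=
    Nat.dvd_gcd (orderOf_dvd_of_pow_eq_one h1) (orderOf_dvd_of_pow_eq_one h2)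
  have h4 : Nat.gcd (p ^ k) N.index = 1 := Nat.Coprime.pow_left k hcop.symm
  rw [h4, Nat.dvd_one] at h3
  exact orderOf_eq_one_iff.mp h3

variable {G : Type*} [Group G] [Finite G]

omit [Finite G] in
/-- subgroups of nilpotent subgroups are nilpotent -/
theorem isNilpotent_of_le_nilpotent {H K : Subgroup G} (hHK : H ≤ K) (hK : Group.IsNilpotent K) :
    Group.IsNilpotent H := by
  have h1 : Group.IsNilpotent (H.subgroupOf K) := Subgroup.isNilpotent _
  exact (Group.isNilpotent_congr (Subgroup.subgroupOfEquivOfLe hHK)).mp h1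

/-- a nilpotent subgroup all of whose Sylow subgroups are centralized by `A` is centralized by `A` -/
theorem le_centralizer_of_sylows {N A : Subgroup G}
    (h : ∀ (r : ℕ) (T : Subgroup G), r.Prime → r ∣ Nat.card N → IsSylowIn r N T →
      T ≤ Subgroup.centralizer (A : Set G)) : N ≤ Subgroup.centralizer (A : Set G) := by
  let ι := {r : ℕ // r.Prime ∧ r ∣ Nat.card N}
  let Q : ∀ i : ι, Sylow i.1 N := fun i => Classical.choice inferInstance
  have htop : ⨆ i, ((Q i : Sylow i.1 N) : Subgroup N) = ⊤ :=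
    Cfsg.Agent.Lib.Helper76.iSup_sylow_eq_top (fun i : ι => i.1)
      (fun p hp hd => ⟨⟨p, hp, hd⟩, rfl⟩) Q
  have h1 : N = ⨆ i, ((Q i : Sylow i.1 N) : Subgroup N).map N.subtype := by
    rw [← Subgroup.map_iSup, htop, ← MonoidHom.range_eq_map, Subgroup.range_subtype]
  rw [h1]
  apply iSup_le
  intro i
  exact h i.1 _ i.2.1 i.2.2 (isSylowIn_of_sylow (Q i))

/-- K9 (outer layer of BG 11.7). -/
theorem le_normalizer_of_centralizes (hG : IsMinSimpleOddOrder G) {M A P E : Subgroup G} {p : ℕ}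
    [Fact p.Prime] (hM : IsCoatom M) (hp : p ∉ sigma M) (hr2 : PRankLE p 2 M)
    (hP : IsSylowIn p M P) (hAP : A ≤ P) (hPE : P ≤ E) (hE : IsComplIn E (sigmaCore M) M)
    (hPA : Subgroup.normalizer (P : Set G) ≤ Subgroup.normalizer (A : Set G))
    (hcrux : ∀ (r : ℕ) [Fact r.Prime] (R : Subgroup G), r ≠ p → IsPGroup r R → R ≤ E →
      E ≤ Subgroup.normalizer (R : Set G) → A ≤ Subgroup.centralizer (R : Set G)) :
    M ≤ Subgroup.normalizer ((sigmaCore M ⊔ A : Subgroup G) : Set G) := by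
  have hpp : p.Prime := Fact.out
  by_cases hA1 : A = ⊥
  · rw [hA1, sup_bot_eq]
    exact le_normalizer_sigmaCore M
  have hEM : E ≤ M := hE.1
  have hAE : A ≤ E := hAP.trans hPE
  have hEtop : E ≠ ⊤ := fun h => hM.1 (top_le_iff.mp (h ▸ hEM))
  have hEsolv : Group.IsSolvable E := ms_solvable hG hEtop
  have hEodd : Odd (Nat.card E) := ms_odd hG E
  have hPp : IsPGroup p P := hP.2.1
  have hAp : IsPGroup p A := hPp.to_le hAP
  -- `p` divides the order of `E`
  have hpE : p ∣ Nat.card E := by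
    have hA1' : Nat.card A ≠ 1 := fun h => hA1 (Subgroup.card_eq_one.mp h)
    rcases hAp.card_eq_or_dvd with h | h
    · exact absurd h hA1'
    · exact h.trans (Subgroup.card_dvd_of_le hAE)
  -- the `p`-rank of `E` is at most two
  have hrE : PRankLE p 2 E := by
    rw [pRankLE_sub_iff]
    intro E' hE'E hc he
    exact (pRankLE_sub_iff.1 hr2) E' (hE'E.trans hEM) hc he
  -- `P` is a Sylow `p`-subgroup of `E`
  have hPSE : IsSylowIn p E P :=
    ⟨hPE, hPp, fun T' hT'E hT'p hle => hP.2.2 T' (hT'E.trans hEM) hT'p hle⟩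
  -- `P ≤ O_{p',p}(E)`
  have hidx : ((pPrimePCore p ↥E).index).Coprime p :=
    (Cfsg.Agent.S1450.result (G := ↥E) hEodd p hpE hrE).2.2.2.2.2
  have hPoppc : P ≤ oppc p E := by
    intro x hx
    have hxE : x ∈ E := hPE hx
    obtain ⟨k, hk⟩ := hPp ⟨x, hx⟩
    have hk' : (⟨x, hxE⟩ : E) ^ (p ^ k) = 1 := by
      apply Subtype.ext
      have := congrArg Subtype.val hk
      simpa using this
    have hn : (pPrimePCore p ↥E).Normal := by unfold pPrimePCore; infer_instance
    have hmem : (⟨x, hxE⟩ : E) ∈ pPrimePCore p ↥E :=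
      mem_of_pow_of_coprime_index (pPrimePCore p ↥E) hidx hk'
    exact ⟨⟨x, hxE⟩, hmem, rfl⟩
  -- Frattini
  have hfrat : E ≤ opc p E ⊔ Subgroup.normalizer (P : Set G) := by
    have h := le_opc_sup_normalizer_inf_oppc hPSE
    rwa [inf_eq_left.2 hPoppc] at h
  -- the nilpotent normal `p'`-subgroup `N' = E' ∩ O_{p'}(E)`
  have hnilEE : Group.IsNilpotent ↥⁅E, E⁆ := (Cfsg.Agent.S1415.result hG M hM E hE).1
  set N' : Subgroup G := ⁅E, E⁆ ⊓ opc p E with hN'
  have hnilN' : Group.IsNilpotent N' := isNilpotent_of_le_nilpotent inf_le_left hnilEE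
  have hEN' : E ≤ Subgroup.normalizer (N' : Set G) :=
    Cfsg.Agent.Lib.Helper31.BenderFit.le_normalizer_inf
      (Cfsg.Agent.Lib.Helper01.le_normalizer_commutator_left E E) (le_normalizer_opc p E)
  have hN'E : N' ≤ E := inf_le_right.trans (opc_le p E)
  have hcopK : (Nat.card (opc p E)).Coprime p := card_opc_coprime E
  have hN'cent : N' ≤ Subgroup.centralizer (A : Set G) := by
    apply le_centralizer_of_sylows
    intro r T hr hrd hT
    have hrf : Fact r.Prime := ⟨hr⟩
    have hne : r ≠ p := by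
      intro h
      have h1 : p ∣ Nat.card (opc p E) :=
        (h ▸ hrd).trans (Subgroup.card_dvd_of_le inf_le_right)
      exact (hpp.coprime_iff_not_dvd.1 hcopK.symm) h1
    have hnorm : E ≤ Subgroup.normalizer (T : Set G) := sylow_normal_of_nilpotent hnilN' hT hEN'
    have h2 := hcrux r T hne hT.2.1 (hT.1.trans hN'E) hnorm
    exact Subgroup.le_centralizer_iff.1 h2
  -- `A` centralizes `O_{p'}(E)`
  have hAK : A ≤ Subgroup.normalizer ((opc p E : Subgroup G) : Set G) :=
    hAE.trans (le_normalizer_opc p E)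
  have hKA : ⁅opc p E, A⁆ = ⊥ := by
    have h1 : ⁅opc p E, A⁆ ≤ N' :=
      le_inf (Subgroup.commutator_mono (opc_le p E) hAE) (commutator_le_of_le_normalizer hAK)
    have h2 : ⁅⁅opc p E, A⁆, A⁆ = ⊥ := by
      rw [← le_bot_iff]
      calc ⁅⁅opc p E, A⁆, A⁆ ≤ ⁅N', A⁆ := Subgroup.commutator_mono h1 le_rfl
        _ = ⊥ := commutator_eq_bot_of_le_centralizer hN'cent
    have hKtop : opc p E ≠ ⊤ := fun h => hEtop (top_le_iff.mp (h ▸ opc_le p E))
    have hcop : (Nat.card A).Coprime (Nat.card (opc p E)) := by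
      obtain ⟨k, hk⟩ := hAp.exists_card_eq
      rw [hk]
      exact Nat.Coprime.pow_left k hcopK.symm
    have h3 := Cfsg.Agent.S0027.result A (opc p E) hAK hcop (Or.inr (ms_solvable hG hKtop))
    rw [← h3, h2]
  have hKcent : opc p E ≤ Subgroup.centralizer (A : Set G) :=
    Subgroup.commutator_eq_bot_iff_le_centralizer.1 hKA
  -- `E` normalizes `A`
  have hEA : E ≤ Subgroup.normalizer (A : Set G) :=
    hfrat.trans (sup_le (hKcent.trans (Subgroup.centralizer_le_normalizer _)) hPA)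
  have hES : E ≤ Subgroup.normalizer ((sigmaCore M : Subgroup G) : Set G) :=
    hEM.trans (le_normalizer_sigmaCore M)
  have hESA : E ≤ Subgroup.normalizer ((sigmaCore M ⊔ A : Subgroup G) : Set G) :=
    Cfsg.Agent.Lib.Helper31.BenderFit.le_normalizer_sup hES hEA
  intro m hm
  obtain ⟨a, ha, b, hb, rfl⟩ := hE.2.2.2 m hm
  exact Subgroup.mul_mem _ (hESA ha)
    (Subgroup.le_normalizer (le_sup_left (a := sigmaCore M) (b := A) hb))

end Cfsg.Agent.Lib.Helper81.BG117
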