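import Mathlib
import Cfsg.Agent.Lib.Helper11.BG144Defs

/-!
# K-144-R (keystone 137405): unfolding `supportR`.  Leaf for helper11's BG 14.4 pack.
-/

set_option autoImplicit false
set_option linter.unusedSectionVars false

namespace Cfsg.Agent.Lib.Helper81.BG144

open Cfsg Subgroup Cfsg.Agent.Lib.Helper11.BG144

variable {G : Type*} [Group G] [Finite G]

/-- K-144-R (137405), first half. -/
theorem supportR_eq_bot (M : Subgroup G) (x : G) (h : centralizer ({x} : Set G) ≤ M) : supportR M x = ⊥ := by
  unfold supportR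
  rw [dif_neg]
  intro h'
  exact h'.1 h

/-- If `N` supports `x` then `C(x)` is not contained in `M`. -/
theorem supp_not_cent_le {M : Subgroup G} {x : G} {N : Subgroup G} (h : Supp M x N) :
    ¬ centralizer ({x} : Set G) ≤ M := by
  intro hle
  apply h.R_ne
  have h1 : sigmaCore N ⊓ centralizer ({x} : Set G) ≤ sigmaCore N ⊓ M := inf_le_inf_left _ hle
  rw [h.inf_bot] at h1
  exact le_bot_iff.mp h1

/-- If `N` supports `x` then `N` is the unique maximal subgroup over `C(x)`. -/
theorem supp_existsUnique {M : Subgroup G} {x : G} {N : Subgroup G} (h : Supp M x N) :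
    ∃! L : Subgroup G, IsCoatom L ∧ centralizer ({x} : Set G) ≤ L :=
  ⟨N, ⟨h.coatom, h.cent_le⟩, fun L hL => h.uniq L hL.1 hL.2⟩

/-- Unfolding `supportR` without `HC`: the `fittingHallOf` form. -/
theorem supportR_eq_fittingHallOf {M : Subgroup G} {x : G} {N : Subgroup G} (h : Supp M x N) :
    supportR M x = fittingHallOf N ⊓ centralizer ({x} : Set G) := by
  have hcond : ¬ centralizer ({x} : Set G) ≤ M ∧
      ∃! L : Subgroup G, IsCoatom L ∧ centralizer ({x} : Set G) ≤ L :=
    ⟨supp_not_cent_le h, supp_existsUnique h⟩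
  unfold supportR
  rw [dif_pos hcond]
  have hspec := Classical.choose_spec hcond.2.exists
  have hN : Classical.choose hcond.2.exists = N := h.uniq _ hspec.1 hspec.2
  rw [hN]

/-- K-144-R (137405), second half. -/
theorem supportR_eq (hC : HC G) {M : Subgroup G} {x : G} {N : Subgroup G} (h : Supp M x N) :
    supportR M x = sigmaCore N ⊓ centralizer ({x} : Set G) := by
  rw [supportR_eq_fittingHallOf h, hC N h.coatom h.nilp]

end Cfsg.Agent.Lib.Helper81.BG144
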