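import Mathlib

/-!
# K-1369 pack (S1369, architect helper31), leaf Z (keystone 136904): `ncard_zhat`

`|KY − (K ∪ Y)| = (|K| − 1)(|Y| − 1)` for commuting `K`, `Y` with `K ⊓ Y = ⊥`.  Pure group theory (Mathlib only).
-/

set_option autoImplicit false
set_option linter.unusedSectionVars false
set_option linter.unusedVariables false

namespace Cfsg.Agent.Lib.Helper81.BG147

open Subgroup

variable {G : Type*} [Group G] [Finite G]

/-- Elements of `K ⊔ Y` with `Y` centralising `K` are products. -/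
theorem z_mem_sup_cent {K Y : Subgroup G} (hY : Y ≤ centralizer (K : Set G)) {z : G}
    (hz : z ∈ K ⊔ Y) : ∃ k ∈ K, ∃ y ∈ Y, z = k * y := by
  have hcomm : ∀ k ∈ K, ∀ y ∈ Y, k * y = y * k := fun k hk y hy =>
    (mem_centralizer_iff.mp (hY hy)) k hk
  rw [sup_eq_closure] at hz
  refine closure_induction (p := fun z _ => ∃ k ∈ K, ∃ y ∈ Y, z = k * y) ?_ ?_ ?_ ?_ hz
  · intro x hx
    rcases hx with hx | hx
    · exact ⟨x, hx, 1, Y.one_mem, by simp⟩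
    · exact ⟨1, K.one_mem, x, hx, by simp⟩
  · exact ⟨1, K.one_mem, 1, Y.one_mem, by simp⟩
  · rintro x y - - ⟨k₁, hk₁, y₁, hy₁, rfl⟩ ⟨k₂, hk₂, y₂, hy₂, rfl⟩
    refine ⟨k₁ * k₂, K.mul_mem hk₁ hk₂, y₁ * y₂, Y.mul_mem hy₁ hy₂, ?_⟩
    calc k₁ * y₁ * (k₂ * y₂) = k₁ * (y₁ * k₂) * y₂ := by group
      _ = k₁ * (k₂ * y₁) * y₂ := by rw [hcomm k₂ hk₂ y₁ hy₁]
      _ = k₁ * k₂ * (y₁ * y₂) := by group
  · rintro x - ⟨k, hk, y, hy, rfl⟩
    refine ⟨k⁻¹, K.inv_mem hk, y⁻¹, Y.inv_mem hy, ?_⟩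
    rw [mul_inv_rev, hcomm k⁻¹ (K.inv_mem hk) y⁻¹ (Y.inv_mem hy)]

theorem z_ncard_diff_one (K : Subgroup G) : Set.ncard ((K : Set G) \ {1}) = Nat.card K - 1 := by
  rw [Set.ncard_sdiff_singleton_of_mem K.one_mem]
  congr 1

/-- KEYSTONE 136904  K-1369-Z. -/
theorem ncard_zhat {K Y : Subgroup G} (hc : Y ≤ centralizer (K : Set G)) (hinf : K ⊓ Y = ⊥) :
    Set.ncard ((↑(K ⊔ Y) : Set G) \ ((K : Set G) ∪ ↑Y)) = (Nat.card K - 1) * (Nat.card Y - 1) := by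
  classical
  -- the product map on `(K - 1) × (Y - 1)`
  have himg : (fun p : G × G => p.1 * p.2) '' (((K : Set G) \ {1}) ×ˢ ((Y : Set G) \ {1})) =
      (↑(K ⊔ Y) : Set G) \ ((K : Set G) ∪ ↑Y) := by
    ext z
    constructor
    · rintro ⟨⟨x, y⟩, ⟨⟨hx, hx1⟩, ⟨hy, hy1⟩⟩, rfl⟩
      have hx' : x ∈ K := hx
      have hy' : y ∈ Y := hy
      have hx1' : x ≠ 1 := hx1
      have hy1' : y ≠ 1 := hy1
      refine ⟨mul_mem (mem_sup_left hx') (mem_sup_right hy'), ?_⟩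
      rintro (h | h)
      · have h' : x * y ∈ K := h
        have h2 : y ∈ K ⊓ Y := by
          refine mem_inf.mpr ⟨?_, hy'⟩
          have h3 := K.mul_mem (K.inv_mem hx') h'
          rwa [inv_mul_cancel_left] at h3
        rw [hinf, mem_bot] at h2
        exact hy1' h2
      · have h' : x * y ∈ Y := h
        have h2 : x ∈ K ⊓ Y := by
          refine mem_inf.mpr ⟨hx', ?_⟩
          have h3 := Y.mul_mem h' (Y.inv_mem hy')
          rwa [mul_inv_cancel_right] at h3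
        rw [hinf, mem_bot] at h2
        exact hx1' h2
    · rintro ⟨hz, hznot⟩
      obtain ⟨x, hx, y, hy, rfl⟩ := z_mem_sup_cent hc hz
      refine ⟨(x, y), ⟨⟨hx, ?_⟩, ⟨hy, ?_⟩⟩, rfl⟩
      · rintro (rfl : x = 1)
        apply hznot
        right
        rw [one_mul]
        exact hy
      · rintro (rfl : y = 1)
        apply hznot
        left
        rw [mul_one]
        exact hx
  have hinj : Set.InjOn (fun p : G × G => p.1 * p.2)
      (((K : Set G) \ {1}) ×ˢ ((Y : Set G) \ {1})) := by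
    rintro ⟨x, y⟩ ⟨⟨hx, -⟩, ⟨hy, -⟩⟩ ⟨x', y'⟩ ⟨⟨hx', -⟩, ⟨hy', -⟩⟩ h
    have hxK : x ∈ K := hx
    have hyY : y ∈ Y := hy
    have hxK' : x' ∈ K := hx'
    have hyY' : y' ∈ Y := hy'
    have h' : x * y = x' * y' := h
    have h1 : x'⁻¹ * x = y' * y⁻¹ := by
      have h2 : x'⁻¹ * (x * y) * y⁻¹ = x'⁻¹ * (x' * y') * y⁻¹ := by rw [h']
      calc x'⁻¹ * x = x'⁻¹ * (x * y) * y⁻¹ := by group
        _ = x'⁻¹ * (x' * y') * y⁻¹ := h2
        _ = y' * y⁻¹ := by group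
    have h3 : x'⁻¹ * x ∈ K ⊓ Y := by
      refine mem_inf.mpr ⟨K.mul_mem (K.inv_mem hxK') hxK, ?_⟩
      rw [h1]
      exact Y.mul_mem hyY' (Y.inv_mem hyY)
    rw [hinf, mem_bot] at h3
    have hxx : x = x' := by
      have h4 : x' * (x'⁻¹ * x) = x' * 1 := by rw [h3]
      rwa [mul_inv_cancel_left, mul_one] at h4
    subst hxx
    have hyy : y = y' := mul_left_cancel h'
    rw [hyy]
  rw [← himg, Set.InjOn.ncard_image hinj, Set.ncard_prod, z_ncard_diff_one, z_ncard_diff_one]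

end Cfsg.Agent.Lib.Helper81.BG147
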