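import Mathlib
import Cfsg.Prelude.Def_Blocks
import Cfsg.Agent.Lib.Helper21.OsimaApps
import Cfsg.Agent.Lib.Helper21.GroupAlgNilp
import Cfsg.Agent.Lib.Helper29.Coprime

set_option autoImplicit false
set_option linter.unusedSectionVars false

namespace Cfsg.Agent.Lib.Helper81

open Cfsg
open Cfsg.Agent.Lib.Helper21 Cfsg.Agent.Lib.Helper82 Cfsg.Agent.Lib.Helper83

universe u
variable {G : Type u} [Group G] [Fintype G]

section Bridge

variable {R : Type*} [Semiring R]

/-- convolution of functions on a finite group with values in a semiring -/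
def gconv (f h : G → R) : G → R := fun z => ∑ x : G, f x * h (x⁻¹ * z)

/-- the group algebra element with prescribed coefficients -/
noncomputable def toMA (f : G → R) : MonoidAlgebra R G :=
  MonoidAlgebra.ofCoeff (Finsupp.equivFunOnFinite.symm f)

@[simp] theorem toMA_coeff (f : G → R) (g : G) : (toMA f).coeff g = f g := rfl

theorem toMA_eq_zero_iff (f : G → R) : toMA f = 0 ↔ ∀ g, f g = 0 := by
  constructor
  · intro h g
    have := congrArg (fun a => a.coeff g) h
    simpa using this
  · intro h
    apply MonoidAlgebra.coeff_injective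
    ext g
    simp [h g]

theorem toMA_gconv (f h : G → R) : toMA (gconv f h) = toMA f * toMA h := by
  apply MonoidAlgebra.coeff_injective
  ext z
  rw [MonoidAlgebra.coeff_mul_apply_left, Finsupp.sum_fintype _ _ (fun i => by simp)]
  simp [gconv]

/-- the delta function at the identity -/
def gdelta [DecidableEq G] : G → R := fun g => if g = 1 then 1 else 0

theorem toMA_gdelta [DecidableEq G] : toMA (gdelta : G → R) = 1 := by
  apply MonoidAlgebra.coeff_injective
  ext z
  rw [MonoidAlgebra.one_def, MonoidAlgebra.coeff_single]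
  simp [gdelta, Finsupp.single_apply, eq_comm]

/-- convolution powers -/
def cpow [DecidableEq G] (f : G → R) : ℕ → G → R
  | 0 => gdelta
  | n + 1 => gconv f (cpow f n)

theorem toMA_cpow [DecidableEq G] (f : G → R) (n : ℕ) : toMA (cpow f n) = (toMA f) ^ n := by
  induction n with
  | zero => simp [cpow, toMA_gdelta]
  | succ n ih => rw [cpow, toMA_gconv, ih, pow_succ']

theorem map_gconv {S : Type*} [Semiring S] (φ : R →+* S) (f h : G → R) (z : G) :
    φ (gconv f h z) = gconv (fun g => φ (f g)) (fun g => φ (h g)) z := by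
  simp [gconv, map_sum, map_mul]

theorem map_cpow [DecidableEq G] {S : Type*} [Semiring S] (φ : R →+* S) (f : G → R) (n : ℕ)
    (z : G) : φ (cpow f n z) = cpow (fun g => φ (f g)) n z := by
  induction n generalizing z with
  | zero =>
    simp only [cpow, gdelta]
    split_ifs <;> simp
  | succ n ih =>
    simp only [cpow]
    rw [map_gconv]
    simp only [gconv]
    apply Finset.sum_congr rfl
    intro x _
    rw [ih]

end Bridge

section Omega

variable [DecidableEq G]

theorem isClassFunction_cpow {f : G → ℂ} (hf : IsClassFunction G f) (n : ℕ) :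
    IsClassFunction G (cpow f n) := by
  induction n with
  | zero => exact isClassFunction_delta 1
  | succ n ih => exact conv_isClassFunction hf ih

theorem omega_cpow {χ : G → ℂ} (hχ : IsIrrCharacter G χ) {f : G → ℂ}
    (hf : IsClassFunction G f) (n : ℕ) : omega (cpow f n) χ = (omega f χ) ^ n := by
  induction n with
  | zero =>
    simp only [cpow, pow_zero]
    exact omega_delta 1 χ (IsIrrCharacter.apply_one_ne_zero hχ)
  | succ n ih =>
    show omega (conv f (cpow f n)) χ = _
    rw [omega_conv hχ f _ (isClassFunction_cpow hf n), ih, pow_succ']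

end Omega

section LemmaN

variable [Fintype (IrrCharacter G)] {M : Ideal AlgInt}

theorem memLocalRing_omega (hM : M.IsPrime) {f : G → ℂ} (hf : IsClassFunction G f)
    (hfR : ∀ g, MemLocalRing M (f g)) (χ : IrrCharacter G) :
    MemLocalRing M (omega f (χ : G → ℂ)) := by
  classical
  rw [omega_eq_sum_classes hf (isClassFunction_irr χ)]
  exact memLocalRing_sum hM _ _
    (fun K _ => memLocalRing_mul hM (hfR _) (memLocalRing_centralChar hM χ _))

theorem memLocalIdeal_of_pow (hM : M.IsPrime) {x : ℂ} (hx : MemLocalRing M x) :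
    ∀ n : ℕ, MemLocalIdeal M (x ^ n) → MemLocalIdeal M x
  | 0, h => absurd (by simpa using h) (not_memLocalIdeal_one hM)
  | n + 1, h => by
    rw [pow_succ] at h
    rcases memLocalIdeal_of_mul_memLocalIdeal hM (memLocalRing_pow hM hx n) hx h with h1 | h1
    · exact memLocalIdeal_of_pow hM hx n h1
    · exact h1

/-- **Lemma N.** Let `P` be a normal `p`-subgroup and `f` an integer valued class function whose
image in the group algebra of `G ⧸ P` over `ZMod p` vanishes. Then every central character
sends `f` into the local ideal. -/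
theorem memLocalIdeal_omega_of_mapDomain_eq_zero {p : ℕ} [Fact p.Prime] (hM : IsPModular p M)
    (P : Subgroup G) [P.Normal] (hP : IsPGroup p P) (f : G → ℤ)
    (hf : ∀ g h : G, f (h * g * h⁻¹) = f g)
    (hzero : MonoidAlgebra.mapDomain (QuotientGroup.mk : G → G ⧸ P)
      (toMA (fun g => ((f g : ℤ) : ZMod p))) = 0) (χ : IrrCharacter G) :
    MemLocalIdeal M (omega (fun g => (f g : ℂ)) (χ : G → ℂ)) := by
  classical
  have hprime : M.IsPrime := hM.2.1.isPrime
  obtain ⟨n, hn⟩ := isNilpotent_of_mapDomain_eq_zero (F := ZMod p) p P hP _ hzero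
  have hdiv : ∀ g, (p : ℤ) ∣ cpow f n g := by
    intro g
    rw [← toMA_cpow, toMA_eq_zero_iff] at hn
    have h1 := hn g
    have h2 := map_cpow (Int.castRingHom (ZMod p)) f n g
    simp only [eq_intCast] at h2
    rw [← h2] at h1
    exact (ZMod.intCast_zmod_eq_zero_iff_dvd _ _).mp h1
  set fC : G → ℂ := fun g => (f g : ℂ) with hfC
  have hfC_class : IsClassFunction G fC := fun g h => by simp [fC, hf g h]
  have hfC_R : ∀ g, MemLocalRing M (fC g) := fun g => memLocalRing_intCast hprime _
  have hcp : ∀ g, cpow fC n g = ((cpow f n g : ℤ) : ℂ) := by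
    intro g
    have h2 := map_cpow (Int.castRingHom ℂ) f n g
    simp only [eq_intCast] at h2
    exact h2.symm
  let H : G → ℂ := fun g => ((cpow f n g / (p : ℤ) : ℤ) : ℂ)
  have hH : cpow fC n = (p : ℂ) • H := by
    ext g
    rw [hcp g, Pi.smul_apply, smul_eq_mul]
    obtain ⟨k, hk⟩ := hdiv g
    simp only [H]
    rw [hk, Int.mul_ediv_cancel_left _ (by exact_mod_cast (Fact.out : p.Prime).ne_zero)]
    push_cast; ring
  have hH_class : IsClassFunction G H := by
    intro g h
    have h1 := isClassFunction_cpow hfC_class n g h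
    rw [hH, Pi.smul_apply, Pi.smul_apply, smul_eq_mul, smul_eq_mul] at h1
    exact mul_left_cancel₀ (by exact_mod_cast (Fact.out : p.Prime).ne_zero) h1
  have hH_R : ∀ g, MemLocalRing M (H g) := fun g => memLocalRing_intCast hprime _
  have hpow : (omega fC (χ : G → ℂ)) ^ n = (p : ℂ) * omega H (χ : G → ℂ) := by
    rw [← omega_cpow χ.2 hfC_class, hH, omega_smul]
  have hx := memLocalRing_omega hprime hfC_class hfC_R χ
  apply memLocalIdeal_of_pow hprime hx n
  rw [hpow]
  exact memLocalIdeal_mul_right hprime ((memLocalIdeal_natCast_iff hM p).mpr dvd_rfl)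
    (memLocalRing_omega hprime hH_class hH_R χ)

theorem mapDomain_toMA_eq_zero {R : Type*} [Semiring R] {Q : Type*} [DecidableEq Q] (π : G → Q)
    (F : G → R) (h : ∀ q : Q, ∑ x : G, (if π x = q then F x else 0) = 0) :
    MonoidAlgebra.mapDomain π (toMA F) = 0 := by
  apply MonoidAlgebra.coeff_injective
  ext q
  rw [MonoidAlgebra.coeff_mapDomain, MonoidAlgebra.coeff_zero, Finsupp.zero_apply]
  rw [Finsupp.mapDomain, Finsupp.sum_apply, Finsupp.sum_fintype _ _ (fun i => by simp)]
  rw [← h q]
  apply Finset.sum_congr rfl
  intro x _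
  rw [Finsupp.single_apply]
  rfl

theorem isConj_conj_iff (g x h : G) : IsConj g (h * x * h⁻¹) ↔ IsConj g x := by
  constructor
  · intro e
    exact e.trans (isConj_iff.2 ⟨h⁻¹, by group⟩)
  · intro e
    exact e.trans (isConj_iff.2 ⟨h, rfl⟩)

/-- The conjugates of an element outside the centralizer of a normal `p`-subgroup `P` which lie
in a fixed coset of `P` are a multiple of `p` in number. -/
theorem dvd_card_conj_inter_coset {p : ℕ} [Fact p.Prime] (P : Subgroup G) [P.Normal]
    (hP : IsPGroup p P) (g : G) (hg : g ∉ Subgroup.centralizer (P : Set G)) (q : G ⧸ P) :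
    p ∣ Nat.card {x : G | IsConj g x ∧ (x : G ⧸ P) = q} := by
  by_contra hcard
  obtain ⟨s, hs, hfix⟩ := Cfsg.Agent.Lib.Helper29.exists_conj_fixed_of_pgroup P hP
    {x : G | IsConj g x ∧ (x : G ⧸ P) = q} (by
      intro u hu s hs
      refine ⟨(isConj_conj_iff g s u).mpr hs.1, ?_⟩
      rw [← hs.2, QuotientGroup.eq]
      have h1 : s⁻¹ * u⁻¹ * s ∈ P := by
        have := Subgroup.Normal.conj_mem ‹P.Normal› u⁻¹ (P.inv_mem hu) s⁻¹
        simpa using this
      have h2 : (u * s * u⁻¹)⁻¹ * s = u * (s⁻¹ * u⁻¹ * s) := by group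
      rw [h2]
      exact P.mul_mem hu h1) hcard
  apply hg
  have hsC : s ∈ Subgroup.centralizer (P : Set G) := by
    rw [Subgroup.mem_centralizer_iff]
    intro u hu
    have := hfix u hu
    calc u * s = u * s * u⁻¹ * u := by group
      _ = s * u := by rw [this]
  obtain ⟨c, hc⟩ := isConj_iff.mp hs.1
  have : g = c⁻¹ * s * c⁻¹⁻¹ := by rw [← hc]; group
  rw [this]
  exact Subgroup.Normal.conj_mem inferInstance s hsC c⁻¹

/-- Class sums of classes outside the centralizer of a normal `p`-subgroup act as `0` modulo the
local ideal. -/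
theorem memLocalIdeal_centralChar_of_not_mem_centralizer {p : ℕ} [Fact p.Prime]
    (hM : IsPModular p M) (P : Subgroup G) [P.Normal] (hP : IsPGroup p P) (g : G)
    (hg : g ∉ Subgroup.centralizer (P : Set G)) (χ : IrrCharacter G) :
    MemLocalIdeal M (centralChar (χ : G → ℂ) g) := by
  classical
  have key := memLocalIdeal_omega_of_mapDomain_eq_zero hM P hP
    (fun x => if IsConj g x then (1 : ℤ) else 0)
    (fun x h => by simp only [isConj_conj_iff]) (by
      apply mapDomain_toMA_eq_zero
      intro q
      have h1 : ∀ x : G, (if (x : G ⧸ P) = q then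
          (((if IsConj g x then (1 : ℤ) else 0 : ℤ)) : ZMod p) else 0)
          = if (IsConj g x ∧ (x : G ⧸ P) = q) then 1 else 0 := by
        intro x
        by_cases h1 : (x : G ⧸ P) = q <;> by_cases h2 : IsConj g x <;> simp [h1, h2]
      rw [Finset.sum_congr rfl (fun x _ => h1 x), Finset.sum_boole]
      rw [ZMod.natCast_eq_zero_iff]
      have := dvd_card_conj_inter_coset P hP g hg q
      rwa [Nat.card_eq_fintype_card, Fintype.card_subtype] at this) χ
  have h2 : (fun x => (((if IsConj g x then (1 : ℤ) else 0 : ℤ)) : ℂ))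
      = fun x => if IsConj g x then (1 : ℂ) else 0 := by
    ext x; split_ifs <;> simp
  rw [h2, omega_indicator (isClassFunction_irr χ)] at key
  exact key

/-- Class sums of classes inside a normal `p`-subgroup act as the class size modulo the local
ideal. -/
theorem memLocalIdeal_centralChar_sub_of_mem {p : ℕ} [Fact p.Prime]
    (hM : IsPModular p M) (P : Subgroup G) [P.Normal] (hP : IsPGroup p P) (g : G)
    (hg : g ∈ P) (χ : IrrCharacter G) :
    MemLocalIdeal M (centralChar (χ : G → ℂ) g -
      ((Subgroup.centralizer ({g} : Set G)).index : ℂ)) := by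
  classical
  set k : ℤ := ((Subgroup.centralizer ({g} : Set G)).index : ℤ) with hk
  set f : G → ℤ := fun x => (if IsConj g x then (1 : ℤ) else 0) - (if x = 1 then k else 0) with hf
  have hmk : ∀ x : G, f x ≠ 0 → (x : G ⧸ P) = 1 := by
    intro x hx
    rw [QuotientGroup.eq_one_iff]
    by_cases h1 : IsConj g x
    · obtain ⟨c, rfl⟩ := isConj_iff.mp h1
      exact Subgroup.Normal.conj_mem inferInstance g hg c
    · by_cases h2 : x = 1
      · rw [h2]; exact P.one_mem
      · exfalso; apply hx
        show (if IsConj g x then (1 : ℤ) else 0) - (if x = 1 then k else 0) = 0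
        rw [if_neg h1, if_neg h2, sub_zero]
  have hsum : ∑ x : G, f x = 0 := by
    simp only [hf, Finset.sum_sub_distrib, Finset.sum_boole, Finset.sum_ite_eq', Finset.mem_univ,
      if_true]
    rw [hk, Cfsg.Agent.Lib.Helper83.index_centralizer_eq_card_conj, Nat.card_eq_fintype_card,
      Fintype.card_subtype]
    simp
  have hclass : ∀ x h : G, f (h * x * h⁻¹) = f x := by
    intro x h
    have h1 : h * x * h⁻¹ = 1 ↔ x = 1 := by
      constructor
      · intro e
        have : x = h⁻¹ * (h * x * h⁻¹) * h := by group
        rw [this, e]; group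
      · rintro rfl; group
    simp only [hf, isConj_conj_iff, h1]
  have key := memLocalIdeal_omega_of_mapDomain_eq_zero hM P hP f hclass (by
      apply mapDomain_toMA_eq_zero
      intro q
      by_cases hq : q = 1
      · have h1 : ∀ x : G, (if (x : G ⧸ P) = q then ((f x : ℤ) : ZMod p) else 0)
            = ((f x : ℤ) : ZMod p) := by
          intro x
          by_cases hx : (x : G ⧸ P) = q
          · rw [if_pos hx]
          · rw [if_neg hx]
            by_contra hne
            apply hx
            rw [hq]
            apply hmk x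
            intro h0
            apply hne
            rw [h0]; simp
        rw [Finset.sum_congr rfl (fun x _ => h1 x), ← Int.cast_sum, hsum, Int.cast_zero]
      · apply Finset.sum_eq_zero
        intro x _
        by_cases hx : (x : G ⧸ P) = q
        · rw [if_pos hx]
          by_contra hne
          apply hq
          rw [← hx]
          apply hmk x
          intro h0
          apply hne
          rw [h0]; simp
        · rw [if_neg hx]) χ
  have h2 : (fun x => ((f x : ℤ) : ℂ))
      = (fun x => if IsConj g x then (1 : ℂ) else 0) - (fun x => if x = 1 then (k : ℂ) else 0) := by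
    ext x
    simp only [hf, Pi.sub_apply]
    push_cast
    split_ifs <;> simp
  rw [h2, omega_sub, omega_indicator (isClassFunction_irr χ),
    omega_delta _ _ (IsIrrCharacter.apply_one_ne_zero χ.2)] at key
  simpa [hk] using key

end LemmaN

end Cfsg.Agent.Lib.Helper81
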