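import Mathlib

set_option autoImplicit false

/-!
# Sums of functions invariant under a permutation

If `F` is invariant under the permutation `σ` and every point where `F` does not vanish has
minimal period divisible by `q`, then the sum of `F` is `q` times an element of any additive
submonoid containing the values of `F`.
-/

namespace Cfsg.Agent.Lib.Helper81

theorem sum_eq_nsmul_of_dvd_minimalPeriod {X : Type*} [Fintype X] {A : Type*} [AddCommMonoid A]
    (σ : Equiv.Perm X) (S : AddSubmonoid A) (F : X → A) (hF : ∀ x, F (σ x) = F x)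
    (hS : ∀ x, F x ∈ S) (q : ℕ) (hq : ∀ x, F x ≠ 0 → q ∣ Function.minimalPeriod σ x) :
    ∃ r ∈ S, ∑ x, F x = q • r := by
  classical
  have hFinv : ∀ x, F (σ⁻¹ x) = F x := by
    intro x
    have := hF (σ⁻¹ x)
    simp at this
    exact this.symm
  have hpow : ∀ (n : ℕ) (x : X), F ((σ ^ n) x) = F x := by
    intro n
    induction n with
    | zero => intro x; simp
    | succ n ih => intro x; rw [pow_succ', Equiv.Perm.mul_apply, hF, ih]
  have hpow' : ∀ (n : ℕ) (x : X), F ((σ⁻¹ ^ n) x) = F x := by
    intro n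
    induction n with
    | zero => intro x; simp
    | succ n ih => intro x; rw [pow_succ', Equiv.Perm.mul_apply, hFinv, ih]
  have hz : ∀ (n : ℤ) (x : X), F ((σ ^ n) x) = F x := by
    intro n x
    cases n with
    | ofNat n => simpa using hpow n x
    | negSucc n =>
      rw [zpow_negSucc, ← inv_pow]
      exact hpow' _ x
  have hinv : ∀ (u : Subgroup.zpowers σ) (x : X), F (u • x) = F x := by
    rintro ⟨u, hu⟩ x
    obtain ⟨n, rfl⟩ := Subgroup.mem_zpowers_iff.1 hu
    exact hz n x
  have : Fintype (MulAction.orbitRel.Quotient (Subgroup.zpowers σ) X) := Fintype.ofFinite _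
  have : ∀ ω : MulAction.orbitRel.Quotient (Subgroup.zpowers σ) X,
      Fintype (MulAction.orbit (Subgroup.zpowers σ) (Quotient.out ω)) :=
    fun ω => Fintype.ofFinite _
  rw [← (MulAction.selfEquivSigmaOrbits (Subgroup.zpowers σ) X).symm.sum_comp, Fintype.sum_sigma]
  have key : ∀ ω : MulAction.orbitRel.Quotient (Subgroup.zpowers σ) X, ∃ r ∈ S,
      ∑ x : MulAction.orbit (Subgroup.zpowers σ) (Quotient.out ω),
        F ((MulAction.selfEquivSigmaOrbits (Subgroup.zpowers σ) X).symm ⟨ω, x⟩) = q • r := by
    intro ω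
    have h1 : ∀ x : MulAction.orbit (Subgroup.zpowers σ) (Quotient.out ω),
        F ((MulAction.selfEquivSigmaOrbits (Subgroup.zpowers σ) X).symm ⟨ω, x⟩)
          = F (Quotient.out ω) := by
      intro x
      have hx : (MulAction.selfEquivSigmaOrbits (Subgroup.zpowers σ) X).symm ⟨ω, x⟩ = (x : X) :=
        rfl
      rw [hx]
      obtain ⟨u, hu⟩ := x.2
      rw [← hu]
      exact hinv u _
    rw [Finset.sum_congr rfl (fun x _ => h1 x), Finset.sum_const, Finset.card_univ]
    by_cases h0 : F (Quotient.out ω) = 0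
    · exact ⟨0, S.zero_mem, by rw [h0, smul_zero, smul_zero]⟩
    · obtain ⟨t, ht⟩ := hq _ h0
      have hcard : Fintype.card (MulAction.orbit (Subgroup.zpowers σ) (Quotient.out ω)) = q * t := by
        rw [← ht]
        exact (MulAction.minimalPeriod_eq_card σ (Quotient.out ω)).symm
      refine ⟨t • F (Quotient.out ω), S.nsmul_mem (hS _) t, ?_⟩
      rw [hcard, mul_smul]
  choose r hrS hr using key
  refine ⟨∑ ω, r ω, S.sum_mem (fun ω _ => hrS ω), ?_⟩
  rw [Finset.smul_sum]
  exact Finset.sum_congr rfl (fun ω _ => hr ω)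

end Cfsg.Agent.Lib.Helper81
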