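import Mathlib
import Cfsg.Prelude.Def_Blocks
import Cfsg.Agent.Lib.Helper81.BlockNilp
import Cfsg.Agent.Lib.Helper81.OrbitSum
import Cfsg.Agent.Lib.Helper82.ResidueField
import Cfsg.Agent.Lib.Helper82.CharSchur

set_option autoImplicit false
set_option linter.unusedSectionVars false

/-!
# Auxiliary lemmas for Brauer's second main theorem

* extension by zero from a subgroup and convolution;
* class functions are central for convolution, and act on characters through `omega`;
* reduction modulo the local ideal;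
* the Brauer map in characteristic `p` is multiplicative on functions invariant under
  conjugation by a `p`-element.
-/

namespace Cfsg.Agent.Lib.Helper81

open Cfsg
open Cfsg.Agent.Lib.Helper21 Cfsg.Agent.Lib.Helper82 Cfsg.Agent.Lib.Helper83

universe u
variable {G : Type u} [Group G] [Fintype G]

section Ext0

variable {R : Type*} [Semiring R] (H : Subgroup G)

open Classical in
/-- extension by zero from a subgroup -/
noncomputable def ext0 (F : H → R) : G → R := fun g => if hg : g ∈ H then F ⟨g, hg⟩ else 0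

theorem ext0_of_mem (F : H → R) {g : G} (hg : g ∈ H) : ext0 H F g = F ⟨g, hg⟩ := by
  simp [ext0, hg]

theorem ext0_of_not_mem (F : H → R) {g : G} (hg : g ∉ H) : ext0 H F g = 0 := by
  simp [ext0, hg]

theorem ext0_coe (F : H → R) (k : H) : ext0 H F (k : G) = F k := by
  rw [ext0_of_mem H F k.2]

theorem sum_eq_sum_subgroup [Fintype H] {A : Type*} [AddCommMonoid A] (f : G → A)
    (hf : ∀ g, g ∉ H → f g = 0) : ∑ g, f g = ∑ k : H, f k := by
  classical
  rw [← Finset.sum_subtype (Finset.univ.filter (fun x : G => x ∈ H)) (fun x => by simp) f]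
  rw [Finset.sum_filter]
  apply Finset.sum_congr rfl
  intro g _
  split_ifs with hg
  · rfl
  · exact hf g hg

theorem sum_ext0_mul [Fintype H] (F : H → R) (φ : G → R) :
    ∑ g, ext0 H F g * φ g = ∑ k : H, F k * φ k := by
  rw [sum_eq_sum_subgroup H (fun g => ext0 H F g * φ g)
    (fun g hg => by simp only [ext0_of_not_mem H F hg, zero_mul])]
  apply Finset.sum_congr rfl
  intro k _
  rw [ext0_coe]

theorem gconv_ext0 [Fintype H] (F1 F2 : H → R) :
    gconv (ext0 H F1) (ext0 H F2) = ext0 H (gconv F1 F2) := by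
  funext z
  by_cases hz : z ∈ H
  · rw [ext0_of_mem H _ hz]
    simp only [gconv]
    rw [sum_eq_sum_subgroup H (fun x => ext0 H F1 x * ext0 H F2 (x⁻¹ * z))
      (fun g hg => by simp only [ext0_of_not_mem H F1 hg, zero_mul])]
    apply Finset.sum_congr rfl
    intro k _
    rw [ext0_coe]
    have : (k : G)⁻¹ * z = ((k⁻¹ * ⟨z, hz⟩ : H) : G) := rfl
    rw [this, ext0_coe]
  · rw [ext0_of_not_mem H _ hz]
    simp only [gconv]
    apply Finset.sum_eq_zero
    intro x _
    by_cases hx : x ∈ H
    · have : x⁻¹ * z ∉ H := by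
        intro h
        apply hz
        have := H.mul_mem hx h
        rwa [mul_inv_cancel_left] at this
      rw [ext0_of_not_mem H F2 this, mul_zero]
    · rw [ext0_of_not_mem H F1 hx, zero_mul]

theorem ext0_gdelta [DecidableEq G] [DecidableEq H] :
    ext0 H (gdelta : H → R) = (gdelta : G → R) := by
  funext g
  by_cases hg : g ∈ H
  · rw [ext0_of_mem H _ hg]
    simp only [gdelta]
    have : (⟨g, hg⟩ : H) = 1 ↔ g = 1 := by
      rw [Subtype.ext_iff]; rfl
    simp only [this]
  · rw [ext0_of_not_mem H _ hg]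
    simp only [gdelta]
    rw [if_neg]
    intro h1
    apply hg
    rw [h1]; exact H.one_mem

theorem cpow_ext0 [Fintype H] [DecidableEq G] [DecidableEq H] (F : H → R) (m : ℕ) :
    cpow (ext0 H F) m = ext0 H (cpow F m) := by
  induction m with
  | zero => simp only [cpow]; exact (ext0_gdelta H).symm
  | succ m ih => simp only [cpow]; rw [ih, gconv_ext0]

end Ext0

section Invariance

variable {R : Type*} [Semiring R]

theorem gconv_conj_invariant (t : G) (F1 F2 : G → R) (h1 : ∀ g, F1 (t * g * t⁻¹) = F1 g)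
    (h2 : ∀ g, F2 (t * g * t⁻¹) = F2 g) (g : G) :
    gconv F1 F2 (t * g * t⁻¹) = gconv F1 F2 g := by
  simp only [gconv]
  apply (Fintype.sum_equiv (MulAut.conj t).toEquiv _ _ _).symm
  intro x
  simp only [MulEquiv.toEquiv_eq_coe, MulEquiv.coe_toEquiv, MulAut.conj_apply]
  rw [h1]
  have : (t * x * t⁻¹)⁻¹ * (t * g * t⁻¹) = t * (x⁻¹ * g) * t⁻¹ := by group
  rw [this, h2]

theorem gdelta_conj_invariant [DecidableEq G] (t g : G) :
    (gdelta : G → R) (t * g * t⁻¹) = gdelta g := by
  simp only [gdelta]
  have : t * g * t⁻¹ = 1 ↔ g = 1 := by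
    constructor
    · intro h
      have := congrArg (fun z => t⁻¹ * z * t) h
      simpa [mul_assoc] using this
    · intro h; rw [h]; group
  simp only [this]

theorem cpow_conj_invariant [DecidableEq G] (t : G) (F : G → R)
    (h1 : ∀ g, F (t * g * t⁻¹) = F g) (m : ℕ) (g : G) :
    cpow F m (t * g * t⁻¹) = cpow F m g := by
  induction m generalizing g with
  | zero => exact gdelta_conj_invariant t g
  | succ m ih => exact gconv_conj_invariant t F (cpow F m) h1 ih g

end Invariance

section ClassFun

theorem conv_comm_of_isClassFunction (F c : G → ℂ) (hc : IsClassFunction G c) :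
    conv F c = conv c F := by
  funext z
  simp only [conv]
  apply Fintype.sum_equiv ((Equiv.inv G).trans (Equiv.mulLeft z))
  intro u
  simp only [Equiv.trans_apply, Equiv.inv_apply, Equiv.coe_mulLeft]
  have h1 : c (z * u⁻¹) = c (u⁻¹ * z) := by
    have := hc (u⁻¹ * z) u
    rw [← this]; congr 1; group
  have h2 : (z * u⁻¹)⁻¹ * z = u := by group
  rw [h1, h2, mul_comm]

theorem sum_classFun_mul_char (χ : IrrCharacter G) {c : G → ℂ} (hc : IsClassFunction G c)
    (a : G) : ∑ v, c v * (χ : G → ℂ) (a * v) = omega c (χ : G → ℂ) * (χ : G → ℂ) a := by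
  have hne : (Fintype.card G : ℂ) ≠ 0 := by exact_mod_cast Fintype.card_ne_zero
  have h1 : ∀ g : G, ∑ v, c v * (χ : G → ℂ) (a * v)
      = ∑ v, c v * (χ : G → ℂ) (a * (g * v * g⁻¹)) := by
    intro g
    apply Fintype.sum_equiv (MulAut.conj g⁻¹).toEquiv
    intro v
    simp only [MulEquiv.toEquiv_eq_coe, MulEquiv.coe_toEquiv, MulAut.conj_apply, inv_inv]
    have e1 : c (g⁻¹ * v * g) = c v := by
      have := hc v g⁻¹
      rwa [inv_inv] at this
    have e2 : g * (g⁻¹ * v * g) * g⁻¹ = v := by group
    rw [e1, e2]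
  have h2 : (Fintype.card G : ℂ) * ∑ v, c v * (χ : G → ℂ) (a * v)
      = (Fintype.card G : ℂ) * (omega c (χ : G → ℂ) * (χ : G → ℂ) a) := by
    calc (Fintype.card G : ℂ) * ∑ v, c v * (χ : G → ℂ) (a * v)
        = ∑ g : G, ∑ v, c v * (χ : G → ℂ) (a * v) := by
          rw [Finset.sum_const, Finset.card_univ, nsmul_eq_mul]
      _ = ∑ g : G, ∑ v, c v * (χ : G → ℂ) (a * (g * v * g⁻¹)) :=
          Finset.sum_congr rfl (fun g _ => h1 g)
      _ = ∑ v, c v * ∑ g : G, (χ : G → ℂ) (a * (g * v * g⁻¹)) := by
          rw [Finset.sum_comm]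
          apply Finset.sum_congr rfl
          intro v _
          rw [Finset.mul_sum]
      _ = ∑ v, c v * ((Fintype.card G : ℂ) * (χ : G → ℂ) a * (χ : G → ℂ) v / (χ : G → ℂ) 1) := by
          apply Finset.sum_congr rfl
          intro v _
          rw [Cfsg.Agent.Lib.Helper82.IsIrrCharacter.sum_mul_conj χ.2]
      _ = (Fintype.card G : ℂ) * (omega c (χ : G → ℂ) * (χ : G → ℂ) a) := by
          simp only [omega]
          rw [Finset.sum_div, Finset.sum_mul, Finset.mul_sum]
          apply Finset.sum_congr rfl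
          intro v _
          ring
  exact mul_left_cancel₀ hne h2

theorem sum_conv_mul_char (χ : IrrCharacter G) (F : G → ℂ) {c : G → ℂ}
    (hc : IsClassFunction G c) (h : G) :
    ∑ g, conv F c g * (χ : G → ℂ) (g * h)
      = omega c (χ : G → ℂ) * ∑ u, F u * (χ : G → ℂ) (u * h) := by
  have hχ := isClassFunction_irr χ
  simp only [conv]
  simp_rw [Finset.sum_mul]
  rw [Finset.sum_comm, Finset.mul_sum]
  apply Finset.sum_congr rfl
  intro u _
  have h1 : ∑ g, F u * c (u⁻¹ * g) * (χ : G → ℂ) (g * h)
      = F u * ∑ v, c v * (χ : G → ℂ) ((h * u) * v) := by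
    rw [Finset.mul_sum]
    apply Fintype.sum_equiv (Equiv.mulLeft u⁻¹)
    intro g
    simp only [Equiv.coe_mulLeft]
    have : (χ : G → ℂ) (g * h) = (χ : G → ℂ) (h * u * (u⁻¹ * g)) := by
      have := hχ (g * h) h
      rw [← this]
      have e : h * (g * h) * h⁻¹ = h * u * (u⁻¹ * g) := by group
      rw [e]
    rw [this, mul_assoc]
  rw [h1, sum_classFun_mul_char χ hc]
  have h2 : (χ : G → ℂ) (h * u) = (χ : G → ℂ) (u * h) := by
    have := hχ (u * h) h
    rw [← this]
    have e : h * (u * h) * h⁻¹ = h * u := by group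
    rw [e]
  rw [h2]; ring

end ClassFun

section Red

variable (M : Ideal AlgInt) (hM : M.IsPrime)

open Classical in
/-- reduction modulo the local ideal (zero outside the local ring) -/
noncomputable def redC (z : ℂ) : LocalResidue M hM :=
  if hz : MemLocalRing M z then residueMap M hM ⟨z, hz⟩ else 0

variable {M}

theorem redC_of_mem {z : ℂ} (hz : MemLocalRing M z) : redC M hM z = residueMap M hM ⟨z, hz⟩ := by
  simp [redC, hz]

theorem redC_zero : redC M hM 0 = 0 := by
  rw [redC_of_mem hM (memLocalRing_zero hM)]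
  exact map_zero _

theorem redC_one : redC M hM 1 = 1 := by
  rw [redC_of_mem hM (memLocalRing_one hM)]
  exact map_one _

theorem redC_add {x y : ℂ} (hx : MemLocalRing M x) (hy : MemLocalRing M y) :
    redC M hM (x + y) = redC M hM x + redC M hM y := by
  rw [redC_of_mem hM hx, redC_of_mem hM hy, redC_of_mem hM (memLocalRing_add hM hx hy), ← map_add]
  rfl

theorem redC_sub {x y : ℂ} (hx : MemLocalRing M x) (hy : MemLocalRing M y) :
    redC M hM (x - y) = redC M hM x - redC M hM y := by
  rw [redC_of_mem hM hx, redC_of_mem hM hy, redC_of_mem hM (memLocalRing_sub hM hx hy), ← map_sub]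
  rfl

theorem redC_mul {x y : ℂ} (hx : MemLocalRing M x) (hy : MemLocalRing M y) :
    redC M hM (x * y) = redC M hM x * redC M hM y := by
  rw [redC_of_mem hM hx, redC_of_mem hM hy, redC_of_mem hM (memLocalRing_mul hM hx hy), ← map_mul]
  rfl

theorem redC_sum {ι : Type*} (s : Finset ι) (f : ι → ℂ) (h : ∀ i ∈ s, MemLocalRing M (f i)) :
    redC M hM (∑ i ∈ s, f i) = ∑ i ∈ s, redC M hM (f i) := by
  classical
  induction s using Finset.induction_on with
  | empty => simp [redC_zero]
  | insert a s ha ih =>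
    rw [Finset.sum_insert ha, Finset.sum_insert ha,
      redC_add hM (h a (Finset.mem_insert_self _ _))
        (memLocalRing_sum hM _ _ (fun i hi => h i (Finset.mem_insert_of_mem hi))),
      ih (fun i hi => h i (Finset.mem_insert_of_mem hi))]

theorem redC_eq_zero_iff {z : ℂ} (hz : MemLocalRing M z) :
    redC M hM z = 0 ↔ MemLocalIdeal M z := by
  rw [redC_of_mem hM hz, residueMap_eq_zero_iff]

theorem red_gconv {F1 F2 : G → ℂ} (h1 : ∀ g, MemLocalRing M (F1 g))
    (h2 : ∀ g, MemLocalRing M (F2 g)) :
    (fun g => redC M hM (gconv F1 F2 g))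
      = gconv (fun g => redC M hM (F1 g)) (fun g => redC M hM (F2 g)) := by
  funext z
  simp only [gconv]
  rw [redC_sum hM _ _ (fun x _ => memLocalRing_mul hM (h1 x) (h2 _))]
  apply Finset.sum_congr rfl
  intro x _
  rw [redC_mul hM (h1 x) (h2 _)]

include hM in
theorem memLocalRing_gdelta [DecidableEq G] (g : G) : MemLocalRing M ((gdelta : G → ℂ) g) := by
  simp only [gdelta]
  split_ifs
  · exact memLocalRing_one hM
  · exact memLocalRing_zero hM

include hM in
theorem memLocalRing_gconv {F1 F2 : G → ℂ} (h1 : ∀ g, MemLocalRing M (F1 g))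
    (h2 : ∀ g, MemLocalRing M (F2 g)) (z : G) : MemLocalRing M (gconv F1 F2 z) := by
  simp only [gconv]
  exact memLocalRing_sum hM _ _ (fun x _ => memLocalRing_mul hM (h1 x) (h2 _))

include hM in
theorem memLocalRing_cpow [DecidableEq G] {F : G → ℂ} (h1 : ∀ g, MemLocalRing M (F g)) (m : ℕ)
    (g : G) : MemLocalRing M (cpow F m g) := by
  induction m generalizing g with
  | zero => exact memLocalRing_gdelta hM g
  | succ m ih => exact memLocalRing_gconv hM h1 ih g

theorem red_gdelta [DecidableEq G] :
    (fun g => redC M hM ((gdelta : G → ℂ) g)) = (gdelta : G → LocalResidue M hM) := by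
  funext g
  simp only [gdelta]
  split_ifs
  · exact redC_one hM
  · exact redC_zero hM

theorem red_cpow [DecidableEq G] {F : G → ℂ} (h1 : ∀ g, MemLocalRing M (F g)) (m : ℕ) :
    (fun g => redC M hM (cpow F m g)) = cpow (fun g => redC M hM (F g)) m := by
  induction m with
  | zero => exact red_gdelta hM
  | succ m ih =>
    simp only [cpow]
    rw [red_gconv hM h1 (memLocalRing_cpow hM h1 m), ih]

theorem red_ext0 (H : Subgroup G) (F : H → ℂ) :
    (fun g => redC M hM (ext0 H F g)) = ext0 H (fun k => redC M hM (F k)) := by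
  funext g
  by_cases hg : g ∈ H
  · rw [ext0_of_mem H _ hg, ext0_of_mem H _ hg]
  · rw [ext0_of_not_mem H _ hg, ext0_of_not_mem H _ hg, redC_zero]

end Red

section BrauerModP

variable {k : Type*} [CommRing k] (p : ℕ) [Fact p.Prime] [CharP k p]

theorem iterate_conj (x u : G) (m : ℕ) :
    ((MulAut.conj x).toEquiv : G → G)^[m] u = x ^ m * u * (x ^ m)⁻¹ := by
  induction m with
  | zero => simp
  | succ m ih =>
    rw [Function.iterate_succ_apply', ih]
    simp only [MulEquiv.toEquiv_eq_coe, EquivLike.coe_coe, MulAut.conj_apply, pow_succ']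
    group

open Classical in
/-- a sum over the complement of the centralizer of a `p`-element of a function invariant under
conjugation by it vanishes in characteristic `p` -/
theorem sum_not_centralizer_eq_zero (x : G) {n : ℕ} (hx : x ^ (p ^ n) = 1) (F : G → k)
    (hF : ∀ g, F (x * g * x⁻¹) = F g) :
    ∑ u, (if u ∈ Subgroup.centralizer ({x} : Set G) then 0 else F u) = 0 := by
  have hp : p.Prime := Fact.out
  have hxC : x ∈ Subgroup.centralizer ({x} : Set G) := by
    rw [Subgroup.mem_centralizer_singleton_iff]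
  have hconj : ∀ u, x * u * x⁻¹ ∈ Subgroup.centralizer ({x} : Set G) ↔
      u ∈ Subgroup.centralizer ({x} : Set G) := by
    intro u
    constructor
    · intro h
      have : u = x⁻¹ * (x * u * x⁻¹) * x := by group
      rw [this]
      exact Subgroup.mul_mem _ (Subgroup.mul_mem _ (Subgroup.inv_mem _ hxC) h) hxC
    · intro h
      exact Subgroup.mul_mem _ (Subgroup.mul_mem _ hxC h) (Subgroup.inv_mem _ hxC)
  obtain ⟨r, -, hr⟩ := sum_eq_nsmul_of_dvd_minimalPeriod (MulAut.conj x).toEquiv
    (⊤ : AddSubmonoid k)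
    (fun u => if u ∈ Subgroup.centralizer ({x} : Set G) then 0 else F u)
    (by
      intro u
      simp only [MulEquiv.toEquiv_eq_coe, EquivLike.coe_coe, MulAut.conj_apply, hconj, hF])
    (fun _ => AddSubmonoid.mem_top _) p
    (by
      intro u hu
      have huC : u ∉ Subgroup.centralizer ({x} : Set G) := by
        intro h
        apply hu
        rw [if_pos h]
      have hper : Function.IsPeriodicPt ((MulAut.conj x).toEquiv : G → G) (p ^ n) u := by
        unfold Function.IsPeriodicPt Function.IsFixedPt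
        rw [iterate_conj, hx, inv_one, one_mul, mul_one]
      obtain ⟨e, -, hpe⟩ := (Nat.dvd_prime_pow hp).1 hper.minimalPeriod_dvd
      rcases Nat.eq_zero_or_pos e with he | he
      · exfalso
        rw [he, pow_zero, Function.minimalPeriod_eq_one_iff_isFixedPt] at hpe
        apply huC
        rw [Subgroup.mem_centralizer_singleton_iff]
        have h1 : x * u * x⁻¹ = u := hpe
        have := congrArg (fun z => z * x) h1
        simpa [mul_assoc] using this.symm
      · change p ∣ Function.minimalPeriod ((MulAut.conj x).toEquiv : G → G) u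
        rw [hpe]
        exact dvd_pow_self p he.ne')
  rw [hr, nsmul_eq_mul, CharP.cast_eq_zero, zero_mul]

open Classical in
theorem gconv_apply_of_mem_centralizer (x : G) {n : ℕ} (hx : x ^ (p ^ n) = 1) (F1 F2 : G → k)
    (h1 : ∀ g, F1 (x * g * x⁻¹) = F1 g) (h2 : ∀ g, F2 (x * g * x⁻¹) = F2 g) {c : G}
    (hc : c ∈ Subgroup.centralizer ({x} : Set G)) :
    gconv F1 F2 c
      = ∑ u, if u ∈ Subgroup.centralizer ({x} : Set G) then F1 u * F2 (u⁻¹ * c) else 0 := by
  have hcx : c * x = x * c := Subgroup.mem_centralizer_singleton_iff.1 hc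
  have key := sum_not_centralizer_eq_zero (k := k) p x hx (fun u => F1 u * F2 (u⁻¹ * c))
    (by
      intro u
      rw [h1]
      have : (x * u * x⁻¹)⁻¹ * c = x * (u⁻¹ * c) * x⁻¹ := by
        have hc' : c = x * c * x⁻¹ := by rw [← hcx]; group
        conv_lhs => rw [hc']
        group
      rw [this, h2])
  simp only [gconv]
  have : ∀ u : G, F1 u * F2 (u⁻¹ * c)
      = (if u ∈ Subgroup.centralizer ({x} : Set G) then F1 u * F2 (u⁻¹ * c) else 0)
        + (if u ∈ Subgroup.centralizer ({x} : Set G) then 0 else F1 u * F2 (u⁻¹ * c)) := by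
    intro u
    split_ifs <;> simp
  rw [Finset.sum_congr rfl (fun u _ => this u), Finset.sum_add_distrib, key, add_zero]

variable (x : G) [Fintype (Subgroup.centralizer ({x} : Set G))]

/-- restriction to the centralizer of `x`, as an element of its group algebra -/
noncomputable def resCent (F : G → k) : MonoidAlgebra k (Subgroup.centralizer ({x} : Set G)) :=
  toMA (fun c : Subgroup.centralizer ({x} : Set G) => F c)

theorem resCent_eq_zero_iff (F : G → k) :
    resCent x F = 0 ↔ ∀ c ∈ Subgroup.centralizer ({x} : Set G), F c = 0 := by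
  rw [resCent, toMA_eq_zero_iff]
  constructor
  · intro h c hc
    exact h ⟨c, hc⟩
  · intro h c
    exact h c c.2

theorem resCent_congr {F1 F2 : G → k}
    (h : ∀ c ∈ Subgroup.centralizer ({x} : Set G), F1 c = F2 c) : resCent x F1 = resCent x F2 := by
  unfold resCent
  congr 1
  funext c
  exact h c c.2

theorem resCent_gconv {n : ℕ} (hx : x ^ (p ^ n) = 1) (F1 F2 : G → k)
    (h1 : ∀ g, F1 (x * g * x⁻¹) = F1 g) (h2 : ∀ g, F2 (x * g * x⁻¹) = F2 g) :
    resCent x (gconv F1 F2) = resCent x F1 * resCent x F2 := by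
  classical
  rw [resCent, resCent, resCent, ← toMA_gconv]
  congr 1
  funext c
  rw [gconv_apply_of_mem_centralizer p x hx F1 F2 h1 h2 c.2]
  rw [sum_eq_sum_subgroup (Subgroup.centralizer ({x} : Set G))
    (fun u => if u ∈ Subgroup.centralizer ({x} : Set G) then F1 u * F2 (u⁻¹ * c) else 0)
    (fun g hg => if_neg hg)]
  simp only [gconv]
  apply Finset.sum_congr rfl
  intro u _
  rw [if_pos u.2]
  rfl

theorem resCent_gdelta [DecidableEq G] : resCent x (gdelta : G → k) = 1 := by
  classical
  rw [resCent, ← toMA_gdelta]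
  congr 1
  funext c
  simp only [gdelta]
  have : (c : G) = 1 ↔ c = 1 := by
    rw [Subtype.ext_iff]; rfl
  simp only [this]

theorem resCent_cpow [DecidableEq G] {n : ℕ} (hx : x ^ (p ^ n) = 1) (F : G → k)
    (h1 : ∀ g, F (x * g * x⁻¹) = F g) (m : ℕ) :
    resCent x (cpow F m) = (resCent x F) ^ m := by
  induction m with
  | zero => rw [pow_zero]; exact resCent_gdelta x
  | succ m ih =>
    simp only [cpow]
    rw [resCent_gconv p x hx F (cpow F m) h1 (cpow_conj_invariant x F h1 m), ih, pow_succ']

end BrauerModP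

end Cfsg.Agent.Lib.Helper81
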