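import Mathlib
import Cfsg.Prelude.Def_Blocks
import Cfsg.Agent.Lib.Helper81.SecondMainAux
import Cfsg.Agent.Lib.Helper83.Completeness

set_option autoImplicit false
set_option linter.unusedSectionVars false

/-!
# The block part of a class function through the block idempotent

`blockPart B ϑ y = ∑ k, blockCoeff B k * ϑ (k * y)` for class functions `ϑ`.
-/

namespace Cfsg.Agent.Lib.Helper81

open Cfsg
open Cfsg.Agent.Lib.Helper21 Cfsg.Agent.Lib.Helper82 Cfsg.Agent.Lib.Helper83

universe u
variable {G : Type u} [Group G] [Fintype G] [Fintype (IrrCharacter G)]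

theorem blockPart_apply (B : Set (IrrCharacter G)) (ϑ : G → ℂ) (y : G) :
    blockPart B ϑ y = ∑ᶠ χ ∈ B, classInner ϑ (χ : G → ℂ) * (χ : G → ℂ) y := by
  unfold blockPart
  have : Fintype.ofFinite G = (inferInstance : Fintype G) := Subsingleton.elim _ _
  rw [this]

theorem blockPart_eq_sum (B : Set (IrrCharacter G)) {ϑ : G → ℂ} (hϑ : IsClassFunction G ϑ)
    (y : G) : blockPart B ϑ y = ∑ k, blockCoeff B k * ϑ (k * y) := by
  classical
  rw [blockPart_apply, finsum_mem_eq_sum_ite]
  have hpt : ∀ g, ϑ g = ∑ φ : IrrCharacter G, classInner ϑ (φ : G → ℂ) * (φ : G → ℂ) g := by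
    intro g
    have := congrFun (classFunction_eq_sum_irr hϑ) g
    rw [Finset.sum_apply] at this
    simpa only [Pi.smul_apply, smul_eq_mul] using this
  have he := blockCoeff_isClassFunction B
  have h1 : ∀ k, blockCoeff B k * ϑ (k * y)
      = ∑ φ : IrrCharacter G, classInner ϑ (φ : G → ℂ) * (blockCoeff B k * (φ : G → ℂ) (y * k)) := by
    intro k
    rw [hpt (k * y), Finset.mul_sum]
    apply Finset.sum_congr rfl
    intro φ _
    have hφ := isClassFunction_irr φ (k * y) y
    have e : y * (k * y) * y⁻¹ = y * k := by group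
    rw [e] at hφ
    rw [hφ]; ring
  rw [Finset.sum_congr rfl (fun k _ => h1 k), Finset.sum_comm]
  apply Finset.sum_congr rfl
  intro φ _
  rw [← Finset.mul_sum, sum_classFun_mul_char φ he y, omega_blockCoeff]
  split_ifs <;> simp

end Cfsg.Agent.Lib.Helper81
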