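import Mathlib
import Cfsg.Prelude.Def_Blocks
import Cfsg.Agent.Lib.Helper82.LocalRing

set_option autoImplicit false

/-!
# p-adic facts about the local ring at a modular maximal ideal

* `exists_pow_eq_p_mul`: every element of the local ideal has a power divisible by `p`
  in the local ring.
* `eq_zero_of_forall_pow_dvd`: a complex number divisible (in the local ring) by all powers
  of `p` is zero.
-/

namespace Cfsg.Agent.Lib.Helper81

open Cfsg Cfsg.Agent.Lib.Helper82

variable {M : Ideal AlgInt} {p : ℕ}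

/-- an algebraic integer in `M` has a power `a^k` with `s * a^k ∈ (p)` for some `s ∉ M` -/
theorem exists_mul_pow_mem_span (hMod : IsPModular p M) {a : AlgInt} (ha : a ∈ M) :
    ∃ (k : ℕ) (s w : AlgInt), s ∉ M ∧ s * a ^ k = (p : AlgInt) * w := by
  classical
  have hMmax : M.IsMaximal := hMod.2.1
  have hMprime : M.IsPrime := hMmax.isPrime
  by_contra hcon
  have hdisj : Disjoint ((Ideal.span {(p : AlgInt)} : Ideal AlgInt) : Set AlgInt)
      ((M.primeCompl ⊔ Submonoid.powers a : Submonoid AlgInt) : Set AlgInt) := by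
    rw [Set.disjoint_left]
    intro z hz hz'
    apply hcon
    rw [SetLike.mem_coe, Submonoid.mem_sup] at hz'
    obtain ⟨s, hs, y, hy, rfl⟩ := hz'
    obtain ⟨k, rfl⟩ := (Submonoid.mem_powers_iff _ _).1 hy
    rw [SetLike.mem_coe, Ideal.mem_span_singleton'] at hz
    obtain ⟨w, hw⟩ := hz
    exact ⟨k, s, w, hs, by rw [← hw, mul_comm]⟩
  obtain ⟨q, hq, hpq, hqdisj⟩ := Ideal.exists_le_prime_disjoint _ _ hdisj
  have hpne : (p : AlgInt) ≠ 0 := by
    have : (p : ℕ) ≠ 0 := hMod.1.ne_zero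
    exact_mod_cast this
  have hqne : q ≠ ⊥ := by
    intro h
    have : (p : AlgInt) ∈ q := hpq (Ideal.mem_span_singleton_self _)
    rw [h, Ideal.mem_bot] at this
    exact hpne this
  have hqmax : q.IsMaximal := Ring.DimensionLEOne.maximalOfPrime hqne hq
  have hqM : q ≤ M := by
    intro z hz
    by_contra hzM
    rw [Set.disjoint_left] at hqdisj
    exact hqdisj hz (Submonoid.mem_sup_left (S := M.primeCompl) hzM)
  have hqeq : q = M := hqmax.eq_of_le hMmax.ne_top hqM
  rw [Set.disjoint_left] at hqdisj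
  exact hqdisj (a := a) (by rw [hqeq]; exact ha)
    (Submonoid.mem_sup_right (Submonoid.mem_powers a))

/-- every element of the local ideal has a power divisible by `p` in the local ring -/
theorem exists_pow_eq_p_mul (hMod : IsPModular p M) {t : ℂ} (ht : MemLocalIdeal M t) :
    ∃ k : ℕ, ∃ r : ℂ, MemLocalRing M r ∧ t ^ k = (p : ℂ) * r := by
  have hMprime : M.IsPrime := hMod.2.1.isPrime
  obtain ⟨a, b, ha, hb, rfl⟩ := ht
  obtain ⟨k, s, w, hs, hw⟩ := exists_mul_pow_mem_span hMod ha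
  have hsb : s * b ^ k ∉ M := by
    intro h
    rcases hMprime.mem_or_mem h with h | h
    · exact hs h
    · exact hb (hMprime.mem_of_pow_mem k h)
  refine ⟨k, (w : ℂ) / ((s * b ^ k : AlgInt) : ℂ), ⟨w, s * b ^ k, hsb, rfl⟩, ?_⟩
  have hs0 : (s : ℂ) ≠ 0 := coe_ne_zero_of_not_mem hs
  have hb0 : (b : ℂ) ≠ 0 := coe_ne_zero_of_not_mem hb
  have hw' : (s : ℂ) * (a : ℂ) ^ k = (p : ℂ) * (w : ℂ) := by
    have := congrArg (fun z : AlgInt => (z : ℂ)) hw
    simpa using this
  have hbk : (b : ℂ) ^ k ≠ 0 := pow_ne_zero _ hb0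
  push_cast
  rw [div_pow]
  field_simp
  linear_combination hw'

/-- powers beyond a `p`-divisible power are still `p`-divisible -/
theorem pow_eq_p_mul_of_le (hMod : IsPModular p M) {t : ℂ} (ht : MemLocalRing M t) {k : ℕ}
    (hk : ∃ r : ℂ, MemLocalRing M r ∧ t ^ k = (p : ℂ) * r) {k' : ℕ} (hkk : k ≤ k') :
    ∃ r : ℂ, MemLocalRing M r ∧ t ^ k' = (p : ℂ) * r := by
  have hMprime : M.IsPrime := hMod.2.1.isPrime
  obtain ⟨r, hr, hrk⟩ := hk
  refine ⟨r * t ^ (k' - k), memLocalRing_mul hMprime hr (memLocalRing_pow hMprime ht _), ?_⟩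
  rw [← mul_assoc, ← hrk, ← pow_add, Nat.add_sub_cancel' hkk]

/-- a complex number which is divisible in the local ring by every power of `p` vanishes -/
theorem eq_zero_of_forall_pow_dvd (hMod : IsPModular p M) {z : ℂ}
    (h : ∀ j : ℕ, ∃ r : ℂ, MemLocalRing M r ∧ z = (p : ℂ) ^ j * r) : z = 0 := by
  have hMprime : M.IsPrime := hMod.2.1.isPrime
  have hp : p.Prime := hMod.1
  by_contra hz
  -- `z` is algebraic
  obtain ⟨r0, hr0, hz0⟩ := h 0
  have hzR : MemLocalRing M z := by rw [hz0]; simpa using hr0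
  obtain ⟨a, b, hb, hab⟩ := hzR
  have halg : IsAlgebraic ℤ z := by
    rw [← hab]
    exact (a.2.isAlgebraic).mul (b.2.isAlgebraic).inv
  obtain ⟨n, hn0, hn⟩ := halg.inv.exists_integral_multiple
  -- `w = n • z⁻¹` is an algebraic integer and `n = w * z`
  set w : ℂ := n • z⁻¹ with hw
  have hnz : (n : ℂ) = w * z := by
    rw [hw, zsmul_eq_mul, mul_assoc, inv_mul_cancel₀ hz, mul_one]
  have hwR : MemLocalRing M w := memLocalRing_of_isIntegral hMprime hn
  -- take `j` bigger than the `p`-adic valuation of `n`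
  obtain ⟨j, m, hpm, hnm⟩ : ∃ (j : ℕ) (m : ℤ), ¬ (p : ℤ) ∣ m ∧ n = (p : ℤ) ^ j * m := by
    have hpp : Prime (p : ℤ) := Nat.prime_iff_prime_int.1 hp
    obtain ⟨j, m, hm, hnm⟩ := WfDvdMonoid.max_power_factor hn0 hpp.irreducible
    exact ⟨j, m, hm, hnm⟩
  obtain ⟨r, hr, hzr⟩ := h (j + 1)
  have hpc : (p : ℂ) ≠ 0 := by exact_mod_cast hp.ne_zero
  have hm : (m : ℂ) = (p : ℂ) * (w * r) := by
    have h1 : ((p : ℂ) ^ j) * (m : ℂ) = ((p : ℂ) ^ j) * ((p : ℂ) * (w * r)) := by
      have : (n : ℂ) = (p : ℂ) ^ j * (m : ℂ) := by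
        rw [hnm]; push_cast; ring
      rw [← this, hnz, hzr]; ring
    exact mul_left_cancel₀ (pow_ne_zero _ hpc) h1
  have hmJ : MemLocalIdeal M (m : ℂ) := by
    rw [hm]
    apply memLocalIdeal_mul_right hMprime _ (memLocalRing_mul hMprime hwR hr)
    exact (memLocalIdeal_natCast_iff hMod p).2 dvd_rfl
  exact hpm ((memLocalIdeal_intCast_iff hMod m).1 hmJ)

end Cfsg.Agent.Lib.Helper81
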