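import Mathlib
import Cfsg.Prelude.Def_Blocks
import Cfsg.Agent.Lib.Helper81.OrbitSum
import Cfsg.Agent.Lib.Helper81.PAdicLocal
import Cfsg.Agent.Lib.Helper82.LocalRing

set_option autoImplicit false

/-!
# Twisted rotations of tuples (necklace counting)

Tuples `I : Fin (k+1) → G`, the ordered product `tprod I`, the twisted rotation `rot h`, its
iterates, and the expansion of powers of an idempotent of the group algebra.
-/

namespace Cfsg.Agent.Lib.Helper81.Necklace

variable {G : Type*} [Group G]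

/-- ordered product of a tuple -/
def tprod {k : ℕ} (I : Fin k → G) : G := (List.ofFn I).prod

/-- twisted-periodic extension of a tuple to all natural indices -/
def ext (h : G) {k : ℕ} (I : Fin (k + 1) → G) (n : ℕ) : G :=
  h ^ (n / (k + 1)) * I ⟨n % (k + 1), Nat.mod_lt _ (Nat.succ_pos k)⟩ * (h ^ (n / (k + 1)))⁻¹

/-- the twisted rotation -/
def rot (h : G) {k : ℕ} (I : Fin (k + 1) → G) : Fin (k + 1) → G :=
  Fin.snoc (fun i : Fin k => h⁻¹ * I i.succ * h) (I 0)

theorem ext_of_lt (h : G) {k : ℕ} (I : Fin (k + 1) → G) {n : ℕ} (hn : n < k + 1) :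
    ext h I n = I ⟨n, hn⟩ := by
  have h1 : n / (k + 1) = 0 := Nat.div_eq_of_lt hn
  have h2 : n % (k + 1) = n := Nat.mod_eq_of_lt hn
  simp only [ext, h1, h2, pow_zero, one_mul, inv_one, mul_one]

theorem ext_add_mul (h : G) {k : ℕ} (I : Fin (k + 1) → G) (n m : ℕ) :
    ext h I (n + m * (k + 1)) = h ^ m * ext h I n * (h ^ m)⁻¹ := by
  have h1 : (n + m * (k + 1)) / (k + 1) = n / (k + 1) + m :=
    Nat.add_mul_div_right _ _ (Nat.succ_pos k)
  have h2 : (n + m * (k + 1)) % (k + 1) = n % (k + 1) := Nat.add_mul_mod_self_right _ _ _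
  simp only [ext, h1, h2, pow_add]
  group

theorem rot_apply (h : G) {k : ℕ} (I : Fin (k + 1) → G) (i : Fin (k + 1)) :
    rot h I i = h⁻¹ * ext h I ((i : ℕ) + 1) * h := by
  induction i using Fin.lastCases with
  | last =>
    have h0 : ext h I (0 + 1 * (k + 1)) = h ^ 1 * ext h I 0 * (h ^ 1)⁻¹ := ext_add_mul h I 0 1
    rw [ext_of_lt h I (Nat.succ_pos k)] at h0
    rw [rot, Fin.snoc_last, Fin.val_last]
    have e : ext h I (k + 1) = ext h I (0 + 1 * (k + 1)) := by
      congr 1; ring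
    rw [e, h0]
    have : (⟨0, Nat.succ_pos k⟩ : Fin (k + 1)) = 0 := rfl
    rw [this]
    group
  | cast j =>
    rw [rot, Fin.snoc_castSucc, Fin.val_castSucc]
    rw [ext_of_lt h I (Nat.succ_lt_succ j.2)]
    rfl

theorem iterate_rot_apply (h : G) {k : ℕ} (I : Fin (k + 1) → G) (j : ℕ) (i : Fin (k + 1)) :
    (rot h)^[j] I i = (h ^ j)⁻¹ * ext h I ((i : ℕ) + j) * h ^ j := by
  induction j generalizing i with
  | zero =>
    simp only [Function.iterate_zero, id_eq, pow_zero, inv_one, one_mul, mul_one, add_zero]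
    rw [ext_of_lt h I i.2]
  | succ j ih =>
    rw [Function.iterate_succ_apply', rot_apply]
    set q := ((i : ℕ) + 1) / (k + 1) with hq
    set r := ((i : ℕ) + 1) % (k + 1) with hr
    have hsplit : (i : ℕ) + 1 = r + q * (k + 1) := by
      rw [hq, hr, mul_comm]; exact (Nat.mod_add_div _ _).symm
    have e1 : ext h ((rot h)^[j] I) ((i : ℕ) + 1)
        = h ^ q * ((h ^ j)⁻¹ * ext h I (r + j) * h ^ j) * (h ^ q)⁻¹ := by
      rw [ext]
      rw [← hq]
      congr 2
      exact ih ⟨r, Nat.mod_lt _ (Nat.succ_pos k)⟩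
    have e2 : ext h I ((i : ℕ) + (j + 1)) = h ^ q * ext h I (r + j) * (h ^ q)⁻¹ := by
      have : (i : ℕ) + (j + 1) = (r + j) + q * (k + 1) := by omega
      rw [this, ext_add_mul]
    rw [e1, e2]
    simp only [pow_succ]
    group

/-- after a multiple of `k+1` steps the twisted rotation is a simultaneous conjugation -/
theorem iterate_rot_mul (h : G) {k : ℕ} (I : Fin (k + 1) → G) (m : ℕ) (i : Fin (k + 1)) :
    (rot h)^[m * (k + 1)] I i = ((h ^ k) ^ m)⁻¹ * I i * (h ^ k) ^ m := by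
  rw [iterate_rot_apply, ext_add_mul, ext_of_lt h I i.2]
  have : h ^ (m * (k + 1)) = (h ^ k) ^ m * h ^ m := by
    rw [← pow_mul, ← pow_add]; congr 1; ring
  rw [this]
  have hc : Commute ((h ^ k) ^ m) (h ^ m) := by
    rw [← pow_mul]; exact Commute.pow_pow_self h _ _
  have hc' : (h ^ k) ^ m * h ^ m = h ^ m * (h ^ k) ^ m := hc.eq
  rw [mul_inv_rev]
  calc (h ^ m)⁻¹ * ((h ^ k) ^ m)⁻¹ * (h ^ m * I i * (h ^ m)⁻¹) * ((h ^ k) ^ m * h ^ m)
      = ((h ^ k) ^ m)⁻¹ * ((h ^ m)⁻¹ * h ^ m) * I i * ((h ^ m)⁻¹ * h ^ m) * (h ^ k) ^ m := by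
        rw [hc']
        have hc2 : (h ^ m)⁻¹ * ((h ^ k) ^ m)⁻¹ = ((h ^ k) ^ m)⁻¹ * (h ^ m)⁻¹ := by
          rw [← mul_inv_rev, ← mul_inv_rev, hc']
        rw [hc2]
        simp only [mul_assoc]
    _ = ((h ^ k) ^ m)⁻¹ * I i * (h ^ k) ^ m := by simp

/-- the twisted rotation as a permutation (for an element of finite order) -/
def rotEquiv (h : G) (k : ℕ) {d : ℕ} (hd : h ^ (d + 1) = 1) : Equiv.Perm (Fin (k + 1) → G) where
  toFun := rot h
  invFun := (rot h)^[(d + 1) * (k + 1) - 1]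
  left_inv I := by
    have hpos : 0 < (d + 1) * (k + 1) := Nat.mul_pos (Nat.succ_pos _) (Nat.succ_pos _)
    rw [← Function.iterate_succ_apply, Nat.succ_eq_add_one, Nat.sub_add_cancel hpos]
    funext i
    rw [iterate_rot_mul, pow_right_comm, hd, one_pow, inv_one, one_mul, mul_one]
  right_inv I := by
    have hpos : 0 < (d + 1) * (k + 1) := Nat.mul_pos (Nat.succ_pos _) (Nat.succ_pos _)
    change rot h ((rot h)^[(d + 1) * (k + 1) - 1] I) = I
    rw [← Function.iterate_succ_apply' (rot h), Nat.succ_eq_add_one, Nat.sub_add_cancel hpos]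
    funext i
    rw [iterate_rot_mul, pow_right_comm, hd, one_pow, inv_one, one_mul, mul_one]

@[simp] theorem rotEquiv_apply (h : G) (k : ℕ) {d : ℕ} (hd : h ^ (d + 1) = 1)
    (I : Fin (k + 1) → G) : rotEquiv h k hd I = rot h I := rfl

theorem rotEquiv_pow_apply (h : G) (k : ℕ) {d : ℕ} (hd : h ^ (d + 1) = 1) (n : ℕ)
    (I : Fin (k + 1) → G) : ((rotEquiv h k hd) ^ n) I = (rot h)^[n] I := by
  induction n generalizing I with
  | zero => rfl
  | succ n ih =>
    rw [pow_succ, Equiv.Perm.mul_apply, ih, rotEquiv_apply, Function.iterate_succ_apply]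

/-- the weight of a tuple -/
def wt {R : Type*} [CommMonoid R] (ε : G → R) {k : ℕ} (I : Fin k → G) : R := ∏ i, ε (I i)

theorem wt_rot {R : Type*} [CommMonoid R] (ε : G → R) (h : G)
    (hε : ∀ g, ε (h⁻¹ * g * h) = ε g) {k : ℕ} (I : Fin (k + 1) → G) :
    wt ε (rot h I) = wt ε I := by
  unfold wt
  rw [Fin.prod_univ_castSucc, Fin.prod_univ_succ (fun i => ε (I i))]
  simp only [rot, Fin.snoc_castSucc, Fin.snoc_last, hε]
  rw [mul_comm]

theorem tprod_succ {k : ℕ} (I : Fin (k + 1) → G) :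
    tprod I = I 0 * tprod (fun i : Fin k => I i.succ) := by
  unfold tprod
  rw [List.ofFn_succ, List.prod_cons]

theorem tprod_conj (h : G) {k : ℕ} (J : Fin k → G) :
    tprod (fun i => h⁻¹ * J i * h) = h⁻¹ * tprod J * h := by
  induction k with
  | zero => simp [tprod]
  | succ k ih =>
    rw [tprod_succ, tprod_succ J, ih]
    group

theorem tprod_rot (h : G) {k : ℕ} (I : Fin (k + 1) → G) :
    tprod (rot h I) = h⁻¹ * tprod (fun i : Fin k => I i.succ) * h * I 0 := by
  have : tprod (rot h I) = tprod (fun i : Fin k => h⁻¹ * I i.succ * h) * I 0 := by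
    unfold tprod
    rw [List.ofFn_succ_last, List.prod_append, List.prod_singleton]
    simp only [rot, Fin.snoc_castSucc, Fin.snoc_last]
  rw [this, tprod_conj]

theorem classFun_tprod_rot {A : Type*} (φ : G → A) (hφ : ∀ a b : G, φ (a * b) = φ (b * a))
    (h : G) {k : ℕ} (I : Fin (k + 1) → G) :
    φ (tprod (rot h I) * h) = φ (tprod I * h) := by
  rw [tprod_rot, tprod_succ I]
  set A' := tprod (fun i : Fin k => I i.succ)
  calc φ (h⁻¹ * A' * h * I 0 * h) = φ (h⁻¹ * (A' * h * I 0 * h)) := by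
        congr 1; simp only [mul_assoc]
    _ = φ ((A' * h * I 0 * h) * h⁻¹) := hφ _ _
    _ = φ ((A' * h) * I 0) := by congr 1; group
    _ = φ (I 0 * (A' * h)) := hφ _ _
    _ = φ (I 0 * A' * h) := by congr 1; simp only [mul_assoc]

section Expansion

variable [Fintype G] {R : Type*} [CommSemiring R]

/-- the sum over all tuples of length `k` of weight times `φ` of the product -/
def S (ε φ : G → R) (k : ℕ) : R := ∑ I : Fin k → G, wt ε I * φ (tprod I)

theorem S_zero (ε φ : G → R) : S ε φ 0 = φ 1 := by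
  simp [S, wt, tprod]

theorem S_succ (ε φ : G → R) (k : ℕ) :
    S ε φ (k + 1) = ∑ g, ε g * S ε (fun u => φ (g * u)) k := by
  unfold S
  rw [← (Fin.consEquiv (fun _ : Fin (k + 1) => G)).sum_comp, Fintype.sum_prod_type]
  apply Finset.sum_congr rfl
  intro g _
  rw [Finset.mul_sum]
  apply Finset.sum_congr rfl
  intro J _
  simp only [Fin.consEquiv_apply, wt, tprod_succ, Fin.prod_univ_succ, Fin.cons_zero, Fin.cons_succ]
  ring

/-- for an idempotent `ε` the expansion of any positive length equals the length one sum -/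
theorem S_succ_of_idempotent (ε : G → R) (hid : ∀ z, ∑ u, ε u * ε (u⁻¹ * z) = ε z)
    (φ : G → R) (k : ℕ) : S ε φ (k + 1) = ∑ g, ε g * φ g := by
  induction k generalizing φ with
  | zero =>
    rw [S_succ]
    simp [S_zero]
  | succ k ih =>
    rw [S_succ]
    simp_rw [ih, Finset.mul_sum]
    rw [Finset.sum_comm]
    -- ∑ g', ∑ g, ε g * (ε g' * φ (g * g'))
    have : ∀ g : G, ∑ g' : G, ε g * (ε g' * φ (g * g'))
        = ∑ u : G, ε g * ε (g⁻¹ * u) * φ u := by
      intro g
      apply Fintype.sum_equiv (Equiv.mulLeft g)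
      intro g'
      simp only [Equiv.coe_mulLeft, inv_mul_cancel_left]
      ring
    rw [Finset.sum_comm]
    rw [Finset.sum_congr rfl (fun g _ => this g), Finset.sum_comm]
    apply Finset.sum_congr rfl
    intro u _
    rw [← Finset.sum_mul, hid]

end Expansion

end Cfsg.Agent.Lib.Helper81.Necklace
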