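import Mathlib
import Cfsg.Prelude.Def_Blocks
import Cfsg.Agent.Lib.Helper81.Necklace

set_option autoImplicit false

/-!
# A vanishing theorem of Green type, proved by necklace counting

Let `h` be an element of the finite group `G` with `p`-part `x`.  Let `ε` be an idempotent of the
group algebra with local-integer coefficients, invariant under conjugation by `h`, all of whose
coefficients on the centralizer of `x` lie in the local ideal.  Then for every class function `φ`
with local-integer values, `∑ g, ε g * φ (g * h) = 0`.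
-/

namespace Cfsg.Agent.Lib.Helper81

open Cfsg Cfsg.Agent.Lib.Helper82 Necklace

variable {G : Type*} [Group G] [Fintype G] {M : Ideal AlgInt} {p : ℕ}

/-- the local ring as an additive submonoid of `ℂ` -/
def localAddSubmonoid (M : Ideal AlgInt) (hM : M.IsPrime) : AddSubmonoid ℂ where
  carrier := {z | MemLocalRing M z}
  add_mem' := fun ha hb => memLocalRing_add hM ha hb
  zero_mem' := memLocalRing_zero hM

theorem mem_localAddSubmonoid (hM : M.IsPrime) {z : ℂ} :
    z ∈ localAddSubmonoid M hM ↔ MemLocalRing M z := Iff.rfl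

theorem exists_pow_eq (hp : p.Prime) {h x y : G} (hxy : x * y = h) (hc : Commute x y) {n : ℕ}
    (hx : orderOf x = p ^ n) (hy : ¬ p ∣ orderOf y) (N0 : ℕ) :
    ∃ N ≥ N0, h ^ (p ^ N) = y := by
  have hr : 0 < orderOf y := orderOf_pos y
  have cop : Nat.Coprime p (orderOf y) := (Nat.Prime.coprime_iff_not_dvd hp).2 hy
  have htot : 0 < (orderOf y).totient := Nat.totient_pos.2 hr
  refine ⟨(orderOf y).totient * (N0 + n), ?_, ?_⟩
  · calc N0 ≤ N0 + n := Nat.le_add_right _ _
      _ ≤ (orderOf y).totient * (N0 + n) := Nat.le_mul_of_pos_left _ htot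
  · have hn : n ≤ (orderOf y).totient * (N0 + n) :=
      calc n ≤ N0 + n := Nat.le_add_left _ _
        _ ≤ (orderOf y).totient * (N0 + n) := Nat.le_mul_of_pos_left _ htot
    have h1 : x ^ (p ^ ((orderOf y).totient * (N0 + n))) = 1 := by
      rw [← orderOf_dvd_iff_pow_eq_one, hx]
      exact pow_dvd_pow p hn
    have h2 : y ^ (p ^ ((orderOf y).totient * (N0 + n))) = y := by
      have hmod : p ^ ((orderOf y).totient * (N0 + n)) ≡ 1 [MOD orderOf y] := by
        have := (Nat.ModEq.pow_totient cop).pow (N0 + n)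
        rwa [← pow_mul, one_pow] at this
      have := (pow_eq_pow_iff_modEq (x := y)).2 hmod
      rwa [pow_one] at this
    rw [← hxy, hc.mul_pow, h1, h2, one_mul]

theorem sum_eq_mul_of_forall (hM : M.IsPrime) {ι : Type*} (s : Finset ι) (f : ι → ℂ) (c : ℂ)
    (h : ∀ i ∈ s, ∃ r, MemLocalRing M r ∧ f i = c * r) :
    ∃ r, MemLocalRing M r ∧ ∑ i ∈ s, f i = c * r := by
  classical
  induction s using Finset.induction_on with
  | empty => exact ⟨0, memLocalRing_zero hM, by simp⟩
  | insert a s ha ih =>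
    obtain ⟨r1, hr1, e1⟩ := h a (Finset.mem_insert_self _ _)
    obtain ⟨r2, hr2, e2⟩ := ih (fun i hi => h i (Finset.mem_insert_of_mem hi))
    exact ⟨r1 + r2, memLocalRing_add hM hr1 hr2, by rw [Finset.sum_insert ha, e1, e2, mul_add]⟩

/-- pigeonhole: a long product of coefficients from the local ideal is divisible by `p ^ j` -/
theorem wt_eq_pow_mul (hMod : IsPModular p M) (ε : G → ℂ) (hεR : ∀ g, MemLocalRing M (ε g))
    (C : Set G) {k0 j : ℕ} (hk0pos : 0 < k0)
    (hk0 : ∀ c ∈ C, ∃ r, MemLocalRing M r ∧ ε c ^ k0 = (p : ℂ) * r) {K : ℕ}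
    (hK : Fintype.card G * (k0 * j) ≤ K) (I : Fin K → G) (hI : ∀ i, I i ∈ C) :
    ∃ r, MemLocalRing M r ∧ wt ε I = (p : ℂ) ^ j * r := by
  classical
  have hMprime : M.IsPrime := hMod.2.1.isPrime
  by_cases hj : j = 0
  · subst hj
    exact ⟨wt ε I, memLocalRing_prod hMprime _ _ (fun i _ => hεR _), by simp⟩
  have hpos : 0 < k0 * j := Nat.mul_pos hk0pos (Nat.pos_of_ne_zero hj)
  obtain ⟨c, hc⟩ := Fintype.exists_le_card_fiber_of_mul_le_card I (n := k0 * j)
    (by simpa [Fintype.card_fin] using hK)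
  set T := Finset.univ.filter (fun i => I i = c) with hT
  have hTne : T.Nonempty := Finset.card_pos.1 (lt_of_lt_of_le hpos hc)
  obtain ⟨i0, hi0⟩ := hTne
  have hcC : c ∈ C := by
    rw [hT, Finset.mem_filter] at hi0
    rw [← hi0.2]; exact hI i0
  obtain ⟨r, hr, hrk⟩ := hk0 c hcC
  have e1 : wt ε I = (∏ i ∈ T, ε (I i)) * ∏ i ∈ Finset.univ.filter (fun i => ¬ I i = c), ε (I i) := by
    unfold wt
    rw [hT, Finset.prod_filter_mul_prod_filter_not]
  have e2 : ∏ i ∈ T, ε (I i) = ε c ^ T.card := by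
    have : ∀ i ∈ T, ε (I i) = ε c := by
      intro i hi
      rw [hT, Finset.mem_filter] at hi
      rw [hi.2]
    rw [Finset.prod_congr rfl this, Finset.prod_const]
  have e3 : ε c ^ T.card = (p : ℂ) ^ j * (r ^ j * ε c ^ (T.card - k0 * j)) := by
    have : T.card = k0 * j + (T.card - k0 * j) := (Nat.add_sub_cancel' hc).symm
    conv_lhs => rw [this, pow_add, pow_mul, hrk, mul_pow]
    ring
  refine ⟨r ^ j * ε c ^ (T.card - k0 * j) *
    ∏ i ∈ Finset.univ.filter (fun i => ¬ I i = c), ε (I i), ?_, ?_⟩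
  · exact memLocalRing_mul hMprime (memLocalRing_mul hMprime (memLocalRing_pow hMprime hr _)
      (memLocalRing_pow hMprime (hεR _) _)) (memLocalRing_prod hMprime _ _ (fun i _ => hεR _))
  · rw [e1, e2, e3]; ring

/-- **Green-type vanishing**, proved by necklace counting. -/
theorem sum_mul_eq_zero_of_idempotent (hMod : IsPModular p M) {h x : G} (hx : IsPPart p h x)
    (ε φ : G → ℂ) (hεR : ∀ g, MemLocalRing M (ε g)) (hφR : ∀ g, MemLocalRing M (φ g))
    (hεh : ∀ g, ε (h⁻¹ * g * h) = ε g)
    (hid : ∀ z, ∑ u, ε u * ε (u⁻¹ * z) = ε z)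
    (hφ : ∀ a b : G, φ (a * b) = φ (b * a))
    (hεC : ∀ c ∈ Subgroup.centralizer ({x} : Set G), MemLocalIdeal M (ε c)) :
    ∑ g, ε g * φ (g * h) = 0 := by
  classical
  have hMprime : M.IsPrime := hMod.2.1.isPrime
  have hp : p.Prime := hMod.1
  obtain ⟨y, hxy, hc, ⟨n, hxn⟩, hy⟩ := hx
  apply eq_zero_of_forall_pow_dvd hMod
  intro j
  -- a uniform exponent
  obtain ⟨k0, hk0pos, hk0⟩ : ∃ k0 : ℕ, 0 < k0 ∧ ∀ c ∈ Subgroup.centralizer ({x} : Set G),
      ∃ r, MemLocalRing M r ∧ ε c ^ k0 = (p : ℂ) * r := by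
    have : ∀ c : G, ∃ k : ℕ, c ∈ Subgroup.centralizer ({x} : Set G) →
        ∃ r, MemLocalRing M r ∧ ε c ^ k = (p : ℂ) * r := by
      intro c
      by_cases hcc : c ∈ Subgroup.centralizer ({x} : Set G)
      · obtain ⟨k, hk⟩ := exists_pow_eq_p_mul hMod (hεC c hcc)
        exact ⟨k, fun _ => hk⟩
      · exact ⟨0, fun h => absurd h hcc⟩
    choose kf hkf using this
    refine ⟨(∑ c, kf c) + 1, Nat.succ_pos _, fun c hcc =>
      pow_eq_p_mul_of_le hMod (hεR c) (hkf c hcc) ?_⟩
    exact (Finset.single_le_sum (f := kf) (fun _ _ => Nat.zero_le _)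
      (Finset.mem_univ c)).trans (Nat.le_succ _)
  -- choose `N`
  obtain ⟨N, hN, hNy⟩ := exists_pow_eq hp hxy hc hxn hy (Fintype.card G * (k0 * j) + j)
  obtain ⟨k, hk⟩ : ∃ k, p ^ N = k + 1 :=
    Nat.exists_eq_succ_of_ne_zero (pow_ne_zero _ hp.ne_zero)
  have hhk : h ^ k = x⁻¹ := by
    have h1 : h ^ k * h = y := by rw [← pow_succ, ← hk, hNy]
    have h2 : h ^ k = y * h⁻¹ := eq_mul_inv_of_mul_eq h1
    rw [h2, ← hxy, mul_inv_rev, mul_inv_cancel_left]
  have hcard : Fintype.card G * (k0 * j) ≤ k + 1 := by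
    rw [← hk]
    calc Fintype.card G * (k0 * j) ≤ N := by omega
      _ ≤ p ^ N := (Nat.lt_pow_self hp.one_lt).le
  have hjN : j ≤ N + 1 := by omega
  have hhx : h ∈ Subgroup.centralizer ({x} : Set G) := by
    rw [Subgroup.mem_centralizer_singleton_iff, ← hxy]
    rw [mul_assoc, hc.eq.symm, ← mul_assoc]
  -- the expansion
  rw [← S_succ_of_idempotent ε hid (fun u => φ (u * h)) k]
  unfold S
  set C : Subgroup G := Subgroup.centralizer ({x} : Set G) with hCdef
  set F : (Fin (k + 1) → G) → ℂ := fun I => wt ε I * φ (tprod I * h) with hF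
  have hFR : ∀ I, MemLocalRing M (F I) := fun I =>
    memLocalRing_mul hMprime (memLocalRing_prod hMprime _ _ (fun i _ => hεR _)) (hφR _)
  have split : ∑ I, F I = ∑ I, (if ∀ i, I i ∈ C then F I else 0)
      + ∑ I, (if ∀ i, I i ∈ C then 0 else F I) := by
    rw [← Finset.sum_add_distrib]
    apply Finset.sum_congr rfl
    intro I _
    split_ifs <;> simp
  -- the part inside the centralizer
  have part1 : ∃ r, MemLocalRing M r ∧
      ∑ I, (if ∀ i, I i ∈ C then F I else 0) = (p : ℂ) ^ j * r := by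
    apply sum_eq_mul_of_forall hMprime
    intro I _
    by_cases hI : ∀ i, I i ∈ C
    · rw [if_pos hI]
      obtain ⟨r, hr, hrw⟩ := wt_eq_pow_mul hMod ε hεR (C : Set G) hk0pos hk0 hcard I hI
      exact ⟨r * φ (tprod I * h), memLocalRing_mul hMprime hr (hφR _), by
        rw [hF]; simp only; rw [hrw, mul_assoc]⟩
    · rw [if_neg hI]
      exact ⟨0, memLocalRing_zero hMprime, by simp⟩
  -- the part outside the centralizer
  have hconjC : ∀ g : G, h⁻¹ * g * h ∈ C ↔ g ∈ C := by
    intro g
    constructor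
    · intro hg
      have : g = h * (h⁻¹ * g * h) * h⁻¹ := by group
      rw [this]
      exact C.mul_mem (C.mul_mem hhx hg) (C.inv_mem hhx)
    · intro hg
      exact C.mul_mem (C.mul_mem (C.inv_mem hhx) hg) hhx
  have hcond : ∀ I : Fin (k + 1) → G, (∀ i, rot h I i ∈ C) ↔ ∀ i, I i ∈ C := by
    intro I
    rw [Fin.forall_fin_succ' (P := fun i => rot h I i ∈ C),
      Fin.forall_fin_succ (P := fun i => I i ∈ C)]
    simp only [rot, Fin.snoc_castSucc, Fin.snoc_last, hconjC]
    exact and_comm
  obtain ⟨d, hd⟩ : ∃ d, orderOf h = d + 1 :=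
    Nat.exists_eq_succ_of_ne_zero (orderOf_pos h).ne'
  have hd1 : h ^ (d + 1) = 1 := by rw [← hd, pow_orderOf_eq_one]
  have part2 : ∃ r, MemLocalRing M r ∧
      ∑ I, (if ∀ i, I i ∈ C then 0 else F I) = (p : ℂ) ^ (N + 1) * r := by
    obtain ⟨r, hr, hsum⟩ := sum_eq_nsmul_of_dvd_minimalPeriod (rotEquiv h k hd1)
      (localAddSubmonoid M hMprime) (fun I => if ∀ i, I i ∈ C then 0 else F I)
      (by
        intro I
        rw [rotEquiv_apply]
        have e1 : F (rot h I) = F I := by
          rw [hF]; simp only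
          rw [wt_rot ε h hεh, classFun_tprod_rot φ hφ]
        by_cases hI : ∀ i, I i ∈ C
        · rw [if_pos hI, if_pos ((hcond I).2 hI)]
        · rw [if_neg hI, if_neg (fun hh => hI ((hcond I).1 hh)), e1])
      (by
        intro I
        split_ifs
        · exact memLocalRing_zero hMprime
        · exact hFR I)
      (p ^ (N + 1))
      (by
        intro I hI0
        have hI : ¬ ∀ i, I i ∈ C := by
          intro hh
          apply hI0
          rw [if_pos hh]
        have hper : Function.IsPeriodicPt (rot h) (p ^ n * (k + 1)) I := by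
          unfold Function.IsPeriodicPt Function.IsFixedPt
          funext i
          rw [iterate_rot_mul, hhk, inv_pow, ← hxn, pow_orderOf_eq_one, inv_one, inv_one, one_mul,
            mul_one]
        have hdvd : Function.minimalPeriod (rot h) I ∣ p ^ (n + N) := by
          have := hper.minimalPeriod_dvd
          have e : p ^ n * (k + 1) = p ^ (n + N) := by rw [pow_add, hk]
          exact e ▸ this
        obtain ⟨e, he, hpe⟩ := (Nat.dvd_prime_pow hp).1 hdvd
        have hNe : N + 1 ≤ e := by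
          by_contra hlt
          have heN : e ≤ N := by omega
          have hper2 : Function.IsPeriodicPt (rot h) (1 * (k + 1)) I := by
            apply (Function.isPeriodicPt_minimalPeriod (rot h) I).trans_dvd
            rw [hpe, one_mul]
            have : p ^ e ∣ p ^ N := pow_dvd_pow p heN
            exact hk ▸ this
          apply hI
          intro i
          have := congrFun hper2 i
          rw [iterate_rot_mul, hhk, pow_one, inv_inv] at this
          rw [hCdef, Subgroup.mem_centralizer_singleton_iff]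
          have h3 : x * I i = I i * x := by
            have := congrArg (fun z => z * x) this
            simpa [mul_assoc] using this
          exact h3.symm
        change p ^ (N + 1) ∣ Function.minimalPeriod (rot h) I
        rw [hpe]
        exact pow_dvd_pow p hNe)
    exact ⟨r, hr, by rw [hsum, nsmul_eq_mul]; push_cast; rfl⟩
  obtain ⟨r1, hr1, e1⟩ := part1
  obtain ⟨r2, hr2, e2⟩ := part2
  refine ⟨r1 + (p : ℂ) ^ (N + 1 - j) * r2, memLocalRing_add hMprime hr1
    (memLocalRing_mul hMprime (memLocalRing_pow hMprime (memLocalRing_natCast hMprime p) _) hr2), ?_⟩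
  rw [split, e1, e2, mul_add, ← mul_assoc, ← pow_add, Nat.add_sub_cancel' hjN]

end Cfsg.Agent.Lib.Helper81
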