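import Mathlib
import Cfsg.Prelude.Def_Blocks
import Cfsg.Agent.Lib.Helper81.GreenVanishing
import Cfsg.Agent.Lib.Helper81.SecondMainAux
import Cfsg.Agent.Lib.Helper21.CenterMod
import Cfsg.Agent.Lib.Helper21.InducedSum
import Cfsg.Agent.Lib.Helper82.WeakOrth
import Cfsg.Agent.Lib.Helper82.CharBasic
import Cfsg.Agent.Lib.Helper82.PDecomp

set_option autoImplicit false
set_option linter.unusedSectionVars false
set_option linter.style.haveILetI false

/-!
# Brauer's second main theorem, idempotent form
-/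

namespace Cfsg.Agent.Lib.Helper81

open Cfsg
open Cfsg.Agent.Lib.Helper21 Cfsg.Agent.Lib.Helper82 Cfsg.Agent.Lib.Helper83

universe u
variable {G : Type u} [Group G] [Fintype G] [Fintype (IrrCharacter G)]

theorem cls_congr {M : Ideal AlgInt} (hM : M.IsPrime) {F F' : G → ℂ} (h : F = F')
    (hF : IsRClass M F) (hF' : IsRClass M F') : cls hM F hF = cls hM F' hF' := by
  subst h; rfl

theorem cls_cpow {M : Ideal AlgInt} (hM : M.IsPrime) [DecidableEq G] {F : G → ℂ}
    (hF : IsRClass M F) (m : ℕ) :
    ∃ hm : IsRClass M (cpow F m), cls hM (cpow F m) hm = (cls hM F hF) ^ m := by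
  induction m with
  | zero =>
    have e : cpow F 0 = (deltaOne : G → ℂ) := by
      rw [deltaOne_eq]; rfl
    refine ⟨e ▸ deltaOne_isRClass hM, ?_⟩
    rw [pow_zero, ← cls_deltaOne hM]
    exact cls_congr hM e _ _
  | succ m ih =>
    obtain ⟨hm, hcls⟩ := ih
    have e : cpow F (m + 1) = conv F (cpow F m) := rfl
    refine ⟨e ▸ hF.conv hM hm, ?_⟩
    rw [pow_succ', ← hcls, ← cls_conv hM hF hm]
    exact cls_congr hM e _ _

omit [Fintype (IrrCharacter G)] in
theorem toMA_injective {R : Type*} [Semiring R] {F F' : G → R} (h : toMA F = toMA F') : F = F' := by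
  funext g
  have := congrArg (fun a => a.coeff g) h
  simpa using this

omit [Fintype (IrrCharacter G)] in
theorem toMA_sub' {R : Type*} [Ring R] (F F' : G → R) : toMA (F - F') = toMA F - toMA F' := by
  apply MonoidAlgebra.coeff_injective
  ext g
  rw [MonoidAlgebra.coeff_sub]
  simp

omit [Fintype (IrrCharacter G)] in
/-- the product of two commuting idempotents is idempotent (convolution form) -/
theorem gconv_idem_of_comm {R : Type*} [Semiring R] {E f : G → R} (hE : gconv E E = E)
    (hf : gconv f f = f) (hcomm : gconv E f = gconv f E) :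
    gconv (gconv E f) (gconv E f) = gconv E f := by
  apply toMA_injective
  have hA : toMA E * toMA E = toMA E := by rw [← toMA_gconv, hE]
  have hC : toMA f * toMA f = toMA f := by rw [← toMA_gconv, hf]
  have hAC : toMA E * toMA f = toMA f * toMA E := by rw [← toMA_gconv, ← toMA_gconv, hcomm]
  rw [toMA_gconv, toMA_gconv]
  calc toMA E * toMA f * (toMA E * toMA f)
      = toMA E * (toMA f * toMA E) * toMA f := by simp only [mul_assoc]
    _ = toMA E * (toMA E * toMA f) * toMA f := by rw [hAC]
    _ = (toMA E * toMA E) * (toMA f * toMA f) := by simp only [mul_assoc]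
    _ = toMA E * toMA f := by rw [hA, hC]

/-- `δ - f` is idempotent when `f` is -/
theorem gconv_deltaOne_sub_idem {f : G → ℂ} (hf : gconv f f = f) :
    gconv ((deltaOne : G → ℂ) - f) (deltaOne - f) = deltaOne - f := by
  classical
  apply toMA_injective
  have h1 : toMA (deltaOne : G → ℂ) = 1 := by
    rw [deltaOne_eq]; exact toMA_gdelta
  have hA : toMA f * toMA f = toMA f := by rw [← toMA_gconv, hf]
  rw [toMA_gconv, toMA_sub', h1]
  rw [mul_sub, mul_one, sub_mul, one_mul, hA, sub_self, sub_zero]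

/-- **Key lemma.**  If `b` induces `B`, then `e_b (1 - e_B)` has all its coefficients on the
centralizer of a `p`-element `x` with `C_G(x) ≤ H` in the local ideal. -/
theorem memLocalIdeal_conv_of_mem_centralizer {p : ℕ} [Fact p.Prime] {M : Ideal AlgInt}
    (hMod : IsPModular p M) (H : Subgroup G) [Fintype H] [Fintype (IrrCharacter H)]
    {b : Set (IrrCharacter H)} {B : Set (IrrCharacter G)} (hind : IsInducedBlock M H b B)
    (x : G) {n : ℕ} (hxn : x ^ (p ^ n) = 1) (hCx : Subgroup.centralizer ({x} : Set G) ≤ H)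
    {c : G} (hc : c ∈ Subgroup.centralizer ({x} : Set G)) :
    MemLocalIdeal M (conv (ext0 H (blockCoeff b)) ((deltaOne : G → ℂ) - blockCoeff B) c) := by
  classical
  have hMp : M.IsPrime := hMod.2.1.isPrime
  haveI : Fintype (Subgroup.centralizer ({x} : Set G)) := Fintype.ofFinite _
  have : CharP (LocalResidue M hMp) p := localResidue_charP hMod
  obtain ⟨⟨ψ0, hb⟩, ⟨χ0, hB⟩, -⟩ := id hind
  have heb : IsRClass M (blockCoeff b) := hb ▸ blockCoeff_isRClass hMp ψ0
  have hfB : IsRClass M (blockCoeff B) := hB ▸ blockCoeff_isRClass hMp χ0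
  set eb : H → ℂ := blockCoeff b with heb_def
  set fB : G → ℂ := blockCoeff B with hfB_def
  set f' : G → ℂ := deltaOne - fB with hf'_def
  have hf' : IsRClass M f' := (deltaOne_isRClass hMp).sub hMp hfB
  set E : G → ℂ := ext0 H eb with hE_def
  have hER : ∀ g, MemLocalRing M (E g) := by
    intro g
    by_cases hg : g ∈ H
    · rw [hE_def, ext0_of_mem H _ hg]; exact heb.2 _
    · rw [hE_def, ext0_of_not_mem H _ hg]; exact memLocalRing_zero hMp
  have hxC : x ∈ Subgroup.centralizer ({x} : Set G) := by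
    rw [Subgroup.mem_centralizer_singleton_iff]
  have hxH : x ∈ H := hCx hxC
  have hconjH : ∀ g, x * g * x⁻¹ ∈ H ↔ g ∈ H := by
    intro g
    constructor
    · intro h
      have : g = x⁻¹ * (x * g * x⁻¹) * x := by group
      rw [this]
      exact H.mul_mem (H.mul_mem (H.inv_mem hxH) h) hxH
    · intro h
      exact H.mul_mem (H.mul_mem hxH h) (H.inv_mem hxH)
  have hEinv : ∀ g, E (x * g * x⁻¹) = E g := by
    intro g
    by_cases hg : g ∈ H
    · rw [hE_def, ext0_of_mem H _ ((hconjH g).2 hg), ext0_of_mem H _ hg]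
      exact heb.1 ⟨g, hg⟩ ⟨x, hxH⟩
    · rw [hE_def, ext0_of_not_mem H _ (fun h => hg ((hconjH g).1 h)), ext0_of_not_mem H _ hg]
  -- restriction of `f'` to `H`
  set f'H : H → ℂ := fun k => f' k with hf'H_def
  have hf'H : IsRClass M f'H := ⟨fun g t => hf'.1 (g : G) (t : G), fun g => hf'.2 g⟩
  -- the nilpotent element
  set NH : H → ℂ := conv eb f'H with hNH_def
  have hNH : IsRClass M NH := heb.conv hMp hf'H
  have hω : ∀ ψ : IrrCharacter H, MemLocalIdeal M (omega NH (ψ : H → ℂ)) := by
    intro ψ
    rw [hNH_def, omega_conv ψ.2 eb f'H hf'H.1, heb_def, omega_blockCoeff]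
    by_cases hψ : ψ ∈ b
    · rw [if_pos hψ, one_mul]
      have e1 : f'H = (deltaOne : H → ℂ) - (fun k : H => fB (k : G)) := by
        funext k
        simp only [hf'H_def, hf'_def, Pi.sub_apply]
        congr 1
        rw [deltaOne_eq, deltaOne_eq]
        simp only
        have : ((k : G) = 1) ↔ k = 1 := by
          rw [Subtype.ext_iff]; rfl
        simp only [this]
      rw [e1, omega_sub, omega_deltaOne]
      have := memLocalIdeal_neg (omega_restrict_blockCoeff_sub_one H hMp hind hψ)
      rwa [neg_sub] at this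
    · rw [if_neg hψ, zero_mul]; exact memLocalIdeal_zero hMp
  obtain ⟨m, hm⟩ := isNilpotent_cls hMp hNH hω
  obtain ⟨hcp, hclsp⟩ := cls_cpow hMp hNH m
  rw [hm] at hclsp
  have hJ : ∀ g, MemLocalIdeal M (cpow NH m g) := (cls_eq_zero_iff hMp hcp).1 hclsp
  -- reductions
  set Ebar : G → LocalResidue M hMp := fun g => redC M hMp (E g) with hEbar_def
  set fbar : G → LocalResidue M hMp := fun g => redC M hMp (f' g) with hfbar_def
  set fbarH : G → LocalResidue M hMp := ext0 H (fun k : H => redC M hMp (f'H k)) with hfbarH_def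
  set ebar : G → LocalResidue M hMp := fun g => redC M hMp (conv E f' g) with hebar_def
  have hebar : ebar = gconv Ebar fbar := red_gconv hMp hER hf'.2
  set Nbar : G → LocalResidue M hMp := gconv Ebar fbarH with hNbar_def
  have hEbar : Ebar = ext0 H (fun k => redC M hMp (eb k)) := red_ext0 hMp H eb
  have hNbar : Nbar = ext0 H (fun k => redC M hMp (NH k)) := by
    rw [hNbar_def, hEbar, hfbarH_def, gconv_ext0]
    congr 1
    exact (red_gconv hMp heb.2 hf'H.2).symm
  have hNnil : cpow Nbar m = 0 := by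
    rw [hNbar, cpow_ext0, ← red_cpow hMp hNH.2 m]
    funext g
    by_cases hg : g ∈ H
    · rw [ext0_of_mem H _ hg]
      exact (redC_eq_zero_iff hMp (memLocalRing_cpow hMp hNH.2 m _)).2 (hJ _)
    · rw [ext0_of_not_mem H _ hg]; rfl
  -- invariance
  have hEbar_inv : ∀ g, Ebar (x * g * x⁻¹) = Ebar g := fun g => by
    simp only [hEbar_def]; rw [hEinv]
  have hfbar_inv : ∀ g, fbar (x * g * x⁻¹) = fbar g := fun g => by
    simp only [hfbar_def]; rw [hf'.1]
  have hfbarH_inv : ∀ g, fbarH (x * g * x⁻¹) = fbarH g := by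
    intro g
    by_cases hg : g ∈ H
    · rw [hfbarH_def, ext0_of_mem H _ ((hconjH g).2 hg), ext0_of_mem H _ hg]
      simp only [hf'H_def]
      rw [hf'.1]
    · rw [hfbarH_def, ext0_of_not_mem H _ (fun h => hg ((hconjH g).1 h)),
        ext0_of_not_mem H _ hg]
  have hNbar_inv : ∀ g, Nbar (x * g * x⁻¹) = Nbar g :=
    gconv_conj_invariant x Ebar fbarH hEbar_inv hfbarH_inv
  have hebar_inv : ∀ g, ebar (x * g * x⁻¹) = ebar g := by
    rw [hebar]; exact gconv_conj_invariant x Ebar fbar hEbar_inv hfbar_inv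
  -- the Brauer map
  have h1 : resCent x ebar = resCent x Ebar * resCent x fbar := by
    rw [hebar]; exact resCent_gconv p x hxn _ _ hEbar_inv hfbar_inv
  have h2 : resCent x fbar = resCent x fbarH := by
    apply resCent_congr
    intro c hc
    rw [hfbarH_def, ext0_of_mem H _ (hCx hc)]
  have h3 : resCent x Nbar = resCent x Ebar * resCent x fbarH :=
    resCent_gconv p x hxn _ _ hEbar_inv hfbarH_inv
  have h4 : resCent x ebar = resCent x Nbar := by rw [h1, h2, h3]
  -- idempotency
  have hEE : gconv E E = E := by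
    rw [hE_def, gconv_ext0]
    congr 1
    funext z
    exact conv_blockCoeff_self b z
  have hff : gconv f' f' = f' :=
    gconv_deltaOne_sub_idem (funext fun z => conv_blockCoeff_self B z)
  have hcomm : gconv E f' = gconv f' E := conv_comm_of_isClassFunction E f' hf'.1
  have hidC : gconv (conv E f') (conv E f') = conv E f' := gconv_idem_of_comm hEE hff hcomm
  have hεR : ∀ g, MemLocalRing M (conv E f' g) := conv_memLocalRing M hMp hER hf'.2
  have hidem : gconv ebar ebar = ebar := by
    rw [hebar_def, ← red_gconv hMp hεR hεR, hidC]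
  have h5 : resCent x ebar * resCent x ebar = resCent x ebar := by
    rw [← resCent_gconv p x hxn _ _ hebar_inv hebar_inv, hidem]
  have h6 : (resCent x Nbar) ^ m = 0 := by
    rw [← resCent_cpow p x hxn Nbar hNbar_inv m, hNnil, resCent_eq_zero_iff]
    intro c _; rfl
  have h7 : resCent x ebar = 0 := by
    have hi : IsIdempotentElem (resCent x ebar) := h5
    rw [← hi.pow_succ_eq m, h4, pow_succ, h6, zero_mul]
  have h8 := (resCent_eq_zero_iff x ebar).1 h7 c hc
  exact (redC_eq_zero_iff hMp (hεR c)).1 h8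

/-- **Brauer's second main theorem, idempotent form** (with an explicit `p`-part). -/
theorem second_main_idempotent {p : ℕ} [Fact p.Prime] {M : Ideal AlgInt}
    (hMod : IsPModular p M) (H : Subgroup G) [Fintype H] [Fintype (IrrCharacter H)]
    {b : Set (IrrCharacter H)} {B : Set (IrrCharacter G)} (hind : IsInducedBlock M H b B)
    (h : H) {x : G} (hx : IsPPart p (h : G) x)
    (hCx : Subgroup.centralizer ({x} : Set G) ≤ H) (χ : IrrCharacter G) (hχ : χ ∉ B) :
    ∑ k : H, blockCoeff b k * (χ : G → ℂ) ((k : G) * (h : G)) = 0 := by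
  classical
  have hMp : M.IsPrime := hMod.2.1.isPrime
  obtain ⟨⟨ψ0, hb⟩, ⟨χ0, hB⟩, -⟩ := id hind
  have heb : IsRClass M (blockCoeff b) := hb ▸ blockCoeff_isRClass hMp ψ0
  have hfB : IsRClass M (blockCoeff B) := hB ▸ blockCoeff_isRClass hMp χ0
  set eb : H → ℂ := blockCoeff b with heb_def
  set fB : G → ℂ := blockCoeff B with hfB_def
  set f' : G → ℂ := deltaOne - fB with hf'_def
  have hf' : IsRClass M f' := (deltaOne_isRClass hMp).sub hMp hfB
  set E : G → ℂ := ext0 H eb with hE_def
  have hER : ∀ g, MemLocalRing M (E g) := by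
    intro g
    by_cases hg : g ∈ H
    · rw [hE_def, ext0_of_mem H _ hg]; exact heb.2 _
    · rw [hE_def, ext0_of_not_mem H _ hg]; exact memLocalRing_zero hMp
  have hχcf := isClassFunction_irr χ
  -- the sum in terms of `ε = E * f'`
  have hω : omega f' (χ : G → ℂ) = 1 := by
    rw [hf'_def, omega_sub, omega_deltaOne, hfB_def, omega_blockCoeff, if_neg hχ, sub_zero]
  have hsum : ∑ g, conv E f' g * (χ : G → ℂ) (g * (h : G))
      = ∑ k : H, eb k * (χ : G → ℂ) ((k : G) * (h : G)) := by
    rw [sum_conv_mul_char χ E hf'.1 (h : G), hω, one_mul]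
    exact sum_ext0_mul H eb (fun u => (χ : G → ℂ) (u * (h : G)))
  rw [← hsum]
  obtain ⟨y, hxy, hc, ⟨n, hxn⟩, hy⟩ := id hx
  have hxpow : x ^ (p ^ n) = 1 := by rw [← hxn, pow_orderOf_eq_one]
  -- invariance under conjugation by `h`
  have hEinv : ∀ g, E ((h : G)⁻¹ * g * (h : G)) = E g := by
    intro g
    have hconjH : (h : G)⁻¹ * g * (h : G) ∈ H ↔ g ∈ H := by
      constructor
      · intro hh
        have : g = (h : G) * ((h : G)⁻¹ * g * (h : G)) * (h : G)⁻¹ := by group
        rw [this]
        exact H.mul_mem (H.mul_mem h.2 hh) (H.inv_mem h.2)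
      · intro hh
        exact H.mul_mem (H.mul_mem (H.inv_mem h.2) hh) h.2
    by_cases hg : g ∈ H
    · rw [hE_def, ext0_of_mem H _ (hconjH.2 hg), ext0_of_mem H _ hg]
      have := heb.1 ⟨g, hg⟩ h⁻¹
      rw [inv_inv] at this
      exact this
    · rw [hE_def, ext0_of_not_mem H _ (fun hh => hg (hconjH.1 hh)), ext0_of_not_mem H _ hg]
  have hεinv : ∀ g, conv E f' ((h : G)⁻¹ * g * (h : G)) = conv E f' g := by
    intro g
    have := gconv_conj_invariant (h : G)⁻¹ E f'
      (fun g => by rw [inv_inv]; exact hEinv g)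
      (fun g => hf'.1 g _) g
    rw [inv_inv] at this
    exact this
  -- idempotency
  have hEE : gconv E E = E := by
    rw [hE_def, gconv_ext0]
    congr 1
    funext z
    exact conv_blockCoeff_self b z
  have hff : gconv f' f' = f' :=
    gconv_deltaOne_sub_idem (funext fun z => conv_blockCoeff_self B z)
  have hcomm : gconv E f' = gconv f' E := conv_comm_of_isClassFunction E f' hf'.1
  have hidC : gconv (conv E f') (conv E f') = conv E f' := gconv_idem_of_comm hEE hff hcomm
  have hεR : ∀ g, MemLocalRing M (conv E f' g) := conv_memLocalRing M hMp hER hf'.2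
  apply sum_mul_eq_zero_of_idempotent hMod hx (conv E f') (χ : G → ℂ) hεR
    (fun g => memLocalRing_of_isIntegral hMp
      (IsCharacter.isIntegral (IsIrrCharacter.isCharacter χ.2) g))
    hεinv (fun z => congrFun hidC z)
    (fun a b => by
      have := hχcf (a * b) b
      rw [← this]
      have e : b * (a * b) * b⁻¹ = b * a := by group
      rw [e])
  intro c hc
  exact memLocalIdeal_conv_of_mem_centralizer hMod H hind x hxpow hCx hc

/-- every element of finite order has a `p`-part -/
theorem exists_isPPart {G : Type*} [Group G] (p : ℕ) (hp : p.Prime) (g : G)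
    (hfin : 0 < orderOf g) : ∃ x : G, IsPPart p g x := by
  by_cases hpg : p ∣ orderOf g
  · obtain ⟨n, m, u, s, -, hpm, hm, hsu, hcomm, hu, hs⟩ :=
      Cfsg.Agent.Lib.Helper82.exists_p_decomposition hp g hpg hfin
    refine ⟨u, s, ?_, hcomm, ⟨n, hu⟩, ?_⟩
    · rw [hcomm.eq, hsu]
    · intro hps
      exact hpm (hps.trans (orderOf_dvd_of_pow_eq_one hs))
  · exact ⟨1, g, one_mul g, Commute.one_left g, ⟨0, by simp⟩, hpg⟩

end Cfsg.Agent.Lib.Helper81
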