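import Mathlib
import Cfsg.Prelude.Def_Blocks
import Cfsg.Agent.Lib.Helper82.PDecomp

set_option autoImplicit false

/-!
# The number of `p`-regular elements of a finite group is prime to `p`
-/

namespace Cfsg.Agent.Lib.Helper81

open Cfsg

/-- every element of finite order has a `p`-part -/
theorem exists_isPPart' {G : Type*} [Group G] (p : ℕ) (hp : p.Prime) (g : G)
    (hfin : 0 < orderOf g) : ∃ x : G, IsPPart p g x := by
  by_cases hpg : p ∣ orderOf g
  · obtain ⟨n, m, u, s, -, hpm, hm, hsu, hcomm, hu, hs⟩ :=
      Cfsg.Agent.Lib.Helper82.exists_p_decomposition hp g hpg hfin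
    refine ⟨u, s, ?_, hcomm, ⟨n, hu⟩, ?_⟩
    · rw [hcomm.eq, hsu]
    · intro hps
      exact hpm (hps.trans (orderOf_dvd_of_pow_eq_one hs))
  · exact ⟨1, g, one_mul g, Commute.one_left g, ⟨0, by simp⟩, hpg⟩

section

variable {G : Type*} [Group G] [Finite G] (p : ℕ) [hp : Fact p.Prime]

/-- central Sylow `p`-subgroup: the `p`-regular elements are a transversal -/
theorem card_pRegular_of_central (P : Sylow p G) (hP : (P : Subgroup G) ≤ Subgroup.center G) :
    Nat.card {g : G // ¬ p ∣ orderOf g} = (P : Subgroup G).index := by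
  classical
  have : (P : Subgroup G).Normal := by
    constructor
    intro n hn g
    have := (Subgroup.mem_center_iff.1 (hP hn)) g
    rw [this, mul_inv_cancel_right]
    exact hn
  rw [Subgroup.index, ← Nat.card_congr (Equiv.ofBijective
    (fun g : {g : G // ¬ p ∣ orderOf g} => ((g : G) : G ⧸ (P : Subgroup G))) ?_)]
  constructor
  · rintro ⟨y, hy⟩ ⟨y', hy'⟩ h
    simp only at h
    rw [QuotientGroup.eq] at h
    set z := y⁻¹ * y' with hz
    have hzc : ∀ g : G, g * z = z * g := fun g => Subgroup.mem_center_iff.1 (hP h) g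
    have hy'z : y' = y * z := by rw [hz, mul_inv_cancel_left]
    set m := orderOf y * orderOf y' with hm
    have h1 : y ^ m = 1 := by rw [hm, pow_mul, pow_orderOf_eq_one, one_pow]
    have h2 : y' ^ m = 1 := by rw [hm, mul_comm, pow_mul, pow_orderOf_eq_one, one_pow]
    have h3 : z ^ m = 1 := by
      have hc : Commute y z := (hzc y)
      rw [hy'z, hc.mul_pow, h1, one_mul] at h2
      exact h2
    obtain ⟨j, hj⟩ := (IsPGroup.iff_orderOf.1 P.2) ⟨z, h⟩
    have hzo : orderOf z = p ^ j := by
      rw [← hj]; exact (Subgroup.orderOf_mk z h).symm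
    have hdvd : orderOf z ∣ m := orderOf_dvd_of_pow_eq_one h3
    have hcop : Nat.Coprime (p ^ j) m := by
      apply Nat.Coprime.pow_left
      rw [hm]
      exact Nat.Coprime.mul_right ((Nat.Prime.coprime_iff_not_dvd hp.1).2 hy)
        ((Nat.Prime.coprime_iff_not_dvd hp.1).2 hy')
    have hone : orderOf z = 1 := by
      rw [hzo] at hdvd ⊢
      exact Nat.eq_one_of_dvd_coprimes hcop dvd_rfl hdvd
    have hz1 : z = 1 := orderOf_eq_one_iff.1 hone
    apply Subtype.ext
    simp only
    rw [hy'z, hz1, mul_one]
  · intro q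
    obtain ⟨g, rfl⟩ := QuotientGroup.mk_surjective q
    obtain ⟨x, y, hxy, hc, ⟨n, hxn⟩, hy⟩ := exists_isPPart' p hp.1 g (orderOf_pos g)
    refine ⟨⟨y, hy⟩, ?_⟩
    simp only
    rw [QuotientGroup.eq, ← hxy, hc.eq, inv_mul_cancel_left]
    -- `x ∈ P`
    have hxP : IsPGroup p (Subgroup.zpowers x) := by
      apply IsPGroup.of_card (n := n)
      rw [Nat.card_zpowers, hxn]
    obtain ⟨Q, hQ⟩ := hxP.exists_le_sylow
    have := Sylow.unique_of_normal P inferInstance
    have : Q = P := Subsingleton.elim _ _
    rw [← this]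
    exact hQ (Subgroup.mem_zpowers x)

/-- conjugation action of a subgroup on the `p`-regular elements -/
@[instance_reducible]
def conjActRegular (P : Subgroup G) : MulAction P {g : G // ¬ p ∣ orderOf g} where
  smul t g := ⟨(t : G) * g.1 * (t : G)⁻¹, by
    have := (MulAut.conj (t : G)).orderOf_eq g.1
    rw [MulAut.conj_apply] at this
    rw [this]; exact g.2⟩
  one_smul g := by
    apply Subtype.ext
    change ((1 : P) : G) * g.1 * ((1 : P) : G)⁻¹ = g.1
    simp
  mul_smul s t g := by
    apply Subtype.ext
    change ((s * t : P) : G) * g.1 * ((s * t : P) : G)⁻¹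
      = (s : G) * ((t : G) * g.1 * (t : G)⁻¹) * (s : G)⁻¹
    push_cast
    group

end

/-- the number of `p`-regular elements of a finite group is prime to `p` -/
theorem not_dvd_card_pRegular (p : ℕ) [hp : Fact p.Prime] :
    ∀ (n : ℕ) (G : Type*) [Group G] [Finite G], Nat.card G = n →
      ¬ p ∣ Nat.card {g : G // ¬ p ∣ orderOf g} := by
  intro n
  induction n using Nat.strong_induction_on with
  | _ n ih =>
    intro G _ _ hn
    classical
    obtain ⟨P⟩ : Nonempty (Sylow p G) := inferInstance
    by_cases hcen : (P : Subgroup G) ≤ Subgroup.center G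
    · rw [card_pRegular_of_central p P hcen]
      exact P.not_dvd_index
    · -- the centralizer of `P` is a proper subgroup
      set C : Subgroup G := Subgroup.centralizer ((P : Subgroup G) : Set G) with hC
      have hCne : C ≠ ⊤ := by
        intro h
        apply hcen
        rw [hC, Subgroup.centralizer_eq_top_iff_subset] at h
        exact h
      have hlt : Nat.card C < Nat.card G := by
        have h1 : Nat.card C * C.index = Nat.card G := C.card_mul_index
        have h2 : C.index ≠ 1 := fun h => hCne (Subgroup.index_eq_one.1 h)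
        have h3 : C.index ≠ 0 := Subgroup.index_ne_zero_of_finite
        have h4 : 0 < Nat.card C := Nat.card_pos
        have h5 : 2 ≤ C.index := by omega
        nlinarith
      have hIH := ih (Nat.card C) (hn ▸ hlt) C rfl
      -- fixed points of the conjugation action
      let _ := conjActRegular p (P : Subgroup G)
      have hmod := (P.2).card_modEq_card_fixedPoints {g : G // ¬ p ∣ orderOf g}
      have hsmul : ∀ (t : (P : Subgroup G)) (g : {g : G // ¬ p ∣ orderOf g}),
          ((t • g : {g : G // ¬ p ∣ orderOf g}) : G) = (t : G) * g.1 * (t : G)⁻¹ := fun _ _ => rfl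
      have hfix : Nat.card (MulAction.fixedPoints (P : Subgroup G) {g : G // ¬ p ∣ orderOf g})
          = Nat.card {c : C // ¬ p ∣ orderOf c} := by
        apply Nat.card_congr
        refine ⟨fun g => ⟨⟨g.1.1, ?_⟩, ?_⟩, fun c => ⟨⟨c.1.1, ?_⟩, ?_⟩, ?_, ?_⟩
        · rw [hC, Subgroup.mem_centralizer_iff]
          intro t ht
          have := congrArg Subtype.val (g.2 ⟨t, ht⟩)
          rw [hsmul] at this
          exact (mul_inv_eq_iff_eq_mul.1 this)
        · rw [Subgroup.orderOf_mk]; exact g.1.2
        · have := c.2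
          rwa [← Subgroup.orderOf_coe] at this
        · intro t
          apply Subtype.ext
          rw [hsmul]
          have hc1 : (c.1 : G) ∈ Subgroup.centralizer ((P : Subgroup G) : Set G) := c.1.2
          have := (Subgroup.mem_centralizer_iff.1 hc1) (t : G) t.2
          simp only
          rw [this, mul_inv_cancel_right]
        · intro g; rfl
        · intro c; rfl
      intro hdvd
      apply hIH
      rw [← hfix]
      exact (Nat.modEq_zero_iff_dvd.1 (hmod.symm.trans (Nat.modEq_zero_iff_dvd.2 hdvd)))

/-- the number of `p`-regular elements of a finite group is prime to `p` -/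
theorem not_dvd_card_pRegular' {G : Type*} [Group G] [Finite G] (p : ℕ) [Fact p.Prime] :
    ¬ p ∣ Nat.card {g : G // ¬ p ∣ orderOf g} :=
  not_dvd_card_pRegular p (Nat.card G) G rfl

end Cfsg.Agent.Lib.Helper81
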