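import Mathlib
import Cfsg.Prelude.Def_Blocks
import Cfsg.Agent.Lib.Helper81.PRegularCount
import Cfsg.Agent.Lib.Helper21.InducedSum
import Cfsg.Agent.Lib.Helper21.BlockHom
import Cfsg.Agent.Lib.Helper82.BlockOrth
import Cfsg.Agent.Lib.Helper82.BlockBasic
import Cfsg.Agent.Lib.Helper83.Decompose

set_option autoImplicit false
set_option linter.unusedSectionVars false

/-!
# Tools for Brauer's third main theorem

The indicator function of the `p`-regular elements: its central character value at the trivial
character is the number of `p`-regular elements (prime to `p`), and it vanishes at characters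
outside the principal block.
-/

namespace Cfsg.Agent.Lib.Helper81

open Cfsg
open scoped ComplexConjugate
open Cfsg.Agent.Lib.Helper21 Cfsg.Agent.Lib.Helper82 Cfsg.Agent.Lib.Helper83

universe u
variable {G : Type u} [Group G] [Fintype G]

open Classical in
/-- indicator function of the `p`-regular elements -/
noncomputable def regInd (p : ℕ) (G : Type u) [Group G] : G → ℂ :=
  fun g => if p ∣ orderOf g then 0 else 1

omit [Fintype G] in
theorem regInd_isClassFunction (p : ℕ) : IsClassFunction G (regInd p G) := by
  intro g h
  have := (MulAut.conj h).orderOf_eq g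
  rw [MulAut.conj_apply] at this
  simp only [regInd, this]

omit [Fintype G] in
theorem regInd_memLocalRing {M : Ideal AlgInt} (hM : M.IsPrime) (p : ℕ) (g : G) :
    MemLocalRing M (regInd p G g) := by
  simp only [regInd]
  split_ifs
  · exact memLocalRing_zero hM
  · exact memLocalRing_one hM

omit [Fintype G] in
theorem regInd_restrict (p : ℕ) (H : Subgroup G) :
    (fun h : H => regInd p G (h : G)) = regInd p H := by
  funext h
  simp only [regInd, Subgroup.orderOf_coe]

theorem omega_regInd_trivChar (p : ℕ) :
    omega (regInd p G) (trivChar G : G → ℂ) = (Nat.card {g : G // ¬ p ∣ orderOf g} : ℂ) := by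
  classical
  simp only [omega, trivChar_apply, mul_one, div_one, regInd]
  rw [Finset.sum_ite, Finset.sum_const_zero, zero_add, Finset.sum_const, nsmul_eq_mul, mul_one,
    Nat.card_eq_fintype_card, Fintype.card_subtype]

theorem omega_regInd_of_not_sameBlock {p : ℕ} {M : Ideal AlgInt} (hMp : IsPModular p M)
    (χ : IrrCharacter G) (h : ¬ SameBlock M (χ : G → ℂ) (fun _ => (1 : ℂ))) :
    omega (regInd p G) (χ : G → ℂ) = 0 := by
  classical
  have key := sum_regular_mul_conj_eq_zero hMp χ (trivChar G) h
  simp only [omega]
  have : ∑ g : G, regInd p G g * (χ : G → ℂ) g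
      = ∑ x : G, (if p ∣ orderOf x then 0 else (χ : G → ℂ) x * conj ((trivChar G : G → ℂ) x)) := by
    apply Finset.sum_congr rfl
    intro g _
    simp only [regInd, trivChar_apply, map_one, mul_one]
    split_ifs <;> simp
  rw [this, key, zero_div]

/-- If `b` induces `B`, the central characters of `ξ ∈ b` (on restrictions) and of `χ ∈ B` agree
modulo the local ideal on class functions with local-integer values. -/
theorem omega_restrict_sub_omega [Fintype (IrrCharacter G)] (H : Subgroup G) [Fintype H]
    [Fintype (IrrCharacter H)]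
    {M : Ideal AlgInt} (hM : M.IsPrime) {b : Set (IrrCharacter H)} {B : Set (IrrCharacter G)}
    (hind : IsInducedBlock M H b B) {ξ : IrrCharacter H} (hξ : ξ ∈ b) {χ : IrrCharacter G}
    (hχ : χ ∈ B) {f : G → ℂ} (hf : IsRClass M f) :
    MemLocalIdeal M (omega (fun h : H => f (h : G)) (ξ : H → ℂ) - omega f (χ : G → ℂ)) := by
  classical
  obtain ⟨_, _, hcong⟩ := hind
  rw [omega_eq_sum_classes hf.1 (isClassFunction_irr χ),
    ← sum_classes_mul_induced H hf.1, ← Finset.sum_sub_distrib]
  apply memLocalIdeal_sum hM
  intro K _
  rw [← mul_sub]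
  exact memLocalIdeal_mul_left hM (hf.2 _) (hcong ξ hξ χ hχ _)

/-- the number of `p`-regular elements is not in the local ideal -/
theorem not_memLocalIdeal_card_pRegular {p : ℕ} [Fact p.Prime] {M : Ideal AlgInt}
    (hMp : IsPModular p M) :
    ¬ MemLocalIdeal M (Nat.card {g : G // ¬ p ∣ orderOf g} : ℂ) := by
  rw [memLocalIdeal_natCast_iff hMp]
  exact not_dvd_card_pRegular' p

omit [Fintype G] in
theorem trivChar_mem_principalBlock [Finite G] {M : Ideal AlgInt} (hM : M.IsPrime) :
    trivChar G ∈ principalBlock M G :=
  sameBlock_refl hM _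

omit [Fintype G] in
theorem principalBlock_eq_blockOf_trivChar [Finite G] (M : Ideal AlgInt) :
    principalBlock M G = blockOf M (trivChar G : G → ℂ) := rfl

/-- **Brauer's third main theorem** (in the generality of Okuyama). -/
theorem third_main [Fintype (IrrCharacter G)] {p : ℕ} [Fact p.Prime] {M : Ideal AlgInt}
    (hMp : IsPModular p M) (H : Subgroup G) [Fintype H] [Fintype (IrrCharacter H)]
    (b : Set (IrrCharacter H)) (hdef : InducedBlockDefined M H b) :
    IsInducedBlock M H b (principalBlock M G) ↔ b = principalBlock M H := by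
  classical
  have hM : M.IsPrime := hMp.2.1.isPrime
  have hfR : IsRClass M (regInd p G) := ⟨regInd_isClassFunction p, regInd_memLocalRing hM p⟩
  constructor
  · intro hind
    obtain ⟨ξ₀, hb⟩ := hind.1
    have hξ₀ : ξ₀ ∈ b := hb ▸ mem_blockOf_self hM ξ₀
    have hmem : ξ₀ ∈ principalBlock M H := by
      by_contra hnot
      have hns : ¬ SameBlock M (ξ₀ : H → ℂ) (fun _ => (1 : ℂ)) :=
        fun hs => hnot (sameBlock_symm hs)
      have h1 := omega_restrict_sub_omega H hM hind hξ₀ (trivChar_mem_principalBlock hM) hfR
      rw [regInd_restrict, omega_regInd_of_not_sameBlock hMp ξ₀ hns, omega_regInd_trivChar,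
        zero_sub] at h1
      have h2 := memLocalIdeal_neg h1
      rw [neg_neg] at h2
      exact not_memLocalIdeal_card_pRegular hMp h2
    rw [hb]
    exact blockOf_eq_of_mem hM hmem
  · intro hb
    obtain ⟨B, hind⟩ := hdef
    obtain ⟨χ, hχ⟩ := IsPBlock.nonempty hM hind.2.1
    have hξ : trivChar H ∈ b := hb ▸ trivChar_mem_principalBlock hM
    have hmem : χ ∈ principalBlock M G := by
      by_contra hnot
      have hns : ¬ SameBlock M (χ : G → ℂ) (fun _ => (1 : ℂ)) :=
        fun hs => hnot (sameBlock_symm hs)
      have h1 := omega_restrict_sub_omega H hM hind hξ hχ hfR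
      rw [regInd_restrict, omega_regInd_of_not_sameBlock hMp χ hns, omega_regInd_trivChar,
        sub_zero] at h1
      exact not_memLocalIdeal_card_pRegular hMp h1
    have hB : B = principalBlock M G := by
      rw [IsPBlock.eq_blockOf hM hind.2.1 hχ]
      exact blockOf_eq_of_mem hM hmem
    rw [← hB]
    exact hind

end Cfsg.Agent.Lib.Helper81
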