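import Mathlib
import Cfsg.Prelude.Def_Blocks
import Cfsg.Agent.Lib.Helper22.DefectConj
import Cfsg.Agent.Lib.Helper21.BrauerMap
import Cfsg.Agent.Lib.Helper21.BlockHom

set_option autoImplicit false
set_option linter.unusedSectionVars false
set_option linter.style.haveILetI false

/-!
# Basic facts on defect groups, and the Brauer functional as a homomorphism modulo the local ideal

(Own copies of small lemmas, so that the Brauer pair library depends only on `Lib` files and on
the `result`s of statement files.)
-/

namespace Cfsg.Agent.Lib.Helper81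

open Cfsg
open Cfsg.Agent.Lib.Helper21 Cfsg.Agent.Lib.Helper82 Cfsg.Agent.Lib.Helper83

/-- a defect group is a `p`-group -/
theorem isPGroup_of_isDefectGroup' {G : Type*} [Group G] {p : ℕ} [Fact p.Prime]
    {M : Ideal AlgInt} {B : Set (IrrCharacter G)} {D : Subgroup G}
    (hD : IsDefectGroup p M B D) : IsPGroup p D := by
  obtain ⟨g, _, Q, rfl⟩ := hD
  exact Q.isPGroup'.map _

/-- every block has a defect group -/
theorem exists_isDefectGroup' {G : Type*} [Group G] [Finite G] {p : ℕ} [Fact p.Prime]
    {M : Ideal AlgInt} (hM : IsPModular p M) {B : Set (IrrCharacter G)}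
    (hB : IsPBlock M B) : ∃ D : Subgroup G, IsDefectGroup p M B D := by
  classical
  have := Fintype.ofFinite G
  have := Fintype.ofFinite (IrrCharacter G)
  have hprime : M.IsPrime := hM.2.1.isPrime
  obtain ⟨χ₀, rfl⟩ := hB
  obtain ⟨h, hh⟩ := exists_isDefectClass hprime χ₀
  obtain ⟨Q⟩ : Nonempty (Sylow p (Subgroup.centralizer ({h} : Set G))) := inferInstance
  exact ⟨_, h, hh, Q, rfl⟩

/-- all defect groups of a block have the same order -/
theorem card_defectGroup_eq' {G : Type*} [Group G] [Finite G] {p : ℕ} [Fact p.Prime]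
    {M : Ideal AlgInt} (hM : IsPModular p M) {B : Set (IrrCharacter G)}
    (hB : IsPBlock M B) {D E : Subgroup G} (hD : IsDefectGroup p M B D)
    (hE : IsDefectGroup p M B E) : Nat.card E = Nat.card D := by
  rw [Cfsg.Agent.Lib.Helper22.IsDefectGroup.card_eq hM hB hD,
    Cfsg.Agent.Lib.Helper22.IsDefectGroup.card_eq hM hB hE]

/-- A class function with values in the local ideal has central-character values in the local
ideal. -/
theorem memLocalIdeal_omega'' {G : Type*} [Group G] [Fintype G] [Fintype (IrrCharacter G)]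
    {M : Ideal AlgInt} (hM : M.IsPrime) {f : G → ℂ} (hf : IsClassFunction G f)
    (hfI : ∀ g, MemLocalIdeal M (f g)) (χ : IrrCharacter G) :
    MemLocalIdeal M (omega f (χ : G → ℂ)) := by
  classical
  rw [omega_eq_sum_classes hf (isClassFunction_irr χ)]
  exact memLocalIdeal_sum hM _ _ (fun K _ =>
    memLocalIdeal_mul_right hM (hfI _) (memLocalRing_centralChar hM χ _))

/-- The Brauer functional `F ↦ ω_ξ(Br_P(F))` is a homomorphism modulo the local ideal. -/
theorem isModHom_brauer' {G : Type*} [Group G] [Fintype G] [Fintype (IrrCharacter G)]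
    {p : ℕ} [Fact p.Prime] {M : Ideal AlgInt} (hMod : IsPModular p M) (P H : Subgroup G)
    [Fintype H] [Fintype (IrrCharacter H)]
    (hP : IsPGroup p P) (hCH : Subgroup.centralizer (P : Set G) ≤ H)
    (hHN : H ≤ Subgroup.normalizer (P : Set G)) (ξ₀ : IrrCharacter H) :
    IsModHom M (fun F : G → ℂ => omega (resC P H F) (ξ₀ : H → ℂ)) := by
  classical
  have hM : M.IsPrime := hMod.2.1.isPrime
  refine ⟨fun f h => ?_, fun c f => ?_, ?_, fun f hf => ?_, fun f h hf hh => ?_⟩
  · show omega (resC P H (f + h)) (ξ₀ : H → ℂ) = _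
    rw [resC_add, omega_add]
  · show omega (resC P H (c • f)) (ξ₀ : H → ℂ) = _
    rw [resC_smul, omega_smul]
  · show omega (resC P H deltaOne) (ξ₀ : H → ℂ) = 1
    have : resC P H (deltaOne : G → ℂ) = (deltaOne : H → ℂ) := by
      ext h
      rw [resC_apply, deltaOne_eq, deltaOne_eq]
      by_cases hh : h = 1
      · subst hh
        simp
      · have : (h : G) ≠ 1 := fun hc => hh (Subtype.ext hc)
        simp [hh, this]
    rw [this, omega_deltaOne]
  · show MemLocalRing M (omega (resC P H f) (ξ₀ : H → ℂ))
    exact memLocalRing_omega hM (resC_isClassFunction P H hHN hf.1)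
      (resC_memLocalRing P H hM hf.2) ξ₀
  · show MemLocalIdeal M (omega (resC P H (conv f h)) (ξ₀ : H → ℂ) -
      omega (resC P H f) (ξ₀ : H → ℂ) * omega (resC P H h) (ξ₀ : H → ℂ))
    rw [← omega_conv ξ₀.2 _ _ (resC_isClassFunction P H hHN hh.1), ← omega_sub]
    apply memLocalIdeal_omega'' hM
    · intro x c
      simp only [Pi.sub_apply]
      rw [resC_isClassFunction P H hHN (conv_isClassFunction hf.1 hh.1) x c,
        conv_isClassFunction (resC_isClassFunction P H hHN hf.1)
          (resC_isClassFunction P H hHN hh.1) x c]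
    · intro z
      exact resC_conv_sub P H hMod hP hCH hf.1 hh.1 hf.2 hh.2 z

end Cfsg.Agent.Lib.Helper81
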