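import Mathlib
import Cfsg.Prelude.Def_Blocks
import Cfsg.Agent.Lib.Helper21.OsimaApps
import Cfsg.Agent.Lib.Helper21.BlockHom
import Cfsg.Agent.Lib.Helper33.IrrComp

set_option autoImplicit false
set_option linter.unusedSectionVars false

/-!
# Transport of block vocabulary along a group isomorphism
-/

namespace Cfsg.Agent.Lib.Helper81

open Cfsg
open Cfsg.Agent.Lib.Helper21 Cfsg.Agent.Lib.Helper82 Cfsg.Agent.Lib.Helper83

universe u
variable {H H' : Type u} [Group H] [Group H']

/-- pull back an irreducible character along an isomorphism -/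
def irrComp (φ : H ≃* H') (θ : IrrCharacter H') : IrrCharacter H :=
  ⟨fun h => (θ : H' → ℂ) (φ h),
    Cfsg.Agent.Lib.Helper33.isIrrCharacter_comp_of_surjective φ.toMonoidHom φ.surjective θ.2⟩

@[simp] theorem irrComp_apply (φ : H ≃* H') (θ : IrrCharacter H') (h : H) :
    (irrComp φ θ : H → ℂ) h = (θ : H' → ℂ) (φ h) := rfl

theorem irrComp_symm_irrComp (φ : H ≃* H') (θ : IrrCharacter H') :
    irrComp φ.symm (irrComp φ θ) = θ := by
  apply Subtype.ext
  funext h
  simp

theorem irrComp_irrComp_symm (φ : H ≃* H') (θ : IrrCharacter H) :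
    irrComp φ (irrComp φ.symm θ) = θ := by
  apply Subtype.ext
  funext h
  simp

theorem index_centralizer_map (φ : H ≃* H') (h : H) :
    (Subgroup.centralizer ({φ h} : Set H')).index = (Subgroup.centralizer ({h} : Set H)).index := by
  have : Subgroup.centralizer ({φ h} : Set H') =
      (Subgroup.centralizer ({h} : Set H)).map φ.toMonoidHom := by
    ext y
    rw [Subgroup.mem_map, Subgroup.mem_centralizer_singleton_iff]
    constructor
    · intro hy
      refine ⟨φ.symm y, ?_, by simp⟩
      rw [Subgroup.mem_centralizer_singleton_iff]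
      apply φ.injective
      simp only [map_mul, MulEquiv.apply_symm_apply]
      exact hy
    · rintro ⟨x, hx, rfl⟩
      rw [Subgroup.mem_centralizer_singleton_iff] at hx
      simp only [MulEquiv.coe_toMonoidHom, ← map_mul, hx]
  rw [this]
  exact Subgroup.index_map_equiv _ φ

theorem centralChar_comp (φ : H ≃* H') (θ : H' → ℂ) (h : H) :
    centralChar (fun x => θ (φ x)) h = centralChar θ (φ h) := by
  unfold centralChar
  simp only [index_centralizer_map, map_one]

theorem sameBlock_comp (M : Ideal AlgInt) (φ : H ≃* H') {θ ψ : H' → ℂ} (h : SameBlock M θ ψ) :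
    SameBlock M (fun x => θ (φ x)) (fun x => ψ (φ x)) := by
  intro x
  rw [centralChar_comp, centralChar_comp]
  exact h (φ x)

theorem sameBlock_comp_iff (M : Ideal AlgInt) (φ : H ≃* H') {θ ψ : H' → ℂ} :
    SameBlock M (fun x => θ (φ x)) (fun x => ψ (φ x)) ↔ SameBlock M θ ψ := by
  refine ⟨fun h => ?_, sameBlock_comp M φ⟩
  have := sameBlock_comp M φ.symm h
  simpa using this

theorem mem_blockOf_irrComp_iff (M : Ideal AlgInt) (φ : H ≃* H') (θ : IrrCharacter H')
    (χ : IrrCharacter H) :
    χ ∈ blockOf M (irrComp φ θ : H → ℂ) ↔ irrComp φ.symm χ ∈ blockOf M (θ : H' → ℂ) := by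
  rw [mem_blockOf_iff, mem_blockOf_iff]
  rw [← sameBlock_comp_iff M φ]
  have : (fun x => (irrComp φ.symm χ : H' → ℂ) (φ x)) = (χ : H → ℂ) := by
    funext x; simp
  rw [this]
  rfl

variable [Fintype H] [Fintype H']

theorem omega_comp (φ : H ≃* H') (a θ : H' → ℂ) :
    omega (fun x => a (φ x)) (fun x => θ (φ x)) = omega a θ := by
  unfold omega
  simp only [map_one]
  congr 1
  exact Equiv.sum_comp φ.toEquiv (fun y => a y * θ y)

theorem isClassFunction_comp (φ : H ≃* H') {a : H' → ℂ} (ha : IsClassFunction H' a) :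
    IsClassFunction H (fun x => a (φ x)) := by
  intro g h
  simp only [map_mul, map_inv]
  exact ha _ _

variable [Fintype (IrrCharacter H)] [Fintype (IrrCharacter H')]

/-- the block idempotent of the pulled back block is the pull back of the block idempotent -/
theorem blockCoeff_blockOf_irrComp (M : Ideal AlgInt) (φ : H ≃* H') (θ : IrrCharacter H') (h : H) :
    blockCoeff (blockOf M (irrComp φ θ : H → ℂ)) h = blockCoeff (blockOf M (θ : H' → ℂ)) (φ h) := by
  classical
  apply blockCoeff_eq_of_omega _
    (isClassFunction_comp φ (blockCoeff_isClassFunction (blockOf M (θ : H' → ℂ))))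
  intro χ
  have h1 : omega (fun x => blockCoeff (blockOf M (θ : H' → ℂ)) (φ x)) (χ : H → ℂ)
      = omega (blockCoeff (blockOf M (θ : H' → ℂ))) (irrComp φ.symm χ : H' → ℂ) := by
    rw [← omega_comp φ]
    congr 1
    funext x
    simp
  rw [h1, omega_blockCoeff]
  simp only [mem_blockOf_irrComp_iff]

end Cfsg.Agent.Lib.Helper81
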