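import Mathlib
import Cfsg.Prelude.Def_BrauerPairs
import Cfsg.Agent.Lib.Helper81.SecondMain
import Cfsg.Agent.Lib.Helper81.BPTransport
import Cfsg.Agent.Lib.Helper21.BrauerMap
import Cfsg.Agent.Lib.Helper21.CenterMod

set_option autoImplicit false
set_option linter.unusedSectionVars false
set_option linter.style.haveILetI false

/-!
# Brauer pairs: the Brauer map on functions invariant under a `p`-subgroup
-/

namespace Cfsg.Agent.Lib.Helper81

open Cfsg
open Cfsg.Agent.Lib.Helper21 Cfsg.Agent.Lib.Helper82 Cfsg.Agent.Lib.Helper83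

universe u
variable {G : Type u} [Group G]

/-- invariance of a function under conjugation by the elements of a subgroup -/
def ConjInv (L : Subgroup G) (β : G → ℂ) : Prop := ∀ t ∈ L, ∀ g, β (t * g * t⁻¹) = β g

/-- restriction of a function to a subgroup -/
def rs (K : Subgroup G) (β : G → ℂ) : K → ℂ := fun k => β k

@[simp] theorem rs_apply (K : Subgroup G) (β : G → ℂ) (k : K) : rs K β k = β k := rfl

theorem ConjInv.mono {L L' : Subgroup G} (h : L' ≤ L) {β : G → ℂ} (hβ : ConjInv L β) :
    ConjInv L' β := fun t ht g => hβ t (h ht) g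

theorem conjInv_sub {L : Subgroup G} {β γ : G → ℂ} (hβ : ConjInv L β) (hγ : ConjInv L γ) :
    ConjInv L (β - γ) := fun t ht g => by
  simp only [Pi.sub_apply, hβ t ht g, hγ t ht g]

theorem conjInv_smul {L : Subgroup G} (c : ℂ) {β : G → ℂ} (hβ : ConjInv L β) :
    ConjInv L (c • β) := fun t ht g => by
  simp only [Pi.smul_apply, hβ t ht g]

theorem conjInv_of_isClassFunction (L : Subgroup G) {β : G → ℂ} (hβ : IsClassFunction G β) :
    ConjInv L β := fun t _ g => hβ g t

theorem rs_isClassFunction {K : Subgroup G} {β : G → ℂ} (hβ : ConjInv K β) :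
    IsClassFunction K (rs K β) := by
  intro g h
  show β ((h * g * h⁻¹ : K) : G) = β g
  push_cast
  exact hβ h h.2 g

section Fin

variable [Fintype G]

theorem conjInv_conv {L : Subgroup G} {β γ : G → ℂ} (hβ : ConjInv L β) (hγ : ConjInv L γ) :
    ConjInv L (conv β γ) := fun t ht g =>
  gconv_conj_invariant t β γ (hβ t ht) (hγ t ht) g

theorem conjInv_deltaOne [Fintype (IrrCharacter G)] (L : Subgroup G) :
    ConjInv L (deltaOne : G → ℂ) :=
  conjInv_of_isClassFunction L deltaOne_isClassFunction

theorem conjInv_cpow [DecidableEq G] {L : Subgroup G} {β : G → ℂ} (hβ : ConjInv L β) (m : ℕ) :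
    ConjInv L (cpow β m) := by
  induction m with
  | zero =>
    intro t _ g
    exact gdelta_conj_invariant t g
  | succ m ih =>
    intro t ht g
    exact gconv_conj_invariant t β (cpow β m) (hβ t ht) (ih t ht) g

/-- a class function with values in the local ideal has central character values there -/
theorem memLocalIdeal_omega' [Fintype (IrrCharacter G)]
    {M : Ideal AlgInt} (hM : M.IsPrime) {f : G → ℂ} (hf : IsClassFunction G f)
    (hfI : ∀ g, MemLocalIdeal M (f g)) (χ : IrrCharacter G) :
    MemLocalIdeal M (omega f (χ : G → ℂ)) := by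
  classical
  rw [omega_eq_sum_classes hf (isClassFunction_irr χ)]
  exact memLocalIdeal_sum hM _ _ (fun K _ =>
    memLocalIdeal_mul_right hM (hfI _) (memLocalRing_centralChar hM χ _))

/-- the convolution on a subgroup of restrictions, as a sum over the group -/
theorem conv_rs_eq_sum (K : Subgroup G) [Fintype K] [DecidablePred (· ∈ K)]
    (F₁ F₂ : G → ℂ) (z : K) :
    conv (rs K F₁) (rs K F₂) z = ∑ x : G, if x ∈ K then F₁ x * F₂ (x⁻¹ * z) else 0 := by
  simp only [Cfsg.Agent.Lib.Helper21.conv]
  rw [sum_eq_sum_subgroup K (fun x => if x ∈ K then F₁ x * F₂ (x⁻¹ * z) else 0)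
    (fun g hg => by simp [hg])]
  apply Finset.sum_congr rfl
  intro k _
  rw [if_pos k.2]
  rfl

/-- **The Brauer map is multiplicative modulo the local ideal on functions invariant under the
`p`-subgroup.** -/
theorem brauer_mul {p : ℕ} [Fact p.Prime] {M : Ideal AlgInt} (hMod : IsPModular p M)
    (P : Subgroup G) (hP : IsPGroup p P) [Fintype (Subgroup.centralizer (P : Set G))]
    {F₁ F₂ : G → ℂ} (h₁ : ConjInv P F₁) (h₂ : ConjInv P F₂)
    (hR₁ : ∀ g, MemLocalRing M (F₁ g)) (hR₂ : ∀ g, MemLocalRing M (F₂ g))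
    (z : Subgroup.centralizer (P : Set G)) :
    MemLocalIdeal M (conv F₁ F₂ z - conv (rs _ F₁) (rs _ F₂) z) := by
  classical
  have hM : M.IsPrime := hMod.2.1.isPrime
  have hz : (z : G) ∈ Subgroup.centralizer (P : Set G) := z.2
  rw [conv_rs_eq_sum]
  simp only [Cfsg.Agent.Lib.Helper21.conv]
  rw [← Finset.sum_sub_distrib]
  have e2 : ∀ x : G, F₁ x * F₂ (x⁻¹ * z) -
      (if x ∈ Subgroup.centralizer (P : Set G) then F₁ x * F₂ (x⁻¹ * z) else 0)
      = if x ∉ Subgroup.centralizer (P : Set G) then F₁ x * F₂ (x⁻¹ * z) else 0 := by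
    intro x
    by_cases hx : x ∈ Subgroup.centralizer (P : Set G)
    · simp [hx]
    · simp [hx]
  rw [Finset.sum_congr rfl (fun x _ => e2 x), ← Finset.sum_filter]
  rw [Finset.sum_subtype (p := fun x : G => x ∉ Subgroup.centralizer (P : Set G))
      (Finset.univ.filter (fun x : G => x ∉ Subgroup.centralizer (P : Set G)))
      (fun x => by simp) (fun x : G => F₁ x * F₂ (x⁻¹ * z))]
  let _ := conjActionCompl P
  have hsmul : ∀ (t : P) (x : {x : G // x ∉ Subgroup.centralizer (P : Set G)}),
      ((t • x : {x : G // x ∉ Subgroup.centralizer (P : Set G)}) : G)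
        = (t : G) * x.1 * (t : G)⁻¹ := fun _ _ => rfl
  apply sum_memLocalIdeal_of_fixedPointFree hMod hP
    (fun x : {x : G // x ∉ Subgroup.centralizer (P : Set G)} => F₁ x * F₂ ((x : G)⁻¹ * z))
  · intro t x
    simp only [hsmul]
    rw [h₁ t t.2]
    have hzt : (t : G) * z = z * t := (Subgroup.mem_centralizer_iff.1 hz (t : G) t.2)
    have : ((t : G) * x.1 * (t : G)⁻¹)⁻¹ * z = (t : G) * (x.1⁻¹ * z) * (t : G)⁻¹ := by
      have : (z : G) = (t : G) * z * (t : G)⁻¹ := by rw [hzt]; group
      conv_lhs => rw [this]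
      group
    rw [this, h₂ t t.2]
  · intro x
    exact memLocalRing_mul hM (hR₁ _) (hR₂ _)
  · intro x
    by_contra hcon
    push Not at hcon
    apply x.2
    rw [Subgroup.mem_centralizer_iff]
    intro q hq
    have h1 := congrArg Subtype.val (hcon ⟨q, hq⟩)
    rw [hsmul] at h1
    exact mul_inv_eq_iff_eq_mul.1 h1

/-- iterated form of `brauer_mul` -/
theorem brauer_cpow {p : ℕ} [Fact p.Prime] {M : Ideal AlgInt} (hMod : IsPModular p M)
    (P : Subgroup G) (hP : IsPGroup p P) [Fintype (Subgroup.centralizer (P : Set G))]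
    [DecidableEq G] {F : G → ℂ} (h : ConjInv P F) (hR : ∀ g, MemLocalRing M (F g)) (m : ℕ) :
    ∀ z : Subgroup.centralizer (P : Set G),
      MemLocalIdeal M (cpow F m z - cpow (rs _ F) m z) := by
  have hM : M.IsPrime := hMod.2.1.isPrime
  induction m with
  | zero =>
    intro z
    have : (cpow F 0 (z : G) : ℂ) = cpow (rs (Subgroup.centralizer (P : Set G)) F) 0 z := by
      simp only [cpow, gdelta]
      have : ((z : G) = 1) ↔ z = 1 := by
        rw [Subtype.ext_iff]; rfl
      simp only [this]
    rw [this, sub_self]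
    exact memLocalIdeal_zero hM
  | succ m ih =>
    intro z
    have e1 : cpow F (m + 1) (z : G) = conv F (cpow F m) z := rfl
    have e2 : cpow (rs (Subgroup.centralizer (P : Set G)) F) (m + 1) z
        = conv (rs _ F) (cpow (rs (Subgroup.centralizer (P : Set G)) F) m) z := rfl
    rw [e1, e2]
    have h1 := brauer_mul hMod P hP h (conjInv_cpow h m) hR (memLocalRing_cpow hM hR m) z
    have h2 : MemLocalIdeal M (conv (rs _ F) (rs _ (cpow F m)) z
        - conv (rs _ F) (cpow (rs (Subgroup.centralizer (P : Set G)) F) m) z) := by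
      simp only [Cfsg.Agent.Lib.Helper21.conv]
      rw [← Finset.sum_sub_distrib]
      apply memLocalIdeal_sum hM
      intro x _
      rw [← mul_sub]
      exact memLocalIdeal_mul_left hM (hR _) (ih _)
    have := memLocalIdeal_add hM h1 h2
    convert this using 1
    ring

variable [Fintype (IrrCharacter G)]

/-- the central characters of the centralizer of a `p`-subgroup `P` are multiplicative modulo the
local ideal on the truncations of functions invariant under `P` and `C_G(P)` -/
theorem omega_rs_conv {p : ℕ} [Fact p.Prime] {M : Ideal AlgInt} (hMod : IsPModular p M)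
    (P : Subgroup G) (hP : IsPGroup p P) [Fintype (Subgroup.centralizer (P : Set G))]
    [Fintype (IrrCharacter (Subgroup.centralizer (P : Set G)))]
    {F₁ F₂ : G → ℂ} (h₁ : ConjInv P F₁) (h₂ : ConjInv P F₂)
    (c₁ : ConjInv (Subgroup.centralizer (P : Set G)) F₁)
    (c₂ : ConjInv (Subgroup.centralizer (P : Set G)) F₂)
    (hR₁ : ∀ g, MemLocalRing M (F₁ g)) (hR₂ : ∀ g, MemLocalRing M (F₂ g))
    (ξ : IrrCharacter (Subgroup.centralizer (P : Set G))) :
    MemLocalIdeal M (omega (rs _ (conv F₁ F₂)) (ξ : Subgroup.centralizer (P : Set G) → ℂ)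
      - omega (rs _ F₁) (ξ : Subgroup.centralizer (P : Set G) → ℂ)
        * omega (rs _ F₂) (ξ : Subgroup.centralizer (P : Set G) → ℂ)) := by
  have hM : M.IsPrime := hMod.2.1.isPrime
  rw [← omega_conv ξ.2 _ _ (rs_isClassFunction c₂), ← omega_sub]
  apply memLocalIdeal_omega' hM
  · intro x c
    simp only [Pi.sub_apply]
    rw [rs_isClassFunction (conjInv_conv c₁ c₂) x c,
      conv_isClassFunction (rs_isClassFunction c₁) (rs_isClassFunction c₂) x c]
  · intro z
    exact brauer_mul hMod P hP h₁ h₂ hR₁ hR₂ z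

end Fin

section Sbc

variable [Fintype G] (K : Subgroup G) [Fintype K] [Fintype (IrrCharacter K)]

theorem sbc_eq_ext0 (e : Set (IrrCharacter K)) :
    subgroupBlockCoeff K e = ext0 K (blockCoeff e) := by
  funext g
  unfold subgroupBlockCoeff ext0
  rfl

theorem sbc_of_mem (e : Set (IrrCharacter K)) {g : G} (hg : g ∈ K) :
    subgroupBlockCoeff K e g = blockCoeff e ⟨g, hg⟩ := by
  rw [sbc_eq_ext0, ext0_of_mem K _ hg]

theorem sbc_of_not_mem (e : Set (IrrCharacter K)) {g : G} (hg : g ∉ K) :
    subgroupBlockCoeff K e g = 0 := by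
  rw [sbc_eq_ext0, ext0_of_not_mem K _ hg]

theorem rs_sbc (e : Set (IrrCharacter K)) : rs K (subgroupBlockCoeff K e) = blockCoeff e := by
  funext k
  rw [rs_apply, sbc_of_mem K e k.2]

theorem sbc_conjInv_self (e : Set (IrrCharacter K)) : ConjInv K (subgroupBlockCoeff K e) := by
  intro t ht g
  by_cases hg : g ∈ K
  · rw [sbc_of_mem K e hg, sbc_of_mem K e (K.mul_mem (K.mul_mem ht hg) (K.inv_mem ht))]
    exact blockCoeff_isClassFunction e ⟨g, hg⟩ ⟨t, ht⟩
  · have : t * g * t⁻¹ ∉ K := by
      intro h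
      apply hg
      have := K.mul_mem (K.mul_mem (K.inv_mem ht) h) ht
      simpa [mul_assoc] using this
    rw [sbc_of_not_mem K e hg, sbc_of_not_mem K e this]

theorem sbc_memLocalRing {M : Ideal AlgInt} (hM : M.IsPrime) {e : Set (IrrCharacter K)}
    (he : IsPBlock M e) (g : G) : MemLocalRing M (subgroupBlockCoeff K e g) := by
  obtain ⟨θ, rfl⟩ := he
  by_cases hg : g ∈ K
  · rw [sbc_of_mem K _ hg]
    exact memLocalRing_blockCoeff_blockOf hM θ _
  · rw [sbc_of_not_mem K _ hg]
    exact memLocalRing_zero hM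

theorem conv_sbc_self (e : Set (IrrCharacter K)) :
    conv (subgroupBlockCoeff K e) (subgroupBlockCoeff K e) = subgroupBlockCoeff K e := by
  rw [sbc_eq_ext0]
  have := gconv_ext0 K (blockCoeff e) (blockCoeff e)
  rw [show conv (ext0 K (blockCoeff e)) (ext0 K (blockCoeff e))
    = gconv (ext0 K (blockCoeff e)) (ext0 K (blockCoeff e)) from rfl, this]
  congr 1
  funext z
  exact conv_blockCoeff_self e z

/-- conjugation by an element of the normalizer, as an automorphism of the subgroup -/
def conjEquivN (u : G) (hu : u ∈ Subgroup.normalizer (K : Set G)) : K ≃* K where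
  toFun k := ⟨u * k * u⁻¹, (Subgroup.mem_normalizer_iff.1 hu k).1 k.2⟩
  invFun k := ⟨u⁻¹ * k * u, by
    apply (Subgroup.mem_normalizer_iff.1 hu (u⁻¹ * k * u)).2
    have : u * (u⁻¹ * (k : G) * u) * u⁻¹ = k := by group
    rw [this]; exact k.2⟩
  left_inv k := by
    apply Subtype.ext
    show u⁻¹ * (u * (k : G) * u⁻¹) * u = k
    group
  right_inv k := by
    apply Subtype.ext
    show u * (u⁻¹ * (k : G) * u) * u⁻¹ = k
    group
  map_mul' a b := by
    apply Subtype.ext
    show u * ((a : G) * b) * u⁻¹ = (u * a * u⁻¹) * (u * b * u⁻¹)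
    group

@[simp] theorem conjEquivN_apply (u : G) (hu : u ∈ Subgroup.normalizer (K : Set G)) (k : K) :
    ((conjEquivN K u hu k : K) : G) = u * k * u⁻¹ := rfl

@[simp] theorem conjEquivN_symm_apply (u : G) (hu : u ∈ Subgroup.normalizer (K : Set G)) (k : K) :
    (((conjEquivN K u hu).symm k : K) : G) = u⁻¹ * k * u := rfl

theorem conj_mem_iff_of_mem_normalizer {u : G} (hu : u ∈ Subgroup.normalizer (K : Set G)) (g : G) :
    u * g * u⁻¹ ∈ K ↔ g ∈ K := (Subgroup.mem_normalizer_iff.1 hu g).symm

/-- **A block of a subgroup is stabilized by `u` iff its idempotent, extended by zero, is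
invariant under conjugation by `u`.** -/
theorem stabilizesBlock_iff {M : Ideal AlgInt} (hM : M.IsPrime) {e : Set (IrrCharacter K)}
    (he : IsPBlock M e) (u : G) :
    StabilizesBlock K e u ↔ u ∈ Subgroup.normalizer (K : Set G) ∧
      ∀ g, subgroupBlockCoeff K e (u * g * u⁻¹) = subgroupBlockCoeff K e g := by
  classical
  constructor
  · rintro ⟨hu, hst⟩
    refine ⟨hu, ?_⟩
    obtain ⟨θ₀, hθ₀⟩ := IsPBlock.nonempty hM he
    obtain ⟨θ', hθ', hconj⟩ := hst θ₀ hθ₀
    set φ : K ≃* K := (conjEquivN K u hu).symm with hφ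
    have e1 : θ' = irrComp φ θ₀ := by
      apply Subtype.ext
      funext k'
      rw [irrComp_apply]
      apply hconj (φ k') k'
      rw [hφ, conjEquivN_symm_apply]
      group
    have e2 : e = blockOf M (θ₀ : K → ℂ) := IsPBlock.eq_blockOf hM he hθ₀
    have e3 : e = blockOf M (irrComp φ θ₀ : K → ℂ) := by
      rw [← e1]; exact IsPBlock.eq_blockOf hM he hθ'
    have key : ∀ h : K, blockCoeff e h = blockCoeff e (φ h) := by
      intro h
      conv_lhs => rw [e3]
      rw [blockCoeff_blockOf_irrComp M φ θ₀ h, ← e2]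
    intro g
    by_cases hg : g ∈ K
    · have hg' : u * g * u⁻¹ ∈ K := (conj_mem_iff_of_mem_normalizer K hu g).2 hg
      rw [sbc_of_mem K e hg, sbc_of_mem K e hg', key ⟨u * g * u⁻¹, hg'⟩]
      congr 1
      apply Subtype.ext
      rw [hφ, conjEquivN_symm_apply]
      show u⁻¹ * (u * g * u⁻¹) * u = g
      group
    · have hg' : u * g * u⁻¹ ∉ K := fun h => hg ((conj_mem_iff_of_mem_normalizer K hu g).1 h)
      rw [sbc_of_not_mem K e hg, sbc_of_not_mem K e hg']
  · rintro ⟨hu, hinv⟩
    refine ⟨hu, fun χ hχ => ?_⟩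
    set φ : K ≃* K := (conjEquivN K u hu).symm with hφ
    refine ⟨irrComp φ χ, ?_, ?_⟩
    · have hεφ : (fun k : K => blockCoeff e (φ k)) = blockCoeff e := by
        funext k
        have h1 := hinv ((φ k : K) : G)
        rw [sbc_of_mem K e (φ k).2] at h1
        have h2 : u * ((φ k : K) : G) * u⁻¹ = k := by
          rw [hφ, conjEquivN_symm_apply]; group
        rw [h2, sbc_of_mem K e k.2] at h1
        exact h1.symm
      have h3 : omega (blockCoeff e) (irrComp φ χ : K → ℂ) = omega (blockCoeff e) (χ : K → ℂ) := by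
        conv_lhs => rw [← hεφ]
        exact omega_comp φ (blockCoeff e) (χ : K → ℂ)
      rw [omega_blockCoeff, omega_blockCoeff, if_pos hχ] at h3
      by_contra hne
      rw [if_neg hne] at h3
      exact zero_ne_one h3
    · intro k k' hk
      rw [irrComp_apply]
      have : φ k' = k := by
        apply Subtype.ext
        rw [hφ, conjEquivN_symm_apply, hk]
        group
      rw [this]

end Sbc

end Cfsg.Agent.Lib.Helper81
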