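import Mathlib
import Cfsg.Prelude.Def_BrauerPairs
import Cfsg.Agent.Lib.Helper81.BPBase

set_option autoImplicit false
set_option linter.unusedSectionVars false
set_option linter.style.haveILetI false

/-!
# Brauer pairs: the step lemma

If `(R, g) ⊴ (R', g')` is a normal inclusion of Brauer pairs, then the central characters of
`g'` on Brauer images at `R'` and those of `g` on Brauer images at `R` agree modulo the local
ideal, on all functions invariant under `R'` and `C_G(R)`.
-/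

namespace Cfsg.Agent.Lib.Helper81

open Cfsg
open Cfsg.Agent.Lib.Helper21 Cfsg.Agent.Lib.Helper82 Cfsg.Agent.Lib.Helper83

universe u
variable {G : Type u} [Group G]

local notation "C(" R ")" => Subgroup.centralizer ((R : Subgroup G) : Set G)

theorem normalizer_le_normalizer_centralizer (R : Subgroup G) :
    Subgroup.normalizer (R : Set G) ≤ Subgroup.normalizer ((C(R) : Subgroup G) : Set G) := by
  intro u hu
  have key : ∀ v : G, v ∈ Subgroup.normalizer (R : Set G) → ∀ c ∈ C(R), v * c * v⁻¹ ∈ C(R) := by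
    intro v hv c hc
    rw [Subgroup.mem_centralizer_iff] at hc ⊢
    intro q hq
    have hvi : v⁻¹ ∈ Subgroup.normalizer (R : Set G) := Subgroup.inv_mem _ hv
    have hq' : v⁻¹ * q * v⁻¹⁻¹ ∈ R := (Subgroup.mem_normalizer_iff.1 hvi q).1 hq
    have h1 := hc _ hq'
    simp only [inv_inv] at h1
    calc q * (v * c * v⁻¹) = v * ((v⁻¹ * q * v) * c) * v⁻¹ := by group
      _ = v * (c * (v⁻¹ * q * v)) * v⁻¹ := by rw [h1]
      _ = v * c * v⁻¹ * q := by group
  rw [Subgroup.mem_normalizer_iff]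
  intro c
  constructor
  · exact key u hu c
  · intro h
    have := key u⁻¹ (Subgroup.inv_mem _ hu) _ h
    have e : u⁻¹ * (u * c * u⁻¹) * u⁻¹⁻¹ = c := by group
    rwa [e] at this

section

variable [Fintype G] [Fintype (IrrCharacter G)]

theorem rs_deltaOne (K : Subgroup G) [Fintype K] [Fintype (IrrCharacter K)] :
    rs K (deltaOne : G → ℂ) = (deltaOne : K → ℂ) := by
  classical
  funext k
  rw [rs_apply, deltaOne_eq, deltaOne_eq]
  have : ((k : G) = 1) ↔ k = 1 := by
    rw [Subtype.ext_iff]; rfl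
  simp only [this]

theorem brauerOmega_eq_omega_rs (P : Subgroup G) [Fintype C(P)] (β : G → ℂ)
    (ξ : C(P) → ℂ) : brauerOmega P β ξ = omega (rs C(P) β) ξ := by
  rw [brauerOmega, finsum_eq_sum_of_fintype, omega, Finset.sum_div]
  rfl

/-- truncation of a function to a subgroup -/
noncomputable def trunc (K : Subgroup G) (β : G → ℂ) : G → ℂ := ext0 K (rs K β)

theorem trunc_of_mem (K : Subgroup G) (β : G → ℂ) {g : G} (hg : g ∈ K) : trunc K β g = β g := by
  rw [trunc, ext0_of_mem K _ hg]; rfl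

theorem trunc_of_not_mem (K : Subgroup G) (β : G → ℂ) {g : G} (hg : g ∉ K) :
    trunc K β g = 0 := by
  rw [trunc, ext0_of_not_mem K _ hg]

theorem conjInv_trunc {K L : Subgroup G} (hL : L ≤ Subgroup.normalizer (K : Set G))
    {β : G → ℂ} (hβ : ConjInv L β) : ConjInv L (trunc K β) := by
  intro t ht g
  have hiff := (Subgroup.mem_normalizer_iff.1 (hL ht) g)
  by_cases hg : g ∈ K
  · rw [trunc_of_mem K β hg, trunc_of_mem K β (hiff.1 hg), hβ t ht]
  · rw [trunc_of_not_mem K β hg, trunc_of_not_mem K β (fun h => hg (hiff.2 h))]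

theorem trunc_memLocalRing {M : Ideal AlgInt} (hM : M.IsPrime) (K : Subgroup G) {β : G → ℂ}
    (hβ : ∀ g, MemLocalRing M (β g)) (g : G) : MemLocalRing M (trunc K β g) := by
  by_cases hg : g ∈ K
  · rw [trunc_of_mem K β hg]; exact hβ g
  · rw [trunc_of_not_mem K β hg]; exact memLocalRing_zero hM

theorem rs_trunc_of_le {K K' : Subgroup G} (h : K' ≤ K) (β : G → ℂ) :
    rs K' (trunc K β) = rs K' β := by
  funext k
  rw [rs_apply, rs_apply, trunc_of_mem K β (h k.2)]

/-- **Step lemma.** -/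
theorem normalSubpair_omega_congr {p : ℕ} [Fact p.Prime] {M : Ideal AlgInt}
    (hMod : IsPModular p M) {R R' : Subgroup G}
    [Fintype C(R)] [Fintype (IrrCharacter C(R))] [Fintype C(R')] [Fintype (IrrCharacter C(R'))]
    {g : Set (IrrCharacter C(R))} {g' : Set (IrrCharacter C(R'))}
    (hn : IsNormalSubpair p M R g R' g')
    {β : G → ℂ} (hβR : ∀ x, MemLocalRing M (β x)) (hinv : ConjInv R' β)
    (hcinv : ConjInv C(R) β)
    {ξ : IrrCharacter C(R)} (hξ : ξ ∈ g) {ξ' : IrrCharacter C(R')} (hξ' : ξ' ∈ g') :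
    MemLocalIdeal M (omega (rs C(R') β) (ξ' : C(R') → ℂ) - omega (rs C(R) β) (ξ : C(R) → ℂ)) := by
  classical
  have hM : M.IsPrime := hMod.2.1.isPrime
  obtain ⟨⟨hRp, hg⟩, ⟨hR'p, hg'⟩, hle, hN, hstab, hbr⟩ := hn
  have hCC : C(R') ≤ C(R) := Subgroup.centralizer_le hle
  have hNC : R' ≤ Subgroup.normalizer ((C(R) : Subgroup G) : Set G) :=
    hN.trans (normalizer_le_normalizer_centralizer R)
  have hCN : C(R) ≤ Subgroup.normalizer ((C(R) : Subgroup G) : Set G) :=
    Subgroup.le_normalizer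
  -- the block idempotent of `g`
  set ε : G → ℂ := subgroupBlockCoeff C(R) g with hε
  have hεR : ∀ x, MemLocalRing M (ε x) := sbc_memLocalRing C(R) hM hg
  have hεC : ConjInv C(R) ε := sbc_conjInv_self C(R) g
  have hεR' : ConjInv R' ε := fun t ht x =>
    ((stabilizesBlock_iff C(R) hM hg t).1 (hstab t ht)).2 x
  have hbr' : MemLocalIdeal M (omega (rs C(R') ε) (ξ' : C(R') → ℂ) - 1) := by
    have := hbr ξ' hξ'
    rwa [brauerOmega_eq_omega_rs] at this
  -- the value `t`
  set t : ℂ := omega (rs C(R) β) (ξ : C(R) → ℂ) with ht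
  have htR : MemLocalRing M t :=
    memLocalRing_omega hM (rs_isClassFunction hcinv) (fun x => hβR x) ξ
  set β' : G → ℂ := β - t • (deltaOne : G → ℂ) with hβ'
  have hβ'R : ∀ x, MemLocalRing M (β' x) := by
    intro x
    rw [hβ']
    simp only [Pi.sub_apply, Pi.smul_apply, smul_eq_mul]
    exact memLocalRing_sub hM (hβR x) (memLocalRing_mul hM htR ((deltaOne_isRClass hM).2 x))
  have hβ'inv : ConjInv R' β' := conjInv_sub hinv (conjInv_smul t (conjInv_deltaOne R'))
  have hβ'cinv : ConjInv C(R) β' := conjInv_sub hcinv (conjInv_smul t (conjInv_deltaOne _))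
  set βt : G → ℂ := trunc C(R) β' with hβt
  have hβtR : ∀ x, MemLocalRing M (βt x) := trunc_memLocalRing hM _ hβ'R
  have hβtinv : ConjInv R' βt := conjInv_trunc hNC hβ'inv
  have hβtcinv : ConjInv C(R) βt := conjInv_trunc hCN hβ'cinv
  -- the nilpotent element on `C(R)`
  obtain ⟨θ, hθ⟩ := id hg
  have hεg : IsRClass M (blockCoeff g) := hθ ▸ blockCoeff_isRClass hM θ
  have hrβ' : IsRClass M (rs C(R) β') := ⟨rs_isClassFunction hβ'cinv, fun x => hβ'R x⟩
  set NH : C(R) → ℂ := conv (blockCoeff g) (rs C(R) β') with hNH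
  have hNHR : IsRClass M NH := hεg.conv hM hrβ'
  have hω : ∀ ψ : IrrCharacter C(R), MemLocalIdeal M (omega NH (ψ : C(R) → ℂ)) := by
    intro ψ
    rw [hNH, omega_conv ψ.2 _ _ hrβ'.1, omega_blockCoeff]
    by_cases hψ : ψ ∈ g
    · rw [if_pos hψ, one_mul]
      have e1 : rs C(R) β' = rs C(R) β - t • (deltaOne : C(R) → ℂ) := by
        rw [← rs_deltaOne C(R)]
        rfl
      rw [e1, omega_sub, omega_smul, omega_deltaOne, mul_one, ht]
      exact omega_sub_memLocalIdeal hM (rs_isClassFunction hcinv) (fun x => hβR x)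
        (IsPBlock.sameBlock hM hg hψ hξ)
    · rw [if_neg hψ, zero_mul]; exact memLocalIdeal_zero hM
  obtain ⟨m, hm⟩ := isNilpotent_cls hM hNHR hω
  obtain ⟨hcp, hclsp⟩ := cls_cpow hM hNHR m
  rw [hm] at hclsp
  have hJ : ∀ x, MemLocalIdeal M (cpow NH m x) := (cls_eq_zero_iff hM hcp).1 hclsp
  -- its extension to `G`
  set N : G → ℂ := conv ε βt with hN'
  have hNeq : N = ext0 C(R) NH := by
    rw [hN', hε, sbc_eq_ext0, hβt, trunc, hNH]
    exact gconv_ext0 C(R) (blockCoeff g) (rs C(R) β')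
  have hNR : ∀ x, MemLocalRing M (N x) := conv_memLocalRing M hM hεR hβtR
  have hNinv : ConjInv R' N := conjInv_conv hεR' hβtinv
  have hNcinv : ConjInv C(R) N := conjInv_conv hεC hβtcinv
  have hNpow : ∀ z : C(R'), MemLocalIdeal M (cpow N m (z : G)) := by
    intro z
    rw [hNeq, cpow_ext0, ext0_of_mem C(R) _ (hCC z.2)]
    exact hJ _
  -- Brauer map at `R'`
  set X : C(R') → ℂ := rs C(R') N with hX
  have hXc : IsClassFunction C(R') X := rs_isClassFunction (hNcinv.mono hCC)
  have hXR : ∀ z, MemLocalRing M (X z) := fun z => hNR z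
  have hXpow : ∀ z : C(R'), MemLocalIdeal M (cpow X m z) := by
    intro z
    have h1 := brauer_cpow hMod R' hR'p hNinv hNR m z
    have h2 := memLocalIdeal_sub hM (hNpow z) h1
    rwa [sub_sub_cancel] at h2
  have hωX : MemLocalIdeal M (omega X (ξ' : C(R') → ℂ)) := by
    have h1 := memLocalIdeal_omega' hM (isClassFunction_cpow hXc m) hXpow ξ'
    rw [omega_cpow ξ'.2 hXc m] at h1
    exact memLocalIdeal_of_pow hM (memLocalRing_omega hM hXc hXR ξ') m h1
  -- multiplicativity
  have hmul := omega_rs_conv hMod R' hR'p hεR' hβtinv (hεC.mono hCC) (hβtcinv.mono hCC)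
    hεR hβtR ξ'
  have e2 : rs C(R') βt = rs C(R') β - t • (deltaOne : C(R') → ℂ) := by
    rw [hβt, rs_trunc_of_le hCC, ← rs_deltaOne C(R')]
    rfl
  rw [e2, omega_sub, omega_smul, omega_deltaOne, mul_one] at hmul
  set a : ℂ := omega (rs C(R') ε) (ξ' : C(R') → ℂ) with ha
  set b : ℂ := omega (rs C(R') β) (ξ' : C(R') → ℂ) - t with hb
  have haR : MemLocalRing M a :=
    memLocalRing_omega hM (rs_isClassFunction (hεC.mono hCC)) (fun x => hεR x) ξ'
  have hbR : MemLocalRing M b :=
    memLocalRing_sub hM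
      (memLocalRing_omega hM (rs_isClassFunction (hcinv.mono hCC)) (fun x => hβR x) ξ') htR
  have hab : MemLocalIdeal M (a * b) := by
    have := memLocalIdeal_sub hM hωX hmul
    rwa [sub_sub_cancel] at this
  rcases memLocalIdeal_of_mul_memLocalIdeal hM haR hbR hab with h | h
  · exfalso
    have := memLocalIdeal_sub hM h hbr'
    rw [sub_sub_cancel] at this
    exact not_memLocalIdeal_one hM this
  · exact h

end

section Chain

variable [Fintype G]

/-- the step lemma, instance free -/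
theorem normalSubpair_brauerOmega_congr {p : ℕ} [Fact p.Prime] {M : Ideal AlgInt}
    (hMod : IsPModular p M) {R R' : Subgroup G}
    {g : Set (IrrCharacter C(R))} {g' : Set (IrrCharacter C(R'))}
    (hn : IsNormalSubpair p M R g R' g')
    {β : G → ℂ} (hβR : ∀ x, MemLocalRing M (β x)) (hinv : ConjInv R' β)
    (hcinv : ConjInv C(R) β)
    {ξ : IrrCharacter C(R)} (hξ : ξ ∈ g) {ξ' : IrrCharacter C(R')} (hξ' : ξ' ∈ g') :
    MemLocalIdeal M (brauerOmega R' β (ξ' : C(R') → ℂ) - brauerOmega R β (ξ : C(R) → ℂ)) := by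
  classical
  haveI : Finite (IrrCharacter G) := irr_finite
  haveI : Fintype (IrrCharacter G) := Fintype.ofFinite _
  haveI : Fintype C(R) := Fintype.ofFinite _
  haveI : Finite (IrrCharacter C(R)) := irr_finite
  haveI : Fintype (IrrCharacter C(R)) := Fintype.ofFinite _
  haveI : Fintype C(R') := Fintype.ofFinite _
  haveI : Finite (IrrCharacter C(R')) := irr_finite
  haveI : Fintype (IrrCharacter C(R')) := Fintype.ofFinite _
  rw [brauerOmega_eq_omega_rs, brauerOmega_eq_omega_rs]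
  exact normalSubpair_omega_congr hMod hn hβR hinv hcinv hξ hξ'

/-- the central characters of a block agree modulo the local ideal on Brauer images -/
theorem brauerOmega_sub_of_mem_block {M : Ideal AlgInt} (hM : M.IsPrime) (R : Subgroup G)
    {g : Set (IrrCharacter C(R))} (hg : IsPBlock M g)
    {β : G → ℂ} (hβR : ∀ x, MemLocalRing M (β x)) (hcinv : ConjInv C(R) β)
    {ξ ξ' : IrrCharacter C(R)} (hξ : ξ ∈ g) (hξ' : ξ' ∈ g) :
    MemLocalIdeal M (brauerOmega R β (ξ' : C(R) → ℂ) - brauerOmega R β (ξ : C(R) → ℂ)) := by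
  classical
  haveI : Finite (IrrCharacter G) := irr_finite
  haveI : Fintype (IrrCharacter G) := Fintype.ofFinite _
  haveI : Fintype C(R) := Fintype.ofFinite _
  haveI : Finite (IrrCharacter C(R)) := irr_finite
  haveI : Fintype (IrrCharacter C(R)) := Fintype.ofFinite _
  rw [brauerOmega_eq_omega_rs, brauerOmega_eq_omega_rs]
  exact omega_sub_memLocalIdeal hM (rs_isClassFunction hcinv) (fun x => hβR x)
    (IsPBlock.sameBlock hM hg hξ' hξ)

/-- **Chain lemma**, on the index type of Brauer pairs. -/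
theorem reflTransGen_brauerOmega_congr {p : ℕ} [Fact p.Prime] {M : Ideal AlgInt}
    (hMod : IsPModular p M) {a b : BrauerPairIdx G}
    (h : Relation.ReflTransGen (NormalSubpairRel p M) a b) (ha : IsPBlock M a.2) :
    a.1 ≤ b.1 ∧ IsPBlock M b.2 ∧
    ∀ β : G → ℂ, (∀ x, MemLocalRing M (β x)) → ConjInv b.1 β → ConjInv C(a.1) β →
      ∀ ξ ∈ a.2, ∀ ξ' ∈ b.2,
        MemLocalIdeal M (brauerOmega b.1 β (ξ' : C(b.1) → ℂ) - brauerOmega a.1 β (ξ : C(a.1) → ℂ)) := by
  have hM : M.IsPrime := hMod.2.1.isPrime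
  induction h with
  | refl =>
    refine ⟨le_rfl, ha, fun β hβR _ hcinv ξ hξ ξ' hξ' => ?_⟩
    exact brauerOmega_sub_of_mem_block hM a.1 ha hβR hcinv hξ hξ'
  | tail hab hbc ih =>
    rename_i b c
    obtain ⟨hle, hb, ih⟩ := ih
    have hbc' : IsNormalSubpair p M b.1 b.2 c.1 c.2 := hbc
    have hle' : b.1 ≤ c.1 := hbc'.2.2.1
    refine ⟨hle.trans hle', hbc'.2.1.2, fun β hβR hinv hcinv ξ hξ ξ'' hξ'' => ?_⟩
    obtain ⟨ξ', hξ'⟩ := IsPBlock.nonempty hM hb
    have h1 := ih β hβR (hinv.mono hle') hcinv ξ hξ ξ' hξ'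
    have h2 := normalSubpair_brauerOmega_congr hMod hbc' hβR hinv
      (hcinv.mono (Subgroup.centralizer_le hle)) hξ' hξ''
    have := memLocalIdeal_add hM h2 h1
    convert this using 1
    ring

/-- **Chain lemma.** -/
theorem subpairLE_brauerOmega_congr {p : ℕ} [Fact p.Prime] {M : Ideal AlgInt}
    (hMod : IsPModular p M) {R P : Subgroup G}
    {g : Set (IrrCharacter C(R))} {e : Set (IrrCharacter C(P))}
    (hle : SubpairLE p M R g P e) (hg : IsPBlock M g)
    {β : G → ℂ} (hβR : ∀ x, MemLocalRing M (β x)) (hinv : ConjInv P β)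
    (hcinv : ConjInv C(R) β)
    {ξ : IrrCharacter C(R)} (hξ : ξ ∈ g) {ξ' : IrrCharacter C(P)} (hξ' : ξ' ∈ e) :
    MemLocalIdeal M (brauerOmega P β (ξ' : C(P) → ℂ) - brauerOmega R β (ξ : C(R) → ℂ)) :=
  (reflTransGen_brauerOmega_congr hMod hle hg).2.2 β hβR hinv hcinv ξ hξ ξ' hξ'

theorem subpairLE_le {p : ℕ} [Fact p.Prime] {M : Ideal AlgInt}
    (hMod : IsPModular p M) {R P : Subgroup G}
    {g : Set (IrrCharacter C(R))} {e : Set (IrrCharacter C(P))}
    (hle : SubpairLE p M R g P e) (hg : IsPBlock M g) : R ≤ P :=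
  (reflTransGen_brauerOmega_congr hMod hle hg).1

end Chain

end Cfsg.Agent.Lib.Helper81
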