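import Mathlib
import Cfsg.Prelude.Def_BrauerPairs
import Cfsg.Agent.Lib.Helper81.BPStep

set_option autoImplicit false
set_option linter.unusedSectionVars false
set_option linter.style.haveILetI false

/-!
# Brauer pairs: the normal case

For `Q ≤ P ≤ N_G(Q)` and a Brauer pair `(P, e)` there is exactly one block `f` of `C_G(Q)` with
`(Q, f) ⊴ (P, e)`.
-/

namespace Cfsg.Agent.Lib.Helper81

open Cfsg
open Cfsg.Agent.Lib.Helper21 Cfsg.Agent.Lib.Helper82 Cfsg.Agent.Lib.Helper83

universe u

section Counting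

/-- the points moved by some element of the group -/
def nonFixed (Q : Type*) (S : Type*) [Group Q] [MulAction Q S] : SubMulAction Q S where
  carrier := (MulAction.fixedPoints Q S)ᶜ
  smul_mem' := by
    intro u s hs hfix
    apply hs
    intro v
    have h1 := hfix (u * v * u⁻¹)
    rw [smul_smul] at h1
    have h2 : u * v * u⁻¹ * u = u * v := by group
    rw [h2, mul_smul] at h1
    exact smul_left_cancel u h1

/-- orbit counting modulo the local ideal: a sum of an invariant function is congruent to the sum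
over the fixed points -/
theorem sum_sub_sum_fixed_memLocalIdeal {p : ℕ} [Fact p.Prime] {M : Ideal AlgInt}
    (hMod : IsPModular p M) {Q : Type*} [Group Q] [Finite Q] (hQ : IsPGroup p Q)
    {S : Type*} [Fintype S] [MulAction Q S] (F : S → ℂ) (hF : ∀ (u : Q) (s : S), F (u • s) = F s)
    (hR : ∀ s, MemLocalRing M (F s)) [DecidablePred (· ∈ MulAction.fixedPoints Q S)] :
    MemLocalIdeal M (∑ s, F s - ∑ s ∈ Finset.univ.filter (· ∈ MulAction.fixedPoints Q S), F s) := by
  classical
  rw [← Finset.sum_filter_add_sum_filter_not Finset.univ (· ∈ MulAction.fixedPoints Q S) F,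
    add_sub_cancel_left]
  have hsub : ∑ s ∈ Finset.univ.filter (fun s => s ∉ MulAction.fixedPoints Q S), F s
      = ∑ t : nonFixed Q S, F (t : S) := by
    rw [Finset.sum_subtype (p := fun s : S => s ∈ nonFixed Q S)
      (Finset.univ.filter (fun s => s ∉ MulAction.fixedPoints Q S))
      (fun x => by
        rw [Finset.mem_filter]
        simp only [Finset.mem_univ, true_and]
        rfl) F]
  rw [hsub]
  apply sum_memLocalIdeal_of_fixedPointFree hMod hQ (fun t : nonFixed Q S => F (t : S))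
  · intro u t
    rw [SubMulAction.val_smul]
    exact hF u _
  · intro t
    exact hR _
  · intro t
    have ht : (t : S) ∉ MulAction.fixedPoints Q S := t.2
    rw [MulAction.mem_fixedPoints] at ht
    push Not at ht
    obtain ⟨u, hu⟩ := ht
    refine ⟨u, fun h => hu ?_⟩
    have := congrArg Subtype.val h
    rwa [SubMulAction.val_smul] at this

end Counting

section Normal

variable {G : Type u} [Group G] [Fintype G]

local notation "C(" R ")" => Subgroup.centralizer ((R : Subgroup G) : Set G)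

/-- conjugation of functions -/
def conjF (u : G) (β : G → ℂ) : G → ℂ := fun g => β (u⁻¹ * g * u)

theorem conjF_one (β : G → ℂ) : conjF 1 β = β := by
  funext g; simp [conjF]

theorem conjF_mul (u v : G) (β : G → ℂ) : conjF (u * v) β = conjF u (conjF v β) := by
  funext g
  simp only [conjF]
  congr 1
  group

theorem conjF_sbc_blockOf (M : Ideal AlgInt) (K : Subgroup G) [Fintype K] [Fintype (IrrCharacter K)]
    {u : G} (hu : u ∈ Subgroup.normalizer (K : Set G)) (ψ : IrrCharacter K) :
    conjF u (subgroupBlockCoeff K (blockOf M (ψ : K → ℂ)))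
      = subgroupBlockCoeff K (blockOf M (irrComp (conjEquivN K u hu).symm ψ : K → ℂ)) := by
  funext g
  simp only [conjF]
  have hui : u⁻¹ ∈ Subgroup.normalizer (K : Set G) := Subgroup.inv_mem _ hu
  have hiff : u⁻¹ * g * u ∈ K ↔ g ∈ K := by
    have := conj_mem_iff_of_mem_normalizer K hui g
    rwa [inv_inv] at this
  by_cases hg : g ∈ K
  · rw [sbc_of_mem K _ hg, sbc_of_mem K _ (hiff.2 hg),
      blockCoeff_blockOf_irrComp M (conjEquivN K u hu).symm ψ ⟨g, hg⟩]
    rfl
  · rw [sbc_of_not_mem K _ hg, sbc_of_not_mem K _ (fun h => hg (hiff.1 h))]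

/-- distinct blocks have orthogonal idempotents -/
theorem conv_blockCoeff_of_ne {H : Type u} [Group H] [Fintype H] [Fintype (IrrCharacter H)]
    {M : Ideal AlgInt} (hM : M.IsPrime) {f f' : Set (IrrCharacter H)} (hf : IsPBlock M f)
    (hf' : IsPBlock M f') (hne : f ≠ f') : conv (blockCoeff f) (blockCoeff f') = 0 := by
  classical
  apply eq_of_omega_eq (conv_isClassFunction (blockCoeff_isClassFunction f)
    (blockCoeff_isClassFunction f')) (fun _ _ => rfl)
  intro χ
  rw [omega_conv χ.2 _ _ (blockCoeff_isClassFunction f'), omega_blockCoeff, omega_blockCoeff,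
    omega_zero]
  rcases IsPBlock.eq_or_disjoint hM hf hf' with h | h
  · exact absurd h hne
  · by_cases h1 : χ ∈ f
    · have h2 : χ ∉ f' := fun h2 => (Set.disjoint_left.1 h) h1 h2
      rw [if_neg h2, mul_zero]
    · rw [if_neg h1, zero_mul]

variable [Fintype (IrrCharacter G)]

/-- uniqueness in the normal case -/
theorem normalSubpair_unique {p : ℕ} [Fact p.Prime] {M : Ideal AlgInt} (hMod : IsPModular p M)
    {P Q : Subgroup G} {e : Set (IrrCharacter C(P))} {f f' : Set (IrrCharacter C(Q))}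
    (h : IsNormalSubpair p M Q f P e) (h' : IsNormalSubpair p M Q f' P e) : f = f' := by
  classical
  have hM : M.IsPrime := hMod.2.1.isPrime
  haveI : Fintype C(P) := Fintype.ofFinite _
  haveI : Finite (IrrCharacter C(P)) := irr_finite
  haveI : Fintype (IrrCharacter C(P)) := Fintype.ofFinite _
  haveI : Fintype C(Q) := Fintype.ofFinite _
  haveI : Finite (IrrCharacter C(Q)) := irr_finite
  haveI : Fintype (IrrCharacter C(Q)) := Fintype.ofFinite _
  by_contra hne
  obtain ⟨⟨_, hf⟩, ⟨hPp, he⟩, hle, hN, hstab, hbr⟩ := h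
  obtain ⟨⟨_, hf'⟩, _, _, _, hstab', hbr'⟩ := h'
  have hCC : C(P) ≤ C(Q) := Subgroup.centralizer_le hle
  obtain ⟨ξ, hξ⟩ := IsPBlock.nonempty hM he
  set ε : G → ℂ := subgroupBlockCoeff C(Q) f with hε
  set ε' : G → ℂ := subgroupBlockCoeff C(Q) f' with hε'
  have hεP : ConjInv P ε := fun t ht x =>
    ((stabilizesBlock_iff C(Q) hM hf t).1 (hstab t ht)).2 x
  have hε'P : ConjInv P ε' := fun t ht x =>
    ((stabilizesBlock_iff C(Q) hM hf' t).1 (hstab' t ht)).2 x
  have hmul := omega_rs_conv hMod P hPp hεP hε'P ((sbc_conjInv_self C(Q) f).mono hCC)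
    ((sbc_conjInv_self C(Q) f').mono hCC) (sbc_memLocalRing C(Q) hM hf)
    (sbc_memLocalRing C(Q) hM hf') ξ
  have hzero : conv ε ε' = 0 := by
    rw [hε, hε', sbc_eq_ext0, sbc_eq_ext0]
    have := gconv_ext0 C(Q) (blockCoeff f) (blockCoeff f')
    rw [show conv (ext0 C(Q) (blockCoeff f)) (ext0 C(Q) (blockCoeff f'))
      = gconv (ext0 C(Q) (blockCoeff f)) (ext0 C(Q) (blockCoeff f')) from rfl, this,
      show gconv (blockCoeff f) (blockCoeff f') = conv (blockCoeff f) (blockCoeff f') from rfl,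
      conv_blockCoeff_of_ne hM hf hf' hne]
    funext g
    by_cases hg : g ∈ C(Q)
    · rw [ext0_of_mem _ _ hg]; rfl
    · rw [ext0_of_not_mem _ _ hg]; rfl
  rw [hzero] at hmul
  have h0 : omega (rs C(P) (0 : G → ℂ)) (ξ : C(P) → ℂ) = 0 := by
    have : rs C(P) (0 : G → ℂ) = 0 := rfl
    rw [this, omega_zero]
  rw [h0, zero_sub] at hmul
  have h1 := hbr ξ hξ
  have h2 := hbr' ξ hξ
  rw [brauerOmega_eq_omega_rs] at h1 h2
  set a := omega (rs C(P) ε) (ξ : C(P) → ℂ) with ha
  set b := omega (rs C(P) ε') (ξ : C(P) → ℂ) with hb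
  have haR : MemLocalRing M a :=
    memLocalRing_omega hM (rs_isClassFunction ((sbc_conjInv_self C(Q) f).mono hCC))
      (fun x => sbc_memLocalRing C(Q) hM hf x) ξ
  have h3 : MemLocalIdeal M (a * (b - 1)) := memLocalIdeal_mul_left hM haR h2
  have h4 := memLocalIdeal_add hM (memLocalIdeal_add hM h3 h1) hmul
  have : a * (b - 1) + (a - 1) + -(a * b) = -1 := by ring
  rw [this] at h4
  have := memLocalIdeal_neg h4
  rw [neg_neg] at this
  exact not_memLocalIdeal_one hM this

/-- the sum of all block idempotents of a subgroup, extended by zero, is the unit -/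
theorem sum_sbc_blocks {M : Ideal AlgInt} (hM : M.IsPrime) (K : Subgroup G) [Fintype K]
    [Fintype (IrrCharacter K)] [DecidableEq (G → ℂ)] :
    ∑ β ∈ Finset.univ.image
        (fun ψ : IrrCharacter K => subgroupBlockCoeff K (blockOf M (ψ : K → ℂ))), β
      = (deltaOne : G → ℂ) := by
  classical
  set h : IrrCharacter K → (G → ℂ) :=
    fun ψ => subgroupBlockCoeff K (blockOf M (ψ : K → ℂ)) with hh
  set 𝔖 : Finset (G → ℂ) := Finset.univ.image h with h𝔖
  have hrs : rs K (∑ β ∈ 𝔖, β) = ∑ β ∈ 𝔖, rs K β := by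
    funext k
    rw [rs_apply, Finset.sum_apply, Finset.sum_apply]
    rfl
  have hmem : ∀ β ∈ 𝔖, ∃ ψ : IrrCharacter K, β = h ψ := by
    intro β hβ
    obtain ⟨ψ, -, hψ⟩ := Finset.mem_image.1 hβ
    exact ⟨ψ, hψ.symm⟩
  have hK : rs K (∑ β ∈ 𝔖, β) = (deltaOne : K → ℂ) := by
    apply eq_of_omega_eq _ deltaOne_isClassFunction
    · intro χ
      rw [hrs, omega_sum, omega_deltaOne]
      rw [Finset.sum_eq_single (h χ)]
      · rw [hh]
        simp only
        rw [rs_sbc, omega_blockCoeff, if_pos (mem_blockOf_self hM χ)]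
      · intro β hβ hne
        obtain ⟨ψ, rfl⟩ := hmem β hβ
        rw [hh]
        simp only
        rw [rs_sbc, omega_blockCoeff, if_neg]
        intro hχ
        apply hne
        rw [hh]
        simp only
        rw [blockOf_eq_of_mem hM hχ]
      · intro hno
        exact absurd (Finset.mem_image_of_mem h (Finset.mem_univ χ)) hno
    · rw [hrs]
      intro x c
      rw [Finset.sum_apply, Finset.sum_apply]
      apply Finset.sum_congr rfl
      intro β hβ
      obtain ⟨ψ, rfl⟩ := hmem β hβ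
      rw [hh]
      simp only
      rw [rs_sbc]
      exact blockCoeff_isClassFunction _ x c
  funext g
  by_cases hg : g ∈ K
  · have := congrFun hK ⟨g, hg⟩
    rw [rs_apply] at this
    rw [this, ← rs_deltaOne K]
    rfl
  · rw [Finset.sum_apply]
    have h1 : g ≠ 1 := fun h1 => hg (h1 ▸ K.one_mem)
    rw [deltaOne_eq]
    simp only [if_neg h1]
    apply Finset.sum_eq_zero
    intro β hβ
    obtain ⟨ψ, rfl⟩ := hmem β hβ
    exact sbc_of_not_mem K _ hg

/-- existence in the normal case -/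
theorem exists_normalSubpair {p : ℕ} [Fact p.Prime] {M : Ideal AlgInt} (hMod : IsPModular p M)
    {P Q : Subgroup G} {e : Set (IrrCharacter C(P))} (hPe : IsBrauerPair p M P e)
    (hQP : Q ≤ P) (hPN : P ≤ Subgroup.normalizer (Q : Set G)) :
    ∃ f : Set (IrrCharacter C(Q)), IsNormalSubpair p M Q f P e := by
  classical
  have hM : M.IsPrime := hMod.2.1.isPrime
  haveI : Fintype C(P) := Fintype.ofFinite _
  haveI : Finite (IrrCharacter C(P)) := irr_finite
  haveI : Fintype (IrrCharacter C(P)) := Fintype.ofFinite _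
  haveI : Fintype C(Q) := Fintype.ofFinite _
  haveI : Finite (IrrCharacter C(Q)) := irr_finite
  haveI : Fintype (IrrCharacter C(Q)) := Fintype.ofFinite _
  obtain ⟨hPp, he⟩ := hPe
  obtain ⟨ξ, hξ⟩ := IsPBlock.nonempty hM he
  have hCC : C(P) ≤ C(Q) := Subgroup.centralizer_le hQP
  have hNC : P ≤ Subgroup.normalizer ((C(Q) : Subgroup G) : Set G) :=
    hPN.trans (normalizer_le_normalizer_centralizer Q)
  set h : IrrCharacter C(Q) → (G → ℂ) :=
    fun ψ => subgroupBlockCoeff C(Q) (blockOf M (ψ : C(Q) → ℂ)) with hh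
  set 𝔖 : Finset (G → ℂ) := Finset.univ.image h with h𝔖
  have hmem : ∀ β ∈ 𝔖, ∃ ψ : IrrCharacter C(Q), β = h ψ := by
    intro β hβ
    obtain ⟨ψ, -, hψ⟩ := Finset.mem_image.1 hβ
    exact ⟨ψ, hψ.symm⟩
  -- the action of `P` on the block idempotents
  letI act : MulAction P {β // β ∈ 𝔖} :=
    { smul := fun u b => ⟨conjF (u : G) b.1, by
        obtain ⟨ψ, hψ⟩ := hmem b.1 b.2
        rw [hψ, hh]
        simp only
        rw [conjF_sbc_blockOf M C(Q) (hNC u.2) ψ]
        exact Finset.mem_image_of_mem h (Finset.mem_univ _)⟩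
      one_smul := fun b => Subtype.ext (conjF_one b.1)
      mul_smul := fun u v b => Subtype.ext (conjF_mul (u : G) (v : G) b.1) }
  have hsmul : ∀ (u : P) (b : {β // β ∈ 𝔖}),
      ((u • b : {β // β ∈ 𝔖}) : G → ℂ) = conjF (u : G) b.1 := fun _ _ => rfl
  have hprops : ∀ b : {β // β ∈ 𝔖}, ∃ f : Set (IrrCharacter C(Q)), IsPBlock M f ∧
      b.1 = subgroupBlockCoeff C(Q) f := by
    intro b
    obtain ⟨ψ, hψ⟩ := hmem b.1 b.2
    exact ⟨_, ⟨ψ, rfl⟩, hψ⟩
  set F : {β // β ∈ 𝔖} → ℂ := fun b => omega (rs C(P) b.1) (ξ : C(P) → ℂ) with hF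
  have hFinv : ∀ (u : P) (b : {β // β ∈ 𝔖}), F (u • b) = F b := by
    intro u b
    simp only [hF]
    congr 1
    funext c
    rw [rs_apply, rs_apply, hsmul]
    simp only [conjF]
    have hc := Subgroup.mem_centralizer_iff.1 c.2 (u : G) u.2
    have : (u : G)⁻¹ * c * u = c := by
      rw [mul_assoc, ← hc]; group
    rw [this]
  have hcl : ∀ b : {β // β ∈ 𝔖}, IsClassFunction C(P) (rs C(P) b.1) := by
    intro b
    obtain ⟨f, hf, hbf⟩ := hprops b
    rw [hbf]
    exact rs_isClassFunction ((sbc_conjInv_self C(Q) f).mono hCC)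
  have hbR : ∀ (b : {β // β ∈ 𝔖}) (x : G), MemLocalRing M (b.1 x) := by
    intro b x
    obtain ⟨f, hf, hbf⟩ := hprops b
    rw [hbf]
    exact sbc_memLocalRing C(Q) hM hf x
  have hFR : ∀ b, MemLocalRing M (F b) := fun b =>
    memLocalRing_omega hM (hcl b) (fun x => hbR b x) ξ
  have hcount := sum_sub_sum_fixed_memLocalIdeal hMod hPp F hFinv hFR
  have hsum : ∑ b, F b = 1 := by
    have h1 : ∑ b : {β // β ∈ 𝔖}, F b = ∑ β ∈ 𝔖, omega (rs C(P) β) (ξ : C(P) → ℂ) :=
      Finset.sum_coe_sort 𝔖 (fun β => omega (rs C(P) β) (ξ : C(P) → ℂ))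
    have h2 : ∑ β ∈ 𝔖, rs C(P) β = rs C(P) (∑ β ∈ 𝔖, β) := by
      funext k
      rw [rs_apply, Finset.sum_apply, Finset.sum_apply]
      rfl
    rw [h1, ← omega_sum, h2, sum_sbc_blocks hM C(Q), rs_deltaOne, omega_deltaOne]
  have hex : ∃ b ∈ Finset.univ.filter (· ∈ MulAction.fixedPoints P {β // β ∈ 𝔖}),
      ¬ MemLocalIdeal M (F b) := by
    by_contra hcon
    push Not at hcon
    have h1 : MemLocalIdeal M
        (∑ b ∈ Finset.univ.filter (· ∈ MulAction.fixedPoints P {β // β ∈ 𝔖}), F b) :=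
      memLocalIdeal_sum hM _ _ hcon
    have h2 := memLocalIdeal_add hM hcount h1
    rw [sub_add_cancel, hsum] at h2
    exact not_memLocalIdeal_one hM h2
  obtain ⟨b, hb, hbJ⟩ := hex
  obtain ⟨f, hf, hbf⟩ := hprops b
  have hbfix := MulAction.mem_fixedPoints.1 (Finset.mem_filter.1 hb).2
  have hfP : ConjInv P (subgroupBlockCoeff C(Q) f) := by
    intro x hx g
    have h1 := congrArg Subtype.val (hbfix ⟨x⁻¹, P.inv_mem hx⟩)
    rw [hsmul] at h1
    have h2 := congrFun h1 g
    simp only [conjF, inv_inv] at h2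
    rw [← hbf]
    exact h2
  have hfC : ConjInv C(P) (subgroupBlockCoeff C(Q) f) := (sbc_conjInv_self C(Q) f).mono hCC
  have hfR : ∀ x, MemLocalRing M (subgroupBlockCoeff C(Q) f x) := sbc_memLocalRing C(Q) hM hf
  refine ⟨f, ⟨hPp.to_le hQP, hf⟩, ⟨hPp, he⟩, hQP, hPN, ?_, ?_⟩
  · intro x hx
    rw [stabilizesBlock_iff C(Q) hM hf]
    exact ⟨hNC hx, fun g => hfP x hx g⟩
  · intro ξ' hξ'
    have hidem := omega_rs_conv hMod P hPp hfP hfP hfC hfC hfR hfR ξ
    rw [conv_sbc_self] at hidem
    have hFb : F b = omega (rs C(P) (subgroupBlockCoeff C(Q) f)) (ξ : C(P) → ℂ) := by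
      simp only [hF]; rw [hbf]
    rw [← hFb] at hidem
    have h1 : MemLocalIdeal M (F b * (1 - F b)) := by
      have : F b * (1 - F b) = F b - F b * F b := by ring
      rw [this]; exact hidem
    have h2 : MemLocalIdeal M (1 - F b) := by
      rcases memLocalIdeal_of_mul_memLocalIdeal hM (hFR b)
        (memLocalRing_sub hM (memLocalRing_one hM) (hFR b)) h1 with h | h
      · exact absurd h hbJ
      · exact h
    have h3 : MemLocalIdeal M (brauerOmega P (subgroupBlockCoeff C(Q) f) (ξ : C(P) → ℂ) - 1) := by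
      rw [brauerOmega_eq_omega_rs, ← hFb]
      have := memLocalIdeal_neg h2
      rwa [neg_sub] at this
    have h4 := brauerOmega_sub_of_mem_block hM P he hfR hfC hξ hξ'
    have := memLocalIdeal_add hM h4 h3
    convert this using 1
    ring

end Normal

end Cfsg.Agent.Lib.Helper81
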