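import Mathlib
import Cfsg.Prelude.Def_BrauerPairs
import Cfsg.Agent.Lib.Helper81.BPNormal
import Cfsg.Agent.Lib.Helper21.SylowAux

set_option autoImplicit false
set_option linter.unusedSectionVars false
set_option linter.style.haveILetI false

/-!
# Brauer pairs: existence and uniqueness of the pair below a given pair on each subgroup
-/

namespace Cfsg.Agent.Lib.Helper81

open Cfsg
open Cfsg.Agent.Lib.Helper21 Cfsg.Agent.Lib.Helper82 Cfsg.Agent.Lib.Helper83

universe u
variable {G : Type u} [Group G] [Fintype G]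

local notation "C(" R ")" => Subgroup.centralizer ((R : Subgroup G) : Set G)

/-- the Brauer functional at `Q` of the idempotent of a set of characters of `C_G(Q)` itself -/
theorem brauerOmega_sbc_self (Q : Subgroup G) (f : Set (IrrCharacter C(Q)))
    [DecidablePred (· ∈ f)] (ξ : IrrCharacter C(Q)) :
    brauerOmega Q (subgroupBlockCoeff C(Q) f) (ξ : C(Q) → ℂ) = if ξ ∈ f then 1 else 0 := by
  classical
  haveI : Finite (IrrCharacter G) := irr_finite
  haveI : Fintype (IrrCharacter G) := Fintype.ofFinite _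
  haveI : Fintype C(Q) := Fintype.ofFinite _
  haveI : Finite (IrrCharacter C(Q)) := irr_finite
  haveI : Fintype (IrrCharacter C(Q)) := Fintype.ofFinite _
  rw [brauerOmega_eq_omega_rs, rs_sbc, omega_blockCoeff]

/-- a normal inclusion on the same subgroup is trivial -/
theorem normalSubpair_same {p : ℕ} [Fact p.Prime] {M : Ideal AlgInt} (hMod : IsPModular p M)
    {Q : Subgroup G} {f g : Set (IrrCharacter C(Q))} (h : IsNormalSubpair p M Q f Q g) :
    g = f := by
  classical
  have hM : M.IsPrime := hMod.2.1.isPrime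
  obtain ⟨⟨_, hf⟩, ⟨_, hg⟩, _, _, _, hbr⟩ := h
  obtain ⟨ξ, hξ⟩ := IsPBlock.nonempty hM hg
  have h1 := hbr ξ hξ
  rw [brauerOmega_sbc_self] at h1
  have hξf : ξ ∈ f := by
    by_contra hno
    rw [if_neg hno, zero_sub] at h1
    have := memLocalIdeal_neg h1
    rw [neg_neg] at this
    exact not_memLocalIdeal_one hM this
  rw [IsPBlock.eq_blockOf hM hg hξ, IsPBlock.eq_blockOf hM hf hξf]

/-- the first proper step of a chain -/
theorem exists_proper_step {p : ℕ} [Fact p.Prime] {M : Ideal AlgInt} (hMod : IsPModular p M)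
    {a b : BrauerPairIdx G} (h : Relation.ReflTransGen (NormalSubpairRel p M) a b)
    (hne : a.1 ≠ b.1) :
    ∃ c : BrauerPairIdx G, a.1 < c.1 ∧ NormalSubpairRel p M a c ∧
      Relation.ReflTransGen (NormalSubpairRel p M) c b := by
  induction h using Relation.ReflTransGen.head_induction_on with
  | refl => exact absurd rfl hne
  | head hac hcb ih =>
    rename_i a c
    by_cases hq : c.1 = a.1
    · have hca : c = a := by
        obtain ⟨Q, f⟩ := a
        obtain ⟨R, g⟩ := c
        simp only at hq
        subst hq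
        have hac' : IsNormalSubpair p M R f R g := hac
        rw [normalSubpair_same hMod hac']
      rw [hca] at ih
      exact ih hne
    · have hac' : IsNormalSubpair p M a.1 a.2 c.1 c.2 := hac
      exact ⟨c, lt_of_le_of_ne hac'.2.2.1 (Ne.symm hq), hac, hcb⟩

/-- a pair on the same subgroup below a pair is that pair -/
theorem subpairLE_same {p : ℕ} [Fact p.Prime] {M : Ideal AlgInt} (hMod : IsPModular p M)
    {P : Subgroup G} {f e : Set (IrrCharacter C(P))} (h : SubpairLE p M P f P e) : f = e := by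
  by_contra hne
  -- every step of the chain keeps the subgroup `P`
  have key : ∀ a b : BrauerPairIdx G, Relation.ReflTransGen (NormalSubpairRel p M) a b →
      a.1 = b.1 → a = b := by
    intro a b hab
    induction hab using Relation.ReflTransGen.head_induction_on with
    | refl => intro _; rfl
    | head hac hcb ih =>
      rename_i a c
      intro hab1
      have hac' : IsNormalSubpair p M a.1 a.2 c.1 c.2 := hac
      have hle1 : a.1 ≤ c.1 := hac'.2.2.1
      -- `c.1 ≤ b.1`
      have hle2 : c.1 ≤ b.1 := by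
        rcases Relation.ReflTransGen.cases_head hcb with h0 | ⟨d, hcd, hdb⟩
        · rw [h0]
        · have hcd' : IsNormalSubpair p M c.1 c.2 d.1 d.2 := hcd
          exact (reflTransGen_brauerOmega_congr hMod hcb hcd'.1.2).1
      have hc1 : c.1 = a.1 := le_antisymm (hab1 ▸ hle2) hle1
      have hca : c = a := by
        obtain ⟨Q, f⟩ := a
        obtain ⟨R, g⟩ := c
        simp only at hc1
        subst hc1
        have hac'' : IsNormalSubpair p M R f R g := hac
        rw [normalSubpair_same hMod hac'']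
      rw [← hca]
      exact ih (hca ▸ hab1)
  have := key ⟨P, f⟩ ⟨P, e⟩ h rfl
  apply hne
  have h2 := (Sigma.mk.inj_iff.1 this).2
  exact eq_of_heq h2

theorem card_lt_card_of_lt {A B : Subgroup G} (h : A < B) : Nat.card A < Nat.card B := by
  classical
  rw [Nat.card_eq_fintype_card, Nat.card_eq_fintype_card]
  exact Set.card_lt_card (SetLike.coe_ssubset_coe.2 h)

theorem card_le_card_of_le {A B : Subgroup G} (h : A ≤ B) : Nat.card A ≤ Nat.card B :=
  Subgroup.card_le_of_le h

/-- **Below a Brauer pair there is exactly one Brauer pair on each smaller subgroup.** -/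
theorem existsUnique_subpair_aux {p : ℕ} [Fact p.Prime] {M : Ideal AlgInt}
    (hMod : IsPModular p M) : ∀ n : ℕ, ∀ (P : Subgroup G) (e : Set (IrrCharacter C(P)))
      (Q : Subgroup G), IsBrauerPair p M P e → Q ≤ P → Nat.card P - Nat.card Q = n →
      ∃ f₀ : Set (IrrCharacter C(Q)), (IsPBlock M f₀ ∧ SubpairLE p M Q f₀ P e) ∧
        ∀ f : Set (IrrCharacter C(Q)), IsPBlock M f → SubpairLE p M Q f P e → f = f₀ := by
  classical
  haveI : Finite (IrrCharacter G) := irr_finite
  haveI : Fintype (IrrCharacter G) := Fintype.ofFinite _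
  have hM : M.IsPrime := hMod.2.1.isPrime
  intro n
  induction n using Nat.strong_induction_on with
  | _ n IH =>
    intro P e Q hPe hQP hn
    by_cases hQeq : Q = P
    · subst hQeq
      exact ⟨e, ⟨hPe.2, Relation.ReflTransGen.refl⟩, fun f _ hle => subpairLE_same hMod hle⟩
    · have hlt : Q < P := lt_of_le_of_ne hQP hQeq
      obtain ⟨y, hyP, hyQ, hyN⟩ := exists_mem_normalizer_not_mem_of_lt hPe.1 hlt
      set T : Subgroup G := P ⊓ Subgroup.normalizer (Q : Set G) with hT
      have hQT : Q ≤ T := le_inf hQP Subgroup.le_normalizer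
      have hQTlt : Q < T := lt_of_le_of_ne hQT (fun h => hyQ (h ▸ ⟨hyP, hyN⟩))
      have hTP : T ≤ P := inf_le_left
      have hTN : T ≤ Subgroup.normalizer (Q : Set G) := inf_le_right
      have hcQT := card_lt_card_of_lt hQTlt
      have hcTP := card_le_card_of_le hTP
      have hcQP := card_le_card_of_le hQP
      -- the pair at `T`
      obtain ⟨t, ⟨ht, htle⟩, htu⟩ := IH (Nat.card P - Nat.card T) (by omega) P e T hPe hTP rfl
      have hTt : IsBrauerPair p M T t := ⟨hPe.1.to_le hTP, ht⟩
      obtain ⟨f₀, hf₀⟩ := exists_normalSubpair hMod hTt hQT hTN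
      have hf₀b : IsPBlock M f₀ := hf₀.1.2
      have hf₀rel : NormalSubpairRel p M ⟨Q, f₀⟩ ⟨T, t⟩ := hf₀
      refine ⟨f₀, ⟨hf₀b, Relation.ReflTransGen.head hf₀rel htle⟩, fun f hf hle => ?_⟩
      -- first proper step of the chain
      obtain ⟨c, hQc, hstep, hrest⟩ := exists_proper_step hMod hle hQeq
      obtain ⟨R₁, g₁⟩ := c
      have hstep' : IsNormalSubpair p M Q f R₁ g₁ := hstep
      have hrest' : SubpairLE p M R₁ g₁ P e := hrest
      have hQR : Q < R₁ := hQc
      have hg₁ : IsPBlock M g₁ := hstep'.2.1.2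
      have hR₁P : R₁ ≤ P := subpairLE_le hMod hrest' hg₁
      have hR₁T : R₁ ≤ T := le_inf hR₁P hstep'.2.2.2.1
      have hcQR := card_lt_card_of_lt hQR
      have hcRT := card_le_card_of_le hR₁T
      -- the pair at `R₁` below `(T, t)`
      obtain ⟨g'', ⟨hg'', hg''le⟩, -⟩ :=
        IH (Nat.card T - Nat.card R₁) (by omega) T t R₁ hTt hR₁T rfl
      -- uniqueness at `R₁` below `(P, e)`
      obtain ⟨u₁, -, hu₁⟩ := IH (Nat.card P - Nat.card R₁) (by omega) P e R₁ hPe hR₁P rfl
      have e1 : g₁ = u₁ := hu₁ g₁ hg₁ hrest'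
      have e2 : g'' = u₁ := hu₁ g'' hg'' (Relation.ReflTransGen.trans hg''le htle)
      have hR₁t : SubpairLE p M R₁ g₁ T t := by rw [e1, ← e2]; exact hg''le
      -- the chain lemma for the idempotent of `f₀`
      obtain ⟨⟨hQp, _⟩, _, _, _, hstab₀, hbr₀⟩ := id hf₀
      haveI : Fintype C(Q) := Fintype.ofFinite _
      haveI : Finite (IrrCharacter C(Q)) := irr_finite
      haveI : Fintype (IrrCharacter C(Q)) := Fintype.ofFinite _
      set β : G → ℂ := subgroupBlockCoeff C(Q) f₀ with hβ
      have hβR : ∀ x, MemLocalRing M (β x) := sbc_memLocalRing C(Q) hM hf₀b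
      have hβT : ConjInv T β := fun x hx g =>
        ((stabilizesBlock_iff C(Q) hM hf₀b x).1 (hstab₀ x hx)).2 g
      have hβC : ConjInv C(R₁) β :=
        (sbc_conjInv_self C(Q) f₀).mono (Subgroup.centralizer_le hQR.le)
      have hnew : IsNormalSubpair p M Q f₀ R₁ g₁ := by
        refine ⟨⟨hQp, hf₀b⟩, hstep'.2.1, hQR.le, hstep'.2.2.2.1, fun x hx => hstab₀ x (hR₁T hx),
          fun ξ₁ hξ₁ => ?_⟩
        obtain ⟨ξt, hξt⟩ := IsPBlock.nonempty hM ht
        have h1 := subpairLE_brauerOmega_congr hMod hR₁t hg₁ hβR hβT hβC hξ₁ hξt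
        have h2 := hbr₀ ξt hξt
        have := memLocalIdeal_sub hM h2 h1
        convert this using 1
        ring
      exact normalSubpair_unique hMod hstep' hnew

/-- **Below a Brauer pair there is exactly one Brauer pair on each smaller subgroup.** -/
theorem existsUnique_subpair {p : ℕ} [Fact p.Prime] {M : Ideal AlgInt}
    (hMod : IsPModular p M) {P Q : Subgroup G} {e : Set (IrrCharacter C(P))}
    (hPe : IsBrauerPair p M P e) (hQP : Q ≤ P) :
    ∃! f : Set (IrrCharacter C(Q)), IsPBlock M f ∧ SubpairLE p M Q f P e := by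
  obtain ⟨f₀, h1, h2⟩ := existsUnique_subpair_aux hMod _ P e Q hPe hQP rfl
  exact ⟨f₀, h1, fun f hf => h2 f hf.1 hf.2⟩

end Cfsg.Agent.Lib.Helper81
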