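import Mathlib
import Cfsg.Agent.Lib.Helper99.OTsDefs

/-!
# K-OTs pack (S5973 + S5987, architect helper99), leaf O10 (keystone 597310): `exists_prod_model`

Orthogonal sum `V × V0'`, `Q = Q1.prod Q0`, `y = y1 × id` of a model without fixed vectors and a fixed part.
-/

set_option autoImplicit false
set_option linter.unusedSimpArgs false
set_option linter.unusedSectionVars false
set_option linter.unusedVariables false

namespace Cfsg.Agent.Lib.Helper81.OTs

open Module Cfsg.Agent.Lib.Helper98.Elus Cfsg.Agent.Lib.Helper98.Sy Cfsg.Agent.Lib.Helper99.OTs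
open scoped Matrix MatrixGroups

universe u
variable {F : Type u} [Field F] {V : Type u} [AddCommGroup V] [Module F V]

section aux

variable {V0' : Type u} [AddCommGroup V0'] [Module F V0']

/-- the map `y × id` on `V × V0'` -/
def prodY (V0' : Type u) [AddCommGroup V0'] [Module F V0'] (y : V →ₗ[F] V) :
    (V × V0') →ₗ[F] (V × V0') :=
  LinearMap.prodMap y LinearMap.id

theorem prodY_apply (y : V →ₗ[F] V) (v : V × V0') : prodY V0' y v = (y v.1, v.2) := rfl

theorem prodY_pow (y : V →ₗ[F] V) (k : ℕ) (v : V × V0') :
    (prodY V0' y ^ k) v = ((y ^ k) v.1, v.2) := by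
  induction k generalizing v with
  | zero => simp
  | succ k ih =>
    rw [pow_succ, Module.End.mul_apply, ih, prodY_apply, pow_succ, Module.End.mul_apply]

theorem gsum_prodY (r : ℕ) (y : V →ₗ[F] V) (v : V × V0') :
    gsum r (prodY V0' y) v = (gsum r y v.1, (r : F) • v.2) := by
  rw [gsum_apply, gsum_apply]
  simp only [prodY_pow]
  ext
  · rw [Prod.fst_sum]
  · rw [Prod.snd_sum]
    simp only [Finset.sum_const, Finset.card_range]
    rw [Nat.cast_smul_eq_nsmul]

theorem prodQ_apply (Q1 : QuadraticForm F V) (Q0 : QuadraticForm F V0') (v : V × V0') :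
    (Q1.prod Q0) v = Q1 v.1 + Q0 v.2 := rfl

theorem polar_prodQ (Q1 : QuadraticForm F V) (Q0 : QuadraticForm F V0') (u v : V × V0') :
    QuadraticMap.polarBilin (Q1.prod Q0) u v =
      QuadraticMap.polarBilin Q1 u.1 v.1 + QuadraticMap.polarBilin Q0 u.2 v.2 :=
  QuadraticMap.polar_prod Q1 Q0 u v

end aux

/-- O10 (597310). -/
theorem exists_prod_model [FiniteDimensional F V] (Q1 : QuadraticForm F V) (hV1 : NonDeg (QuadraticMap.polarBilin Q1) ⊤)
    (r : ℕ) (hr : Odd r) (hrF : (r : F) ≠ 0) (y1 : V →ₗ[F] V) (hy : y1 ^ r = 1) (hiso : QIso Q1 y1) (hg : ∀ v, gsum r y1 v = 0)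
    {V0' : Type u} [AddCommGroup V0'] [Module F V0'] [FiniteDimensional F V0'] (Q0 : QuadraticForm F V0')
    (hV0 : NonDeg (QuadraticMap.polarBilin Q0) ⊤) :
    ∃ (V' : Type u) (_ : AddCommGroup V') (_ : Module F V') (_ : FiniteDimensional F V')
      (Q : QuadraticForm F V') (y : V' →ₗ[F] V'),
      NonDeg (QuadraticMap.polarBilin Q) ⊤ ∧ QIso Q y ∧ y ^ r = 1 ∧
      finrank F V' = finrank F V + finrank F V0' ∧
      finrank F (V1 r y) = finrank F V ∧ finrank F (V0 y) = finrank F V0' ∧
      (PlusOn Q (V0 y) ↔ PlusOn Q0 ⊤) ∧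
      ((∃ v, y1 v ≠ v) → ∀ z : F, y ≠ z • 1) ∧
      ((∀ W : Submodule F V, Inv y1 W → TS Q1 W → W = ⊥) →
        ∀ W : Submodule F V', W ≤ V1 r y → Inv y W → TS Q W → W = ⊥) := by
  classical
  have hfix : ∀ v : V, y1 v = v → v = 0 := by
    intro v hv
    have h1 := hg v
    rw [gsum_apply_of_mem_V0 r y1 v ((mem_V0 y1 v).mpr hv)] at h1
    rcases smul_eq_zero.mp h1 with h | h
    · exact absurd h hrF
    · exact h
  -- the two summands
  have hV1eq : V1 r (prodY V0' y1) = LinearMap.range (LinearMap.inl F V V0') := by
    ext v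
    rw [mem_V1, gsum_prodY, LinearMap.mem_range]
    constructor
    · intro h
      have h3 : (r : F) • v.2 = 0 := congrArg Prod.snd h
      have h4 : v.2 = 0 := by
        rcases smul_eq_zero.mp h3 with h | h
        · exact absurd h hrF
        · exact h
      exact ⟨v.1, Prod.ext rfl h4.symm⟩
    · rintro ⟨a, rfl⟩
      simp [hg]
  have hV0eq : V0 (prodY V0' y1) = LinearMap.range (LinearMap.inr F V V0') := by
    ext v
    rw [mem_V0, prodY_apply, LinearMap.mem_range]
    constructor
    · intro h
      have h3 : y1 v.1 = v.1 := congrArg Prod.fst h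
      exact ⟨v.2, Prod.ext (hfix v.1 h3).symm rfl⟩
    · rintro ⟨a, rfl⟩
      simp
  have hV0rank : finrank F (V0 (prodY V0' y1)) = finrank F V0' := by
    rw [hV0eq, LinearMap.finrank_range_of_inj LinearMap.inr_injective]
  refine ⟨V × V0', inferInstance, inferInstance, inferInstance, Q1.prod Q0, prodY V0' y1,
    ?_, ?_, ?_, ?_, ?_, hV0rank, ?_, ?_, ?_⟩
  · -- nondegenerate
    intro u _ h
    have h1 : u.1 = 0 := by
      apply hV1 u.1 Submodule.mem_top
      intro w _
      have := h (w, 0) Submodule.mem_top
      rw [polar_prodQ] at this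
      simpa using this
    have h2 : u.2 = 0 := by
      apply hV0 u.2 Submodule.mem_top
      intro w _
      have := h (0, w) Submodule.mem_top
      rw [polar_prodQ] at this
      simpa using this
    exact Prod.ext h1 h2
  · -- isometry
    intro v
    rw [prodQ_apply, prodQ_apply, prodY_apply]
    simp only [hiso _]
  · -- order
    apply LinearMap.ext
    intro v
    rw [prodY_pow, hy]
    rfl
  · rw [Module.finrank_prod]
  · rw [hV1eq, LinearMap.finrank_range_of_inj LinearMap.inl_injective]
  · -- type of the fixed part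
    constructor
    · rintro ⟨Z, hZle, hZts, hZd⟩
      refine ⟨Z.comap (LinearMap.inr F V V0'), le_top, ?_, ?_⟩
      · intro w hw
        rw [Submodule.mem_comap] at hw
        have h1 := hZts _ hw
        rw [prodQ_apply] at h1
        simpa using h1
      · have hmap : (Z.comap (LinearMap.inr F V V0')).map (LinearMap.inr F V V0') = Z := by
          rw [Submodule.map_comap_eq, inf_eq_right, ← hV0eq]
          exact hZle
        have h1 : finrank F ↥(Z.comap (LinearMap.inr F V V0')) = finrank F ↥Z := by
          have h2 := (Submodule.equivMapOfInjective (LinearMap.inr F V V0')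
            LinearMap.inr_injective (Z.comap (LinearMap.inr F V V0'))).finrank_eq
          rw [hmap] at h2
          exact h2
        rw [h1, hZd, hV0rank, finrank_top]
    · rintro ⟨Z0, -, hZts, hZd⟩
      refine ⟨Z0.map (LinearMap.inr F V V0'), ?_, ?_, ?_⟩
      · rw [hV0eq]
        exact LinearMap.map_le_range
      · intro w hw
        obtain ⟨a, ha, rfl⟩ := (Submodule.mem_map).mp hw
        rw [prodQ_apply]
        simp [hZts a ha]
      · have h1 : finrank F ↥(Z0.map (LinearMap.inr F V V0')) = finrank F ↥Z0 :=
          (Submodule.equivMapOfInjective (LinearMap.inr F V V0')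
            LinearMap.inr_injective Z0).finrank_eq.symm
        rw [h1, hZd, hV0rank, finrank_top]
  · -- non-scalar
    rintro ⟨v, hv⟩ z hz
    have hy1z : ∀ a : V, y1 a = z • a := by
      intro a
      have h1 := congrArg (fun g : (V × V0') →ₗ[F] (V × V0') => (g (a, 0)).1) hz
      simpa [prodY_apply] using h1
    have hv0 : v ≠ 0 := by
      rintro rfl
      exact hv (by simp)
    have hw : ∃ w, QuadraticMap.polarBilin Q1 v w ≠ 0 := by
      by_contra hcon
      apply hv0
      apply hV1 v Submodule.mem_top
      intro w _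
      by_contra h
      exact hcon ⟨w, h⟩
    obtain ⟨w, hw⟩ := hw
    have h1 : QuadraticMap.polarBilin Q1 (y1 v) (y1 w) = QuadraticMap.polarBilin Q1 v w :=
      hiso.iso v w
    rw [hy1z v, hy1z w] at h1
    have h1' : z * (z * QuadraticMap.polarBilin Q1 v w) = QuadraticMap.polarBilin Q1 v w := by
      have h2 : QuadraticMap.polarBilin Q1 (z • v) (z • w) =
          z * (z * QuadraticMap.polarBilin Q1 v w) := by
        simp only [map_smul, LinearMap.smul_apply, smul_eq_mul]
      rw [← h2]
      exact h1
    have hz2 : z * z = 1 := by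
      have h2 : (z * z - 1) * QuadraticMap.polarBilin Q1 v w = 0 := by
        rw [sub_mul, one_mul, mul_assoc, h1', sub_self]
      rcases mul_eq_zero.mp h2 with h | h
      · exact sub_eq_zero.mp h
      · exact absurd h hw
    have hpow : ∀ k : ℕ, (y1 ^ k) v = z ^ k • v := by
      intro k
      induction k with
      | zero => simp
      | succ k ih =>
        rw [pow_succ', Module.End.mul_apply, ih, map_smul, hy1z, smul_smul, pow_succ]
    have hzr : z ^ r = 1 := by
      have h2 := hpow r
      rw [hy, Module.End.one_apply] at h2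
      have h3 : (z ^ r - 1) • v = 0 := by rw [sub_smul, one_smul, ← h2, sub_self]
      rcases smul_eq_zero.mp h3 with h | h
      · exact sub_eq_zero.mp h
      · exact absurd h hv0
    obtain ⟨k, hk⟩ := hr
    have hz1 : z = 1 := by
      have h2 : z ^ r = z := by rw [hk, pow_succ, pow_mul, sq, hz2, one_pow, one_mul]
      rw [← h2]
      exact hzr
    apply hv
    rw [hy1z, hz1, one_smul]
  · -- no invariant totally singular subspace in `V1`
    intro hZ W hW1 hWinv hWts
    have hsnd : ∀ v ∈ W, v.2 = 0 := by
      intro v hv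
      have h1 := hW1 hv
      rw [hV1eq] at h1
      obtain ⟨a, rfl⟩ := h1
      rfl
    have hZbot : W.comap (LinearMap.inl F V V0') = ⊥ := by
      apply hZ
      · intro v hv
        rw [Submodule.mem_comap] at hv ⊢
        have := hWinv _ hv
        rw [prodY_apply] at this
        simpa using this
      · intro v hv
        rw [Submodule.mem_comap] at hv
        have := hWts _ hv
        rw [prodQ_apply] at this
        simpa using this
    rw [eq_bot_iff]
    intro v hv
    have h2 := hsnd v hv
    have h1 : v.1 ∈ W.comap (LinearMap.inl F V V0') := by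
      rw [Submodule.mem_comap]
      have : (LinearMap.inl F V V0') v.1 = v := Prod.ext rfl h2.symm
      rw [this]
      exact hv
    rw [hZbot, Submodule.mem_bot] at h1
    rw [Submodule.mem_bot]
    exact Prod.ext h1 h2

end Cfsg.Agent.Lib.Helper81.OTs
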