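import Mathlib
import Cfsg.Agent.Lib.Helper06.Hall4.Defs

/-!
# K-H4 pack (S4221, architect helper6), leaf D1 (keystone 422114): `card_D_eq_four_mul`

`|G ⊓ C(x,y)| = 4 |FS G {a,b,c,d} ⊓ C(x,y)|`: orbit-stabilizer for `D = G ⊓ C(x,y)` acting on pairs.
-/

set_option autoImplicit false
open Equiv

namespace Cfsg.Agent.Lib.Helper81.Hall4
open Cfsg.Agent.Lib.Helper06.Hall4

variable {α : Type*} [Fintype α] [DecidableEq α]

theorem d1_ncard_four {β : Type*} {a b c d : β} (hab : a ≠ b) (hac : a ≠ c) (had : a ≠ d)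
    (hbc : b ≠ c) (hbd : b ≠ d) (hcd : c ≠ d) : ({a, b, c, d} : Set β).ncard = 4 := by
  have h1 : c ∉ ({d} : Set β) := by simp [hcd]
  have h2 : b ∉ ({c, d} : Set β) := by simp [hbc, hbd]
  have h3 : a ∉ ({b, c, d} : Set β) := by simp [hab, hac, had]
  rw [Set.ncard_insert_of_notMem h3, Set.ncard_insert_of_notMem h2, Set.ncard_insert_of_notMem h1,
    Set.ncard_singleton]

/-- a fixed point of `x` moved by `y` is `a` or `b` -/
theorem d1_fix_cases {x y : Perm α} {a b : α} (hab : a ≠ b) (y2 : y * y = 1)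
    (comm : x * y = y * x) (xa : x a = a) (xb : x b = b) (ya : y a = b) (yb : y b = a)
    (hfx : nfix x ≤ 3) {p : α} (hp : x p = p) (hyp : y p ≠ p) : p = a ∨ p = b := by
  by_contra hcon
  have hpa : p ≠ a := fun h => hcon (Or.inl h)
  have hpb : p ≠ b := fun h => hcon (Or.inr h)
  have hyy : ∀ q, y (y q) = q := fun q => by
    have h1 := congrArg (fun f : Perm α => f q) y2
    simpa [Perm.mul_apply] using h1
  have hxy : ∀ q, x (y q) = y (x q) := fun q => by
    have h1 := congrArg (fun f : Perm α => f q) comm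
    simpa [Perm.mul_apply] using h1
  have hypa : y p ≠ a := by
    intro h
    apply hpb
    rw [← hyy p, h, ya]
  have hypb : y p ≠ b := by
    intro h
    apply hpa
    rw [← hyy p, h, yb]
  have hsub : ({a, b, p, y p} : Set α) ⊆ Function.fixedPoints x := by
    intro q hq
    simp only [Set.mem_insert_iff, Set.mem_singleton_iff] at hq
    rcases hq with rfl | rfl | rfl | rfl
    · exact xa
    · exact xb
    · exact hp
    · show x (y p) = y p
      rw [hxy, hp]
  have hcard : ({a, b, p, y p} : Set α).ncard = 4 :=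
    d1_ncard_four hab (Ne.symm hpa) (Ne.symm hypa) (Ne.symm hpb) (Ne.symm hypb) (Ne.symm hyp)
  have hle := Set.ncard_le_ncard hsub (Set.toFinite _)
  unfold nfix at hfx
  omega

/-- LEAF D1 (422114). -/
theorem card_D_eq_four_mul (G : Subgroup (Perm α)) {a b c d : α} {x y : Perm α}
    (hV : VData G a b c d x y) (hfx : nfix x ≤ 3) (hfy : nfix y ≤ 3) :
    Nat.card (G ⊓ Subgroup.centralizer {x, y} : Subgroup (Perm α)) =
      4 * Nat.card (FS G {a, b, c, d} ⊓ Subgroup.centralizer {x, y} : Subgroup (Perm α)) := by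
  classical
  set D : Subgroup (Perm α) := G ⊓ Subgroup.centralizer {x, y} with hD
  have hDx : ∀ g ∈ D, ∀ p, x (g p) = g (x p) := by
    intro g hg p
    have h1 := (mem_centralizer_pair.mp (Subgroup.mem_inf.mp hg).2).1
    have h2 := congrArg (fun f : Perm α => f p) h1
    simpa [Perm.mul_apply] using h2
  have hDy : ∀ g ∈ D, ∀ p, y (g p) = g (y p) := by
    intro g hg p
    have h1 := (mem_centralizer_pair.mp (Subgroup.mem_inf.mp hg).2).2
    have h2 := congrArg (fun f : Perm α => f p) h1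
    simpa [Perm.mul_apply] using h2
  have hxD : x ∈ D :=
    Subgroup.mem_inf.mpr ⟨hV.hx, mem_centralizer_pair.mpr ⟨rfl, hV.comm.symm⟩⟩
  have hyD : y ∈ D :=
    Subgroup.mem_inf.mpr ⟨hV.hy, mem_centralizer_pair.mpr ⟨hV.comm, rfl⟩⟩
  have hga : ∀ g ∈ D, g a = a ∨ g a = b := by
    intro g hg
    apply d1_fix_cases hV.hab hV.y2 hV.comm hV.xa hV.xb hV.ya hV.yb hfx
    · rw [hDx g hg, hV.xa]
    · rw [hDy g hg, hV.ya]
      exact fun h => hV.hab (g.injective h).symm
  have hgc : ∀ g ∈ D, g c = c ∨ g c = d := by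
    intro g hg
    apply d1_fix_cases (x := y) (y := x) hV.hcd hV.x2 hV.comm.symm hV.yc hV.yd hV.xc hV.xd hfy
    · rw [hDy g hg, hV.yc]
    · rw [hDx g hg, hV.xc]
      exact fun h => hV.hcd (g.injective h).symm
  -- the orbit of `(a, c)`
  have horb : MulAction.orbit ↥D ((a, c) : α × α) = {(a, c), (a, d), (b, c), (b, d)} := by
    ext q
    constructor
    · rintro ⟨g, rfl⟩
      show ((g : Perm α) a, (g : Perm α) c) ∈ ({(a, c), (a, d), (b, c), (b, d)} : Set (α × α))
      rcases hga g g.2 with h | h <;> rcases hgc g g.2 with h' | h' <;> simp [h, h']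
    · intro hq
      simp only [Set.mem_insert_iff, Set.mem_singleton_iff] at hq
      rcases hq with rfl | rfl | rfl | rfl
      · exact ⟨1, one_smul _ _⟩
      · refine ⟨⟨x, hxD⟩, ?_⟩
        show (x a, x c) = (a, d)
        rw [hV.xa, hV.xc]
      · refine ⟨⟨y, hyD⟩, ?_⟩
        show (y a, y c) = (b, c)
        rw [hV.ya, hV.yc]
      · refine ⟨⟨x * y, D.mul_mem hxD hyD⟩, ?_⟩
        show ((x * y) a, (x * y) c) = (b, d)
        rw [Perm.mul_apply, Perm.mul_apply, hV.ya, hV.xb, hV.yc, hV.xc]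
  -- the stabilizer of `(a, c)`
  have hstab : (MulAction.stabilizer ↥D ((a, c) : α × α)).map D.subtype =
      FS G {a, b, c, d} ⊓ Subgroup.centralizer {x, y} := by
    ext g
    constructor
    · rintro ⟨h, hh, rfl⟩
      have h1 : ((h : Perm α) a, (h : Perm α) c) = (a, c) := hh
      have ha : (h : Perm α) a = a := congrArg Prod.fst h1
      have hc : (h : Perm α) c = c := congrArg Prod.snd h1
      have hhD : (h : Perm α) ∈ D := h.2
      refine Subgroup.mem_inf.mpr ⟨⟨(Subgroup.mem_inf.mp hhD).1, ?_⟩, (Subgroup.mem_inf.mp hhD).2⟩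
      intro s hs
      simp only [Set.mem_insert_iff, Set.mem_singleton_iff] at hs
      rcases hs with rfl | rfl | rfl | rfl
      · exact ha
      · have h2 := hDy _ hhD a
        rw [ha, hV.ya] at h2
        exact h2.symm
      · exact hc
      · have h2 := hDx _ hhD c
        rw [hc, hV.xc] at h2
        exact h2.symm
    · intro hg
      obtain ⟨hg1, hg2⟩ := Subgroup.mem_inf.mp hg
      have hgD : g ∈ D := Subgroup.mem_inf.mpr ⟨hg1.1, hg2⟩
      refine ⟨⟨g, hgD⟩, ?_, rfl⟩
      show (g a, g c) = (a, c)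
      rw [hg1.2 a (by simp), hg1.2 c (by simp)]
  have hcard1 := Subgroup.card_mul_index (MulAction.stabilizer ↥D ((a, c) : α × α))
  have h4 : ({(a, c), (a, d), (b, c), (b, d)} : Set (α × α)).ncard = 4 := by
    apply d1_ncard_four
    · simp [hV.hcd]
    · simp [hV.hab]
    · simp [hV.hab]
    · simp [hV.hab]
    · simp [hV.hab]
    · simp [hV.hcd]
  rw [MulAction.index_stabilizer, horb, h4] at hcard1
  have hcard2 : Nat.card ((MulAction.stabilizer ↥D ((a, c) : α × α)).map D.subtype) =
      Nat.card (MulAction.stabilizer ↥D ((a, c) : α × α)) :=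
    Subgroup.card_map_of_injective D.subtype_injective
  rw [hstab] at hcard2
  rw [← hcard1, ← hcard2]
  ring

end Cfsg.Agent.Lib.Helper81.Hall4
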