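import Mathlib
import Cfsg.Agent.Lib.Helper06.NFDefs

set_option autoImplicit false

/-!
# K-S0688-4b: `H / C_H(A)` embeds in `Gal(K / F_p)`, `K = F_p[A]`
-/

namespace Cfsg.Agent.Lib.Helper81.NF

open Cfsg.Agent.Lib.Helper06.NF

/-- abstract: the kernel of a hom into the automorphism group of a finite field over `ZMod p`
has index dividing the degree. -/
theorem index_ker_dvd_finrank {p : ℕ} [Fact p.Prime] {K : Type*} [Field K] [Finite K]
    [Algebra (ZMod p) K] {H : Type*} [Group H] (φ : H →* (K ≃ₐ[ZMod p] K)) :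
    φ.ker.index ∣ Module.finrank (ZMod p) K := by
  have h1 : φ.ker.index = Nat.card φ.range := Subgroup.index_ker φ
  have h2 : Nat.card φ.range ∣ Nat.card (K ≃ₐ[ZMod p] K) := Subgroup.card_subgroup_dvd_card _
  have h3 : Nat.card (K ≃ₐ[ZMod p] K) = Module.finrank (ZMod p) K :=
    IsGalois.card_aut_eq_finrank _ _
  rw [h1, ← h3]; exact h2

section Linear

variable {p : ℕ} [Fact p.Prime] {V : Type*} [AddCommGroup V] [Module (ZMod p) V]

/-- conjugation by `h` maps `adj H A` into itself (for normal `A`). -/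
theorem conj_mem_adj (H : Subgroup (V ≃ₗ[ZMod p] V)) (A : Subgroup H) (hAn : A.Normal) (h : H)
    (k : Module.End (ZMod p) V) (hk : k ∈ adj H A) :
    ((h : V ≃ₗ[ZMod p] V).conjAlgEquiv (ZMod p)) k ∈ adj H A := by
  have hmap : (adj H A).map (((h : V ≃ₗ[ZMod p] V).conjAlgEquiv (ZMod p)) :
      Module.End (ZMod p) V →ₐ[ZMod p] Module.End (ZMod p) V) ≤ adj H A := by
    unfold adj
    rw [AlgHom.map_adjoin]
    apply Algebra.adjoin_mono
    rintro f ⟨g, ⟨a, ha, rfl⟩, rfl⟩
    refine ⟨⟨h * a * h⁻¹, ?_⟩, hAn.conj_mem a ha h, ?_⟩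
    · exact H.mul_mem (H.mul_mem h.2 a.2) (H.inv_mem h.2)
    · ext v
      simp [LinearEquiv.conjAlgEquiv_apply]
  exact hmap (Subalgebra.mem_map.2 ⟨k, hk, rfl⟩)

/-- conjugation by `h`, restricted to `adj H A`. -/
noncomputable def conjHom (H : Subgroup (V ≃ₗ[ZMod p] V)) (A : Subgroup H) (hAn : A.Normal)
    (h : H) : adj H A →ₐ[ZMod p] adj H A :=
  (((((h : V ≃ₗ[ZMod p] V).conjAlgEquiv (ZMod p)) :
      Module.End (ZMod p) V →ₐ[ZMod p] Module.End (ZMod p) V).comp (adj H A).val).codRestrict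
    (adj H A) (fun k => conj_mem_adj H A hAn h k.1 k.2))

theorem conjHom_apply (H : Subgroup (V ≃ₗ[ZMod p] V)) (A : Subgroup H) (hAn : A.Normal)
    (h : H) (k : adj H A) (v : V) :
    ((conjHom H A hAn h k : adj H A) : Module.End (ZMod p) V) v
      = (h : V ≃ₗ[ZMod p] V) ((k : Module.End (ZMod p) V) ((h : V ≃ₗ[ZMod p] V).symm v)) := rfl

theorem conjHom_mul (H : Subgroup (V ≃ₗ[ZMod p] V)) (A : Subgroup H) (hAn : A.Normal)
    (h₁ h₂ : H) : conjHom H A hAn (h₁ * h₂) = (conjHom H A hAn h₁).comp (conjHom H A hAn h₂) := by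
  ext k v
  simp only [AlgHom.comp_apply, conjHom_apply]
  rfl

theorem conjHom_one (H : Subgroup (V ≃ₗ[ZMod p] V)) (A : Subgroup H) (hAn : A.Normal) :
    conjHom H A hAn 1 = AlgHom.id (ZMod p) (adj H A) := by
  ext k v
  simp only [conjHom_apply, AlgHom.id_apply]
  rfl

/-- conjugation by `h` as an algebra automorphism of `adj H A`. -/
noncomputable def conjEquiv (H : Subgroup (V ≃ₗ[ZMod p] V)) (A : Subgroup H) (hAn : A.Normal)
    (h : H) : adj H A ≃ₐ[ZMod p] adj H A :=
  AlgEquiv.ofAlgHom (conjHom H A hAn h) (conjHom H A hAn h⁻¹)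
    (by rw [← conjHom_mul, mul_inv_cancel, conjHom_one])
    (by rw [← conjHom_mul, inv_mul_cancel, conjHom_one])

/-- the conjugation action as a group hom `H →* Aut(adj H A)`. -/
noncomputable def conjMonoidHom (H : Subgroup (V ≃ₗ[ZMod p] V)) (A : Subgroup H)
    (hAn : A.Normal) : H →* (adj H A ≃ₐ[ZMod p] adj H A) where
  toFun := conjEquiv H A hAn
  map_one' := by
    ext k : 1
    show conjHom H A hAn 1 k = k
    rw [conjHom_one]; rfl
  map_mul' h₁ h₂ := by
    ext k : 1
    show conjHom H A hAn (h₁ * h₂) k = conjHom H A hAn h₁ (conjHom H A hAn h₂ k)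
    rw [conjHom_mul]; rfl

theorem ker_conjMonoidHom_le (H : Subgroup (V ≃ₗ[ZMod p] V)) (A : Subgroup H)
    (hAn : A.Normal) : (conjMonoidHom H A hAn).ker ≤ Subgroup.centralizer (A : Set H) := by
  intro h hh
  rw [MonoidHom.mem_ker] at hh
  rw [Subgroup.mem_centralizer_iff]
  intro a ha
  have hmem : (((a : H) : V ≃ₗ[ZMod p] V) : Module.End (ZMod p) V) ∈ adj H A :=
    Algebra.subset_adjoin ⟨a, ha, rfl⟩
  have h1 : conjMonoidHom H A hAn h ⟨_, hmem⟩ = ⟨_, hmem⟩ := by rw [hh]; rfl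
  have h2 : ∀ v : V, (h : V ≃ₗ[ZMod p] V) (((a : H) : V ≃ₗ[ZMod p] V)
      ((h : V ≃ₗ[ZMod p] V).symm v)) = ((a : H) : V ≃ₗ[ZMod p] V) v := by
    intro v
    have := congrArg (fun k : adj H A => (k : Module.End (ZMod p) V) v) h1
    exact this
  apply Subtype.ext
  apply LinearEquiv.ext
  intro v
  have := h2 ((h : V ≃ₗ[ZMod p] V) v)
  simp only [LinearEquiv.symm_apply_apply] at this
  show ((a : H) : V ≃ₗ[ZMod p] V) ((h : V ≃ₗ[ZMod p] V) v)
    = (h : V ≃ₗ[ZMod p] V) (((a : H) : V ≃ₗ[ZMod p] V) v)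
  exact this.symm

/-- `adj H A` is a field when its nonzero elements act injectively. -/
theorem isField_adj [Finite V] [Nontrivial V] (H : Subgroup (V ≃ₗ[ZMod p] V))
    (A : Subgroup H) (hAc : ∀ a ∈ A, ∀ b ∈ A, a * b = b * a)
    (hK : ∀ k ∈ adj H A, ∀ v : V, v ≠ 0 → k v = 0 → k = 0) : IsField (adj H A) := by
  classical
  have : Finite (Module.End (ZMod p) V) :=
    Finite.of_injective (fun f : Module.End (ZMod p) V => (f : V → V))
      (fun _ _ h => LinearMap.ext (congrFun h))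
  have hgen : ∀ f ∈ {f : Module.End (ZMod p) V | ∃ a ∈ A, f =
      (((a : H) : V ≃ₗ[ZMod p] V) : V →ₗ[ZMod p] V)}, ∀ g ∈ {f : Module.End (ZMod p) V | ∃ a ∈ A, f =
      (((a : H) : V ≃ₗ[ZMod p] V) : V →ₗ[ZMod p] V)}, Commute f g := by
    rintro f ⟨a, ha, rfl⟩ g ⟨b, hb, rfl⟩
    have hab := hAc a ha b hb
    have hab' : ((a : H) : V ≃ₗ[ZMod p] V) * ((b : H) : V ≃ₗ[ZMod p] V)
        = ((b : H) : V ≃ₗ[ZMod p] V) * ((a : H) : V ≃ₗ[ZMod p] V) := by
      have := congrArg (fun x : H => (x : V ≃ₗ[ZMod p] V)) hab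
      simpa using this
    ext v
    have := congrArg (fun x : V ≃ₗ[ZMod p] V => x v) hab'
    simpa using this
  have hcommEnd : ∀ x ∈ adj H A, ∀ y ∈ adj H A, Commute x y := fun x hx y hy =>
    Algebra.commute_of_mem_adjoin_of_forall_mem_commute hy (fun b hb =>
      (Algebra.commute_of_mem_adjoin_of_forall_mem_commute hx (fun a ha => hgen b hb a ha)).symm)
  refine ⟨⟨0, 1, ?_⟩, ?_, ?_⟩
  · intro h01
    obtain ⟨v, hv⟩ := exists_ne (0 : V)
    have := congrArg (fun k : adj H A => (k : Module.End (ZMod p) V) v) h01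
    simp at this
    exact hv this.symm
  · intro x y
    exact Subtype.ext (hcommEnd x.1 x.2 y.1 y.2)
  · intro a ha
    have hinj : Function.Injective (fun k : adj H A => a * k) := by
      intro k₁ k₂ hk
      by_contra hne
      have hd : k₁ - k₂ ≠ 0 := sub_ne_zero.2 hne
      have hd' : ((k₁ - k₂ : adj H A) : Module.End (ZMod p) V) ≠ 0 := by
        intro h0; exact hd (Subtype.ext h0)
      obtain ⟨v, hv⟩ : ∃ v : V, ((k₁ - k₂ : adj H A) : Module.End (ZMod p) V) v ≠ 0 := by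
        by_contra hall
        push Not at hall
        exact hd' (LinearMap.ext hall)
      have h0 : a * (k₁ - k₂) = 0 := by
        have hk' : a * k₁ = a * k₂ := hk
        rw [mul_sub, hk', sub_self]
      have h1 : (a : Module.End (ZMod p) V) (((k₁ - k₂ : adj H A) : Module.End (ZMod p) V) v) = 0 := by
        have := congrArg (fun k : adj H A => (k : Module.End (ZMod p) V) v) h0
        simpa using this
      have := hK a.1 a.2 _ hv h1
      exact ha (Subtype.ext this)
    have hsurj : Function.Surjective (fun k : adj H A => a * k) :=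
      Finite.surjective_of_injective hinj
    obtain ⟨b, hb⟩ := hsurj 1
    exact ⟨b, hb⟩

/-- K-S0688-4b (Galois). -/
theorem index_centralizer_dvd_finrank [Finite V] [Nontrivial V] (H : Subgroup (V ≃ₗ[ZMod p] V))
    (A : Subgroup H) (hAn : A.Normal) (hAc : ∀ a ∈ A, ∀ b ∈ A, a * b = b * a)
    (hK : ∀ k ∈ adj H A, ∀ v : V, v ≠ 0 → k v = 0 → k = 0) :
    (Subgroup.centralizer (A : Set H)).index ∣ Module.finrank (ZMod p) (adj H A) := by
  classical
  have : Finite (Module.End (ZMod p) V) :=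
    Finite.of_injective (fun f : Module.End (ZMod p) V => (f : V → V))
      (fun _ _ h => LinearMap.ext (congrFun h))
  have hF : IsField (adj H A) := isField_adj H A hAc hK
  have key := @index_ker_dvd_finrank p _ (adj H A) hF.toField inferInstance
    (Subalgebra.algebra (adj H A)) H _ (conjMonoidHom H A hAn)
  exact (Subgroup.index_dvd_of_le (ker_conjMonoidHom_le H A hAn)).trans key

end Linear

end Cfsg.Agent.Lib.Helper81.NF
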