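import Mathlib
import Cfsg.Agent.Lib.Helper01.Basic

set_option autoImplicit false

/-!
# K-S3361-Q: `Q` normal nonabelian of order 8 with `C(Q) = A` gives `|Q ⊔ A| = 4 |A|`
-/

namespace Cfsg.Agent.Lib.Helper81.NF

variable {H : Type*} [Group H] [Finite H]

/-- the centre of a nonabelian group of order 8 has order 2. -/
theorem card_center_of_card_eight {Q : Type*} [Group Q] [Finite Q] (hQ8 : Nat.card Q = 8)
    (hQna : ∃ u v : Q, u * v ≠ v * u) : Nat.card (Subgroup.center Q) = 2 := by
  have hp : IsPGroup 2 Q := IsPGroup.of_card (n := 3) (by rw [hQ8]; norm_num)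
  have : Fact (Nat.Prime 2) := ⟨Nat.prime_two⟩
  have : Nontrivial Q := by
    rw [← Finite.one_lt_card_iff_nontrivial, hQ8]; norm_num
  have hnt : Nontrivial (Subgroup.center Q) := hp.center_nontrivial
  have h1 : 1 < Nat.card (Subgroup.center Q) := Finite.one_lt_card_iff_nontrivial.2 hnt
  have hdvd : Nat.card (Subgroup.center Q) ∣ 8 := by
    rw [← hQ8]; exact Subgroup.card_subgroup_dvd_card _
  have hle : Nat.card (Subgroup.center Q) ≤ 8 := Nat.le_of_dvd (by norm_num) hdvd
  have hne8 : Nat.card (Subgroup.center Q) ≠ 8 := by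
    intro h8
    have htop : Subgroup.center Q = ⊤ := Subgroup.eq_top_of_card_eq _ (by rw [h8, hQ8])
    obtain ⟨u, v, huv⟩ := hQna
    have hu : u ∈ Subgroup.center Q := by rw [htop]; trivial
    exact huv ((Subgroup.mem_center_iff.1 hu v).symm)
  have hne4 : Nat.card (Subgroup.center Q) ≠ 4 := by
    intro h4
    have hidx : (Subgroup.center Q).index = 2 := by
      have := (Subgroup.center Q).card_mul_index
      rw [h4, hQ8] at this
      omega
    have hcardq : Nat.card (Q ⧸ Subgroup.center Q) = 2 := hidx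
    have : IsCyclic (Q ⧸ Subgroup.center Q) := isCyclic_of_prime_card hcardq
    obtain ⟨u, v, huv⟩ := hQna
    apply huv
    have hcomm : IsMulCommutative Q :=
      MonoidHom.isMulCommutative_of_isCyclic_of_ker_le_center
        (QuotientGroup.mk' (Subgroup.center Q)) (by rw [QuotientGroup.ker_mk'])
    exact hcomm.is_comm.comm u v
  -- divisors of 8
  have : Nat.card (Subgroup.center Q) ∈ Nat.divisors 8 := Nat.mem_divisors.2 ⟨hdvd, by norm_num⟩
  have hdiv : Nat.divisors 8 = {1, 2, 4, 8} := by decide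
  rw [hdiv] at this
  simp only [Finset.mem_insert, Finset.mem_singleton] at this
  omega

/-- K-S3361-Q. -/
theorem card_sup_of_Q (Q A : Subgroup H) (hQn : Q.Normal) (hQ8 : Nat.card Q = 8)
    (hQna : ∃ u ∈ Q, ∃ v ∈ Q, u * v ≠ v * u)
    (hCQ : Subgroup.centralizer (Q : Set H) = A) :
    Nat.card (Q ⊔ A : Subgroup H) = 4 * Nat.card A := by
  have hna' : ∃ u v : Q, u * v ≠ v * u := by
    obtain ⟨u, hu, v, hv, huv⟩ := hQna
    refine ⟨⟨u, hu⟩, ⟨v, hv⟩, ?_⟩
    intro h
    exact huv (congrArg Subtype.val h)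
  have hc : Nat.card (Subgroup.center Q) = 2 := card_center_of_card_eight hQ8 hna'
  have hmap : (Subgroup.center Q).map Q.subtype = Q ⊓ A := by
    subst hCQ
    ext x
    constructor
    · rintro ⟨y, hy, rfl⟩
      refine ⟨y.2, ?_⟩
      show (y : H) ∈ Subgroup.centralizer (Q : Set H)
      rw [Subgroup.mem_centralizer_iff]
      intro g hg
      have := Subgroup.mem_center_iff.1 hy ⟨g, hg⟩
      exact congrArg Subtype.val this
    · rintro ⟨hxQ, hxC⟩
      refine ⟨⟨x, hxQ⟩, ?_, rfl⟩
      show (⟨x, hxQ⟩ : Q) ∈ Subgroup.center Q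
      rw [Subgroup.mem_center_iff]
      intro g
      have hxC' : x ∈ Subgroup.centralizer (Q : Set H) := hxC
      rw [Subgroup.mem_centralizer_iff] at hxC'
      exact Subtype.ext (hxC' g.1 g.2)
  have hinf : Nat.card (Q ⊓ A : Subgroup H) = 2 := by
    rw [← hmap, Subgroup.card_map_of_injective Q.subtype_injective, hc]
  have key := Cfsg.Agent.Lib.Helper01.card_sup_mul_card_inf Q A
  rw [hinf, hQ8] at key
  have : (A ⊔ Q : Subgroup H) = Q ⊔ A := sup_comm _ _
  rw [this] at key
  omega

end Cfsg.Agent.Lib.Helper81.NF
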