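import Mathlib
import Cfsg.Prelude.Def_GeometricClasses
import Cfsg.Agent.Lib.Helper61.AschDefs
import Cfsg.Agent.Lib.Helper61.AschBasic
import Cfsg.Agent.Lib.Helper61.AschGlueA
import Cfsg.Agent.Lib.Helper46.AschODefs
import Cfsg.Agent.Lib.Helper46.AschOBasic

/-!
# S5673, keystone K-S5673-R (`ogeom_of_reducible`): reducible similarity groups
-/

set_option autoImplicit false

namespace Cfsg.Agent.Lib.Helper81.AschO

open Cfsg Cfsg.Geo Cfsg.Agent.Lib.Helper61.Asch Cfsg.Agent.Lib.Helper46.AschO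
open scoped Matrix Kronecker MatrixGroups

variable {F : Type*} [Field F] [Fintype F] {n : ℕ}

local notation "V" => (Fin n → F)
local notation "Mat" => Matrix (Fin n) (Fin n) F

omit [Fintype F] in
/-- the orthogonal complement of a subspace invariant under a group of similarities is invariant -/
theorem perpQ_invariant (Q : V → F) (hQ : IsNondegenerateQuadraticForm Q)
    (K : Subgroup (GL (Fin n) F)) (hK : K ≤ quadSimilarityGroup Q) (W : Submodule F V)
    (hW : ∀ s ∈ matrixSet K, W.map (Matrix.toLin' s) ≤ W) :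
    ∀ s ∈ matrixSet K, (perpQ Q hQ W).map (Matrix.toLin' s) ≤ perpQ Q hQ W := by
  rintro _ ⟨g, hg, rfl⟩ _ ⟨v, hv, rfl⟩
  rw [Matrix.toLin'_apply, mem_perpQ]
  intro w hw
  obtain ⟨c, hc⟩ := hK hg
  have hginv : ((g⁻¹ : GL (Fin n) F) : Mat) *ᵥ w ∈ W := by
    have := hW _ (mem_matrixSet (K.inv_mem hg)) ⟨w, hw, rfl⟩
    rwa [Matrix.toLin'_apply] at this
  have h1 : (g : Mat) *ᵥ (((g⁻¹ : GL (Fin n) F) : Mat) *ᵥ w) = w := by
    rw [Matrix.mulVec_mulVec, ← Units.val_mul, mul_inv_cancel, Units.val_one, Matrix.one_mulVec]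
  have h2 := polar_similarity hc (((g⁻¹ : GL (Fin n) F) : Mat) *ᵥ w) v
  rw [h1] at h2
  rw [h2, (mem_perpQ hQ W v).1 hv _ hginv, mul_zero]

/-- K-S5673-R. -/
theorem ogeom_of_reducible (Q : V → F) (hQ : IsNondegenerateQuadraticForm Q) (h2 : (2 : F) ≠ 0)
    (K : Subgroup (GL (Fin n) F)) (hK : K ≤ quadSimilarityGroup Q)
    (hred : ¬ ActsIrreducibly (matrixSet K)) : OGeom Q K := by
  classical
  unfold ActsIrreducibly at hred
  rw [not_forall] at hred
  obtain ⟨W, hW⟩ := hred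
  rw [Classical.not_imp, not_or] at hW
  obtain ⟨hWinv, hWbot, hWtop⟩ := hW
  have hPinv := perpQ_invariant Q hQ K hK W hWinv
  by_cases hR : W ⊓ perpQ Q hQ W = ⊥
  · -- `W` is non-degenerate
    refine ⟨subspaceStabilizer W, Or.inr (Or.inl ⟨W, hWbot, hWtop, ?_, rfl⟩), le_subspaceStabilizer hWinv⟩
    have key : ∀ w ∈ W, w ≠ 0 → ∃ x ∈ W, QuadraticMap.polar Q x w ≠ 0 := by
      intro w hw hw0
      by_contra hcon
      apply hw0
      have hwp : w ∈ perpQ Q hQ W := by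
        rw [mem_perpQ]
        intro x hx
        by_contra hne
        exact hcon ⟨x, hx, hne⟩
      have : w ∈ W ⊓ perpQ Q hQ W := ⟨hw, hwp⟩
      rw [hR] at this
      exact (Submodule.mem_bot F).1 this
    intro w hw hw0
    obtain ⟨x, hx, hne⟩ := key w hw hw0
    exact ⟨⟨x, hx, hne⟩, ⟨x, hx, by rwa [QuadraticMap.polar_comm]⟩⟩
  · -- the radical is totally singular
    have hRinv : ∀ s ∈ matrixSet K,
        (W ⊓ perpQ Q hQ W).map (Matrix.toLin' s) ≤ W ⊓ perpQ Q hQ W := by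
      intro s hs
      rintro _ ⟨v, hv, rfl⟩
      exact ⟨hWinv s hs ⟨v, hv.1, rfl⟩, hPinv s hs ⟨v, hv.2, rfl⟩⟩
    refine ⟨subspaceStabilizer (W ⊓ perpQ Q hQ W), Or.inl ⟨W ⊓ perpQ Q hQ W, hR, ?_, rfl⟩,
      le_subspaceStabilizer hRinv⟩
    intro r hr
    have h0 : QuadraticMap.polar Q r r = 0 := (mem_perpQ hQ W r).1 hr.2 r hr.1
    have h1 : 2 * Q r = 0 := by rw [two_mul_Q hQ, h0]
    exact (mul_eq_zero.1 h1).resolve_left h2

end Cfsg.Agent.Lib.Helper81.AschO
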