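import Mathlib
import Cfsg.Prelude.Def_GeometricClasses
import Cfsg.Agent.Lib.Helper61.AschDefs
import Cfsg.Agent.Lib.Helper43.SpAschDefs
import Cfsg.Agent.Lib.Helper43.SpAschDefs2

/-!
# S5662, keystone K-SpAsch-S4d2 (`diag_zero_of_irreducible`)

Characteristic 2: if `K` is irreducible and every element of `K` is `P (k₁ ⊗ k₂) P⁻¹` with `kᵢ` a similarity of the
symmetric matrix `Gᵢ`, then `G₁` and `G₂` have zero diagonal.
-/

set_option autoImplicit false

namespace Cfsg.Agent.Lib.Helper81.SpAsch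

open Cfsg Cfsg.Geo Cfsg.Agent.Lib.Helper61.Asch Cfsg.Agent.Lib.Helper43.SpAsch
open scoped Matrix Kronecker MatrixGroups

section Char2

variable {F : Type*} [Field F]

/-- in a finite field with `2 = 0` every element is a square -/
theorem exists_mul_self_eq [Finite F] (h2 : (2 : F) = 0) (z : F) : ∃ x : F, x * x = z := by
  have hinj : Function.Injective (fun x : F => x * x) := by
    intro x y h
    have h' : x * x = y * y := h
    have h1 : (x - y) * (x - y) = x * x + y * y - 2 * (x * y) := by ring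
    rw [h2, zero_mul, sub_zero, h'] at h1
    have h3 : y * y + y * y = 2 * (y * y) := by ring
    rw [h3, h2, zero_mul] at h1
    exact sub_eq_zero.1 (mul_self_eq_zero.1 h1)
  exact (Finite.injective_iff_surjective.1 hinj) z

variable {m : ℕ}

/-- the quadratic map `u ↦ uᵀ G u` -/
def qf (G : Matrix (Fin m) (Fin m) F) (u : Fin m → F) : F := u ⬝ᵥ (G *ᵥ u)

theorem dot_symm (G : Matrix (Fin m) (Fin m) F) (hG : Gᵀ = G) (u v : Fin m → F) :
    v ⬝ᵥ (G *ᵥ u) = u ⬝ᵥ (G *ᵥ v) := by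
  rw [Matrix.dotProduct_mulVec, ← Matrix.mulVec_transpose, hG, dotProduct_comm]

theorem qf_add (h2 : (2 : F) = 0) (G : Matrix (Fin m) (Fin m) F) (hG : Gᵀ = G) (u v : Fin m → F) :
    qf G (u + v) = qf G u + qf G v := by
  unfold qf
  rw [Matrix.mulVec_add, add_dotProduct, dotProduct_add, dotProduct_add, dot_symm G hG u v]
  have h : u ⬝ᵥ (G *ᵥ v) + u ⬝ᵥ (G *ᵥ v) = 0 := by
    rw [← two_mul, h2, zero_mul]
  calc u ⬝ᵥ G *ᵥ u + u ⬝ᵥ G *ᵥ v + (u ⬝ᵥ G *ᵥ v + v ⬝ᵥ G *ᵥ v)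
      = u ⬝ᵥ G *ᵥ u + v ⬝ᵥ G *ᵥ v + (u ⬝ᵥ G *ᵥ v + u ⬝ᵥ G *ᵥ v) := by ring
    _ = u ⬝ᵥ G *ᵥ u + v ⬝ᵥ G *ᵥ v := by rw [h, add_zero]

theorem qf_smul (G : Matrix (Fin m) (Fin m) F) (c : F) (u : Fin m → F) :
    qf G (c • u) = c ^ 2 * qf G u := by
  unfold qf
  rw [Matrix.mulVec_smul, smul_dotProduct, dotProduct_smul, smul_eq_mul, smul_eq_mul]
  ring

theorem qf_zero (G : Matrix (Fin m) (Fin m) F) : qf G 0 = 0 := by
  unfold qf
  rw [zero_dotProduct]

theorem qf_single (G : Matrix (Fin m) (Fin m) F) (i : Fin m) : qf G (Pi.single i 1) = G i i := by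
  unfold qf
  simp

theorem qf_mulVec (G k : Matrix (Fin m) (Fin m) F) (c : F) (hk : kᵀ * G * k = c • G) (u : Fin m → F) :
    qf G (k *ᵥ u) = c * qf G u := by
  unfold qf
  have h1 : (k *ᵥ u) ⬝ᵥ (G *ᵥ (k *ᵥ u)) = u ⬝ᵥ ((kᵀ * G * k) *ᵥ u) := by
    rw [dotProduct_comm, Matrix.dotProduct_mulVec, ← Matrix.mulVec_transpose, dotProduct_comm,
      Matrix.mulVec_mulVec, Matrix.mulVec_mulVec, Matrix.mul_assoc]
  rw [h1, hk, Matrix.smul_mulVec, dotProduct_smul, smul_eq_mul]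

/-- the zero set of `qf G`, a subspace in characteristic 2 -/
def qker (h2 : (2 : F) = 0) (G : Matrix (Fin m) (Fin m) F) (hG : Gᵀ = G) : Submodule F (Fin m → F) where
  carrier := {u | qf G u = 0}
  zero_mem' := qf_zero G
  add_mem' := by
    intro u v hu hv
    show qf G (u + v) = 0
    rw [qf_add h2 G hG, hu, hv, add_zero]
  smul_mem' := by
    intro c u hu
    show qf G (c • u) = 0
    rw [qf_smul, hu, mul_zero]

theorem mem_qker (h2 : (2 : F) = 0) (G : Matrix (Fin m) (Fin m) F) (hG : Gᵀ = G) (u : Fin m → F) :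
    u ∈ qker h2 G hG ↔ qf G u = 0 := Iff.rfl

theorem qker_ne_top (h2 : (2 : F) = 0) (G : Matrix (Fin m) (Fin m) F) (hG : Gᵀ = G) (i : Fin m)
    (hi : G i i ≠ 0) : qker h2 G hG ≠ ⊤ := by
  intro h
  have h1 : (Pi.single i 1 : Fin m → F) ∈ qker h2 G hG := by rw [h]; trivial
  rw [mem_qker, qf_single] at h1
  exact hi h1

theorem qker_ne_bot [Finite F] (h2 : (2 : F) = 0) (G : Matrix (Fin m) (Fin m) F) (hG : Gᵀ = G)
    (hm : 2 ≤ m) : qker h2 G hG ≠ ⊥ := by
  intro h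
  have hbot : ∀ u : Fin m → F, qf G u = 0 → u = 0 := by
    intro u hu
    have : u ∈ qker h2 G hG := hu
    rw [h] at this
    exact (Submodule.mem_bot F).1 this
  set i₀ : Fin m := ⟨0, by omega⟩ with hi₀
  set i₁ : Fin m := ⟨1, by omega⟩ with hi₁
  have hne : i₀ ≠ i₁ := by
    intro hh
    have := congrArg Fin.val hh
    simp [hi₀, hi₁] at this
  by_cases hα : G i₀ i₀ = 0
  · have h1 := hbot (Pi.single i₀ 1) (by rw [qf_single, hα])
    have h2' := congrFun h1 i₀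
    simp at h2'
  · obtain ⟨x, hx⟩ := exists_mul_self_eq h2 (G i₁ i₁ / G i₀ i₀)
    have hq : qf G (x • Pi.single i₀ 1 + Pi.single i₁ 1) = 0 := by
      rw [qf_add h2 G hG, qf_smul, qf_single, qf_single, pow_two, hx, div_mul_cancel₀ _ hα,
        ← two_mul, h2, zero_mul]
    have h1 := hbot _ hq
    have h2' := congrFun h1 i₁
    simp [Pi.single_eq_of_ne hne.symm] at h2'

theorem qker_mulVec (h2 : (2 : F) = 0) (G : Matrix (Fin m) (Fin m) F) (hG : Gᵀ = G)
    (k : Matrix (Fin m) (Fin m) F) (c : F) (hk : kᵀ * G * k = c • G) (u : Fin m → F)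
    (hu : u ∈ qker h2 G hG) : k *ᵥ u ∈ qker h2 G hG := by
  rw [mem_qker] at hu ⊢
  rw [qf_mulVec G k c hk, hu, mul_zero]

end Char2

section Tensor

variable {F : Type*} [Field F] {a b : ℕ}

/-- the vectors all of whose columns `x (·, j)` lie in `W` -/
def colSub (W : Submodule F (Fin a → F)) : Submodule F (Fin a × Fin b → F) where
  carrier := {x | ∀ j, (fun i => x (i, j)) ∈ W}
  zero_mem' := fun _ => W.zero_mem
  add_mem' := fun {_ _} hx hy j => W.add_mem (hx j) (hy j)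
  smul_mem' := fun c _ hx j => W.smul_mem c (hx j)

/-- the vectors all of whose rows `x (i, ·)` lie in `W` -/
def rowSub (W : Submodule F (Fin b → F)) : Submodule F (Fin a × Fin b → F) where
  carrier := {x | ∀ i, (fun j => x (i, j)) ∈ W}
  zero_mem' := fun _ => W.zero_mem
  add_mem' := fun {_ _} hx hy i => W.add_mem (hx i) (hy i)
  smul_mem' := fun c _ hx i => W.smul_mem c (hx i)

theorem colSub_ne_bot (hb : 0 < b) (W : Submodule F (Fin a → F)) (hW : W ≠ ⊥) :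
    colSub (b := b) W ≠ ⊥ := by
  intro h
  apply hW
  rw [Submodule.eq_bot_iff]
  intro u hu
  have hx : (fun p : Fin a × Fin b => u p.1) ∈ colSub (b := b) W := fun _ => hu
  rw [h, Submodule.mem_bot] at hx
  funext i
  exact congrFun hx (i, ⟨0, hb⟩)

theorem colSub_ne_top (hb : 0 < b) (W : Submodule F (Fin a → F)) (hW : W ≠ ⊤) :
    colSub (b := b) W ≠ ⊤ := by
  intro h
  apply hW
  rw [Submodule.eq_top_iff']
  intro u
  have hx : (fun p : Fin a × Fin b => u p.1) ∈ colSub (b := b) W := by rw [h]; trivial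
  exact hx ⟨0, hb⟩

theorem rowSub_ne_bot (ha : 0 < a) (W : Submodule F (Fin b → F)) (hW : W ≠ ⊥) :
    rowSub (a := a) W ≠ ⊥ := by
  intro h
  apply hW
  rw [Submodule.eq_bot_iff]
  intro u hu
  have hx : (fun p : Fin a × Fin b => u p.2) ∈ rowSub (a := a) W := fun _ => hu
  rw [h, Submodule.mem_bot] at hx
  funext j
  exact congrFun hx (⟨0, ha⟩, j)

theorem rowSub_ne_top (ha : 0 < a) (W : Submodule F (Fin b → F)) (hW : W ≠ ⊤) :
    rowSub (a := a) W ≠ ⊤ := by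
  intro h
  apply hW
  rw [Submodule.eq_top_iff']
  intro u
  have hx : (fun p : Fin a × Fin b => u p.2) ∈ rowSub (a := a) W := by rw [h]; trivial
  exact hx ⟨0, ha⟩

theorem kron_mulVec_col (k₁ : Matrix (Fin a) (Fin a) F) (k₂ : Matrix (Fin b) (Fin b) F)
    (x : Fin a × Fin b → F) (j : Fin b) :
    (fun i => ((k₁ ⊗ₖ k₂) *ᵥ x) (i, j)) = ∑ j', k₂ j j' • (k₁ *ᵥ (fun i' => x (i', j'))) := by
  funext i
  simp only [Matrix.mulVec, dotProduct, Matrix.kroneckerMap_apply, Fintype.sum_prod_type,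
    Finset.sum_apply, Pi.smul_apply, smul_eq_mul]
  rw [Finset.sum_comm]
  apply Finset.sum_congr rfl
  intro j' _
  rw [Finset.mul_sum]
  apply Finset.sum_congr rfl
  intro i' _
  ring

theorem kron_mulVec_row (k₁ : Matrix (Fin a) (Fin a) F) (k₂ : Matrix (Fin b) (Fin b) F)
    (x : Fin a × Fin b → F) (i : Fin a) :
    (fun j => ((k₁ ⊗ₖ k₂) *ᵥ x) (i, j)) = ∑ i', k₁ i i' • (k₂ *ᵥ (fun j' => x (i', j'))) := by
  funext j
  simp only [Matrix.mulVec, dotProduct, Matrix.kroneckerMap_apply, Fintype.sum_prod_type,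
    Finset.sum_apply, Pi.smul_apply, smul_eq_mul]
  apply Finset.sum_congr rfl
  intro i' _
  rw [Finset.mul_sum]
  apply Finset.sum_congr rfl
  intro j' _
  ring

theorem colSub_kron (W : Submodule F (Fin a → F)) (k₁ : Matrix (Fin a) (Fin a) F)
    (k₂ : Matrix (Fin b) (Fin b) F) (hk₁ : ∀ u ∈ W, k₁ *ᵥ u ∈ W) (x : Fin a × Fin b → F)
    (hx : x ∈ colSub (b := b) W) : (k₁ ⊗ₖ k₂) *ᵥ x ∈ colSub (b := b) W := by
  intro j
  rw [kron_mulVec_col]
  exact W.sum_mem fun j' _ => W.smul_mem _ (hk₁ _ (hx j'))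

theorem rowSub_kron (W : Submodule F (Fin b → F)) (k₁ : Matrix (Fin a) (Fin a) F)
    (k₂ : Matrix (Fin b) (Fin b) F) (hk₂ : ∀ u ∈ W, k₂ *ᵥ u ∈ W) (x : Fin a × Fin b → F)
    (hx : x ∈ rowSub (a := a) W) : (k₁ ⊗ₖ k₂) *ᵥ x ∈ rowSub (a := a) W := by
  intro i
  rw [kron_mulVec_row]
  exact W.sum_mem fun i' _ => W.smul_mem _ (hk₂ _ (hx i'))

variable {n : ℕ}

local notation "V" => (Fin n → F)
local notation "Mat" => Matrix (Fin n) (Fin n) F

/-- coordinates of a vector in the tensor basis `(e, P)` -/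
def coord (e : Fin n ≃ Fin a × Fin b) (P : GL (Fin n) F) : V →ₗ[F] (Fin a × Fin b → F) where
  toFun v := fun p => (((P⁻¹ : GL (Fin n) F) : Mat) *ᵥ v) (e.symm p)
  map_add' := by
    intro v w
    funext p
    simp [Matrix.mulVec_add]
  map_smul' := by
    intro c v
    funext p
    simp [Matrix.mulVec_smul]

theorem coord_apply (e : Fin n ≃ Fin a × Fin b) (P : GL (Fin n) F) (v : V) (p : Fin a × Fin b) :
    coord e P v p = (((P⁻¹ : GL (Fin n) F) : Mat) *ᵥ v) (e.symm p) := rfl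

theorem coord_P (e : Fin n ≃ Fin a × Fin b) (P : GL (Fin n) F) (x : Fin a × Fin b → F) :
    coord e P ((P : Mat) *ᵥ (x ∘ e)) = x := by
  funext p
  rw [coord_apply, Matrix.mulVec_mulVec, ← Units.val_mul, inv_mul_cancel, Units.val_one,
    Matrix.one_mulVec, Function.comp_apply, Equiv.apply_symm_apply]

theorem coord_conj (e : Fin n ≃ Fin a × Fin b) (P : GL (Fin n) F) (g : GL (Fin a × Fin b) F)
    (k : GL (Fin n) F) (hk : k = P * glReindex e.symm g * P⁻¹) (v : V) :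
    coord e P ((k : Mat) *ᵥ v) = (g : Matrix (Fin a × Fin b) (Fin a × Fin b) F) *ᵥ coord e P v := by
  have h1 : ((P⁻¹ : GL (Fin n) F) : Mat) *ᵥ ((k : Mat) *ᵥ v) =
      ((glReindex e.symm g : GL (Fin n) F) : Mat) *ᵥ (((P⁻¹ : GL (Fin n) F) : Mat) *ᵥ v) := by
    rw [Matrix.mulVec_mulVec, Matrix.mulVec_mulVec, ← Units.val_mul, ← Units.val_mul, hk]
    congr 2
    group
  have h2 := glMap_mulVec e.symm g (((P⁻¹ : GL (Fin n) F) : Mat) *ᵥ v)
  funext p
  rw [coord_apply, h1]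
  have h3 := congrFun h2 (e.symm p)
  rw [Function.comp_apply, Equiv.symm_symm, Equiv.apply_symm_apply] at h3
  exact h3

/-- a proper non-zero subspace of the coordinate space invariant under the coordinate matrices contradicts
irreducibility -/
theorem false_of_invariant (K : Subgroup (GL (Fin n) F)) (hKirr : ActsIrreducibly (matrixSet K))
    (e : Fin n ≃ Fin a × Fin b) (P : GL (Fin n) F) (U : Submodule F (Fin a × Fin b → F))
    (hU0 : U ≠ ⊥) (hU1 : U ≠ ⊤)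
    (hinv : ∀ k ∈ K, ∃ g : GL (Fin a × Fin b) F, k = P * glReindex e.symm g * P⁻¹ ∧
      ∀ x ∈ U, (g : Matrix (Fin a × Fin b) (Fin a × Fin b) F) *ᵥ x ∈ U) : False := by
  have hW := hKirr (U.comap (coord e P)) (by
    rintro _ ⟨k, hk, rfl⟩ _ ⟨v, hv, rfl⟩
    obtain ⟨g, hkg, hgU⟩ := hinv k hk
    rw [Matrix.toLin'_apply, Submodule.mem_comap, coord_conj e P g k hkg v]
    exact hgU _ hv)
  rcases hW with h | h
  · apply hU0
    rw [Submodule.eq_bot_iff]
    intro x hx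
    have h1 : (P : Mat) *ᵥ (x ∘ e) ∈ U.comap (coord e P) := by
      rw [Submodule.mem_comap, coord_P]
      exact hx
    rw [h, Submodule.mem_bot] at h1
    have h2 := congrArg (coord e P) h1
    rw [coord_P, map_zero] at h2
    exact h2
  · apply hU1
    rw [Submodule.eq_top_iff']
    intro x
    have h1 : (P : Mat) *ᵥ (x ∘ e) ∈ U.comap (coord e P) := by rw [h]; trivial
    rw [Submodule.mem_comap, coord_P] at h1
    exact h1

end Tensor

variable {F : Type*} [Field F] [Fintype F] {n : ℕ}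

local notation "V" => (Fin n → F)
local notation "Mat" => Matrix (Fin n) (Fin n) F

/-- **K-SpAsch-S4d2**. -/
theorem diag_zero_of_irreducible {f : V → V → F} (h2 : (2 : F) = 0) (K : Subgroup (GL (Fin n) F))
    (hKirr : ActsIrreducibly (matrixSet K)) (a b : ℕ) (ha : 2 ≤ a) (hb : 2 ≤ b) (e : Fin n ≃ Fin a × Fin b)
    (P : GL (Fin n) F) (G₁ : Matrix (Fin a) (Fin a) F) (G₂ : Matrix (Fin b) (Fin b) F)
    (h₁ : G₁ᵀ = G₁) (h₂ : G₂ᵀ = G₂) (hfac : ∀ k ∈ K, KronSim a b e P G₁ G₂ k) :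
    (∀ i, G₁ i i = 0) ∧ (∀ j, G₂ j j = 0) := by
  constructor
  · intro i
    by_contra hi
    apply false_of_invariant K hKirr e P (colSub (b := b) (qker h2 G₁ h₁))
      (colSub_ne_bot (by omega) _ (qker_ne_bot h2 G₁ h₁ ha))
      (colSub_ne_top (by omega) _ (qker_ne_top h2 G₁ h₁ i hi))
    intro k hk
    obtain ⟨k₁, k₂, g, c₁, c₂, hg, hkg, hs₁, hs₂⟩ := hfac k hk
    refine ⟨g, hkg, fun x hx => ?_⟩
    rw [hg]
    exact colSub_kron _ _ _ (fun u hu => qker_mulVec h2 G₁ h₁ _ c₁ hs₁ u hu) x hx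
  · intro j
    by_contra hj
    apply false_of_invariant K hKirr e P (rowSub (a := a) (qker h2 G₂ h₂))
      (rowSub_ne_bot (by omega) _ (qker_ne_bot h2 G₂ h₂ hb))
      (rowSub_ne_top (by omega) _ (qker_ne_top h2 G₂ h₂ j hj))
    intro k hk
    obtain ⟨k₁, k₂, g, c₁, c₂, hg, hkg, hs₁, hs₂⟩ := hfac k hk
    refine ⟨g, hkg, fun x hx => ?_⟩
    rw [hg]
    exact rowSub_kron _ _ _ (fun u hu => qker_mulVec h2 G₂ h₂ _ c₂ hs₂ u hu) x hx

end Cfsg.Agent.Lib.Helper81.SpAsch
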