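import Mathlib
import Cfsg.Prelude.Def_GeometricClasses
import Cfsg.Agent.Lib.Helper61.AschDefs
import Cfsg.Agent.Lib.Helper38.AschA2
import Cfsg.Agent.Lib.Helper42.AschA1

/-!
# S5673, keystone K-S5673-A2a (`c2_components`): isotypic components, strengthened `c2_core`
-/

set_option autoImplicit false

namespace Cfsg.Agent.Lib.Helper81.AschO

open Cfsg Cfsg.Geo Cfsg.Agent.Lib.Helper61.Asch Cfsg.Agent.Lib.Helper38.Asch
open scoped Matrix Kronecker MatrixGroups

variable {F : Type*} [Field F] [Fintype F] {n : ℕ}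

local notation "V" => (Fin n → F)
local notation "Mat" => Matrix (Fin n) (Fin n) F

omit [Fintype F] in
/-- an `A`-submodule is invariant under the matrices of `A` -/
theorem map_le_of_mem_subalgebra (A : Subalgebra F Mat) (c : Submodule A V) (a : Mat) (ha : a ∈ A) :
    (c.restrictScalars F).map (Matrix.toLin' a) ≤ c.restrictScalars F := by
  rintro _ ⟨w, hw, rfl⟩
  rw [Matrix.toLin'_apply]
  have h : (⟨a, ha⟩ : A) • w ∈ c := c.smul_mem _ hw
  exact h

omit [Fintype F] in
/-- the `A`-linear endomorphism attached to a matrix commuting with `A` -/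
def commEnd (A : Subalgebra F Mat) (M : Mat) (hM : ∀ a ∈ A, M * a = a * M) : Module.End A V where
  toFun v := M *ᵥ v
  map_add' := Matrix.mulVec_add M
  map_smul' := by
    intro a v
    show M *ᵥ ((a : Mat) *ᵥ v) = (a : Mat) *ᵥ (M *ᵥ v)
    rw [Matrix.mulVec_mulVec, Matrix.mulVec_mulVec, hM a a.2]

omit [Fintype F] in
/-- an isotypic component is invariant under the commutant of `A` -/
theorem map_le_of_commute (A : Subalgebra F Mat) (c : Submodule A V)
    (hc : c ∈ isotypicComponents A V) (M : Mat) (hM : ∀ a ∈ A, M * a = a * M) :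
    (c.restrictScalars F).map (Matrix.toLin' M) ≤ c.restrictScalars F := by
  rintro _ ⟨w, hw, rfl⟩
  rw [Matrix.toLin'_apply]
  exact Submodule.IsFullyInvariant.of_mem_isotypicComponents hc (commEnd A M hM) hw

omit [Fintype F] in
/-- a subspace invariant under `A` and its commutant is a sum of isotypic components -/
theorem exists_sSup_of_invariant (A : Subalgebra F Mat) [IsSemisimpleModule A V]
    (W : Submodule F V) (hWA : ∀ a ∈ A, W.map (Matrix.toLin' a) ≤ W)
    (hWC : ∀ M : Mat, (∀ a ∈ A, M * a = a * M) → W.map (Matrix.toLin' M) ≤ W) :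
    ∃ s ⊆ isotypicComponents A V, W = (sSup s).restrictScalars F := by
  let W' : Submodule A V :=
    { carrier := W
      zero_mem' := W.zero_mem
      add_mem' := W.add_mem
      smul_mem' := by
        intro a w hw
        have h := hWA (a : Mat) a.2 ⟨w, hw, rfl⟩
        rw [Matrix.toLin'_apply] at h
        exact h }
  have hW' : W'.restrictScalars F = W := by
    ext w
    rfl
  have hfi : W'.IsFullyInvariant := by
    intro f w hw
    show f w ∈ W
    let g : V →ₗ[F] V := f.restrictScalars F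
    have hcomm : ∀ a ∈ A, LinearMap.toMatrix' g * a = a * LinearMap.toMatrix' g := by
      intro a ha
      apply Matrix.toLin'.injective
      rw [Matrix.toLin'_mul, Matrix.toLin'_mul, Matrix.toLin'_toMatrix']
      apply LinearMap.ext
      intro v
      rw [LinearMap.comp_apply, LinearMap.comp_apply, Matrix.toLin'_apply, Matrix.toLin'_apply]
      show f ((⟨a, ha⟩ : A) • v) = (⟨a, ha⟩ : A) • f v
      exact map_smul f _ v
    have h := hWC (LinearMap.toMatrix' g) hcomm ⟨w, hw, rfl⟩
    rw [Matrix.toLin'_toMatrix'] at h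
    exact h
  obtain ⟨s, hs, hWs⟩ := isFullyInvariant_iff_sSup_isotypicComponents.mp hfi
  exact ⟨s, hs, by rw [← hWs, hW']⟩

/-- the core: two simple `A`-submodules which are not isomorphic -/
theorem c2_components_core (K : Subgroup (GL (Fin n) F)) (A : Subalgebra F Mat)
    (hK : ActsIrreducibly (matrixSet K)) (hKA : NormAlg K A)
    (S₀ S₁ : Submodule A V) [IsSimpleModule A S₀] [IsSimpleModule A S₁]
    (hne : ¬ Nonempty (S₁ ≃ₗ[A] S₀)) :
    ∃ (t m : ℕ) (D : Fin t → Submodule F V), IsMDecomposition m D ∧ K ≤ decompositionStabilizer D ∧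
      (∀ i j, ∃ k ∈ K, (D i).map (Matrix.toLin' (k : Mat)) = D j) ∧
      (∀ i, ∀ a ∈ A, (D i).map (Matrix.toLin' a) ≤ D i) ∧
      (∀ i, ∀ M : Mat, (∀ a ∈ A, M * a = a * M) → (D i).map (Matrix.toLin' M) ≤ D i) ∧
      (∀ W : Submodule F V, (∀ a ∈ A, W.map (Matrix.toLin' a) ≤ W) →
        (∀ M : Mat, (∀ a ∈ A, M * a = a * M) → W.map (Matrix.toLin' M) ≤ W) →
        ∃ s : Finset (Fin t), W = ⨆ i ∈ s, D i) := by
  classical
  have hss : IsSemisimpleModule A V :=
    Cfsg.Agent.Lib.Helper42.Asch.isSemisimpleModule_of_normAlg K A hK hKA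
  have : IsNoetherian A V := isNoetherian_of_tower F inferInstance
  set C := isotypicComponents A V with hC
  set c₀ := isotypicComponent A V S₀ with hc₀
  set c₁ := isotypicComponent A V S₁ with hc₁
  have hc₀C : c₀ ∈ C := ⟨S₀, inferInstance, rfl⟩
  have hc₁C : c₁ ∈ C := ⟨S₁, inferInstance, rfl⟩
  have hc01 : c₀ ≠ c₁ := by
    intro h
    apply hne
    have hle : S₁ ≤ c₀ := h ▸ S₁.le_isotypicComponent
    exact isIsotypicOfType_submodule_iff.mp (IsIsotypicOfType.isotypicComponent A V S₀) S₁ hle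
  -- the orbit of `c₀`
  set O : Set (Submodule A V) := {c | ∃ k, ∃ hk : k ∈ K, c = (Nrm.ofMem K hKA k hk).tr c₀} with hO
  have hOC : O ⊆ C := by
    rintro c ⟨k, hk, rfl⟩
    exact Nrm.tr_mem_isotypicComponents _ hc₀C
  have hc₀O : c₀ ∈ O := ⟨1, K.one_mem, (Nrm.ofMem_one_tr K hKA c₀).symm⟩
  have hOtr : ∀ k (hk : k ∈ K), ∀ c ∈ O, (Nrm.ofMem K hKA k hk).tr c ∈ O := by
    rintro k hk c ⟨k', hk', rfl⟩
    exact ⟨k * k', K.mul_mem hk hk', Nrm.ofMem_tr_tr K hKA k' k hk' hk c₀⟩
  have hWinv : ∀ k (hk : k ∈ K), (Nrm.ofMem K hKA k hk).tr (sSup O) ≤ sSup O := by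
    intro k hk
    have h := (Nrm.ofMem K hKA k hk).trIso.map_sSup O
    rw [Nrm.trIso_apply] at h
    rw [h]
    exact iSup₂_le fun c hc => le_sSup (hOtr k hk c hc)
  have hWtop : sSup O = ⊤ := by
    have h := hK ((sSup O).restrictScalars F) (by
      rintro s ⟨g, hg, rfl⟩
      have h1 := Nrm.restrictScalars_tr (Nrm.ofMem K hKA g hg) (sSup O)
      change _ = Submodule.map (Matrix.toLin' (g : Mat)) _ at h1
      rw [← h1]
      exact fun w hw => hWinv g hg hw)
    rcases h with h | h
    · exfalso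
      rw [Submodule.restrictScalars_eq_bot_iff] at h
      have h2 : c₀ ≤ sSup O := le_sSup hc₀O
      rw [h, le_bot_iff] at h2
      exact (bot_lt_isotypicComponents hc₀C).ne' h2
    · exact (Submodule.restrictScalars_eq_top_iff F A V).mp h
  have hOeq : ∀ c ∈ C, c ∈ O := by
    intro c hc
    by_contra hcO
    have hdis := sSupIndep_isotypicComponents A V hc
    have hle : sSup O ≤ sSup (C \ {c}) := by
      apply sSup_le_sSup
      intro c' hc'
      exact ⟨hOC hc', fun h => hcO (h ▸ hc')⟩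
    rw [hWtop, top_le_iff] at hle
    rw [hle, disjoint_top] at hdis
    exact (bot_lt_isotypicComponents hc).ne' hdis
  have hCtop : sSup C = ⊤ := by
    apply top_le_iff.mp
    rw [← hWtop]
    exact sSup_le_sSup hOC
  -- common dimension
  have hinj : ∀ g : GL (Fin n) F, Function.Injective (Matrix.toLin' (g : Mat)) := by
    intro g
    apply Function.LeftInverse.injective (g := Matrix.toLin' ((g⁻¹ : GL (Fin n) F) : Mat))
    intro v
    rw [← LinearMap.comp_apply, ← Matrix.toLin'_mul, ← Units.val_mul, inv_mul_cancel, Units.val_one,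
      Matrix.toLin'_one]
    rfl
  have hdim : ∀ c ∈ C, Module.finrank F (c.restrictScalars F) =
      Module.finrank F (c₀.restrictScalars F) := by
    intro c hc
    obtain ⟨k, hk, rfl⟩ := hOeq c hc
    rw [Nrm.restrictScalars_tr]
    exact (Submodule.equivMapOfInjective _ (hinj k) _).finrank_eq.symm
  have hpos : 0 < Module.finrank F (c₀.restrictScalars F) := by
    have : c₀.restrictScalars F ≠ ⊥ := by
      rw [Ne, Submodule.restrictScalars_eq_bot_iff]
      exact (bot_lt_isotypicComponents hc₀C).ne'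
    exact Submodule.one_le_finrank_iff.mpr this
  -- enumeration
  have : Finite C := by rw [hC]; infer_instance
  have : Nontrivial C := ⟨⟨⟨c₀, hc₀C⟩, ⟨c₁, hc₁C⟩, fun h => hc01 (congrArg Subtype.val h)⟩⟩
  let e : C ≃ Fin (Nat.card C) := Finite.equivFin C
  have hind : iSupIndep (fun i : Fin (Nat.card C) => ((e.symm i : C) : Submodule A V)) :=
    ((sSupIndep_iff _).mp (sSupIndep_isotypicComponents A V)).comp e.symm.injective
  -- transport by `k⁻¹` undoes transport by `k`
  have htrinv : ∀ k (hk : k ∈ K) (m : Submodule A V),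
      (Nrm.ofMem K hKA k⁻¹ (K.inv_mem hk)).tr ((Nrm.ofMem K hKA k hk).tr m) = m := by
    intro k hk m
    rw [Nrm.ofMem_tr_tr K hKA k k⁻¹ hk (K.inv_mem hk) m]
    rw [Nrm.tr_congr _ (Nrm.ofMem K hKA 1 K.one_mem) (by
      show (((k⁻¹ * k)⁻¹ : GL (Fin n) F) : Mat) = (((1 : GL (Fin n) F)⁻¹ : GL (Fin n) F) : Mat)
      rw [inv_mul_cancel]) m]
    exact Nrm.ofMem_one_tr K hKA m
  refine ⟨Nat.card C, Module.finrank F (c₀.restrictScalars F),
    fun i => ((e.symm i : C) : Submodule A V).restrictScalars F, ⟨?_, hpos, ?_, ?_, ?_⟩, ?_, ?_, ?_, ?_,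
    ?_⟩
  · exact Finite.one_lt_card
  · intro i
    exact hdim _ (e.symm i).2
  · intro i
    have h := hind i
    rw [disjoint_iff] at h ⊢
    have h2 : (⨆ j, ⨆ (_ : j ≠ i), ((e.symm j : C) : Submodule A V).restrictScalars F) =
        (⨆ j, ⨆ (_ : j ≠ i), ((e.symm j : C) : Submodule A V)).restrictScalars F := by
      simp only [Submodule.restrictScalars_iSup]
    rw [h2, ← Submodule.restrictScalars_inf, h, Submodule.restrictScalars_bot]
  · rw [← Submodule.restrictScalars_iSup, Submodule.restrictScalars_eq_top_iff]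
    apply top_le_iff.mp
    rw [← hCtop]
    apply sSup_le
    intro c hc
    have : c = ((e.symm (e ⟨c, hc⟩) : C) : Submodule A V) := by rw [Equiv.symm_apply_apply]
    rw [this]
    exact le_iSup (fun i : Fin (Nat.card C) => ((e.symm i : C) : Submodule A V)) (e ⟨c, hc⟩)
  · intro k hk
    let π : C ≃ C :=
      { toFun := fun c => ⟨(Nrm.ofMem K hKA k hk).tr c.1, Nrm.tr_mem_isotypicComponents _ c.2⟩
        invFun := fun c => ⟨(Nrm.ofMem K hKA k hk).symm.tr c.1,
          Nrm.tr_mem_isotypicComponents _ c.2⟩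
        left_inv := fun c => Subtype.ext (Nrm.symm_tr_tr _ c.1)
        right_inv := fun c => Subtype.ext (Nrm.tr_symm_tr _ c.1) }
    refine ⟨e.symm.trans (π.trans e), fun i => ?_⟩
    have h1 := Nrm.restrictScalars_tr (Nrm.ofMem K hKA k hk) ((e.symm i : C) : Submodule A V)
    change _ = Submodule.map (Matrix.toLin' (k : Mat)) _ at h1
    rw [← h1]
    simp only [Equiv.trans_apply, Equiv.symm_apply_apply]
    rfl
  · -- transitivity
    intro i j
    obtain ⟨ki, hki, hci⟩ := hOeq _ (e.symm i).2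
    obtain ⟨kj, hkj, hcj⟩ := hOeq _ (e.symm j).2
    refine ⟨kj * ki⁻¹, K.mul_mem hkj (K.inv_mem hki), ?_⟩
    have h1 := Nrm.restrictScalars_tr (Nrm.ofMem K hKA (kj * ki⁻¹) (K.mul_mem hkj (K.inv_mem hki)))
      ((e.symm i : C) : Submodule A V)
    change _ = Submodule.map (Matrix.toLin' ((kj * ki⁻¹ : GL (Fin n) F) : Mat)) _ at h1
    rw [← h1]
    congr 1
    rw [← Nrm.ofMem_tr_tr K hKA ki⁻¹ kj (K.inv_mem hki) hkj, hcj]
    congr 1
    rw [hci]
    exact htrinv ki hki c₀
  · -- invariance under `A`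
    intro i a ha
    exact map_le_of_mem_subalgebra A _ a ha
  · -- invariance under the commutant
    intro i M hM
    exact map_le_of_commute A _ (e.symm i).2 M hM
  · -- fully invariant subspaces
    intro W hWA hWC
    obtain ⟨s, hs, hWs⟩ := exists_sSup_of_invariant A W hWA hWC
    refine ⟨Finset.univ.filter (fun i => ((e.symm i : C) : Submodule A V) ∈ s), ?_⟩
    rw [hWs]
    have h2 : (⨆ i ∈ Finset.univ.filter (fun i => ((e.symm i : C) : Submodule A V) ∈ s),
          ((e.symm i : C) : Submodule A V).restrictScalars F) =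
        (⨆ i ∈ Finset.univ.filter (fun i => ((e.symm i : C) : Submodule A V) ∈ s),
          ((e.symm i : C) : Submodule A V)).restrictScalars F := by
      simp only [Submodule.restrictScalars_iSup]
    rw [h2]
    congr 1
    apply le_antisymm
    · apply sSup_le
      intro c hc
      have hcC : c ∈ C := hs hc
      have hceq : c = ((e.symm (e ⟨c, hcC⟩) : C) : Submodule A V) := by rw [Equiv.symm_apply_apply]
      have hmem : e ⟨c, hcC⟩ ∈ Finset.univ.filter
          (fun i => ((e.symm i : C) : Submodule A V) ∈ s) := by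
        rw [Finset.mem_filter]
        refine ⟨Finset.mem_univ _, ?_⟩
        rw [← hceq]
        exact hc
      calc c = ((e.symm (e ⟨c, hcC⟩) : C) : Submodule A V) := hceq
        _ ≤ _ := le_iSup₂ (f := fun i (_ : i ∈ Finset.univ.filter
            (fun i => ((e.symm i : C) : Submodule A V) ∈ s)) => ((e.symm i : C) : Submodule A V))
            (e ⟨c, hcC⟩) hmem
    · apply iSup₂_le
      intro i hi
      exact le_sSup (Finset.mem_filter.1 hi).2

/-- K-S5673-A2a. -/
theorem c2_components (K : Subgroup (GL (Fin n) F)) (A : Subalgebra F Mat)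
    (hK : ActsIrreducibly (matrixSet K)) (hKA : NormAlg K A) (hiso : ¬ IsIsotypic A V) :
    ∃ (t m : ℕ) (D : Fin t → Submodule F V), IsMDecomposition m D ∧ K ≤ decompositionStabilizer D ∧
      (∀ i j, ∃ k ∈ K, (D i).map (Matrix.toLin' (k : Mat)) = D j) ∧
      (∀ i, ∀ a ∈ A, (D i).map (Matrix.toLin' a) ≤ D i) ∧
      (∀ i, ∀ M : Mat, (∀ a ∈ A, M * a = a * M) → (D i).map (Matrix.toLin' M) ≤ D i) ∧
      (∀ W : Submodule F V, (∀ a ∈ A, W.map (Matrix.toLin' a) ≤ W) →
        (∀ M : Mat, (∀ a ∈ A, M * a = a * M) → W.map (Matrix.toLin' M) ≤ W) →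
        ∃ s : Finset (Fin t), W = ⨆ i ∈ s, D i) := by
  by_contra hcon
  apply hiso
  intro m hm m' hm'
  by_contra hne
  exact hcon (c2_components_core K A hK hKA m m' hne)

end Cfsg.Agent.Lib.Helper81.AschO
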