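import Mathlib
import Cfsg.Prelude.Def_GeometricClasses
import Cfsg.Agent.Lib.Helper45.SpMaxD1

/-!
# K-OEvenX-X12 (keystone 582632, architect helper46)

No non-degenerate alternating form in odd dimension (any characteristic).  One line from
`Helper45.SpMax.even_of_isSymplecticForm` (which rests on `Helper43.AltForm`).
-/

set_option autoImplicit false

namespace Cfsg.Agent.Lib.Helper81.OEvenX

open Cfsg Cfsg.Geo

variable {F : Type*} [Field F] [Fintype F] {n : ℕ}

/-- K-OEvenX-X12.  No non-degenerate alternating form in odd dimension (any characteristic). -/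
theorem not_isSymplecticForm_of_odd {k : ℕ} (hk : Odd k) (f : (Fin k → F) → (Fin k → F) → F) :
    ¬ IsSymplecticForm f := by
  intro h
  exact (Nat.not_even_iff_odd.2 hk) (Cfsg.Agent.Lib.Helper45.SpMax.even_of_isSymplecticForm f h)

end Cfsg.Agent.Lib.Helper81.OEvenX
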