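import Mathlib
import Cfsg.Agent.Lib.Helper74.FCDefs

/-!
# S3359, keystone K-S3359-3 (`sl25_of_perfect`)
-/

set_option autoImplicit false

universe u

namespace Cfsg.Agent.Lib.Helper81.FC

open Cfsg.Agent.Lib.Helper74.FC

/-- K-S3359-3.  A nontrivial perfect group acting fixed-point-freely is `SL(2,5)`, given S0690. -/
theorem sl25_of_perfect (hZ : Z690) {G : Type u} [Group G] [Finite G] [Nontrivial G]
    (hact : FpfAct G) (hperf : commutator G = ⊤) : Nonempty (G ≃* SL25) := by
  obtain ⟨K, instK, instF, φ, hK, hfpf⟩ := hact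
  -- the action is faithful
  have hinj : Function.Injective φ := by
    rw [injective_iff_map_eq_one]
    intro g hg
    by_contra hg1
    obtain ⟨k, hk⟩ := exists_ne (1 : K)
    apply hk
    apply hfpf g hg1 k
    rw [hg]
    rfl
  obtain ⟨e⟩ : Nonempty (G ≃* φ.range) := ⟨MonoidHom.ofInjective hinj⟩
  have hR : ∀ ψ ∈ φ.range, ψ ≠ 1 → ∀ k : K, ψ k = k → k = 1 := by
    rintro ψ ⟨g, rfl⟩ hψ k hk
    apply hfpf g _ k hk
    intro hg
    apply hψ
    rw [hg, map_one]
  have hperfR : commutator φ.range = ⊤ := by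
    have htop : Subgroup.map e.toMonoidHom ⊤ = ⊤ :=
      Subgroup.map_top_of_surjective e.toMonoidHom e.surjective
    have h1 : Subgroup.map e.toMonoidHom (commutator G) = commutator φ.range := by
      rw [commutator_def, commutator_def, Subgroup.map_commutator, htop]
    rw [← h1, hperf, htop]
  have hne : φ.range ≠ ⊥ := by
    have hnt : Nontrivial φ.range := e.injective.nontrivial
    exact (Subgroup.nontrivial_iff_ne_bot _).1 hnt
  obtain ⟨f⟩ := hZ K φ.range hR hperfR hne
  exact ⟨e.trans f⟩

end Cfsg.Agent.Lib.Helper81.FC
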