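import Mathlib

/-!
# S4118, keystone K5 (`fpf_section`): fixed-point-free action on a section
-/

set_option autoImplicit false

namespace Cfsg.Agent.Lib.Helper81.TIHall

section Coset

variable {Γ : Type*} [Group Γ]

/-- the property of stabilising the coset `m Q₀` under conjugation, for elements normalizing `Q₀` -/
def StabCoset (Q₀ : Subgroup Γ) (m g : Γ) : Prop :=
  g ∈ Subgroup.normalizer (Q₀ : Set Γ) ∧ m⁻¹ * (g * m * g⁻¹) ∈ Q₀

theorem stabCoset_one (Q₀ : Subgroup Γ) (m : Γ) : StabCoset Q₀ m 1 := by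
  refine ⟨Subgroup.one_mem _, ?_⟩
  simp

theorem stabCoset_conj {Q₀ : Subgroup Γ} {m g : Γ} (hg : StabCoset Q₀ m g) {x : Γ}
    (hx : m⁻¹ * x ∈ Q₀) : m⁻¹ * (g * x * g⁻¹) ∈ Q₀ := by
  have h1 : g * (m⁻¹ * x) * g⁻¹ ∈ Q₀ := (Subgroup.mem_normalizer_iff.1 hg.1 _).1 hx
  have h2 : m⁻¹ * (g * x * g⁻¹) = (m⁻¹ * (g * m * g⁻¹)) * (g * (m⁻¹ * x) * g⁻¹) := by group
  rw [h2]
  exact Q₀.mul_mem hg.2 h1

theorem stabCoset_mul {Q₀ : Subgroup Γ} {m g h : Γ} (hg : StabCoset Q₀ m g) (hh : StabCoset Q₀ m h) :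
    StabCoset Q₀ m (g * h) := by
  refine ⟨Subgroup.mul_mem _ hg.1 hh.1, ?_⟩
  have h1 := stabCoset_conj hg hh.2
  have h2 : g * h * m * (g * h)⁻¹ = g * (h * m * h⁻¹) * g⁻¹ := by group
  rw [h2]
  exact h1

theorem stabCoset_pow {Q₀ : Subgroup Γ} {m g : Γ} (hg : StabCoset Q₀ m g) (n : ℕ) :
    StabCoset Q₀ m (g ^ n) := by
  induction n with
  | zero => rw [pow_zero]; exact stabCoset_one Q₀ m
  | succ n ih => rw [pow_succ]; exact stabCoset_mul ih hg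

variable [Finite Γ]

theorem stabCoset_of_mem_zpowers {Q₀ : Subgroup Γ} {m b : Γ} (hb : StabCoset Q₀ m b) {g : Γ}
    (hg : g ∈ Subgroup.zpowers b) : StabCoset Q₀ m g := by
  rw [← mem_powers_iff_mem_zpowers] at hg
  obtain ⟨n, rfl⟩ := hg
  exact stabCoset_pow hb n

/-- the coset `m Q₀` as a type -/
def CosetT (Q₀ : Subgroup Γ) (m : Γ) : Type _ := {x : Γ // m⁻¹ * x ∈ Q₀}

/-- `Q₀ ≃ m Q₀` -/
def cosetEquiv (Q₀ : Subgroup Γ) (m : Γ) : Q₀ ≃ CosetT Q₀ m where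
  toFun q := ⟨m * q, by rw [inv_mul_cancel_left]; exact q.2⟩
  invFun x := ⟨m⁻¹ * x.1, x.2⟩
  left_inv q := by
    apply Subtype.ext
    show m⁻¹ * (m * q) = q
    rw [inv_mul_cancel_left]
  right_inv x := by
    apply Subtype.ext
    show m * (m⁻¹ * x.1) = x.1
    rw [mul_inv_cancel_left]

/-- conjugation action of `⟨b⟩` on the coset `m Q₀` -/
@[reducible] def cosetAction (Q₀ : Subgroup Γ) (m b : Γ) (hb : StabCoset Q₀ m b) :
    MulAction (Subgroup.zpowers b) (CosetT Q₀ m) where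
  smul g x := ⟨(g : Γ) * x.1 * (g : Γ)⁻¹, stabCoset_conj (stabCoset_of_mem_zpowers hb g.2) x.2⟩
  one_smul x := by
    apply Subtype.ext
    show ((1 : Subgroup.zpowers b) : Γ) * x.1 * ((1 : Subgroup.zpowers b) : Γ)⁻¹ = x.1
    simp
  mul_smul g h x := by
    apply Subtype.ext
    show ((g * h : Subgroup.zpowers b) : Γ) * x.1 * ((g * h : Subgroup.zpowers b) : Γ)⁻¹ =
      (g : Γ) * ((h : Γ) * x.1 * (h : Γ)⁻¹) * (g : Γ)⁻¹
    rw [Subgroup.coe_mul]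
    group

/-- an element of prime order `r` stabilising a coset of a subgroup of order prime to `r` centralizes an element
of the coset -/
theorem exists_fixed_in_coset (Q₀ : Subgroup Γ) (b m : Γ) (r : ℕ) [Fact r.Prime]
    (hbr : orderOf b = r) (hb : StabCoset Q₀ m b) (hr : ¬ r ∣ Nat.card Q₀) :
    ∃ x : Γ, m⁻¹ * x ∈ Q₀ ∧ b * x = x * b := by
  have hB : IsPGroup r (Subgroup.zpowers b) := by
    apply IsPGroup.of_card (n := 1)
    rw [Nat.card_zpowers, hbr, pow_one]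
  let _inst := cosetAction Q₀ m b hb
  have hcard : Nat.card (CosetT Q₀ m) = Nat.card Q₀ := (Nat.card_congr (cosetEquiv Q₀ m)).symm
  have hfin : Finite (CosetT Q₀ m) := Finite.of_equiv _ (cosetEquiv Q₀ m)
  obtain ⟨x, hx⟩ := hB.nonempty_fixed_point_of_prime_not_dvd_card (CosetT Q₀ m) (by rw [hcard]; exact hr)
  refine ⟨x.1, x.2, ?_⟩
  have h1 := hx ⟨b, Subgroup.mem_zpowers b⟩
  have h2 : b * x.1 * b⁻¹ = x.1 := congrArg Subtype.val h1
  calc b * x.1 = b * x.1 * b⁻¹ * b := by group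
    _ = x.1 * b := by rw [h2]

end Coset

/-- K5. -/
theorem fpf_section.{u} {Γ : Type u} [Group Γ] [Finite Γ] (A M Q₀ : Subgroup Γ)
    (hQM : Q₀ ≤ M) (hne : Q₀ ≠ M)
    (hAM : A ≤ Subgroup.normalizer (M : Set Γ)) (hAQ : A ≤ Subgroup.normalizer (Q₀ : Set Γ))
    (hMQ : M ≤ Subgroup.normalizer (Q₀ : Set Γ))
    (hcop : (Nat.card A).Coprime (Nat.card Q₀))
    (hfix : ∀ a ∈ A, a ≠ 1 → ∀ m ∈ M, a * m = m * a → m ∈ Q₀) :
    ∃ (K : Type u) (_ : Group K) (_ : Finite K) (φ : A →* MulAut K), Nontrivial K ∧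
      ∀ a : A, a ≠ 1 → ∀ k : K, φ a k = k → k = 1 := by
  set Γ₀ : Subgroup Γ := Subgroup.normalizer (M : Set Γ) ⊓ Subgroup.normalizer (Q₀ : Set Γ) with hΓ₀
  have hAΓ : A ≤ Γ₀ := le_inf hAM hAQ
  have hMΓ : M ≤ Γ₀ := le_inf Subgroup.le_normalizer hMQ
  have hQn : (Q₀.subgroupOf Γ₀).Normal := Subgroup.normal_subgroupOf_of_le_normalizer inf_le_right
  have hMn : (M.subgroupOf Γ₀).Normal := Subgroup.normal_subgroupOf_of_le_normalizer inf_le_left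
  let π : Γ₀ →* Γ₀ ⧸ Q₀.subgroupOf Γ₀ := QuotientGroup.mk' (Q₀.subgroupOf Γ₀)
  let KS : Subgroup (Γ₀ ⧸ Q₀.subgroupOf Γ₀) := (M.subgroupOf Γ₀).map π
  have hKn : KS.Normal := Subgroup.Normal.map hMn π (QuotientGroup.mk'_surjective _)
  let φ : A →* MulAut KS := (MulAut.conjNormal (H := KS)).comp (π.comp (Subgroup.inclusion hAΓ))
  have hπ1 : ∀ x : Γ₀, π x = 1 ↔ (x : Γ) ∈ Q₀ := by
    intro x
    show (QuotientGroup.mk x : Γ₀ ⧸ Q₀.subgroupOf Γ₀) = 1 ↔ _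
    rw [QuotientGroup.eq_one_iff, Subgroup.mem_subgroupOf]
  refine ⟨KS, inferInstance, inferInstance, φ, ?_, ?_⟩
  · obtain ⟨m, hmM, hmQ⟩ : ∃ m ∈ M, m ∉ Q₀ := by
      by_contra hcon
      apply hne
      apply le_antisymm hQM
      intro m hm
      by_contra hmQ
      exact hcon ⟨m, hm, hmQ⟩
    refine ⟨⟨⟨π ⟨m, hMΓ hmM⟩, ⟨⟨m, hMΓ hmM⟩, Subgroup.mem_subgroupOf.2 hmM, rfl⟩⟩, 1, ?_⟩⟩
    intro h
    have h1 : π ⟨m, hMΓ hmM⟩ = 1 := congrArg Subtype.val h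
    exact hmQ ((hπ1 _).1 h1)
  · intro a ha k hk
    obtain ⟨m', hm'M, hm'k⟩ := k.2
    have hmM : (m' : Γ) ∈ M := Subgroup.mem_subgroupOf.1 hm'M
    set a' : Γ₀ := Subgroup.inclusion hAΓ a with ha'
    have hcoe : (a' : Γ) = (a : Γ) := rfl
    have h1 : π a' * (k : Γ₀ ⧸ Q₀.subgroupOf Γ₀) * (π a')⁻¹ = (k : Γ₀ ⧸ Q₀.subgroupOf Γ₀) := by
      have h0 : ((φ a k : KS) : Γ₀ ⧸ Q₀.subgroupOf Γ₀) =
          π a' * (k : Γ₀ ⧸ Q₀.subgroupOf Γ₀) * (π a')⁻¹ :=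
        MulAut.conjNormal_apply (H := KS) (π a') k
      rw [← h0, hk]
    have h2 : π (m'⁻¹ * (a' * m' * a'⁻¹)) = 1 := by
      rw [map_mul, map_mul, map_mul, map_inv, map_inv, hm'k, h1, inv_mul_cancel]
    have h3 : (m' : Γ)⁻¹ * ((a : Γ) * (m' : Γ) * (a : Γ)⁻¹) ∈ Q₀ := (hπ1 _).1 h2
    have hstab : StabCoset Q₀ (m' : Γ) (a : Γ) := ⟨hAQ a.2, h3⟩
    -- a prime-order power of `a`
    have haΓ : (a : Γ) ≠ 1 := fun h => ha (Subtype.ext h)
    have hord1 : orderOf (a : Γ) ≠ 1 := fun h => haΓ (orderOf_eq_one_iff.1 h)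
    have hord0 : orderOf (a : Γ) ≠ 0 := (orderOf_pos (a : Γ)).ne'
    set r := (orderOf (a : Γ)).minFac with hr
    have hrp : r.Prime := Nat.minFac_prime hord1
    have hrf : Fact r.Prime := ⟨hrp⟩
    have hrd : r ∣ orderOf (a : Γ) := Nat.minFac_dvd _
    set b : Γ := (a : Γ) ^ (orderOf (a : Γ) / r) with hb
    have hbr : orderOf b = r := orderOf_pow_orderOf_div hord0 hrd
    have hbA : b ∈ A := A.pow_mem a.2 _
    have hb1 : b ≠ 1 := by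
      intro h
      rw [h, orderOf_one] at hbr
      exact hrp.one_lt.ne hbr
    have hbstab : StabCoset Q₀ (m' : Γ) b := stabCoset_pow hstab _
    have hrQ : ¬ r ∣ Nat.card Q₀ := by
      intro hdvd
      have hrA : r ∣ Nat.card A := by
        have h4 : orderOf (a : Γ) = orderOf a := Subgroup.orderOf_coe a
        have h5 : orderOf a ∣ Nat.card A := orderOf_dvd_natCard a
        exact hrd.trans (h4 ▸ h5)
      have := Nat.dvd_gcd hrA hdvd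
      rw [hcop, Nat.dvd_one] at this
      exact hrp.one_lt.ne' this
    obtain ⟨x, hxQ, hxb⟩ := exists_fixed_in_coset Q₀ b (m' : Γ) r hbr hbstab hrQ
    have hxM : x ∈ M := by
      have : x = (m' : Γ) * ((m' : Γ)⁻¹ * x) := by group
      rw [this]
      exact M.mul_mem hmM (hQM hxQ)
    have hxQ₀ : x ∈ Q₀ := hfix b hbA hb1 x hxM hxb
    have hmQ : (m' : Γ) ∈ Q₀ := by
      have : (m' : Γ) = x * ((m' : Γ)⁻¹ * x)⁻¹ := by group
      rw [this]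
      exact Q₀.mul_mem hxQ₀ (Q₀.inv_mem hxQ)
    apply Subtype.ext
    show (k : Γ₀ ⧸ Q₀.subgroupOf Γ₀) = 1
    rw [← hm'k]
    exact (hπ1 _).2 hmQ

end Cfsg.Agent.Lib.Helper81.TIHall
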