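import Mathlib
import Cfsg.Agent.Lib.Helper15.BG1379Defs

/-!
# Keystone 137901 (K-1379-V1, architect helper15): `Cov` is conjugation invariant
-/

set_option autoImplicit false

namespace Cfsg.Agent.Lib.Helper81.BG1379

open Cfsg Subgroup Cfsg.Agent.Lib.Helper15.BG1379

variable {G : Type*} [Group G] [Finite G]

/-- **LEAF V1 (137901)** -/
theorem Cov.conj {g : G} (h : Cov g) (y : G) : Cov (y * g * y⁻¹) := by
  obtain ⟨N, hN, a, ha, r, hr, y0, rfl⟩ := h
  refine ⟨N, hN, a, ha, r, hr, y * y0, ?_⟩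
  group

end Cfsg.Agent.Lib.Helper81.BG1379
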