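import Mathlib

/-!
# K-GAG-G03 (keystone 483903, S4839 pack): if the nonidentity elements of a normal subgroup `N`
form one conjugacy class of `G`, then `[G : C_G(x)] + 1 = |N|` for `1 ≠ x ∈ N`.
-/

set_option autoImplicit false

namespace Cfsg.Agent.Lib.Helper81.Gag

variable {G : Type*} [Group G] [Finite G]

/-- G03 (MEDIUM): the class of `x ∈ N#` is `N#`, so `[G : C_G(x)] + 1 = |N|`. -/
theorem index_centralizer (N : Subgroup G) [N.Normal]
    (hconj : ∀ x ∈ N, ∀ y ∈ N, x ≠ 1 → y ≠ 1 → IsConj x y)
    (x : G) (hx : x ∈ N) (hx1 : x ≠ 1) :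
    (Subgroup.centralizer ({x} : Set G)).index + 1 = Nat.card N := by
  have hstab : MulAction.stabilizer (ConjAct G) x =
      (Subgroup.centralizer ({x} : Set G)).comap (ConjAct.ofConjAct (G := G)).toMonoidHom := by
    ext g
    rw [MulAction.mem_stabilizer_iff, Subgroup.mem_comap, Subgroup.mem_centralizer_iff,
      ConjAct.smul_def]
    simp only [Set.mem_singleton_iff, forall_eq, MulEquiv.coe_toMonoidHom]
    rw [mul_inv_eq_iff_eq_mul, eq_comm]
  have hidx : (Subgroup.centralizer ({x} : Set G)).index =
      (MulAction.orbit (ConjAct G) x).ncard := by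
    rw [← MulAction.index_stabilizer, hstab,
      Subgroup.index_comap_of_surjective _ (ConjAct.ofConjAct (G := G)).surjective]
  have horb : MulAction.orbit (ConjAct G) x = (N : Set G) \ {1} := by
    ext y
    rw [ConjAct.mem_orbit_conjAct, Set.mem_sdiff, Set.mem_singleton_iff, SetLike.mem_coe]
    constructor
    · intro h
      obtain ⟨c, hc⟩ := isConj_iff.mp h
      constructor
      · have hy : y = c⁻¹ * x * c⁻¹⁻¹ := by
          rw [← hc]
          group
        rw [hy]
        exact ‹N.Normal›.conj_mem x hx c⁻¹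
      · rintro rfl
        apply hx1
        rw [← hc]
        group
    · rintro ⟨hy, hy1⟩
      exact hconj y hy x hx hy1 hx1
  rw [hidx, horb, Set.ncard_sdiff_singleton_of_mem (show (1 : G) ∈ (N : Set G) from N.one_mem)]
  have h1 : (N : Set G).ncard = Nat.card N := rfl
  have h2 : 0 < Nat.card N := Nat.card_pos
  omega

end Cfsg.Agent.Lib.Helper81.Gag
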