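import Mathlib
import Cfsg.Agent.S0858
import Cfsg.Agent.S0859
import Cfsg.Agent.S0065

/-!
# K-CD3-N7 (keystone 446007, S4460 pack): an abelian normal subgroup of `p`-power index makes
`G` an M-group (S0858 + S0859; chief factors of `p`-group sections have order `p`).
-/

set_option autoImplicit false

namespace Cfsg.Agent.Lib.Helper81.CD3

open Cfsg

universe u

variable {G : Type u} [Group G] [Finite G]

/-- a chief factor `K / L` of `H1` above a normal subgroup `H` of `p`-power index has order `p`. -/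
theorem chief_relIndex_eq_prime (p : ℕ) (hp : p.Prime) (H : Subgroup G) [H.Normal]
    (hidx : ∃ k : ℕ, H.index = p ^ k)
    (H1 K L : Subgroup G) (hHL : H ≤ L) (hLK : L < K) (hKH1 : K ≤ H1)
    (hK : ∀ h ∈ H1, ∀ k ∈ K, h * k * h⁻¹ ∈ K) (hL : ∀ h ∈ H1, ∀ l ∈ L, h * l * h⁻¹ ∈ L)
    (hmin : ∀ M : Subgroup G, L ≤ M → M ≤ K → (∀ h ∈ H1, ∀ m ∈ M, h * m * h⁻¹ ∈ M) →
      M = L ∨ M = K) :
    L.relIndex K = p := by
  have : Fact p.Prime := ⟨hp⟩
  obtain ⟨k, hk⟩ := hidx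
  have hLH1 : L ≤ H1 := hLK.le.trans hKH1
  have hLn : (L.subgroupOf H1).Normal := by
    constructor
    intro n hn g
    rw [Subgroup.mem_subgroupOf] at hn ⊢
    exact hL g g.2 n hn
  have hKn : (K.subgroupOf H1).Normal := by
    constructor
    intro n hn g
    rw [Subgroup.mem_subgroupOf] at hn ⊢
    exact hK g g.2 n hn
  have hcardP : Nat.card (↥H1 ⧸ L.subgroupOf H1) ∣ p ^ k := by
    have h1 : Nat.card (↥H1 ⧸ L.subgroupOf H1) = L.relIndex H1 := rfl
    rw [h1, ← hk]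
    exact (Subgroup.relIndex_dvd_of_le_left H1 hHL).trans
      (Subgroup.relIndex_dvd_index_of_normal H H1)
  obtain ⟨m, -, hm⟩ := (Nat.dvd_prime_pow hp).mp hcardP
  have hPp : IsPGroup p (↥H1 ⧸ L.subgroupOf H1) := IsPGroup.of_card hm
  have : Group.IsNilpotent (↥H1 ⧸ L.subgroupOf H1) := hPp.isNilpotent
  have hNn : ((K.subgroupOf H1).map (QuotientGroup.mk' (L.subgroupOf H1))).Normal :=
    hKn.map _ (QuotientGroup.mk'_surjective _)
  have hNne : (K.subgroupOf H1).map (QuotientGroup.mk' (L.subgroupOf H1)) ≠ ⊥ := by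
    obtain ⟨x, hxK, hxL⟩ := SetLike.exists_of_lt hLK
    intro hbot
    have hx1 : (QuotientGroup.mk' (L.subgroupOf H1)) ⟨x, hKH1 hxK⟩ ∈
        (K.subgroupOf H1).map (QuotientGroup.mk' (L.subgroupOf H1)) :=
      Subgroup.mem_map_of_mem _ (by rw [Subgroup.mem_subgroupOf]; exact hxK)
    rw [hbot, Subgroup.mem_bot, QuotientGroup.mk'_apply, QuotientGroup.eq_one_iff,
      Subgroup.mem_subgroupOf] at hx1
    exact hxL hx1
  have hZne := Cfsg.Agent.S0065.result _ hNne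
  have hZ1p : IsPGroup p ↥((K.subgroupOf H1).map (QuotientGroup.mk' (L.subgroupOf H1)) ⊓
      Subgroup.center (↥H1 ⧸ L.subgroupOf H1)) := hPp.to_subgroup _
  have hpZ1 : p ∣ Nat.card ↥((K.subgroupOf H1).map (QuotientGroup.mk' (L.subgroupOf H1)) ⊓
      Subgroup.center (↥H1 ⧸ L.subgroupOf H1)) := by
    rcases hZ1p.card_eq_or_dvd with h1 | h1
    · exact absurd (Subgroup.card_eq_one.mp h1) hZne
    · exact h1
  obtain ⟨z, hz⟩ := exists_prime_orderOf_dvd_card' p hpZ1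
  have hzN : (z : ↥H1 ⧸ L.subgroupOf H1) ∈
      (K.subgroupOf H1).map (QuotientGroup.mk' (L.subgroupOf H1)) := z.2.1
  have hzC : (z : ↥H1 ⧸ L.subgroupOf H1) ∈ Subgroup.center (↥H1 ⧸ L.subgroupOf H1) := z.2.2
  have hzo : orderOf (z : ↥H1 ⧸ L.subgroupOf H1) = p := by
    rw [Subgroup.orderOf_coe]; exact hz
  have hCN : Subgroup.zpowers (z : ↥H1 ⧸ L.subgroupOf H1) ≤
      (K.subgroupOf H1).map (QuotientGroup.mk' (L.subgroupOf H1)) :=
    (Subgroup.zpowers_le).mpr hzN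
  have hCC : Subgroup.zpowers (z : ↥H1 ⧸ L.subgroupOf H1) ≤
      Subgroup.center (↥H1 ⧸ L.subgroupOf H1) :=
    (Subgroup.zpowers_le).mpr hzC
  -- the subgroup `M`
  have hrel : L.relIndex (((Subgroup.zpowers (z : ↥H1 ⧸ L.subgroupOf H1)).comap
      (QuotientGroup.mk' (L.subgroupOf H1))).map H1.subtype) = p := by
    rw [← Subgroup.relIndex_comap L H1.subtype]
    have h1 : L.comap H1.subtype =
        (⊥ : Subgroup (↥H1 ⧸ L.subgroupOf H1)).comap (QuotientGroup.mk' (L.subgroupOf H1)) := by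
      rw [MonoidHom.comap_bot, QuotientGroup.ker_mk']
      rfl
    rw [h1, Subgroup.relIndex_comap,
      Subgroup.map_comap_eq_self_of_surjective (QuotientGroup.mk'_surjective _),
      Subgroup.relIndex_bot_left, Nat.card_zpowers, hzo]
  have hLM : L ≤ ((Subgroup.zpowers (z : ↥H1 ⧸ L.subgroupOf H1)).comap
      (QuotientGroup.mk' (L.subgroupOf H1))).map H1.subtype := by
    intro l hl
    refine ⟨⟨l, hLH1 hl⟩, ?_, rfl⟩
    change (QuotientGroup.mk' (L.subgroupOf H1)) ⟨l, hLH1 hl⟩ ∈ Subgroup.zpowers _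
    have : (QuotientGroup.mk' (L.subgroupOf H1)) ⟨l, hLH1 hl⟩ = 1 := by
      rw [QuotientGroup.mk'_apply, QuotientGroup.eq_one_iff, Subgroup.mem_subgroupOf]
      exact hl
    rw [this]
    exact Subgroup.one_mem _
  have hMK : ((Subgroup.zpowers (z : ↥H1 ⧸ L.subgroupOf H1)).comap
      (QuotientGroup.mk' (L.subgroupOf H1))).map H1.subtype ≤ K := by
    rintro _ ⟨y, hy, rfl⟩
    have hy1 : (QuotientGroup.mk' (L.subgroupOf H1)) y ∈
        (K.subgroupOf H1).map (QuotientGroup.mk' (L.subgroupOf H1)) := hCN hy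
    obtain ⟨y', hy'K, hy'⟩ := hy1
    rw [QuotientGroup.mk'_apply, QuotientGroup.mk'_apply, QuotientGroup.eq,
      Subgroup.mem_subgroupOf] at hy'
    have hy'K2 : (y' : G) ∈ K := hy'K
    have h2 : ((y' : G))⁻¹ * (y : G) ∈ K := hLK.le (by simpa using hy')
    have h3 : (y' : G) * (((y' : G))⁻¹ * (y : G)) ∈ K := K.mul_mem hy'K2 h2
    simpa using h3
  have hMinv : ∀ h ∈ H1, ∀ m ∈ ((Subgroup.zpowers (z : ↥H1 ⧸ L.subgroupOf H1)).comap
      (QuotientGroup.mk' (L.subgroupOf H1))).map H1.subtype, h * m * h⁻¹ ∈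
      ((Subgroup.zpowers (z : ↥H1 ⧸ L.subgroupOf H1)).comap
      (QuotientGroup.mk' (L.subgroupOf H1))).map H1.subtype := by
    rintro h hh _ ⟨y, hy, rfl⟩
    refine ⟨(⟨h, hh⟩ : ↥H1) * y * (⟨h, hh⟩ : ↥H1)⁻¹, ?_, rfl⟩
    change (QuotientGroup.mk' (L.subgroupOf H1)) ((⟨h, hh⟩ : ↥H1) * y * (⟨h, hh⟩ : ↥H1)⁻¹) ∈
      Subgroup.zpowers _
    have hyc : (QuotientGroup.mk' (L.subgroupOf H1)) y ∈
        Subgroup.center (↥H1 ⧸ L.subgroupOf H1) := hCC hy
    have : (QuotientGroup.mk' (L.subgroupOf H1)) ((⟨h, hh⟩ : ↥H1) * y * (⟨h, hh⟩ : ↥H1)⁻¹) =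
        (QuotientGroup.mk' (L.subgroupOf H1)) y := by
      rw [map_mul, map_mul, map_inv, (Subgroup.mem_center_iff.mp hyc) _, mul_inv_cancel_right]
    rw [this]
    exact hy
  have hMneL : ((Subgroup.zpowers (z : ↥H1 ⧸ L.subgroupOf H1)).comap
      (QuotientGroup.mk' (L.subgroupOf H1))).map H1.subtype ≠ L := by
    intro hML
    rw [hML, Subgroup.relIndex_self] at hrel
    exact hp.one_lt.ne hrel
  rcases hmin _ hLM hMK hMinv with h1 | h1
  · exact absurd h1 hMneL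
  · rw [← h1]; exact hrel

/-- 446007 N7 : abelian normal subgroup of `p`-power index => `G` is an M-group
(S0858 + S0859). -/
theorem monomial_of_abelian_ppow [Fintype G] (p : ℕ) (hp : p.Prime) (H : Subgroup G) [H.Normal]
    (hab : ∀ a ∈ H, ∀ b ∈ H, a * b = b * a) (hidx : ∃ k : ℕ, H.index = p ^ k)
    (χ : G → ℂ) (hχ : IsIrrCharacter G χ) :
    ∃ (U : Subgroup G) (lam : U → ℂ), IsCharacter U lam ∧ lam 1 = 1 ∧ indFun U lam = χ := by
  have : Fact p.Prime := ⟨hp⟩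
  have hQp : IsPGroup p (G ⧸ H) := by
    obtain ⟨k, hk⟩ := hidx
    exact IsPGroup.of_card (n := k) (by rw [← hk]; rfl)
  have hnilQ : Group.IsNilpotent (G ⧸ H) := hQp.isNilpotent
  have hsolvQ : Group.IsSolvable (G ⧸ H) := inferInstance
  have hsolvH : Group.IsSolvable ↥H := by
    have hc : ∀ a b : ↥H, a * b = b * a := fun a b => Subtype.ext (hab a a.2 b b.2)
    exact Group.isSolvable_of_comm hc
  have hsolvG : Group.IsSolvable G := by
    refine Group.isSolvable_of_ker_le_range H.subtype (QuotientGroup.mk' H) ?_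
    rw [QuotientGroup.ker_mk', Subgroup.range_subtype]
  have hchief : ∀ (H1 K L : Subgroup G), H ≤ L → L < K → K ≤ H1 →
      (∀ h ∈ H1, ∀ k ∈ K, h * k * h⁻¹ ∈ K) → (∀ h ∈ H1, ∀ l ∈ L, h * l * h⁻¹ ∈ L) →
      (∀ M : Subgroup G, L ≤ M → M ≤ K → (∀ h ∈ H1, ∀ m ∈ M, h * m * h⁻¹ ∈ M) →
        M = L ∨ M = K) → ¬ IsSquare (L.relIndex K) := by
    intro H1 K L hHL hLK hKH1 hK hL hmin
    rw [chief_relIndex_eq_prime p hp H hidx H1 K L hHL hLK hKH1 hK hL hmin]
    exact hp.prime.not_isSquare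
  have hab' : ∀ (q : ℕ) [Fact q.Prime] (P : Sylow q H), ∀ a ∈ P, ∀ b ∈ P, a * b = b * a := by
    intro q _ P a _ b _
    exact Subtype.ext (hab a a.2 b b.2)
  have hrel : ∀ χ : G → ℂ, IsIrrCharacter G χ → ∃ (H' : Subgroup G) (hNH : H ≤ H') (ψ : H' → ℂ),
      IsIrrCharacter H' ψ ∧ indFun H' ψ = χ ∧
        IsIrrCharacter H (fun n : H => ψ ⟨(n : G), hNH n.2⟩) :=
    fun χ hχ => Cfsg.Agent.S0858.result H hsolvQ hchief χ hχ
  exact Cfsg.Agent.S0859.result H hab' hrel χ hχ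

end Cfsg.Agent.Lib.Helper81.CD3
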