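import Mathlib
import Cfsg.Prelude.Def_GeometricClasses
import Cfsg.Agent.Lib.Helper49.SpODefs
import Cfsg.Agent.Lib.Helper50.SpTransvCent
import Cfsg.Agent.Lib.Helper07.SpCardD

/-!
# K-SpO-2 (keystone 598302, architect helper49, row S5983)

`[Sp_2d(q) : H ⊓ Sp] * |O(Q)| = |Sp_2d(q)|` for `H = quadSimilarityGroup Q`, `Q` a nondegenerate
quadratic form whose polar form is `sympForm`.
-/

set_option autoImplicit false

namespace Cfsg.Agent.Lib.Helper81.SpO

open Matrix Cfsg.Agent.Lib.Helper49.SpInv Cfsg.Agent.Lib.Helper49.OInv Cfsg.Agent.Lib.Helper49.SpO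

variable {F : Type*} [Field F]

/-- membership in the isometry group of a one-argument form -/
theorem mem_isometryGroup_iff {ι : Type} [Fintype ι] [DecidableEq ι] (Q : (ι → F) → F)
    (g : GL ι F) :
    g ∈ Cfsg.isometryGroup F Q ↔ ∀ v, Q ((g : Matrix ι ι F) *ᵥ v) = Q v := by
  constructor
  · intro h v
    exact h v v
  · intro h u _
    exact h u

theorem mem_spGL_iff (d : ℕ) (g : GL (Fin d ⊕ Fin d) F) :
    g ∈ Cfsg.spGL d F ↔ ∀ u v, Cfsg.sympForm d F ((g : Matrix _ _ F) *ᵥ u) ((g : Matrix _ _ F) *ᵥ v) =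
      Cfsg.sympForm d F u v := Iff.rfl

/-- the similarities of `Q` lying in `Sp` are exactly the isometries of `Q` -/
theorem quadSimilarityGroup_inf_spGL (d : ℕ) (hd : 1 ≤ d)
    (Q : (Fin d ⊕ Fin d → F) → F) (hQ : Cfsg.Geo.IsNondegenerateQuadraticForm Q)
    (hQf : ∀ u v, QuadraticMap.polar Q u v = Cfsg.sympForm d F u v) :
    Cfsg.Geo.quadSimilarityGroup Q ⊓ Cfsg.spGL d F = Cfsg.isometryGroup F Q := by
  ext g
  rw [Subgroup.mem_inf, mem_isometryGroup_iff, mem_spGL_iff]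
  constructor
  · rintro ⟨⟨c, hc⟩, hsp⟩
    -- a nonzero value of the polar form
    have hv : ∃ v : Fin d ⊕ Fin d → F, v ≠ 0 := by
      refine ⟨Pi.single (Sum.inl ⟨0, hd⟩) 1, ?_⟩
      intro h
      have := congrFun h (Sum.inl ⟨0, hd⟩)
      simp at this
    obtain ⟨v, hv0⟩ := hv
    obtain ⟨⟨x, hx⟩, -⟩ := hQ.nondegenerate v hv0
    have h1 : QuadraticMap.polar Q ((g : Matrix _ _ F) *ᵥ x) ((g : Matrix _ _ F) *ᵥ v) =
        (c : F) * QuadraticMap.polar Q x v := by
      unfold QuadraticMap.polar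
      rw [← Matrix.mulVec_add, hc, hc, hc]
      ring
    have h2 : QuadraticMap.polar Q ((g : Matrix _ _ F) *ᵥ x) ((g : Matrix _ _ F) *ᵥ v) =
        QuadraticMap.polar Q x v := by
      rw [hQf, hQf, hsp]
    have hc1 : (c : F) = 1 := by
      have h3 : ((c : F) - 1) * QuadraticMap.polar Q x v = 0 := by
        rw [sub_mul, one_mul, ← h1, h2, sub_self]
      rcases mul_eq_zero.1 h3 with h | h
      · exact sub_eq_zero.1 h
      · exact absurd h hx
    intro w
    rw [hc, hc1, one_mul]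
  · intro h
    refine ⟨⟨1, fun w => by rw [h, Units.val_one, one_mul]⟩, ?_⟩
    intro u v
    rw [← hQf, ← hQf]
    unfold QuadraticMap.polar
    rw [← Matrix.mulVec_add, h, h, h]

/-- the order of `spGL` -/
theorem card_spGL [Fintype F] {q : ℕ} (hq : Fintype.card F = q) (d : ℕ) :
    Nat.card (Cfsg.spGL d F) = spOrd q d := by
  rw [← Nat.card_congr (Cfsg.Agent.Lib.Helper50.spEquiv (F := F) d).toEquiv]
  exact Cfsg.Agent.Lib.Helper07.card_symplecticGroup hq d

variable [Fintype F] [CharP F 2]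

/-- K-SpO-2 (id 598302): the index. -/
theorem relIndex_mul_card {q : ℕ} (hq : Fintype.card F = q) (d : ℕ) (hd : 1 ≤ d)
    (Q : (Fin d ⊕ Fin d → F) → F) (hQ : Cfsg.Geo.IsNondegenerateQuadraticForm Q)
    (hQf : ∀ u v, QuadraticMap.polar Q u v = Cfsg.sympForm d F u v) :
    (Cfsg.Geo.quadSimilarityGroup Q).relIndex (Cfsg.spGL d F) * Nat.card (Cfsg.isometryGroup F Q) =
      spOrd q d := by
  have hinf := quadSimilarityGroup_inf_spGL d hd Q hQ hQf
  have hle : Cfsg.isometryGroup F Q ≤ Cfsg.spGL d F := by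
    rw [← hinf]
    exact inf_le_right
  rw [← Subgroup.inf_relIndex_right, hinf, ← card_spGL hq d]
  have h := Subgroup.relIndex_mul_relIndex (⊥ : Subgroup (GL (Fin d ⊕ Fin d) F))
    (Cfsg.isometryGroup F Q) (Cfsg.spGL d F) bot_le hle
  rw [Subgroup.relIndex_bot_left, Subgroup.relIndex_bot_left] at h
  rw [mul_comm]
  exact h

end Cfsg.Agent.Lib.Helper81.SpO
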