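import Cfsg.Agent.Lib.Helper37.G2InvDefs

/-!
# K-G2I pack (S2177), LEAF I1: the three short involution conditions in `U ≤ G₂(q)`, `q` even.
Mathlib-only (over `Helper37.G2InvDefs`); the needed pieces of leaves C1 / Z are proved here directly.
-/

set_option autoImplicit false
set_option linter.unusedSectionVars false
set_option linter.unusedVariables false

namespace Cfsg.Agent.Lib.Helper81.G2Inv

open Cfsg.Agent.Lib.Helper37.G2Inv

variable {F : Type*} [Field F] [CharP F 2] {G : Type*} [Group G] (D : UData F G)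

theorem i1_conj_mul (g a b : G) : g * (a * b) * g⁻¹ = (g * a * g⁻¹) * (g * b * g⁻¹) := by group

theorem i1_conj_of_comm {g a : G} (h : g * a = a * g) : g * a * g⁻¹ = a := by
  rw [h, mul_assoc, mul_inv_cancel, mul_one]

theorem i1_comm6 {a b c a' b' c' : G} (h1 : b * a' = a' * b) (h2 : c * a' = a' * c)
    (h3 : c * b' = b' * c) :
    a * (b * c) * (a' * (b' * c')) = a * a' * (b * b' * (c * c')) := by
  calc a * (b * c) * (a' * (b' * c')) = a * (b * (c * a')) * (b' * c') := by group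
    _ = a * (b * (a' * c)) * (b' * c') := by rw [h2]
    _ = a * ((b * a') * c) * (b' * c') := by group
    _ = a * ((a' * b) * c) * (b' * c') := by rw [h1]
    _ = a * a' * (b * (c * b') * c') := by group
    _ = a * a' * (b * (b' * c) * c') := by rw [h3]
    _ = _ := by group

theorem i1_c79 (c a : F) : D.x 7 c * D.x 9 a * (D.x 7 c)⁻¹ = D.x 9 a * D.x 10 (c * a) := by
  rw [mul_inv_eq_iff_eq_mul, mul_assoc (D.x 9 a), ← D.c710 c (c * a), ← mul_assoc, D.r79 c a,
    mul_assoc, D.x_sq, mul_one]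

theorem i1_c89 (c a : F) : D.x 8 c * D.x 9 a * (D.x 8 c)⁻¹ = D.x 9 a * D.x 11 (c * a) := by
  rw [mul_inv_eq_iff_eq_mul, mul_assoc (D.x 9 a), ← D.c811 c (c * a), ← mul_assoc, D.r89 c a,
    mul_assoc, D.x_sq, mul_one]

theorem i1_c610 (c b : F) : D.x 6 c * D.x 10 b * (D.x 6 c)⁻¹ = D.x 10 b * D.x 11 (c * b) := by
  rw [mul_inv_eq_iff_eq_mul, mul_assoc (D.x 10 b), ← D.c611 c (c * b), ← mul_assoc, D.r610 c b,
    mul_assoc, D.x_sq, mul_one]

theorem i1_z_mul (α β γ α' β' γ' : F) :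
    D.z α β γ * D.z α' β' γ' = D.z (α + α') (β + β') (γ + γ') := by
  unfold UData.z
  rw [i1_comm6 (D.c910 α' β).symm (D.c911 α' γ).symm (D.c1011 β' γ).symm, D.add, D.add, D.add]

theorem i1_z_conj7 (c α β γ : F) :
    D.x 7 c * D.z α β γ * (D.x 7 c)⁻¹ = D.z α (β + c * α) γ := by
  unfold UData.z
  rw [i1_conj_mul, i1_conj_mul, i1_c79 D, i1_conj_of_comm (D.c710 c β),
    i1_conj_of_comm (D.c711 c γ)]
  rw [mul_assoc, ← mul_assoc (D.x 10 (c * α)), D.add, add_comm]

theorem i1_z_conj8 (c α β γ : F) :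
    D.x 8 c * D.z α β γ * (D.x 8 c)⁻¹ = D.z α β (γ + c * α) := by
  unfold UData.z
  rw [i1_conj_mul, i1_conj_mul, i1_c89 D, i1_conj_of_comm (D.c810 c β),
    i1_conj_of_comm (D.c811 c γ)]
  rw [mul_assoc, ← mul_assoc (D.x 11 (c * α)), ← D.c1011 β (c * α), mul_assoc (D.x 10 β), D.add,
    add_comm]

theorem i1_z_conj6 (c α β γ : F) :
    D.x 6 c * D.z α β γ * (D.x 6 c)⁻¹ = D.z α β (γ + c * β) := by
  unfold UData.z
  rw [i1_conj_mul, i1_conj_mul, i1_conj_of_comm (D.c69 c α), i1_c610 D,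
    i1_conj_of_comm (D.c611 c γ)]
  rw [mul_assoc (D.x 10 β), D.add, add_comm]

theorem i1_x10_eq_one {v : F} (h : D.x 10 v = 1) : v = 0 := by
  have key := D.inj 0 0 0 0 v 0 0 0 0 0 0 0 (by
    simp only [D.x_zero, one_mul, mul_one]
    exact h)
  exact key.2.2.2.2.1

theorem i1_x11_eq_one {v : F} (h : D.x 11 v = 1) : v = 0 := by
  have key := D.inj 0 0 0 0 0 v 0 0 0 0 0 0 (by
    simp only [D.x_zero, one_mul, mul_one]
    exact h)
  exact key.2.2.2.2.2

theorem i1_sq_eq (g w : G) (hg : g⁻¹ = g) : g * w * (g * w) = (g * w * g⁻¹) * w := by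
  rw [hg]; group

theorem inv7z (t α β γ : F) (h : D.x 7 t * D.z α β γ * (D.x 7 t * D.z α β γ) = 1) : t * α = 0 := by
  rw [i1_sq_eq _ _ (D.x_inv 7 t), i1_z_conj7, i1_z_mul] at h
  have e2 : β + t * α + β = t * α := by
    rw [add_comm β, add_assoc, CharTwo.add_self_eq_zero, add_zero]
  rw [CharTwo.add_self_eq_zero, CharTwo.add_self_eq_zero, e2] at h
  unfold UData.z at h
  rw [D.x_zero, D.x_zero, one_mul, mul_one] at h
  exact i1_x10_eq_one D h

theorem inv8z (s α β γ : F) (h : D.x 8 s * D.z α β γ * (D.x 8 s * D.z α β γ) = 1) : s * α = 0 := by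
  rw [i1_sq_eq _ _ (D.x_inv 8 s), i1_z_conj8, i1_z_mul] at h
  have e2 : γ + s * α + γ = s * α := by
    rw [add_comm γ, add_assoc, CharTwo.add_self_eq_zero, add_zero]
  rw [CharTwo.add_self_eq_zero, CharTwo.add_self_eq_zero, e2] at h
  unfold UData.z at h
  rw [D.x_zero, D.x_zero, one_mul, one_mul] at h
  exact i1_x11_eq_one D h

theorem inv6z (s α β γ : F) (h : D.x 6 s * D.z α β γ * (D.x 6 s * D.z α β γ) = 1) : s * β = 0 := by
  rw [i1_sq_eq _ _ (D.x_inv 6 s), i1_z_conj6, i1_z_mul] at h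
  have e2 : γ + s * β + γ = s * β := by
    rw [add_comm γ, add_assoc, CharTwo.add_self_eq_zero, add_zero]
  rw [CharTwo.add_self_eq_zero, CharTwo.add_self_eq_zero, e2] at h
  unfold UData.z at h
  rw [D.x_zero, D.x_zero, one_mul, one_mul] at h
  exact i1_x11_eq_one D h

end Cfsg.Agent.Lib.Helper81.G2Inv
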