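import Cfsg.Agent.Lib.Helper43.UFDefs
import Cfsg.Agent.Lib.Helper50.GeoBridge
import Cfsg.Prelude.Def_GeometricClasses

/-!
Keystone 570006 (K-UF-G1, pack of helper43 for S5700): from the Prelude data of a quadratic field
subalgebra `K` of unitary type (adjoint-closed, not self-adjoint, consisting of similarities) to the
`UData` structure of `Helper43.UFDefs`.
-/

set_option autoImplicit false
set_option linter.unusedSimpArgs false
set_option linter.unusedVariables false
set_option linter.unusedSectionVars false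

namespace Cfsg.Agent.Lib.Helper81.UF

open Module Matrix Cfsg Cfsg.Geo Cfsg.Agent.Lib.Helper19 Cfsg.Agent.Lib.Helper43
  Cfsg.Agent.Lib.Helper43.UF

variable {F : Type*} [Field F] {n : ℕ}

/-- a generator of a two-dimensional subalgebra -/
theorem exists_gen (K : Subalgebra F (Matrix (Fin n) (Fin n) F)) (h2 : Module.finrank F K = 2) :
    ∃ j ∈ K, (∀ α : F, j ≠ α • (1 : Matrix (Fin n) (Fin n) F)) ∧
      (∀ k ∈ K, ∃ α β : F, k = α • 1 + β • j) ∧
      ∀ α β : F, α • (1 : Matrix (Fin n) (Fin n) F) + β • j = 0 → α = 0 ∧ β = 0 := by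
  classical
  have h2' : Module.finrank F ↥(Subalgebra.toSubmodule K) = 2 := h2
  have hex : ∃ j ∈ K, ∀ α : F, j ≠ α • (1 : Matrix (Fin n) (Fin n) F) := by
    by_contra hcon
    have hall : ∀ j ∈ K, ∃ α : F, j = α • (1 : Matrix (Fin n) (Fin n) F) := by
      intro j hj
      by_contra h
      exact hcon ⟨j, hj, fun α hα => h ⟨α, hα⟩⟩
    have hle : Subalgebra.toSubmodule K ≤
        Submodule.span F ({(1 : Matrix (Fin n) (Fin n) F)} : Set _) := by
      intro k hk
      obtain ⟨α, rfl⟩ := hall k hk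
      exact Submodule.smul_mem _ _ (Submodule.subset_span rfl)
    have h1 := Submodule.finrank_mono hle
    have h3 : Module.finrank F ↥(Submodule.span F ({(1 : Matrix (Fin n) (Fin n) F)} : Set _)) ≤ 1 := by
      by_cases h10 : (1 : Matrix (Fin n) (Fin n) F) = 0
      · rw [h10, Submodule.span_zero_singleton, finrank_bot]; omega
      · rw [finrank_span_singleton h10]
    omega
  obtain ⟨j, hjK, hjns⟩ := hex
  have hind : ∀ α β : F, α • (1 : Matrix (Fin n) (Fin n) F) + β • j = 0 → α = 0 ∧ β = 0 := by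
    intro α β h
    have hβ : β = 0 := by
      by_contra hβ
      apply hjns (-α / β)
      have h1 : β • j = (-α) • (1 : Matrix (Fin n) (Fin n) F) := by
        rw [neg_smul]; exact eq_neg_of_add_eq_zero_right h
      calc j = β⁻¹ • (β • j) := by rw [smul_smul, inv_mul_cancel₀ hβ, one_smul]
        _ = (-α / β) • (1 : Matrix (Fin n) (Fin n) F) := by
          rw [h1, smul_smul]; congr 1; field_simp
    subst hβ
    rw [zero_smul, add_zero] at h
    refine ⟨?_, rfl⟩
    by_contra hα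
    have h10 : (1 : Matrix (Fin n) (Fin n) F) = 0 := by
      have := congrArg (fun m => α⁻¹ • m) h
      simpa [smul_smul, inv_mul_cancel₀ hα] using this
    apply hjns 0
    rw [zero_smul, ← mul_one j, h10, mul_zero]
  refine ⟨j, hjK, hjns, ?_, hind⟩
  -- the span of `1, j` is all of `K`
  have hli : LinearIndependent F ![(1 : Matrix (Fin n) (Fin n) F), j] :=
    LinearIndependent.pair_iff.2 hind
  have hspan : Module.finrank F ↥(Submodule.span F (Set.range ![(1 : Matrix (Fin n) (Fin n) F), j])) = 2 := by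
    rw [finrank_span_eq_card hli]; simp
  have hle : Submodule.span F (Set.range ![(1 : Matrix (Fin n) (Fin n) F), j]) ≤
      Subalgebra.toSubmodule K := by
    rw [Submodule.span_le]
    rintro x ⟨i, rfl⟩
    fin_cases i
    · exact K.one_mem
    · exact hjK
  have heq := Submodule.eq_of_le_of_finrank_eq hle (by rw [hspan, h2'])
  intro k hk
  have hk' : k ∈ Submodule.span F (Set.range ![(1 : Matrix (Fin n) (Fin n) F), j]) := by
    rw [heq]; exact hk
  rw [Matrix.range_cons, Matrix.range_cons, Matrix.range_empty, Set.union_empty,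
    Set.singleton_union] at hk'
  have hk'' : k ∈ Submodule.span F ({(1 : Matrix (Fin n) (Fin n) F), j} : Set _) := hk'
  obtain ⟨a, b, hab⟩ := Submodule.mem_span_pair.1 hk''
  exact ⟨a, b, hab.symm⟩

section form

variable (Q : (Fin n → F) → F) (hQ : IsNondegenerateQuadraticForm Q)

local notation "B" => QuadraticMap.polar Q

include hQ

theorem B_add_mat (u v : Fin n → F) (a b : Matrix (Fin n) (Fin n) F) :
    B u ((a + b) *ᵥ v) = B u (a *ᵥ v) + B u (b *ᵥ v) := by
  rw [Matrix.add_mulVec, hQ.polar_bilinear.add_right]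

theorem B_sub_mat (u v : Fin n → F) (a b : Matrix (Fin n) (Fin n) F) :
    B u ((a - b) *ᵥ v) = B u (a *ᵥ v) - B u (b *ᵥ v) := by
  have h := B_add_mat Q hQ u v (a - b) b
  rw [sub_add_cancel] at h
  rw [h]; ring

theorem B_smul_mat (u v : Fin n → F) (c : F) (a : Matrix (Fin n) (Fin n) F) :
    B u ((c • a) *ᵥ v) = c * B u (a *ᵥ v) := by
  rw [Matrix.smul_mulVec, hQ.polar_bilinear.smul_right]

theorem B_one_mat (u v : Fin n → F) : B u ((1 : Matrix (Fin n) (Fin n) F) *ᵥ v) = B u v := by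
  rw [Matrix.one_mulVec]

/-- nondegeneracy at the level of matrices -/
theorem mat_eq_zero (m : Matrix (Fin n) (Fin n) F) (h : ∀ u v, B u (m *ᵥ v) = 0) : m = 0 := by
  apply Matrix.toLin'.injective
  apply LinearMap.ext
  intro v
  rw [Matrix.toLin'_apply, map_zero, LinearMap.zero_apply]
  by_contra hv
  obtain ⟨⟨x, hx⟩, -⟩ := hQ.nondegenerate (m *ᵥ v) hv
  exact hx (h x v)

theorem exists_B_ne_zero (hn : (1 : Matrix (Fin n) (Fin n) F) ≠ 0) : ∃ u v, B u v ≠ 0 := by
  by_contra hcon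
  apply hn
  apply mat_eq_zero Q hQ
  intro u v
  by_contra h
  exact hcon ⟨u, _, h⟩

end form

section left

variable (Q : (Fin n → F) → F) (hQ : IsNondegenerateQuadraticForm Q)

local notation "B" => QuadraticMap.polar Q

include hQ

theorem B_sub_mat_left (u v : Fin n → F) (a b : Matrix (Fin n) (Fin n) F) :
    B ((a - b) *ᵥ u) v = B (a *ᵥ u) v - B (b *ᵥ u) v := by
  rw [QuadraticMap.polar_comm, B_sub_mat Q hQ, QuadraticMap.polar_comm Q v, QuadraticMap.polar_comm Q v]

theorem B_add_mat_left (u v : Fin n → F) (a b : Matrix (Fin n) (Fin n) F) :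
    B ((a + b) *ᵥ u) v = B (a *ᵥ u) v + B (b *ᵥ u) v := by
  rw [QuadraticMap.polar_comm, B_add_mat Q hQ, QuadraticMap.polar_comm Q v, QuadraticMap.polar_comm Q v]

theorem B_smul_mat_left (u v : Fin n → F) (c : F) (a : Matrix (Fin n) (Fin n) F) :
    B ((c • a) *ᵥ u) v = c * B (a *ᵥ u) v := by
  rw [QuadraticMap.polar_comm, B_smul_mat Q hQ, QuadraticMap.polar_comm Q v]

/-- polarisation of a similarity -/
theorem B_of_sim (k : Matrix (Fin n) (Fin n) F) (c : F) (hc : ∀ v, Q (k *ᵥ v) = c * Q v)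
    (u v : Fin n → F) : B (k *ᵥ u) (k *ᵥ v) = c * B u v := by
  unfold QuadraticMap.polar
  rw [← Matrix.mulVec_add, hc, hc, hc]; ring

end left

end Cfsg.Agent.Lib.Helper81.UF

namespace Cfsg.Agent.Lib.Helper81.UF

open Module Matrix Cfsg Cfsg.Geo Cfsg.Agent.Lib.Helper19 Cfsg.Agent.Lib.Helper43
  Cfsg.Agent.Lib.Helper43.UF

variable {F : Type*} [Field F] [Fintype F] {n : ℕ}

/-- **Keystone 570006 (K-UF-G1).** -/
theorem exists_udata (Q : (Fin n → F) → F) (hQ : IsNondegenerateQuadraticForm Q)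
    (K : Subalgebra F (Matrix (Fin n) (Fin n) F)) (hK : IsFieldSubalgebra 2 K)
    (hac : IsAdjointClosedFor (QuadraticMap.polar Q) K)
    (hnsa : ¬ IsSelfAdjointFor (QuadraticMap.polar Q) K)
    (hsc : ∀ k ∈ K, ∃ c : F, ∀ v : (Fin n → F), Q (Matrix.mulVec k v) = c * Q v) :
    ∃ (U : UData (Cfsg.Agent.Lib.Helper50.geoForm Q hQ)) (j : Matrix (Fin n) (Fin n) F),
      j ∈ K ∧ (∀ x, U.J x = j *ᵥ x) ∧ ∀ k ∈ K, ∃ α β : F, k = α • 1 + β • j := by
  classical
  obtain ⟨j, hjK, hjns, hspan, hind⟩ := exists_gen K hK.finrank_eq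
  have h1ne : (1 : Matrix (Fin n) (Fin n) F) ≠ 0 := by
    intro h
    have := hind 1 0 (by rw [one_smul, zero_smul, add_zero, h])
    exact one_ne_zero this.1
  obtain ⟨a, tr, hjj⟩ := hspan (j * j) (K.mul_mem hjK hjK)
  obtain ⟨nm, hnm⟩ : ∃ nm : F, nm = -a := ⟨_, rfl⟩
  have hsq : j * j = tr • j - nm • 1 := by
    rw [hjj, hnm, neg_smul, sub_neg_eq_add, add_comm]
  -- `K` has no zero divisors
  have hnzd : ∀ x ∈ K, ∀ y ∈ K, x * y = 0 → x = 0 ∨ y = 0 := by
    intro x hx y hy hxy
    by_cases hx0 : x = 0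
    · exact Or.inl hx0
    · right
      obtain ⟨z, hz, hxz⟩ := hK.inv x hx hx0
      calc y = (x * z) * y := by rw [hxz, one_mul]
        _ = z * (x * y) := by rw [hK.comm x hx z hz, mul_assoc]
        _ = 0 := by rw [hxy, mul_zero]
  -- irreducibility
  have hirr : ∀ s t : F, s ^ 2 - tr * s * t + nm * t ^ 2 = 0 → s = 0 ∧ t = 0 := by
    intro s t h
    have hk1 : s • (1 : Matrix (Fin n) (Fin n) F) - t • j ∈ K :=
      K.sub_mem (K.smul_mem K.one_mem s) (K.smul_mem hjK t)
    have hk2 : (s - t * tr) • (1 : Matrix (Fin n) (Fin n) F) + t • j ∈ K :=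
      K.add_mem (K.smul_mem K.one_mem _) (K.smul_mem hjK t)
    have hprod : (s • (1 : Matrix (Fin n) (Fin n) F) - t • j) *
        ((s - t * tr) • (1 : Matrix (Fin n) (Fin n) F) + t • j) =
        (s ^ 2 - tr * s * t + nm * t ^ 2) • (1 : Matrix (Fin n) (Fin n) F) := by
      simp only [sub_mul, mul_add, smul_mul_assoc, mul_smul_comm, one_mul, mul_one, hsq]
      module
    rw [h, zero_smul] at hprod
    rcases hnzd _ hk1 _ hk2 hprod with h0 | h0
    · have := hind s (-t) (by rw [neg_smul, ← sub_eq_add_neg]; exact h0)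
      exact ⟨this.1, neg_eq_zero.1 this.2⟩
    · have := hind (s - t * tr) t h0
      refine ⟨?_, this.2⟩
      have h3 := this.1
      rw [this.2, zero_mul, sub_zero] at h3
      exact h3
  -- the adjoint of `j`
  obtain ⟨j', hj'K, hadj⟩ := hac j hjK
  have hj'sq : j' * j' = tr • j' - nm • 1 := by
    have : j' * j' - tr • j' + nm • 1 = 0 := by
      apply mat_eq_zero Q hQ
      intro u v
      rw [B_add_mat Q hQ, B_sub_mat Q hQ, B_smul_mat Q hQ, B_smul_mat Q hQ, B_one_mat Q hQ,
        ← Matrix.mulVec_mulVec, ← hadj, ← hadj, Matrix.mulVec_mulVec, hsq, B_sub_mat_left Q hQ,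
        B_smul_mat_left Q hQ, B_smul_mat_left Q hQ, Matrix.one_mulVec, hadj]
      ring
    have h2 : j' * j' - (tr • j' - nm • 1) = 0 := by rw [← this]; abel
    exact sub_eq_zero.1 h2
  have hcomm : j' * j = j * j' := hK.comm j' hj'K j hjK
  have hprod : (j' - j) * (j' - (tr • 1 - j)) = 0 := by
    have : (j' - j) * (j' - (tr • 1 - j)) =
        j' * j' - tr • j' + (j' * j - j * j') + (tr • j - j * j) := by
      simp only [sub_mul, mul_sub, smul_mul_assoc, mul_smul_comm, one_mul, mul_one, smul_sub]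
      abel
    rw [this, hj'sq, hsq, hcomm]
    abel
  have hj' : j' = tr • 1 - j := by
    rcases hnzd _ (K.sub_mem hj'K hjK) _
      (K.sub_mem hj'K (K.sub_mem (K.smul_mem K.one_mem tr) hjK)) hprod with h0 | h0
    · exfalso
      have hjj' : j' = j := sub_eq_zero.1 h0
      apply hnsa
      intro k hk u v
      obtain ⟨α, β, rfl⟩ := hspan k hk
      rw [B_add_mat_left Q hQ, B_smul_mat_left Q hQ, B_smul_mat_left Q hQ, B_add_mat Q hQ,
        B_smul_mat Q hQ, B_smul_mat Q hQ, Matrix.one_mulVec, Matrix.one_mulVec, hadj, hjj']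
    · exact sub_eq_zero.1 h0
  have hadj' : ∀ u v, QuadraticMap.polar Q (j *ᵥ u) v =
      tr * QuadraticMap.polar Q u v - QuadraticMap.polar Q u (j *ᵥ v) := by
    intro u v
    rw [hadj, hj', B_sub_mat Q hQ, B_smul_mat Q hQ, Matrix.one_mulVec]
  obtain ⟨u₀, v₀, huv⟩ := exists_B_ne_zero Q hQ h1ne
  have hBjj : ∀ u v, QuadraticMap.polar Q (j *ᵥ u) (j *ᵥ v) = nm * QuadraticMap.polar Q u v := by
    intro u v
    rw [hadj', Matrix.mulVec_mulVec, hsq, B_sub_mat Q hQ, B_smul_mat Q hQ, B_smul_mat Q hQ,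
      Matrix.one_mulVec]
    ring
  -- the norm
  obtain ⟨c, hc⟩ := hsc j hjK
  have hcnm : c = nm := by
    have h1 := B_of_sim Q hQ j c hc u₀ v₀
    rw [hBjj] at h1
    have h2 : (c - nm) * QuadraticMap.polar Q u₀ v₀ = 0 := by rw [sub_mul, ← h1, sub_self]
    rcases mul_eq_zero.1 h2 with h3 | h3
    · exact sub_eq_zero.1 h3
    · exact absurd h3 huv
  -- the trace
  obtain ⟨c', hc'⟩ := hsc (1 + j) (K.add_mem K.one_mem hjK)
  have hc'eq : c' = 1 + tr + nm := by
    have h1 := B_of_sim Q hQ (1 + j) c' hc' u₀ v₀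
    rw [B_add_mat_left Q hQ, B_add_mat Q hQ, B_add_mat Q hQ, Matrix.one_mulVec, Matrix.one_mulVec,
      hBjj, hadj'] at h1
    have h2 : (c' - (1 + tr + nm)) * QuadraticMap.polar Q u₀ v₀ = 0 := by
      rw [sub_mul, ← h1]; ring
    rcases mul_eq_zero.1 h2 with h3 | h3
    · exact sub_eq_zero.1 h3
    · exact absurd h3 huv
  have hself : ∀ x, QuadraticMap.polar Q x (j *ᵥ x) = tr * Q x := by
    intro x
    have h1 := hc' x
    rw [Matrix.add_mulVec, Matrix.one_mulVec, hc'eq] at h1
    have h2 : QuadraticMap.polar Q x (j *ᵥ x) = Q (x + j *ᵥ x) - Q x - Q (j *ᵥ x) := rfl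
    rw [h2, h1, hc, hcnm]; ring
  refine ⟨{ J := Matrix.mulVecLin j
            tr := tr
            nm := nm
            sq := ?_
            irr := hirr
            adj := ?_
            norm := ?_
            self := ?_ }, j, hjK, fun x => rfl, hspan⟩
  · intro x
    show j *ᵥ (j *ᵥ x) = tr • (j *ᵥ x) - nm • x
    rw [Matrix.mulVec_mulVec, hsq, Matrix.sub_mulVec, Matrix.smul_mulVec, Matrix.smul_mulVec,
      Matrix.one_mulVec]
  · intro x y
    show QuadraticMap.polar Q (j *ᵥ x) y + QuadraticMap.polar Q x (j *ᵥ y) =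
      tr * QuadraticMap.polar Q x y
    rw [hadj']; ring
  · intro x
    show Q (j *ᵥ x) = nm * Q x
    rw [hc, hcnm]
  · intro x
    show QuadraticMap.polar Q x (j *ᵥ x) = tr * Q x
    exact hself x

end Cfsg.Agent.Lib.Helper81.UF
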