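import Mathlib

set_option autoImplicit false

/-!
# K-S2140-K1: Burnside bound for a subgroup `Q` whose non-identity elements are all conjugate
-/

namespace Cfsg.Agent.Lib.Helper81.MinIdx

/-- conjugate elements have equally many fixed points. -/
theorem card_fixedBy_conj {G : Type*} [Group G] {X : Type*} [MulAction G X] (g x : G) :
    Nat.card (MulAction.fixedBy X (g * x * g⁻¹)) = Nat.card (MulAction.fixedBy X x) := by
  apply Nat.card_congr
  refine ⟨fun y => ⟨g⁻¹ • (y : X), ?_⟩, fun y => ⟨g • (y : X), ?_⟩, ?_, ?_⟩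
  · have hy := y.2
    rw [MulAction.mem_fixedBy] at hy ⊢
    calc x • g⁻¹ • (y : X) = g⁻¹ • ((g * x * g⁻¹) • (y : X)) := by
          simp only [smul_smul]; congr 1; group
      _ = g⁻¹ • (y : X) := by rw [hy]
  · have hy := y.2
    rw [MulAction.mem_fixedBy] at hy ⊢
    calc (g * x * g⁻¹) • g • (y : X) = g • (x • (y : X)) := by
          simp only [smul_smul]; congr 1; group
      _ = g • (y : X) := by rw [hy]
  · intro y; apply Subtype.ext; simp
  · intro y; apply Subtype.ext; simp

/-- K1 (Burnside bound). -/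
theorem K1_burnside {G : Type*} [Group G] [Finite G] (Q H : Subgroup G)
    (hconj : ∀ x ∈ Q, ∀ y ∈ Q, x ≠ 1 → y ≠ 1 → ∃ g : G, g * x * g⁻¹ = y)
    (hgen : Subgroup.normalClosure (Q : Set G) = ⊤) (hH : H ≠ ⊤) :
    Nat.card Q ≤ H.index ∧
      (H.index < 2 * Nat.card Q → ∀ x ∈ Q, x ≠ 1 →
        Nat.card (MulAction.fixedBy (G ⧸ H) x) + Nat.card Q = H.index) := by
  classical
  -- Q is nontrivial
  have hQne : ∃ x₀ ∈ Q, x₀ ≠ 1 := by
    by_contra hno
    push Not at hno
    have hQbot : Q = ⊥ := (Subgroup.eq_bot_iff_forall _).2 hno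
    have hle : Subgroup.normalClosure (Q : Set G) ≤ ⊥ := by
      apply Subgroup.normalClosure_le_normal
      rw [hQbot]
    rw [hgen] at hle
    apply hH
    rw [eq_top_iff]
    exact hle.trans bot_le
  obtain ⟨x₀, hx₀Q, hx₀⟩ := hQne
  have hfeq : ∀ x ∈ Q, x ≠ 1 → Nat.card (MulAction.fixedBy (G ⧸ H) x)
      = Nat.card (MulAction.fixedBy (G ⧸ H) x₀) := by
    intro x hx hx1
    obtain ⟨g, hg⟩ := hconj x₀ hx₀Q x hx hx₀ hx1
    rw [← hg, card_fixedBy_conj]
  have hf1 : Nat.card (MulAction.fixedBy (G ⧸ H) (1 : G)) = H.index := by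
    rw [MulAction.fixedBy_one_eq_univ, Nat.card_congr (Equiv.Set.univ _)]
    rfl
  -- Burnside
  have : Fintype Q := Fintype.ofFinite Q
  have : Fintype (Quotient (MulAction.orbitRel Q (G ⧸ H))) := Fintype.ofFinite _
  have : ∀ a : Q, Fintype (MulAction.fixedBy (G ⧸ H) a) := fun a => Fintype.ofFinite _
  have hB := MulAction.sum_card_fixedBy_eq_card_orbits_mul_card_group Q (G ⧸ H)
  set k := Fintype.card (Quotient (MulAction.orbitRel Q (G ⧸ H))) with hk
  set f := Nat.card (MulAction.fixedBy (G ⧸ H) x₀) with hf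
  set d := H.index with hd
  set r := Nat.card Q with hr
  have hcardQ : Fintype.card Q = r := by rw [hr, Nat.card_eq_fintype_card]
  have hterm : ∀ a : Q, Fintype.card (MulAction.fixedBy (G ⧸ H) a)
      = if a = 1 then d else f := by
    intro a
    have h0 : Fintype.card (MulAction.fixedBy (G ⧸ H) a)
        = Nat.card (MulAction.fixedBy (G ⧸ H) (a : G)) := by
      rw [← Nat.card_eq_fintype_card]; rfl
    rw [h0]
    split_ifs with ha
    · rw [ha]; exact hf1
    · exact hfeq a a.2 (fun h => ha (Subtype.ext h))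
  have hsum : ∑ a : Q, Fintype.card (MulAction.fixedBy (G ⧸ H) a) = d + (r - 1) * f := by
    rw [Finset.sum_congr rfl (fun a _ => hterm a)]
    rw [Finset.sum_ite, Finset.sum_const, Finset.sum_const]
    have h1 : (Finset.univ.filter (fun a : Q => a = 1)).card = 1 := by
      rw [Finset.filter_eq' Finset.univ (1 : Q)]; simp
    have h2 : (Finset.univ.filter (fun a : Q => ¬ a = 1)).card = r - 1 := by
      have := Finset.card_filter_add_card_filter_not (s := (Finset.univ : Finset Q))
        (fun a : Q => a = 1)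
      rw [h1, Finset.card_univ, hcardQ] at this
      omega
    rw [h1, h2]; simp
  rw [hsum, hcardQ] at hB
  have hrpos : 0 < r := Nat.card_pos
  -- f < d
  have hfd : f < d := by
    have hle : f ≤ d := by
      rw [hf, ← hf1]
      exact Nat.card_mono (Set.toFinite _) (by
        rw [MulAction.fixedBy_one_eq_univ]; exact Set.subset_univ _)
    rcases Nat.lt_or_ge f d with h | h
    · exact h
    · exfalso
      have hfd' : f = d := le_antisymm hle h
      -- every x in Q fixes every coset
      have hall : ∀ x ∈ Q, ∀ y : G ⧸ H, x • y = y := by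
        intro x hx y
        by_cases hx1 : x = 1
        · rw [hx1, one_smul]
        · have hc : Nat.card (MulAction.fixedBy (G ⧸ H) x) = Nat.card (G ⧸ H) := by
            rw [hfeq x hx hx1]; exact hfd'
          have huniv : MulAction.fixedBy (G ⧸ H) x = Set.univ := by
            apply Set.eq_univ_of_forall
            by_contra hnot
            push Not at hnot
            obtain ⟨y₀, hy₀⟩ := hnot
            have hlt : Nat.card (MulAction.fixedBy (G ⧸ H) x) < Nat.card (G ⧸ H) := by
              have : Fintype (G ⧸ H) := Fintype.ofFinite _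
              rw [Nat.card_eq_fintype_card, Nat.card_eq_fintype_card]
              exact Fintype.card_subtype_lt hy₀
            omega
          have : y ∈ MulAction.fixedBy (G ⧸ H) x := by rw [huniv]; trivial
          exact this
      have hQle : Q ≤ H.normalCore := by
        intro x hx
        rw [Subgroup.normalCore]
        show ∀ g : G, g * x * g⁻¹ ∈ H
        intro g
        have := hall x hx ((g⁻¹ : G) : G ⧸ H)
        rw [MulAction.Quotient.smul_mk, QuotientGroup.eq, smul_eq_mul] at this
        have h3 : (x * g⁻¹)⁻¹ * g⁻¹ = g * x⁻¹ * g⁻¹ := by group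
        rw [h3] at this
        have := H.inv_mem this
        have h4 : (g * x⁻¹ * g⁻¹)⁻¹ = g * x * g⁻¹ := by group
        rw [h4] at this
        exact this
      have hncl : Subgroup.normalClosure (Q : Set G) ≤ H.normalCore :=
        Subgroup.normalClosure_le_normal hQle
      rw [hgen] at hncl
      apply hH
      rw [eq_top_iff]
      exact hncl.trans (Subgroup.normalCore_le H)
  -- arithmetic
  have hkf : f < k := by
    by_contra hle
    push Not at hle
    have : k * r ≤ f * r := Nat.mul_le_mul_right r hle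
    have h5 : f * r = f + (r - 1) * f := by
      obtain ⟨r', hr'⟩ : ∃ r', r = r' + 1 := ⟨r - 1, by omega⟩
      rw [hr']
      simp only [Nat.add_sub_cancel]; ring
    omega
  have hdf : d - f = r * (k - f) := by
    obtain ⟨r', hr'⟩ : ∃ r', r = r' + 1 := ⟨r - 1, by omega⟩
    obtain ⟨m, hm⟩ : ∃ m, k = f + m := ⟨k - f, by omega⟩
    rw [hr', hm] at hB
    simp only [Nat.add_sub_cancel] at hB
    rw [hr', hm]
    simp only [Nat.add_sub_cancel_left]
    have : d + r' * f = (f + m) * (r' + 1) := hB
    have h6 : d = f + (r' + 1) * m := by nlinarith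
    rw [h6]; simp
  have hkf1 : 1 ≤ k - f := by omega
  have hrle : r ≤ d - f := by
    rw [hdf]; exact Nat.le_mul_of_pos_right r hkf1
  refine ⟨by omega, ?_⟩
  intro hlt x hx hx1
  rw [hfeq x hx hx1]
  have hkf2 : k - f = 1 := by
    by_contra hne
    have h2 : 2 ≤ k - f := by omega
    have : r * 2 ≤ r * (k - f) := Nat.mul_le_mul_left r h2
    omega
  rw [hkf2, mul_one] at hdf
  omega

end Cfsg.Agent.Lib.Helper81.MinIdx
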