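import Mathlib
import Cfsg.Agent.Lib.Helper49.SpInvDefs
import Cfsg.Agent.Lib.Helper43.AltForm

/-!
# S2680-S2682, keystone K-SpInv-4b (`card_isom_odd`)

Characteristic 2, `γ` a non-degenerate symmetric bilinear form on a space of odd dimension `2k+1` over `F_q`:
the isometry group of `γ` has the order of `Sp_{2k}(q)`.
-/

set_option autoImplicit false

namespace Cfsg.Agent.Lib.Helper81.SpInv

open Matrix Cfsg.Agent.Lib.Helper49.SpInv

section Sq

variable {F : Type*} [Field F]

theorem mul_self_inj_of_two (h2 : (2 : F) = 0) {x y : F} (h : x * x = y * y) : x = y := by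
  have h1 : (x - y) * (x - y) = x * x + y * y - 2 * (x * y) := by ring
  rw [h2, zero_mul, sub_zero, h] at h1
  have h3 : y * y + y * y = 2 * (y * y) := by ring
  rw [h3, h2, zero_mul] at h1
  exact sub_eq_zero.1 (mul_self_eq_zero.1 h1)

theorem exists_sqrt_of_two [Finite F] (h2 : (2 : F) = 0) (z : F) : ∃ x : F, x * x = z := by
  have hinj : Function.Injective (fun x : F => x * x) := fun x y h => mul_self_inj_of_two h2 h
  exact (Finite.injective_iff_surjective.1 hinj) z

end Sq

section Main

variable {F : Type*} [Field F] [Fintype F] [CharP F 2] {U : Type*} [AddCommGroup U] [Module F U]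

/-- the linear functional `x ↦ √(γ x x)` -/
noncomputable def lam (γ : LinearMap.BilinForm F U) (hsym : γ.IsSymm) : U →ₗ[F] F where
  toFun x := Classical.choose (exists_sqrt_of_two (CharTwo.two_eq_zero (R := F)) (γ x x))
  map_add' x y := by
    apply mul_self_inj_of_two (CharTwo.two_eq_zero (R := F))
    rw [Classical.choose_spec (exists_sqrt_of_two (CharTwo.two_eq_zero (R := F)) (γ (x + y) (x + y))),
      CharTwo.add_mul_self,
      Classical.choose_spec (exists_sqrt_of_two (CharTwo.two_eq_zero (R := F)) (γ x x)),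
      Classical.choose_spec (exists_sqrt_of_two (CharTwo.two_eq_zero (R := F)) (γ y y))]
    rw [LinearMap.BilinForm.add_left, LinearMap.BilinForm.add_right, LinearMap.BilinForm.add_right,
      hsym.eq y x]
    have h : γ x y + γ x y = 0 := CharTwo.add_self_eq_zero _
    calc γ x x + γ x y + (γ x y + γ y y) = γ x x + γ y y + (γ x y + γ x y) := by ring
      _ = γ x x + γ y y := by rw [h, add_zero]
  map_smul' c x := by
    apply mul_self_inj_of_two (CharTwo.two_eq_zero (R := F))
    rw [Classical.choose_spec (exists_sqrt_of_two (CharTwo.two_eq_zero (R := F)) (γ (c • x) (c • x))),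
      RingHom.id_apply, smul_eq_mul, mul_mul_mul_comm,
      Classical.choose_spec (exists_sqrt_of_two (CharTwo.two_eq_zero (R := F)) (γ x x))]
    rw [LinearMap.BilinForm.smul_left, LinearMap.BilinForm.smul_right, mul_assoc]

theorem lam_mul_self (γ : LinearMap.BilinForm F U) (hsym : γ.IsSymm) (x : U) :
    lam γ hsym x * lam γ hsym x = γ x x :=
  Classical.choose_spec (exists_sqrt_of_two (CharTwo.two_eq_zero (R := F)) (γ x x))

end Main

section Isom

variable {F : Type*} [Field F] {U : Type*} [AddCommGroup U] [Module F U] [FiniteDimensional F U]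

omit [FiniteDimensional F U] in
theorem injective_of_preserving (γ : LinearMap.BilinForm F U) (hnd : γ.Nondegenerate) (f : U →ₗ[F] U)
    (hf : ∀ x y, γ (f x) (f y) = γ x y) : Function.Injective f := by
  intro x y hxy
  have h : ∀ w, γ (x - y) w = 0 := by
    intro w
    rw [← hf, map_sub, hxy, sub_self, LinearMap.BilinForm.zero_left]
  exact sub_eq_zero.1 (hnd.1 _ h)

/-- a form-preserving endomorphism of a non-degenerate space, as an isometry -/
noncomputable def isomOfPreserving (γ : LinearMap.BilinForm F U) (hnd : γ.Nondegenerate) (f : U →ₗ[F] U)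
    (hf : ∀ x y, γ (f x) (f y) = γ x y) : IsomSet γ :=
  (⟨LinearEquiv.ofInjectiveEndo f (injective_of_preserving γ hnd f hf), fun x y => by
    rw [LinearEquiv.coe_ofInjectiveEndo]; exact hf x y⟩ :
    {A : U ≃ₗ[F] U // ∀ x y, γ (A x) (A y) = γ x y})

theorem isomOfPreserving_apply (γ : LinearMap.BilinForm F U) (hnd : γ.Nondegenerate) (f : U →ₗ[F] U)
    (hf : ∀ x y, γ (f x) (f y) = γ x y) (x : U) : (isomOfPreserving γ hnd f hf).1 x = f x := rfl

end Isom

section Main2

variable {F : Type*} [Field F] [Fintype F] [CharP F 2] {U : Type*} [AddCommGroup U] [Module F U]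
  [FiniteDimensional F U]

/-- the vector representing `lam` -/
noncomputable def zvec (γ : LinearMap.BilinForm F U) (hnd : γ.Nondegenerate) (hsym : γ.IsSymm) : U :=
  (γ.toDual hnd).symm (lam γ hsym)

theorem zvec_apply (γ : LinearMap.BilinForm F U) (hnd : γ.Nondegenerate) (hsym : γ.IsSymm) (x : U) :
    γ (zvec γ hnd hsym) x = lam γ hsym x :=
  LinearMap.BilinForm.apply_toDual_symm_apply (hB := hnd) (lam γ hsym) x

theorem eq_zvec (γ : LinearMap.BilinForm F U) (hnd : γ.Nondegenerate) (hsym : γ.IsSymm) (w : U)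
    (hw : ∀ x, γ w x = lam γ hsym x) : w = zvec γ hnd hsym := by
  have h : ∀ x, γ (w - zvec γ hnd hsym) x = 0 := by
    intro x
    rw [LinearMap.BilinForm.sub_left, hw, zvec_apply, sub_self]
  exact sub_eq_zero.1 (hnd.1 _ h)

omit [FiniteDimensional F U] in
theorem lam_isom (γ : LinearMap.BilinForm F U) (hsym : γ.IsSymm) (A : U ≃ₗ[F] U)
    (hA : ∀ x y, γ (A x) (A y) = γ x y) (x : U) : lam γ hsym (A x) = lam γ hsym x := by
  apply mul_self_inj_of_two (CharTwo.two_eq_zero (R := F))
  rw [lam_mul_self, lam_mul_self, hA]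

theorem isom_zvec (γ : LinearMap.BilinForm F U) (hnd : γ.Nondegenerate) (hsym : γ.IsSymm)
    (A : U ≃ₗ[F] U) (hA : ∀ x y, γ (A x) (A y) = γ x y) :
    A (zvec γ hnd hsym) = zvec γ hnd hsym := by
  apply eq_zvec
  intro y
  have h := hA (zvec γ hnd hsym) (A.symm y)
  rw [LinearEquiv.apply_symm_apply, zvec_apply] at h
  rw [h, ← lam_isom γ hsym A hA (A.symm y), LinearEquiv.apply_symm_apply]

theorem lam_zvec (γ : LinearMap.BilinForm F U) (hnd : γ.Nondegenerate) (hsym : γ.IsSymm) (k : ℕ)
    (hk : Module.finrank F U = 2 * k + 1) : lam γ hsym (zvec γ hnd hsym) = 1 := by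
  set l := lam γ hsym with hl
  set z := zvec γ hnd hsym with hz
  have h1 : l z * l z = l z := by rw [lam_mul_self, zvec_apply]
  have h2 : l z = 0 ∨ l z = 1 := by
    have : l z * (l z - 1) = 0 := by rw [mul_sub, h1, mul_one, sub_self]
    rcases mul_eq_zero.1 this with h | h
    · exact Or.inl h
    · exact Or.inr (sub_eq_zero.1 h)
  rcases h2 with h0 | h1'
  · exfalso
    let γ' : LinearMap.BilinForm F U := γ + LinearMap.BilinForm.linMulLin l l
    have hγ' : ∀ x y, γ' x y = γ x y + l x * l y := fun x y => by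
      show (γ + LinearMap.BilinForm.linMulLin l l) x y = _
      rw [LinearMap.BilinForm.add_apply, LinearMap.BilinForm.linMulLin_apply]
    have halt : γ'.IsAlt := by
      intro x
      rw [hγ', lam_mul_self]
      exact CharTwo.add_self_eq_zero _
    have hnd' : γ'.Nondegenerate := by
      refine (LinearMap.IsRefl.nondegenerate_iff_separatingLeft halt.isRefl).2 ?_
      intro x hx
      have h3 : ∀ y, γ (x + l x • z) y = 0 := by
        intro y
        rw [LinearMap.BilinForm.add_left, LinearMap.BilinForm.smul_left, zvec_apply]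
        have := hx y
        rw [hγ'] at this
        exact this
      have h4 : x + l x • z = 0 := hnd.1 _ h3
      have h5 : l x = 0 := by
        have := congrArg l h4
        rw [map_add, map_smul, smul_eq_mul, h0, mul_zero, add_zero, map_zero] at this
        exact this
      rw [h5, zero_smul, add_zero] at h4
      exact h4
    have hev := Cfsg.Agent.Lib.Helper43.even_finrank_of_isAlt_nondegenerate γ' halt hnd'
    rw [hk] at hev
    obtain ⟨r, hr⟩ := hev
    omega
  · exact h1'

end Main2

section Final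

variable {F : Type*} [Field F] [Fintype F]

/-- K-SpInv-4b. -/
theorem card_isom_odd [CharP F 2] {q : ℕ} (hF : Fintype.card F = q) {U : Type*} [AddCommGroup U]
    [Module F U] [FiniteDimensional F U] (γ : LinearMap.BilinForm F U) (hnd : γ.Nondegenerate)
    (hsym : γ.IsSymm) (k : ℕ) (hk : Module.finrank F U = 2 * k + 1)
    (h4a : ∀ U₀ : Submodule F U, (γ.restrict U₀).Nondegenerate → (γ.restrict U₀).IsAlt →
      Module.finrank F U₀ = 2 * k → Nat.card (IsomSet (γ.restrict U₀)) = spOrd q k)
    (h4d : ∀ C : Submodule F U, (γ.restrict C).Nondegenerate → (γ.restrict C).IsAlt →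
      Even (Module.finrank F C)) :
    Nat.card (IsomSet γ) = spOrd q k := by
  set l := lam γ hsym with hl
  set z := zvec γ hnd hsym with hz
  have hlz : l z = 1 := lam_zvec γ hnd hsym k hk
  have hγz : ∀ x, γ z x = l x := zvec_apply γ hnd hsym
  have hγz' : ∀ x, γ x z = l x := fun x => by rw [hsym.eq, hγz]
  set U₀ : Submodule F U := LinearMap.ker l with hU₀
  have hmem : ∀ x, x ∈ U₀ ↔ l x = 0 := fun x => LinearMap.mem_ker
  have hproj : ∀ x : U, x - l x • z ∈ U₀ := by
    intro x
    rw [hmem, map_sub, map_smul, smul_eq_mul, hlz, mul_one, sub_self]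
  have halt : (γ.restrict U₀).IsAlt := by
    intro x
    show γ (x : U) (x : U) = 0
    rw [← lam_mul_self γ hsym, (hmem x).1 x.2, mul_zero]
  have hnd0 : (γ.restrict U₀).Nondegenerate := by
    refine (LinearMap.IsRefl.nondegenerate_iff_separatingLeft halt.isRefl).2 ?_
    intro x hx
    have h3 : ∀ u : U, γ x u = 0 := by
      intro u
      have h4 : u = l u • z + (u - l u • z) := by abel
      rw [h4, LinearMap.BilinForm.add_right, LinearMap.BilinForm.smul_right, hγz', (hmem x).1 x.2,
        mul_zero, zero_add]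
      exact hx ⟨u - l u • z, hproj u⟩
    exact Subtype.ext (hnd.1 _ h3)
  have hfin : Module.finrank F U₀ = 2 * k := by
    have h1 : Module.finrank F (LinearMap.range l) + Module.finrank F U₀ = Module.finrank F U :=
      LinearMap.finrank_range_add_finrank_ker l
    have h2 : LinearMap.range l = ⊤ := by
      rw [LinearMap.range_eq_top]
      intro c
      exact ⟨c • z, by rw [map_smul, smul_eq_mul, hlz, mul_one]⟩
    rw [h2, finrank_top, Module.finrank_self, hk] at h1
    omega
  rw [← h4a U₀ hnd0 halt hfin]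
  -- restriction
  have hker : ∀ (A : IsomSet γ) (x : U), x ∈ U₀ → A.1 x ∈ U₀ := by
    intro A x hx
    rw [hmem] at hx ⊢
    rw [lam_isom γ hsym A.1 A.2, hx]
  let ρ : IsomSet γ → IsomSet (γ.restrict U₀) := fun A =>
    isomOfPreserving (γ.restrict U₀) hnd0 ((A.1 : U →ₗ[F] U).restrict (hker A)) (fun x y => A.2 x y)
  have hρ : ∀ (A : IsomSet γ) (x : U₀), (((ρ A).1 x : U₀) : U) = A.1 x := fun A x => rfl
  -- extension
  let π : U →ₗ[F] U₀ := (LinearMap.id - l.smulRight z).codRestrict U₀ (fun x => by
    rw [LinearMap.sub_apply, LinearMap.id_apply, LinearMap.smulRight_apply]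
    exact hproj x)
  have hπ : ∀ x : U, ((π x : U₀) : U) = x - l x • z := fun x => rfl
  let E : IsomSet (γ.restrict U₀) → (U →ₗ[F] U) := fun B =>
    l.smulRight z + U₀.subtype ∘ₗ (B.1 : U₀ →ₗ[F] U₀) ∘ₗ π
  have hEapp : ∀ (B : IsomSet (γ.restrict U₀)) (x : U), E B x = l x • z + ((B.1 (π x) : U₀) : U) :=
    fun B x => rfl
  have hE : ∀ (B : IsomSet (γ.restrict U₀)) (x y : U), γ (E B x) (E B y) = γ x y := by
    intro B x y
    have hbx : l ((B.1 (π x) : U₀) : U) = 0 := (hmem _).1 (B.1 (π x)).2
    have hby : l ((B.1 (π y) : U₀) : U) = 0 := (hmem _).1 (B.1 (π y)).2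
    have hB : γ ((B.1 (π x) : U₀) : U) ((B.1 (π y) : U₀) : U) = γ (x - l x • z) (y - l y • z) :=
      B.2 (π x) (π y)
    rw [hEapp, hEapp, LinearMap.BilinForm.add_left, LinearMap.BilinForm.add_right,
      LinearMap.BilinForm.add_right, LinearMap.BilinForm.smul_left, LinearMap.BilinForm.smul_left,
      LinearMap.BilinForm.smul_right, LinearMap.BilinForm.smul_right, hγz, hγz, hγz', hlz, hbx, hby, hB,
      LinearMap.BilinForm.sub_left, LinearMap.BilinForm.sub_right, LinearMap.BilinForm.sub_right,
      LinearMap.BilinForm.smul_left, LinearMap.BilinForm.smul_left, LinearMap.BilinForm.smul_right,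
      LinearMap.BilinForm.smul_right, hγz, hγz, hγz', hlz]
    ring
  let ε : IsomSet (γ.restrict U₀) → IsomSet γ := fun B => isomOfPreserving γ hnd (E B) (hE B)
  have hε : ∀ (B : IsomSet (γ.restrict U₀)) (x : U), (ε B).1 x = E B x := fun B x => rfl
  have hbij : Function.Bijective ρ := by
    constructor
    · intro A A' hAA'
      apply Subtype.ext
      apply LinearEquiv.ext
      intro x
      have hx : x = l x • z + ((π x : U₀) : U) := by rw [hπ]; abel
      have hAz : A.1 z = z := isom_zvec γ hnd hsym A.1 A.2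
      have hA'z : A'.1 z = z := isom_zvec γ hnd hsym A'.1 A'.2
      have h1 : A.1 x = l x • z + A.1 ((π x : U₀) : U) := by
        conv_lhs => rw [hx]
        rw [map_add, map_smul, hAz]
      have h2 : A'.1 x = l x • z + A'.1 ((π x : U₀) : U) := by
        conv_lhs => rw [hx]
        rw [map_add, map_smul, hA'z]
      rw [h1, h2, ← hρ A (π x), ← hρ A' (π x), hAA']
    · intro B
      refine ⟨ε B, ?_⟩
      apply Subtype.ext
      apply LinearEquiv.ext
      intro x
      apply Subtype.ext
      rw [hρ, hε, hEapp]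
      have hx0 : l (x : U) = 0 := (hmem _).1 x.2
      have hπx : π (x : U) = x := by
        apply Subtype.ext
        rw [hπ, hx0, zero_smul, sub_zero]
      rw [hx0, zero_smul, zero_add, hπx]
  exact Nat.card_eq_of_bijective ρ hbij

end Final

end Cfsg.Agent.Lib.Helper81.SpInv
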