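import Mathlib
import Cfsg.Prelude.Def_Classical
import Cfsg.Prelude.Def_LieClassical
import Cfsg.Prelude.Def_GeometricClasses
import Cfsg.Agent.Lib.Helper49.SLUDefs

/-!
Keystone 598211 (K-SLU-11, pack of helper49 for S5982):
`[SL : CU ∩ SL] · |GU_n(q₀)| · (q - 1)` divides `|GL_n(q)| · (q₀ + 1)`.
-/

set_option autoImplicit false

namespace Cfsg.Agent.Lib.Helper81.SLU

open Matrix Cfsg.Agent.Lib.Helper49.SLU

variable {F : Type*} [Field F]

theorem scalar_mulVec (n : ℕ) (a : Fˣ) (u : Fin n → F) :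
    ((Matrix.GeneralLinearGroup.scalar (Fin n) a : GL (Fin n) F) : Matrix (Fin n) (Fin n) F) *ᵥ u =
      (a : F) • u := by
  rw [Matrix.GeneralLinearGroup.coe_scalar]
  funext i
  simp [Matrix.scalar_apply, Matrix.mulVec_diagonal]

theorem hermForm_smul (n q₀ : ℕ) (a : F) (u v : Fin n → F) :
    Cfsg.hermForm n F q₀ (a • u) (a • v) = a ^ (q₀ + 1) * Cfsg.hermForm n F q₀ u v := by
  unfold Cfsg.hermForm
  rw [Finset.mul_sum]
  refine Finset.sum_congr rfl fun i _ => ?_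
  simp only [Pi.smul_apply, smul_eq_mul]
  ring

theorem mem_GU_iff (n q₀ : ℕ) (g : GL (Fin n) F) :
    g ∈ Cfsg.GU n F q₀ ↔ ∀ u v, Cfsg.hermForm n F q₀ ((g : Matrix (Fin n) (Fin n) F) *ᵥ u)
      ((g : Matrix (Fin n) (Fin n) F) *ᵥ v) = Cfsg.hermForm n F q₀ u v := Iff.rfl

theorem GU_le_CUh (n q₀ : ℕ) : Cfsg.GU n F q₀ ≤ CUh n F q₀ := by
  intro g hg
  refine ⟨1, fun u v => ?_⟩
  rw [(mem_GU_iff n q₀ g).1 hg u v, Units.val_one, one_mul]

/-- the scalar subgroup -/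
noncomputable def Zs (n : ℕ) (F : Type*) [Field F] : Subgroup (GL (Fin n) F) :=
  (Matrix.GeneralLinearGroup.scalar (Fin n) : Fˣ →* GL (Fin n) F).range

theorem Zs_le_CUh (n q₀ : ℕ) : Zs n F ≤ CUh n F q₀ := by
  rintro g ⟨a, rfl⟩
  refine ⟨a ^ (q₀ + 1), fun u v => ?_⟩
  rw [scalar_mulVec, scalar_mulVec, hermForm_smul, Units.val_pow_eq_pow_val]

instance Zs_normal (n : ℕ) : (Zs n F).Normal := by
  constructor
  rintro g ⟨a, rfl⟩ h
  refine ⟨a, ?_⟩
  rw [← Matrix.GeneralLinearGroup.scalar_commute, mul_inv_cancel_right]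

theorem scalar_injective (n : ℕ) (hn : 1 ≤ n) :
    Function.Injective (Matrix.GeneralLinearGroup.scalar (Fin n) : Fˣ →* GL (Fin n) F) := by
  intro a b hab
  have h1 := congrArg (fun g : GL (Fin n) F => (g : Matrix (Fin n) (Fin n) F) ⟨0, hn⟩ ⟨0, hn⟩) hab
  simp only [Matrix.GeneralLinearGroup.coe_scalar, Matrix.scalar_apply, Matrix.diagonal_apply_eq]
    at h1
  exact Units.ext h1

theorem card_Zs [Fintype F] (n : ℕ) (hn : 1 ≤ n) :
    Nat.card (Zs n F) = Fintype.card F - 1 := by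
  classical
  unfold Zs
  rw [← Nat.card_congr (MonoidHom.ofInjective (scalar_injective (F := F) n hn)).toEquiv,
    Nat.card_eq_fintype_card, Fintype.card_units]

/-- the norm-one scalars: order divides `q₀ + 1`. -/
theorem card_GU_inf_Zs_dvd [Finite F] (n q₀ : ℕ) (hn : 1 ≤ n) :
    Nat.card ↥(Zs n F ⊓ Cfsg.GU n F q₀) ∣ q₀ + 1 := by
  classical
  -- the preimage in `Fˣ`
  set A : Subgroup Fˣ := (Cfsg.GU n F q₀).comap (Matrix.GeneralLinearGroup.scalar (Fin n)) with hA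
  have hmap : Zs n F ⊓ Cfsg.GU n F q₀ = A.map (Matrix.GeneralLinearGroup.scalar (Fin n)) := by
    ext g
    constructor
    · rintro ⟨⟨a, rfl⟩, hg⟩
      exact ⟨a, hg, rfl⟩
    · rintro ⟨a, ha, rfl⟩
      exact ⟨⟨a, rfl⟩, ha⟩
  have hcard : Nat.card ↥(Zs n F ⊓ Cfsg.GU n F q₀) = Nat.card A := by
    rw [hmap]
    exact Nat.card_congr (A.equivMapOfInjective _ (scalar_injective n hn)).toEquiv.symm
  rw [hcard]
  have hexp : ∀ a : A, a ^ (q₀ + 1) = 1 := by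
    rintro ⟨a, ha⟩
    have h1 := (mem_GU_iff n q₀ _).1 ha (Pi.single ⟨0, hn⟩ 1) (Pi.single ⟨0, hn⟩ 1)
    rw [scalar_mulVec, hermForm_smul] at h1
    have h2 : Cfsg.hermForm n F q₀ (Pi.single ⟨0, hn⟩ 1) (Pi.single ⟨0, hn⟩ 1) = 1 := by
      unfold Cfsg.hermForm
      rw [Finset.sum_eq_single (⟨0, hn⟩ : Fin n)]
      · simp
      · intro b _ hb
        simp [hb]
      · intro h; exact absurd (Finset.mem_univ _) h
    rw [h2, mul_one] at h1
    apply Subtype.ext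
    apply Units.ext
    simpa using h1
  rw [← IsCyclic.exponent_eq_card]
  exact Monoid.exponent_dvd_of_forall_pow_eq_one hexp

/-- **Keystone 598211 (K-SLU-11).** -/
theorem relIndex_dvd_u [Fintype F] {q₀ : ℕ} (hF : Fintype.card F = q₀ ^ 2) (n : ℕ) (hn : 1 ≤ n) :
    (CUh n F q₀).relIndex (Cfsg.Geo.specialLinear (Fin n) F) * Nat.card (Cfsg.GU n F q₀) *
        (q₀ ^ 2 - 1) ∣ Nat.card (GL (Fin n) F) * (q₀ + 1) := by
  classical
  set CU := CUh n F q₀ with hCU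
  set SL := Cfsg.Geo.specialLinear (Fin n) F with hSL
  set GU := Cfsg.GU n F q₀ with hGU
  set Z := Zs n F with hZ
  -- (A) the scalar part
  have hZcard : Nat.card Z = q₀ ^ 2 - 1 := by rw [hZ, card_Zs n hn, hF]
  have s1 : Nat.card Z * Z.relIndex (GU ⊔ Z) = Nat.card ↥(GU ⊔ Z) := by
    have := Subgroup.relIndex_mul_relIndex (⊥ : Subgroup (GL (Fin n) F)) Z (GU ⊔ Z) bot_le
      le_sup_right
    rwa [Subgroup.relIndex_bot_left, Subgroup.relIndex_bot_left] at this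
  have s2 : Nat.card ↥(Z ⊓ GU) * Z.relIndex GU = Nat.card GU := by
    have := Subgroup.relIndex_mul_relIndex (⊥ : Subgroup (GL (Fin n) F)) (Z ⊓ GU) GU bot_le
      inf_le_right
    rwa [Subgroup.relIndex_bot_left, Subgroup.relIndex_bot_left, Subgroup.inf_relIndex_right]
      at this
  have s3 : Z.relIndex (GU ⊔ Z) = Z.relIndex GU := Subgroup.relIndex_sup_right GU Z
  have s4 : Nat.card ↥(GU ⊔ Z) ∣ Nat.card CU :=
    Subgroup.card_dvd_of_le (sup_le (GU_le_CUh n q₀) (Zs_le_CUh n q₀))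
  have s5 : Nat.card ↥(Z ⊓ GU) ∣ q₀ + 1 := card_GU_inf_Zs_dvd n q₀ hn
  -- `|GU| (q-1) ∣ |CU| (q₀+1)`
  have s6 : Nat.card GU * (q₀ ^ 2 - 1) ∣ Nat.card CU * (q₀ + 1) := by
    have h1 : Nat.card GU * (q₀ ^ 2 - 1) = Nat.card ↥(GU ⊔ Z) * Nat.card ↥(Z ⊓ GU) := by
      rw [← s1, ← s2, s3, hZcard]; ring
    rw [h1]
    exact mul_dvd_mul s4 s5
  -- (B) the determinant part
  have e4 : Nat.card ↥(CU ⊓ SL) * CU.relIndex SL = Nat.card SL := by
    have := Subgroup.relIndex_mul_relIndex (⊥ : Subgroup (GL (Fin n) F)) (CU ⊓ SL) SL bot_le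
      inf_le_right
    rwa [Subgroup.relIndex_bot_left, Subgroup.relIndex_bot_left, Subgroup.inf_relIndex_right]
      at this
  have e1 : Nat.card ↥(SL ⊓ CU) * SL.relIndex CU = Nat.card CU := by
    have := Subgroup.relIndex_mul_relIndex (⊥ : Subgroup (GL (Fin n) F)) (SL ⊓ CU) CU bot_le
      inf_le_right
    rwa [Subgroup.relIndex_bot_left, Subgroup.relIndex_bot_left, Subgroup.inf_relIndex_right]
      at this
  have e2 : SL.relIndex CU = Nat.card (CU.map (Matrix.GeneralLinearGroup.det : GL (Fin n) F →* Fˣ)) :=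
    Subgroup.relIndex_ker CU (Matrix.GeneralLinearGroup.det : GL (Fin n) F →* Fˣ)
  have e3 : SL.index = Nat.card (Matrix.GeneralLinearGroup.det : GL (Fin n) F →* Fˣ).range :=
    Subgroup.index_ker _
  have e5 : SL.relIndex CU ∣ SL.index := by
    rw [e2, e3]
    exact Subgroup.card_dvd_of_le (Subgroup.map_le_range _ _)
  have e6 : Nat.card SL * SL.index = Nat.card (GL (Fin n) F) := Subgroup.card_mul_index SL
  have e7 : CU ⊓ SL = SL ⊓ CU := inf_comm _ _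
  obtain ⟨k, hk⟩ := e5
  obtain ⟨l, hl⟩ := s6
  refine ⟨k * l, ?_⟩
  rw [← e6, ← e4, hk, e7]
  have h2 : Nat.card ↥(SL ⊓ CU) * SL.relIndex CU * (q₀ + 1) = Nat.card GU * (q₀ ^ 2 - 1) * l := by
    rw [e1, hl]
  calc Nat.card ↥(SL ⊓ CU) * CU.relIndex SL * (SL.relIndex CU * k) * (q₀ + 1)
      = CU.relIndex SL * k * (Nat.card ↥(SL ⊓ CU) * SL.relIndex CU * (q₀ + 1)) := by ring
    _ = CU.relIndex SL * k * (Nat.card GU * (q₀ ^ 2 - 1) * l) := by rw [h2]
    _ = CU.relIndex SL * Nat.card GU * (q₀ ^ 2 - 1) * (k * l) := by ring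

end Cfsg.Agent.Lib.Helper81.SLU
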