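import Cfsg.Agent.Lib.Helper49.StSUDefs

/-!
# K-StSU leaf F3Le (keystone 254610): the rank one identity for the last simple root, `n` even

Also: the value of the form after a transvection `1 + c E_{j, rev j}` (`hJ_transvection`) and the
group elements `rootElt` with such a matrix (`c^q = -c`).
-/

set_option autoImplicit false
set_option linter.unusedSectionVars false
set_option linter.unusedVariables false

namespace Cfsg.Agent.Lib.Helper81.StSU

open Cfsg Cfsg.Agent.Lib.Helper49.StSU Matrix

variable {n : ℕ} {F : Type*} [Field F] {q : ℕ}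

theorem zero_frob (ok : Ok n F q) : (0 : F) ^ q = 0 := by
  have h := ok.frob_add 0 0
  rw [add_zero] at h
  generalize (0 : F) ^ q = z at h ⊢
  linear_combination -h

theorem neg_frob (ok : Ok n F q) (z : F) : (-z) ^ q = -(z ^ q) := by
  have h := ok.frob_add z (-z)
  rw [add_neg_cancel, zero_frob ok] at h
  generalize (-z) ^ q = w at h ⊢
  linear_combination -h

theorem hJ_add_left (u u' v : Fin n → F) :
    hJ n F q (u + u') v = hJ n F q u v + hJ n F q u' v := by
  simp only [hJ, Pi.add_apply, add_mul, Finset.sum_add_distrib]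

theorem hJ_add_right (ok : Ok n F q) (u v v' : Fin n → F) :
    hJ n F q u (v + v') = hJ n F q u v + hJ n F q u v' := by
  simp only [hJ, Pi.add_apply, ok.frob_add, mul_add, Finset.sum_add_distrib]

theorem hJ_single_left (j : Fin n) (z : F) (v : Fin n → F) :
    hJ n F q (Pi.single j z) v = z * (v (Fin.rev j)) ^ q := by
  unfold hJ
  rw [Finset.sum_eq_single j]
  · rw [Pi.single_eq_same]
  · intro b _ hb
    rw [Pi.single_eq_of_ne hb, zero_mul]
  · intro h
    exact absurd (Finset.mem_univ j) h

theorem hJ_single_right (ok : Ok n F q) (j : Fin n) (z : F) (u : Fin n → F) :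
    hJ n F q u (Pi.single j z) = u (Fin.rev j) * z ^ q := by
  unfold hJ
  rw [Finset.sum_eq_single (Fin.rev j)]
  · rw [Fin.rev_rev, Pi.single_eq_same]
  · intro b _ hb
    have hne : Fin.rev b ≠ j := fun h => hb (by rw [← h, Fin.rev_rev])
    rw [Pi.single_eq_of_ne hne, zero_frob ok, mul_zero]
  · intro h
    exact absurd (Finset.mem_univ _) h

theorem transvection_mulVec (i j : Fin n) (c : F) (w : Fin n → F) :
    transvection i j c *ᵥ w = w + Pi.single i (c * w j) := by
  unfold transvection
  rw [Matrix.add_mulVec, Matrix.one_mulVec, Matrix.single_mulVec]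
  rfl

/-- the value of the form after the transvection `1 + c E_{j, rev j}` -/
theorem hJ_transvection (ok : Ok n F q) (j : Fin n) (hj : Fin.rev j ≠ j) (c : F)
    (w v : Fin n → F) :
    hJ n F q (transvection j (Fin.rev j) c *ᵥ w) (transvection j (Fin.rev j) c *ᵥ v) =
      hJ n F q w v + (c ^ q + c) * (w (Fin.rev j) * (v (Fin.rev j)) ^ q) := by
  rw [transvection_mulVec, transvection_mulVec, hJ_add_left, hJ_add_right ok, hJ_add_right ok,
    hJ_single_left, hJ_single_left, hJ_single_right ok, Pi.single_eq_of_ne hj, zero_frob ok,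
    mul_zero, mul_pow]
  ring

/-- the group element with matrix `1 + c E_{j, rev j}` (`c^q = -c`) -/
def rootElt (ok : Ok n F q) (j : Fin n) (hj : Fin.rev j ≠ j) (c : F) (hc : c ^ q = -c) :
    GJ n F q :=
  ⟨⟨transvection j (Fin.rev j) c, det_transvection_of_ne _ _ (Ne.symm hj) c⟩, by
    intro w v
    show hJ n F q (transvection j (Fin.rev j) c *ᵥ w) (transvection j (Fin.rev j) c *ᵥ v) =
      hJ n F q w v
    rw [hJ_transvection ok j hj, hc, neg_add_cancel, zero_mul, add_zero]⟩

theorem mat_rootElt (ok : Ok n F q) (j : Fin n) (hj : Fin.rev j ≠ j) (c : F) (hc : c ^ q = -c) :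
    mat (rootElt ok j hj c hc) = transvection j (Fin.rev j) c := rfl

theorem rootElt_mul (ok : Ok n F q) (j : Fin n) (hj : Fin.rev j ≠ j) (c d : F) (hc : c ^ q = -c)
    (hd : d ^ q = -d) (hcd : c + d = 0) : rootElt ok j hj c hc * rootElt ok j hj d hd = 1 := by
  apply mat_injective
  rw [mat_mul, mat_rootElt, mat_rootElt, transvection_mul_transvection_same _ _ (Ne.symm hj), hcd,
    transvection_zero, mat_one]

/-- from the form: an element of the group with matrix `1 + u E_{j, rev j}` has `u^q = -u` -/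
theorem frob_of_mat_eq (ok : Ok n F q) (j : Fin n) (hj : Fin.rev j ≠ j) (x : GJ n F q) (u : F)
    (hx : mat x = transvection j (Fin.rev j) u) : u ^ q = -u := by
  have h := hJ_mat x (Pi.single (Fin.rev j) 1) (Pi.single (Fin.rev j) 1)
  rw [hx, hJ_transvection ok j hj] at h
  simp only [Pi.single_eq_same, one_pow, mul_one] at h
  linear_combination h

theorem sEvenMat_apply (hn : 2 ≤ n) (a : F) (i0 i1 : Fin n) (v0 : i0.val = n / 2 - 1)
    (v1 : i1.val = n / 2) (x y : Fin n) :
    sEvenMat n F a x y = if x = i0 ∧ y = i1 then a else if x = i1 ∧ y = i0 then -a⁻¹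
      else if x = y ∧ x ≠ i0 ∧ x ≠ i1 then 1 else 0 := by
  unfold sEvenMat
  simp only [Fin.ext_iff, v0, v1, ne_eq]

/-- LEAF F3Le (254610): rank one identity, last simple root, `n` even -/
theorem rank_one_long_even (ok : Ok n F q) (hn : 2 ≤ n) (he : n % 2 = 0) (x : GJ n F q)
    (hx : x ∈ XL n F q) (hx1 : x ≠ 1) :
    ∃ x' ∈ XL n F q, ∃ h ∈ Tsub n F q, ∃ y ∈ YL n F q,
      sLast n F q * x = x' * h * y := by
  -- the two middle indices
  obtain ⟨i0, v0⟩ : ∃ i0 : Fin n, i0.val = n / 2 - 1 := ⟨⟨n / 2 - 1, by omega⟩, rfl⟩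
  obtain ⟨i1, v1⟩ : ∃ i1 : Fin n, i1.val = n / 2 := ⟨⟨n / 2, by omega⟩, rfl⟩
  have hrev0 : Fin.rev i0 = i1 := by
    apply Fin.ext
    rw [Fin.val_rev, v0, v1]
    omega
  have hrev1 : Fin.rev i1 = i0 := by rw [← hrev0, Fin.rev_rev]
  have h01 : i0 ≠ i1 := by
    intro h
    have := congrArg Fin.val h
    rw [v0, v1] at this
    omega
  have hj0 : Fin.rev i0 ≠ i0 := by rw [hrev0]; exact h01.symm
  have hj1 : Fin.rev i1 ≠ i1 := by rw [hrev1]; exact h01
  -- the matrix of `x`
  obtain ⟨u, hXmat⟩ : ∃ u : F, mat x = transvection i0 i1 u := by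
    refine ⟨mat x i0 i1, ?_⟩
    ext a b
    by_cases hab : a = i0 ∧ b = i1
    · rw [hab.1, hab.2]
      simp [transvection, h01]
    · have h1 : mat x a b = (1 : Matrix (Fin n) (Fin n) F) a b := by
        apply hx
        intro hA
        apply hab
        constructor <;> apply Fin.ext <;> omega
      rw [h1]
      simp only [transvection, Matrix.add_apply]
      rw [Matrix.single_apply_of_ne i0 i1 _ a b (fun h => hab ⟨h.1.symm, h.2.symm⟩), add_zero]
  have hu0 : u ≠ 0 := by
    intro h0
    apply hx1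
    apply mat_injective
    rw [hXmat, h0, transvection_zero, mat_one]
  have hu : u ^ q = -u := by
    apply frob_of_mat_eq ok i0 hj0 x u
    rw [hrev0]
    exact hXmat
  -- parameters
  have ha0 : aPar F q ≠ 0 := ok.a_ne
  have ha : aPar F q ^ q = -aPar F q := ok.a_pow
  have hc : (-(aPar F q ^ 2 / u)) ^ q = -(-(aPar F q ^ 2 / u)) := by
    rw [neg_frob ok, div_pow, ← pow_mul, mul_comm 2 q, pow_mul, ha, hu, neg_sq, div_neg]
  have hc' : (-(-(aPar F q ^ 2 / u))) ^ q = -(-(-(aPar F q ^ 2 / u))) := by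
    rw [neg_frob ok, hc]
  have hE : (u⁻¹) ^ q = -u⁻¹ := by
    rw [inv_pow, hu, inv_neg]
  have hE' : (-u⁻¹) ^ q = -(-u⁻¹) := by
    rw [neg_frob ok, hE]
  -- the matrix of `sLast`
  have hS : mat (sLast n F q) = sEvenMat n F (aPar F q) := by
    rw [ok.last hn]
    unfold sLastMat
    rw [if_pos he]
  refine ⟨rootElt ok i0 hj0 _ hc, ?_, 
    rootElt ok i0 hj0 _ hc' * (sLast n F q * x) * rootElt ok i1 hj1 _ hE', ?_,
    rootElt ok i1 hj1 _ hE, ?_, ?_⟩
  · -- `x' ∈ XL`
    intro a b hA
    rw [mat_rootElt, hrev0]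
    simp only [transvection, Matrix.add_apply]
    rw [Matrix.single_apply_of_ne, add_zero]
    intro h
    apply hA
    rw [← h.1, ← h.2, v0, v1]
    omega
  · -- `h ∈ T`
    rw [mem_Tsub_iff]
    intro a b hab
    rw [mat_mul, mat_mul, mat_mul, mat_rootElt, mat_rootElt, hrev0, hrev1, hS, hXmat]
    by_cases hb0 : b = i0
    · have ha0' : a ≠ i0 := fun h => hab (by rw [h, hb0])
      rw [hb0, mul_transvection_apply_same, transvection_mul_apply_of_ne _ _ _ _ ha0',
        transvection_mul_apply_of_ne _ _ _ _ ha0', mul_transvection_apply_of_ne _ _ _ _ h01,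
        mul_transvection_apply_same, sEvenMat_apply hn _ i0 i1 v0 v1,
        sEvenMat_apply hn _ i0 i1 v0 v1]
      by_cases ha1 : a = i1
      · simp [ha1, h01, h01.symm]
        field_simp
        ring
      · simp [ha1, ha0', h01, h01.symm]
    · rw [mul_transvection_apply_of_ne _ _ _ _ hb0]
      by_cases ha0' : a = i0
      · rw [ha0', transvection_mul_apply_same]
        by_cases hb1 : b = i1
        · rw [hb1, mul_transvection_apply_same, mul_transvection_apply_same,
            sEvenMat_apply hn _ i0 i1 v0 v1, sEvenMat_apply hn _ i0 i1 v0 v1,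
            sEvenMat_apply hn _ i0 i1 v0 v1, sEvenMat_apply hn _ i0 i1 v0 v1]
          simp [h01, h01.symm]
          field_simp
          ring
        · rw [mul_transvection_apply_of_ne _ _ _ _ hb1, mul_transvection_apply_of_ne _ _ _ _ hb1,
            sEvenMat_apply hn _ i0 i1 v0 v1, sEvenMat_apply hn _ i0 i1 v0 v1]
          have hb0' : i0 ≠ b := fun h => hb0 h.symm
          have hb1' : i1 ≠ b := fun h => hb1 h.symm
          simp [hb0, hb1, hb0', hb1', h01, h01.symm]
      · rw [transvection_mul_apply_of_ne _ _ _ _ ha0']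
        by_cases hb1 : b = i1
        · have ha1 : a ≠ i1 := fun h => hab (by rw [h, hb1])
          rw [hb1, mul_transvection_apply_same, sEvenMat_apply hn _ i0 i1 v0 v1,
            sEvenMat_apply hn _ i0 i1 v0 v1]
          simp [ha0', ha1, h01, h01.symm]
        · rw [mul_transvection_apply_of_ne _ _ _ _ hb1, sEvenMat_apply hn _ i0 i1 v0 v1]
          simp [ha0', hb0, hb1, hab]
  · -- `y ∈ YL`
    intro a b hA
    rw [mat_rootElt, hrev1]
    simp only [transvection, Matrix.add_apply]
    rw [Matrix.single_apply_of_ne, add_zero]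
    intro h
    apply hA
    rw [← h.1, ← h.2, v0, v1]
    omega
  · -- the identity
    have e1 := rootElt_mul ok i0 hj0 _ _ hc hc' (add_neg_cancel _)
    have e2 := rootElt_mul ok i1 hj1 _ _ hE' hE (neg_add_cancel _)
    calc sLast n F q * x = 1 * (sLast n F q * x) * 1 := by rw [one_mul, mul_one]
      _ = (rootElt ok i0 hj0 _ hc * rootElt ok i0 hj0 _ hc') * (sLast n F q * x) *
          (rootElt ok i1 hj1 _ hE' * rootElt ok i1 hj1 _ hE) := by rw [e1, e2]
      _ = _ := by simp only [mul_assoc]

end Cfsg.Agent.Lib.Helper81.StSU
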