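import Mathlib

/-!
# K-PG2 pack (S3452), LEAF F6: `Equiv.Perm (Fin 3)` has the normal solvable subgroup `A₃` and
spectrum `{1, 2, 3}` (the spectrum of `PGL₂(2)`).
-/

set_option autoImplicit false

namespace Cfsg.Agent.Lib.Helper81.PG2

theorem f6_sq_or_cube : ∀ g : Equiv.Perm (Fin 3), g ^ 2 = 1 ∨ g ^ 3 = 1 := by decide

theorem f6_comm : ∀ a b : ↥(alternatingGroup (Fin 3)), a * b = b * a := by decide

theorem exists_spec_pgl22 : ∃ (G : Type) (_ : Group G) (_ : Finite G) (K : Subgroup G),
    K.Normal ∧ K ≠ ⊥ ∧ Group.IsSolvable ↥K ∧ Set.range (orderOf : G → ℕ) = {1, 2, 3} := by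
  refine ⟨Equiv.Perm (Fin 3), inferInstance, inferInstance, alternatingGroup (Fin 3),
    inferInstance, ?_, ?_, ?_⟩
  · intro h
    have hc : (Equiv.swap (0 : Fin 3) 1 * Equiv.swap (1 : Fin 3) 2 : Equiv.Perm (Fin 3)) ∈
        alternatingGroup (Fin 3) := by
      rw [Equiv.Perm.mem_alternatingGroup, Equiv.Perm.sign_mul,
        Equiv.Perm.sign_swap (by decide), Equiv.Perm.sign_swap (by decide)]
      rfl
    rw [h, Subgroup.mem_bot] at hc
    revert hc
    decide
  · exact Group.isSolvable_of_comm f6_comm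
  · ext m
    constructor
    · rintro ⟨g, rfl⟩
      rcases f6_sq_or_cube g with h | h
      · have hd : orderOf g ∣ 2 := orderOf_dvd_of_pow_eq_one h
        rcases (Nat.dvd_prime Nat.prime_two).mp hd with h1 | h2
        · simp [h1]
        · simp [h2]
      · have hd : orderOf g ∣ 3 := orderOf_dvd_of_pow_eq_one h
        rcases (Nat.dvd_prime Nat.prime_three).mp hd with h1 | h3
        · simp [h1]
        · simp [h3]
    · intro hm
      simp only [Set.mem_insert_iff, Set.mem_singleton_iff] at hm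
      rcases hm with rfl | rfl | rfl
      · exact ⟨1, orderOf_one⟩
      · have : Fact (Nat.Prime 2) := ⟨Nat.prime_two⟩
        exact ⟨Equiv.swap (0 : Fin 3) 1, orderOf_eq_prime (by decide) (by decide)⟩
      · have : Fact (Nat.Prime 3) := ⟨Nat.prime_three⟩
        exact ⟨Equiv.swap (0 : Fin 3) 1 * Equiv.swap (1 : Fin 3) 2,
          orderOf_eq_prime (by decide) (by decide)⟩

end Cfsg.Agent.Lib.Helper81.PG2
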