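import Mathlib
import Cfsg.Agent.Lib.Helper69.StNDefs

set_option autoImplicit false

/-! Pack K-StN (S2401), leaf B4: an element acting monomially on the root elements and killed by the
comparison homomorphism has trivial permutation part. -/

namespace Cfsg.Agent.Lib.Helper81.StN

open Cfsg.Agent.Lib.Helper69.StN Matrix

variable {n : ℕ} {K : Type*} [Field K] {S : Type*} [Group S] {X : Fin n → Fin n → K → S}

theorem perm_eq_one_of_acts (hn : 2 ≤ n) {φ : S →* SpecialLinearGroup (Fin n) K} (hφ : IsPhi X φ)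
    {g : S} {σ : Equiv.Perm (Fin n)} {d : Fin n → K} (hg : Acts X g σ d) (h1 : φ g = 1) : σ = 1 := by
  have key : ∀ k l : Fin n, k ≠ l → σ k = k := by
    intro k l hkl
    have hσ : σ k ≠ σ l := fun e => hkl (σ.injective e)
    have e := congrArg φ (hg.2 k l hkl 1)
    rw [map_mul, map_mul, map_inv, h1, one_mul, inv_one, mul_one, hφ k l hkl, hφ _ _ hσ] at e
    have e2 := congrArg
      (fun M : SpecialLinearGroup (Fin n) K => (M : Matrix (Fin n) (Fin n) K) (σ k) (σ l)) e
    simp only [SpecialLinearGroup.transvection_coe] at e2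
    have hc : d k * 1 * (d l)⁻¹ ≠ 0 :=
      mul_ne_zero (mul_ne_zero (hg.1 k) one_ne_zero) (inv_ne_zero (hg.1 l))
    by_contra hne
    apply hc
    have hneg : ¬ (k = σ k ∧ l = σ l) := fun h => hne h.1.symm
    have e3 : (0 : K) = d k * 1 * (d l)⁻¹ := by
      simpa [Matrix.add_apply, Matrix.one_apply_ne hσ, Matrix.single_apply, hneg] using e2
    exact e3.symm
  have : Nontrivial (Fin n) := Fin.nontrivial_iff_two_le.mpr hn
  refine Equiv.ext fun k => ?_
  obtain ⟨l, hl⟩ := exists_ne k
  rw [Equiv.Perm.one_apply]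
  exact key k l hl.symm

end Cfsg.Agent.Lib.Helper81.StN
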