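import Mathlib
import Cfsg.Prelude.Def_JordanBlocks
import Cfsg.Agent.Lib.Helper73.UCDefs
import Cfsg.Agent.Lib.Helper73.SPCDefs
import Cfsg.Agent.Lib.Helper50.IsometryDisc

/-!
# Keystone 267623 (K-SPC-C14, S2676 pack): nondegenerate symmetric matrices over a finite field of odd
characteristic have exactly two congruence classes (discriminant modulo squares)
-/

set_option autoImplicit false

namespace Cfsg.Agent.Lib.Helper81.SPC

open Matrix Cfsg.Agent.Lib.Helper73.UC Cfsg.Agent.Lib.Helper73.SPC

universe u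

variable {F : Type u} [Field F]

/-- the quadratic form `v ↦ vᵀ S v` -/
noncomputable def c14q {n : ℕ} (S : Matrix (Fin n) (Fin n) F) : QuadraticForm F (Fin n → F) :=
  LinearMap.BilinMap.toQuadraticMap (Matrix.toBilin' S)

theorem c14q_apply {n : ℕ} (S : Matrix (Fin n) (Fin n) F) (v : Fin n → F) :
    c14q S v = v ⬝ᵥ S *ᵥ v := by
  unfold c14q
  rw [LinearMap.BilinMap.toQuadraticMap_apply, Matrix.toBilin'_apply']

theorem c14_bilin_symm {n : ℕ} {S : Matrix (Fin n) (Fin n) F} (hS : Sᵀ = S) (u w : Fin n → F) :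
    w ⬝ᵥ S *ᵥ u = u ⬝ᵥ S *ᵥ w := by
  rw [Matrix.dotProduct_mulVec, ← hS, Matrix.vecMul_transpose, hS, dotProduct_comm]

theorem c14q_polar {n : ℕ} {S : Matrix (Fin n) (Fin n) F} (hS : Sᵀ = S) (u w : Fin n → F) :
    QuadraticMap.polar (c14q S) u w = Matrix.toBilin' ((2 : F) • S) u w := by
  unfold c14q
  rw [LinearMap.BilinMap.polar_toQuadraticMap, Matrix.toBilin'_apply', Matrix.toBilin'_apply',
    Matrix.toBilin'_apply', c14_bilin_symm hS u w, Matrix.smul_mulVec, dotProduct_smul, smul_eq_mul]
  ring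

theorem c14_det_two_smul {n : ℕ} (S : Matrix (Fin n) (Fin n) F) :
    ((2 : F) • S).det = (2 : F) ^ n * S.det := by
  rw [Matrix.det_smul, Fintype.card_fin]

theorem c14q_qnd (h2 : (2 : F) ≠ 0) {n : ℕ} {S : Matrix (Fin n) (Fin n) F} (hS : Sᵀ = S)
    (hu : IsUnit S.det) : Cfsg.Agent.Lib.Helper50.QND (c14q S) := by
  intro v hv
  have hdet : ((2 : F) • S).det ≠ 0 := by
    rw [c14_det_two_smul]
    exact mul_ne_zero (pow_ne_zero _ h2) hu.ne_zero
  apply Matrix.eq_zero_of_vecMul_eq_zero hdet
  funext j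
  have h1 := hv (Pi.single j 1)
  rw [c14q_polar hS, Matrix.toBilin'_apply', Matrix.dotProduct_mulVec] at h1
  simpa using h1

/-- a symmetric matrix whose quadratic form vanishes is zero (`2 ≠ 0`) -/
theorem c14_eq_zero_of_quad (h2 : (2 : F) ≠ 0) {n : ℕ} {D : Matrix (Fin n) (Fin n) F} (hD : Dᵀ = D)
    (h : ∀ v : Fin n → F, v ⬝ᵥ D *ᵥ v = 0) : D = 0 := by
  have hb : ∀ u w : Fin n → F, u ⬝ᵥ D *ᵥ w = 0 := by
    intro u w
    have h1 := h (u + w)
    rw [Matrix.mulVec_add, add_dotProduct, dotProduct_add, dotProduct_add, h u, h w,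
      c14_bilin_symm hD u w] at h1
    have h3 : (2 : F) * (u ⬝ᵥ D *ᵥ w) = 0 := by linear_combination h1
    rcases mul_eq_zero.mp h3 with h4 | h4
    · exact absurd h4 h2
    · exact h4
  ext i j
  have := hb (Pi.single i 1) (Pi.single j 1)
  rw [← Matrix.toBilin'_apply', Matrix.toBilin'_single] at this
  simpa using this

/-- congruence of nondegenerate symmetric matrices with discriminants in the same square class,
index type `Fin n` -/
theorem c14_congr_fin [Fintype F] (h2 : (2 : F) ≠ 0) {n : ℕ} (S S' : Matrix (Fin n) (Fin n) F)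
    (hS : Sᵀ = S) (hS' : S'ᵀ = S') (hu : IsUnit S.det) (hu' : IsUnit S'.det)
    (hsq : IsSquare (S.det * S'.det)) :
    ∃ X : Matrix (Fin n) (Fin n) F, IsUnit X.det ∧ Xᵀ * S * X = S' := by
  obtain ⟨d₁, hd₁, e₁⟩ := Cfsg.Agent.Lib.Helper50.disc_model (c14q S') (LinearEquiv.refl F _)
    (c14q S') (fun v => rfl) ((2 : F) • S') (c14q_polar hS')
  obtain ⟨d₂, hd₂, e₂⟩ := Cfsg.Agent.Lib.Helper50.disc_model (c14q S) (LinearEquiv.refl F _)
    (c14q S) (fun v => rfl) ((2 : F) • S) (c14q_polar hS)
  have hsq' : IsSquare (Cfsg.Agent.Lib.Helper50.disc (c14q S') *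
      Cfsg.Agent.Lib.Helper50.disc (c14q S)) := by
    rw [e₁, e₂, c14_det_two_smul, c14_det_two_smul]
    obtain ⟨r, hr⟩ := hsq
    refine ⟨d₁ * d₂ * 2 ^ n * r, ?_⟩
    linear_combination (d₁ ^ 2 * d₂ ^ 2 * (2 ^ n) ^ 2) * hr
  obtain ⟨g, hg⟩ := Cfsg.Agent.Lib.Helper50.isometric_of_disc h2 (c14q S') (c14q S)
    (c14q_qnd h2 hS' hu') (c14q_qnd h2 hS hu) hsq'
  set X : Matrix (Fin n) (Fin n) F :=
    LinearMap.toMatrix' (g : (Fin n → F) →ₗ[F] (Fin n → F)) with hXdef
  have hX : ∀ v, g v = X *ᵥ v := fun v => by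
    rw [← Matrix.toLin'_apply, hXdef, Matrix.toLin'_toMatrix']
    rfl
  refine ⟨X, ?_, ?_⟩
  · rw [hXdef, LinearMap.det_toMatrix']
    exact LinearEquiv.isUnit_det' g
  · have hD : (Xᵀ * S * X - S')ᵀ = Xᵀ * S * X - S' := by
      rw [Matrix.transpose_sub, Matrix.transpose_mul, Matrix.transpose_mul,
        Matrix.transpose_transpose, hS, hS', Matrix.mul_assoc]
    have hz : Xᵀ * S * X - S' = 0 := by
      apply c14_eq_zero_of_quad h2 hD
      intro v
      rw [Matrix.sub_mulVec, dotProduct_sub, sub_eq_zero]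
      have h1 := hg v
      rw [c14q_apply, c14q_apply, hX] at h1
      rw [← h1, ← Matrix.mulVec_mulVec, ← Matrix.mulVec_mulVec, Matrix.dotProduct_mulVec v Xᵀ,
        Matrix.vecMul_transpose]
    exact sub_eq_zero.mp hz

/-- the same over an arbitrary finite index type -/
theorem c14_congr [Fintype F] (h2 : (2 : F) ≠ 0) {κ : Type*} [Fintype κ] [DecidableEq κ]
    (T T' : Matrix κ κ F) (hT : Tᵀ = T) (hT' : T'ᵀ = T') (hu : IsUnit T.det) (hu' : IsUnit T'.det)
    (hsq : IsSquare (T.det * T'.det)) :
    ∃ x : Matrix κ κ F, IsUnit x.det ∧ xᵀ * T * x = T' := by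
  let e : κ ≃ Fin (Fintype.card κ) := Fintype.equivFin κ
  obtain ⟨X, hXu, hX⟩ := c14_congr_fin h2 (T.submatrix e.symm e.symm) (T'.submatrix e.symm e.symm)
    (by rw [Matrix.transpose_submatrix, hT]) (by rw [Matrix.transpose_submatrix, hT'])
    (by rw [Matrix.det_submatrix_equiv_self]; exact hu)
    (by rw [Matrix.det_submatrix_equiv_self]; exact hu')
    (by rw [Matrix.det_submatrix_equiv_self, Matrix.det_submatrix_equiv_self]; exact hsq)
  refine ⟨X.submatrix e e, ?_, ?_⟩
  · rw [Matrix.det_submatrix_equiv_self]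
    exact hXu
  · have hTe : T = (T.submatrix e.symm e.symm).submatrix e e := by
      rw [Matrix.submatrix_submatrix]
      simp
    have hTe' : T' = (T'.submatrix e.symm e.symm).submatrix e e := by
      rw [Matrix.submatrix_submatrix]
      simp
    rw [hTe', ← hX, Matrix.transpose_submatrix]
    conv_lhs => rw [hTe]
    rw [Matrix.submatrix_mul_equiv, Matrix.submatrix_mul_equiv]

theorem c14_isSquare_mul_iff [Fintype F] {x y : F} (hx : x ≠ 0) (hy : y ≠ 0) :
    IsSquare (x * y) ↔ (IsSquare x ↔ IsSquare y) := by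
  classical
  rw [← quadraticChar_one_iff_isSquare (mul_ne_zero hx hy), ← quadraticChar_one_iff_isSquare hx,
    ← quadraticChar_one_iff_isSquare hy, map_mul]
  rcases quadraticChar_dichotomy hx with h | h <;>
    rcases quadraticChar_dichotomy hy with h' | h' <;> rw [h, h'] <;> norm_num

/-- the discriminant class is an invariant of `CongRel 1` -/
theorem c14_isSquare_det_congr {κ : Type*} [Fintype κ] [DecidableEq κ] {T T' : Matrix κ κ F}
    (h : CongRel (1 : Matrix κ κ F) T T') : IsSquare T.det ↔ IsSquare T'.det := by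
  obtain ⟨x, hx, -, hxT⟩ := h
  have hdet : T'.det = x.det * x.det * T.det := by
    rw [← hxT, Matrix.det_mul, Matrix.det_mul, Matrix.det_transpose]
    ring
  have hx0 : x.det ≠ 0 := hx.ne_zero
  rw [hdet]
  constructor
  · rintro ⟨r, hr⟩
    exact ⟨x.det * r, by rw [hr]; ring⟩
  · rintro ⟨r, hr⟩
    refine ⟨r / x.det, ?_⟩
    field_simp
    linear_combination hr

theorem c14_ringChar_ne_two (h2 : (2 : F) ≠ 0) : ringChar F ≠ 2 := by
  intro h
  apply h2
  have := CharP.cast_eq_zero F (ringChar F)
  rw [h] at this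
  exact_mod_cast this

/-- **LEAF C14 (267623)** -/
theorem orbCount_symND_even [Fintype F] (h2 : (2 : F) ≠ 0) (κ : Type*) [Fintype κ] [DecidableEq κ]
    (i : ℕ) (hi : Even i) :
    orbCount (1 : Matrix κ κ F) (SymND κ i) = if Fintype.card κ = 0 then 1 else 2 := by
  classical
  have hpow : (-1 : F) ^ i = 1 := Even.neg_one_pow hi
  have hmem : ∀ T : Matrix κ κ F, T ∈ SymND (F := F) κ i ↔ Tᵀ = T ∧ IsUnit T.det := by
    intro T
    unfold SymND
    simp only [Set.mem_ofPred_eq, hpow, one_smul]
  have hone : (1 : Matrix κ κ F) ∈ SymND (F := F) κ i :=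
    (hmem 1).mpr ⟨Matrix.transpose_one, by rw [Matrix.det_one]; exact isUnit_one⟩
  unfold orbCount
  set s : Setoid ↥(SymND (F := F) κ i) :=
    (congSetoid (1 : Matrix κ κ F)).comap (Subtype.val : ↥(SymND (F := F) κ i) → Matrix κ κ F)
    with hs
  split_ifs with h0
  · -- `κ` empty
    have : IsEmpty κ := Fintype.card_eq_zero_iff.mp h0
    rw [Nat.card_eq_one_iff_unique]
    refine ⟨⟨?_⟩, ⟨Quotient.mk s ⟨1, hone⟩⟩⟩
    intro a b
    induction a using Quotient.inductionOn with
    | h a =>
      induction b using Quotient.inductionOn with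
      | h b =>
        apply congrArg
        apply Subtype.ext
        ext k
        exact isEmptyElim k
  · -- `κ` nonempty
    have hk : Nonempty κ := by
      by_contra hne
      rw [not_nonempty_iff] at hne
      exact h0 (Fintype.card_eq_zero_iff.mpr hne)
    obtain ⟨k0⟩ := hk
    let f : Quotient s → Bool :=
      Quotient.lift (fun T : ↥(SymND (F := F) κ i) => decide (IsSquare T.1.det))
        (fun a b hab => by
          simp only [decide_eq_decide]
          exact c14_isSquare_det_congr hab)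
    have hbij : Function.Bijective f := by
      constructor
      · intro a b hab
        induction a using Quotient.inductionOn with
        | h a =>
          induction b using Quotient.inductionOn with
          | h b =>
            have hab' : (IsSquare a.1.det ↔ IsSquare b.1.det) := by
              have : decide (IsSquare a.1.det) = decide (IsSquare b.1.det) := hab
              simpa only [decide_eq_decide] using this
            obtain ⟨haT, hau⟩ := (hmem a.1).mp a.2
            obtain ⟨hbT, hbu⟩ := (hmem b.1).mp b.2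
            have hsq : IsSquare (a.1.det * b.1.det) :=
              (c14_isSquare_mul_iff hau.ne_zero hbu.ne_zero).mpr hab'
            obtain ⟨x, hxu, hx⟩ := c14_congr h2 a.1 b.1 haT hbT hau hbu hsq
            apply Quotient.sound
            exact ⟨x, hxu, by rw [Matrix.mul_one, Matrix.one_mul], hx⟩
      · intro b
        cases b with
        | true =>
          refine ⟨Quotient.mk s ⟨1, hone⟩, ?_⟩
          show decide (IsSquare (1 : Matrix κ κ F).det) = true
          rw [Matrix.det_one, decide_eq_true_eq]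
          exact ⟨1, (mul_one 1).symm⟩
        | false =>
          obtain ⟨δ, hδ⟩ := FiniteField.exists_nonsquare (c14_ringChar_ne_two h2)
          have hδ0 : δ ≠ 0 := by
            rintro rfl
            exact hδ ⟨0, (mul_zero 0).symm⟩
          have hdet : (Matrix.diagonal (fun k : κ => if k = k0 then δ else 1)).det = δ := by
            rw [Matrix.det_diagonal, Finset.prod_ite_eq']
            simp
          have hT : Matrix.diagonal (fun k : κ => if k = k0 then δ else 1) ∈ SymND (F := F) κ i :=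
            (hmem _).mpr ⟨Matrix.diagonal_transpose _, by rw [hdet]; exact hδ0.isUnit⟩
          refine ⟨Quotient.mk s ⟨_, hT⟩, ?_⟩
          show decide (IsSquare (Matrix.diagonal (fun k : κ => if k = k0 then δ else 1)).det) = false
          rw [hdet, decide_eq_false_iff_not]
          exact hδ
    rw [Nat.card_eq_of_bijective f hbij, Nat.card_eq_fintype_card, Fintype.card_bool]

end Cfsg.Agent.Lib.Helper81.SPC
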