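import Mathlib
import Cfsg.Prelude.Def_JordanBlocks
import Cfsg.Agent.Lib.Helper73.UCDefs
import Cfsg.Agent.Lib.Helper73.SPCDefs

/-!
# Keystone 267611 (K-SPC-C3, S2676 pack): the size-`i` top block is `(-1)^i`-symmetric
-/

set_option autoImplicit false

namespace Cfsg.Agent.Lib.Helper81.SPC

open Matrix Cfsg.Agent.Lib.Helper73.UC Cfsg.Agent.Lib.Helper73.SPC

variable {F : Type*} [Field F]

theorem c3_cidx_ext {t : ℕ} {d : Fin t → ℕ} {l k : Fin t} {a b : Fin (min (d l) (d k))}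
    (h : (a : ℕ) = (b : ℕ)) : (⟨l, k, a⟩ : CIdx d) = ⟨l, k, b⟩ := by
  have : a = b := Fin.ext h
  rw [this]

/-- **LEAF C3 (267611)** -/
theorem topBlock_transpose {t : ℕ} (d : Fin t → ℕ) (hd : ∀ k, 1 ≤ d k) (c : CIdx d → F)
    (hc : c ∈ AC d) (i : ℕ) :
    (topBlock d hd c i)ᵀ = (-1 : F) ^ i • topBlock d hd c i := by
  ext ⟨l, hl⟩ ⟨k, hk⟩
  have hlk : d l = d k := hl.trans hk.symm
  have hkl : d k = d l := hlk.symm
  have hdk := hd k
  have hdl := hd l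
  simp only [Matrix.transpose_apply, Matrix.smul_apply, topBlock, Matrix.submatrix_apply, topC,
    Matrix.of_apply, smul_eq_mul]
  rw [dif_pos hkl, dif_pos hlk]
  have hlt : d k - 1 < min (d l) (d k) := by
    rw [hlk, min_self]; omega
  have h := hc ⟨l, k, ⟨d k - 1, hlt⟩⟩
  have he : (⟨k, l, ⟨d l - 1, by rw [hkl, min_self]; omega⟩⟩ : CIdx d) =
      cswap ⟨l, k, ⟨d k - 1, hlt⟩⟩ := by
    apply c3_cidx_ext
    show d l - 1 = d k - 1
    rw [hlk]
  rw [he, h]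
  have hexp : ((⟨d k - 1, hlt⟩ : Fin (min (d l) (d k))) : ℕ) + 1 = i := by
    show d k - 1 + 1 = i
    omega
  rw [hexp]

end Cfsg.Agent.Lib.Helper81.SPC
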