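import Mathlib
import Cfsg.Agent.Lib.Helper74.CR2Defs
import Cfsg.Agent.Lib.Helper72.Basic
import Cfsg.Agent.Lib.Helper81.PRegularCount
import Cfsg.Agent.S4035

/-!
# S4284, keystone B1: `q`-elements of the centralizer of a small `p`-element are central in it
-/

set_option autoImplicit false
set_option linter.style.haveILetI false
set_option linter.unusedSectionVars false

namespace Cfsg.Agent.Lib.Helper81.CR2

open Subgroup Cfsg.Agent.Lib.Helper74.CR2

/-- commuting elements of coprime orders: the centralizer of the product -/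
theorem centralizer_mul_of_coprime {G : Type*} [Group G] {x h : G} (hc : Commute x h)
    (hcop : (orderOf x).Coprime (orderOf h)) :
    centralizer ({x * h} : Set G) = centralizer ({x} : Set G) ⊓ centralizer ({h} : Set G) := by
  ext g
  simp only [mem_inf, mem_centralizer_iff, Set.mem_singleton_iff, forall_eq]
  constructor
  · intro hg
    have hpow : ∀ k : ℕ, (x * h) ^ k * g = g * (x * h) ^ k := fun k =>
      ((Commute.pow_left (show Commute (x * h) g from hg) k)).eq
    constructor
    · obtain ⟨m, hm⟩ := exists_pow_eq_self_of_coprime (x := x) (n := orderOf h) hcop.symm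
      have h1 : (x * h) ^ (orderOf h) = x ^ (orderOf h) := by
        rw [hc.mul_pow, pow_orderOf_eq_one, mul_one]
      have h2 : x = (x * h) ^ (orderOf h * m) := by
        rw [pow_mul, h1, hm]
      rw [h2]
      exact hpow _
    · obtain ⟨m, hm⟩ := exists_pow_eq_self_of_coprime (x := h) (n := orderOf x) hcop
      have h1 : (x * h) ^ (orderOf x) = h ^ (orderOf x) := by
        rw [hc.mul_pow, pow_orderOf_eq_one, one_mul]
      have h2 : h = (x * h) ^ (orderOf x * m) := by
        rw [pow_mul, h1, hm]
      rw [h2]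
      exact hpow _
  · rintro ⟨h1, h2⟩
    rw [mul_assoc, h2, ← mul_assoc, h1, mul_assoc]

/-- an element whose order is prime to the index of a normal subgroup lies in it -/
theorem mem_of_coprime_index {Y : Type*} [Group Y] (N : Subgroup Y) [N.Normal] {x : Y}
    (h : (N.index).Coprime (orderOf x)) : x ∈ N := by
  obtain ⟨m, hm⟩ := exists_pow_eq_self_of_coprime (x := x) (n := N.index) h
  rw [← hm]
  exact N.pow_mem (Subgroup.pow_index_mem N x) m

/-- the centralizer in a subgroup `Y` of an element of `Y` -/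
theorem centralizer_subtype_eq {G : Type*} [Group G] (Y : Subgroup G) (y : Y) :
    centralizer ({y} : Set Y) = (centralizer ({(y : G)} : Set G)).subgroupOf Y := by
  ext z
  simp only [mem_subgroupOf, mem_centralizer_iff, Set.mem_singleton_iff, forall_eq]
  constructor
  · intro h
    exact congrArg Subtype.val h
  · intro h
    exact Subtype.ext h

/-- the structure of a finite group which is the product of two disjoint normal subgroups -/
theorem index_eq_card_of_disjoint_sup {Y : Type*} [Group Y] (A B : Subgroup Y) [A.Normal]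
    [B.Normal] (hdis : A ⊓ B = ⊥) (hsup : A ⊔ B = ⊤) :
    B.index = Nat.card A ∧ A.index = Nat.card B := by
  have hd : Disjoint A B := disjoint_iff.2 hdis
  have h1 : IsComplement' A B := by
    apply isComplement'_of_disjoint_and_mul_eq_univ hd
    rw [← Subgroup.mul_normal A B, hsup]
    rfl
  have h2 : IsComplement' B A := h1.symm
  exact ⟨h1.index_eq_card, h2.index_eq_card⟩

/-- **Keystone B1.** -/
theorem central_of_small {G : Type*} [Group G] [Finite G] {m n : ℕ} (H : Hyp G m n)
    (p q : ℕ) [Fact p.Prime] [Fact q.Prime] (hpq : p ≠ q) (hp : p ∣ m) (hq : q ∣ m)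
    (u : G) (hu : ∃ k : ℕ, orderOf u = p ^ k) (hidx : (centralizer ({u} : Set G)).index = m)
    (s : G) (hs : s ∈ centralizer ({u} : Set G)) (hsq : ∃ k : ℕ, orderOf s = q ^ k) :
    centralizer ({u} : Set G) ≤ centralizer ({s} : Set G) := by
  classical
  have hpp : p.Prime := Fact.out
  have hqp : q.Prime := Fact.out
  have hm0 : 0 < m := lt_trans Nat.zero_lt_one H.hm
  have hpn : ¬ p ∣ n := fun h => hpp.one_lt.ne' (Nat.dvd_one.1 (H.hcop ▸ Nat.dvd_gcd hp h))
  have hqn : ¬ q ∣ n := fun h => hqp.one_lt.ne' (Nat.dvd_one.1 (H.hcop ▸ Nat.dvd_gcd hq h))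
  set Y : Subgroup G := centralizer ({u} : Set G) with hY
  -- Step 1: class sizes in `Y` of the `p`-regular elements
  have hstep1 : ∀ y : Y, (orderOf y).Coprime p →
      (centralizer ({y} : Set Y)).index = 1 ∨ (centralizer ({y} : Set Y)).index = n := by
    intro y hy
    have hcomm : Commute u (y : G) := by
      have := mem_centralizer_iff.1 y.2 u (Set.mem_singleton u)
      exact this
    have hcop : (orderOf u).Coprime (orderOf (y : G)) := by
      obtain ⟨k, hk⟩ := hu
      rw [hk, Subgroup.orderOf_coe]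
      exact Nat.Coprime.pow_left k hy.symm
    have hcent := centralizer_mul_of_coprime hcomm hcop
    have hrange : (centralizer ({u * (y : G)} : Set G)).index ∈ ({1, m, m * n} : Set ℕ) := by
      rw [← H.h]
      exact ⟨u * (y : G), rfl⟩
    rw [centralizer_subtype_eq Y y]
    show (centralizer ({(y : G)} : Set G)).relIndex Y = 1 ∨
      (centralizer ({(y : G)} : Set G)).relIndex Y = n
    have hmul : (centralizer ({(y : G)} : Set G)).relIndex Y * m =
        (centralizer ({u * (y : G)} : Set G)).index := by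
      rw [hcent, ← hidx, ← inf_relIndex_right, inf_comm]
      exact relIndex_mul_index inf_le_left
    rcases hrange with h1 | h1 | h1
    · exfalso
      rw [h1] at hmul
      have := Nat.eq_one_of_mul_eq_one_left hmul
      exact H.hm.ne' this
    · left
      rw [h1] at hmul
      exact Nat.eq_of_mul_eq_mul_right hm0 (by rw [hmul, one_mul])
    · right
      rw [Set.mem_singleton_iff.1 h1] at hmul
      exact Nat.eq_of_mul_eq_mul_right hm0 (by rw [hmul, mul_comm])
  -- Step 2: `Y = P_Y × H_Y`
  have hcls : ∀ (r : ℕ) (y : Y), (ConjClasses.mk y).carrier.ncard =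
      (centralizer ({y} : Set Y)).index := fun r y =>
    Cfsg.Agent.Lib.Helper72.ncard_carrier_eq_index_centralizer y
  have hYp : ∀ y : Y, (orderOf y).Coprime p → ¬ p ∣ (ConjClasses.mk y).carrier.ncard := by
    intro y hy
    rw [hcls p y]
    rcases hstep1 y hy with h1 | h1
    · rw [h1]
      exact hpp.one_lt.ne' ∘ Nat.dvd_one.1
    · rw [h1]
      exact hpn
  obtain ⟨hPn, Hs, hHsn, hpH, hdisP, hsupP⟩ := Cfsg.Agent.S4035.result hYp (default : Sylow p Y)
  set PY : Subgroup Y := ((default : Sylow p Y) : Subgroup Y) with hPY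
  have hPYp : IsPGroup p PY := (default : Sylow p Y).isPGroup'
  obtain ⟨hHsidx, hPYidx⟩ := index_eq_card_of_disjoint_sup PY Hs hdisP hsupP
  obtain ⟨a, ha⟩ := IsPGroup.iff_card.1 hPYp
  have hcommP : ∀ x ∈ PY, ∀ h ∈ Hs, Commute x h := fun x hx h hh =>
    commute_of_normal_of_disjoint PY Hs hPn hHsn (disjoint_iff.2 hdisP) x h hx hh
  -- `p`-elements of `Y` lie in `P_Y`
  have hpel : ∀ x : Y, (∃ k : ℕ, orderOf x = p ^ k) → x ∈ PY := by
    intro x ⟨k, hk⟩
    apply mem_of_coprime_index PY
    rw [hPYidx, hk]
    exact Nat.Coprime.pow_right k ((Nat.Prime.coprime_iff_not_dvd hpp).2 hpH).symm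
  -- Step 4: class sizes in `Y` of the `q`-regular elements
  have hYq : ∀ y : Y, (orderOf y).Coprime q → ¬ q ∣ (ConjClasses.mk y).carrier.ncard := by
    intro y _
    rw [hcls q y]
    obtain ⟨x1, x2, hx12, hc12, hx1, hx2⟩ :=
      exists_isPPart' p hpp y (orderOf_pos y)
    have hx1P : x1 ∈ PY := hpel x1 hx1
    have hx2cop : (orderOf x2).Coprime p := ((Nat.Prime.coprime_iff_not_dvd hpp).2 hx2).symm
    have hle : centralizer ({x1} : Set Y) ⊓ centralizer ({x2} : Set Y) ≤
        centralizer ({y} : Set Y) := by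
      intro z hz
      simp only [mem_inf, mem_centralizer_iff, Set.mem_singleton_iff, forall_eq] at hz ⊢
      rw [← hx12, mul_assoc, hz.2, ← mul_assoc, hz.1, mul_assoc]
    have hHle : Hs ≤ centralizer ({x1} : Set Y) := by
      intro h hh
      simp only [mem_centralizer_iff, Set.mem_singleton_iff, forall_eq]
      exact (hcommP x1 hx1P h hh).eq
    have hd1 : (centralizer ({y} : Set Y)).index ∣
        (centralizer ({x1} : Set Y) ⊓ centralizer ({x2} : Set Y)).index := index_dvd_of_le hle
    have hd2 : (centralizer ({x1} : Set Y) ⊓ centralizer ({x2} : Set Y)).index =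
        (centralizer ({x1} : Set Y)).relIndex (centralizer ({x2} : Set Y)) *
          (centralizer ({x2} : Set Y)).index := by
      rw [← inf_relIndex_right]
      exact (relIndex_mul_index inf_le_right).symm
    have hd3 : (centralizer ({x1} : Set Y)).relIndex (centralizer ({x2} : Set Y)) ∣ p ^ a := by
      rw [← ha, ← hHsidx]
      exact dvd_trans (relIndex_dvd_of_le_left _ hHle) (relIndex_dvd_index_of_normal _ _)
    intro hdvd
    have h1 : q ∣ (centralizer ({x1} : Set Y)).relIndex (centralizer ({x2} : Set Y)) *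
        (centralizer ({x2} : Set Y)).index := by
      rw [← hd2]
      exact dvd_trans hdvd hd1
    rcases (Nat.Prime.dvd_mul hqp).1 h1 with h2 | h2
    · have h3 : q ∣ p := hqp.dvd_of_dvd_pow (dvd_trans h2 hd3)
      exact hpq ((Nat.prime_dvd_prime_iff_eq hqp hpp).1 h3).symm
    · rcases hstep1 x2 hx2cop with h3 | h3
      · rw [h3] at h2
        exact hqp.one_lt.ne' (Nat.dvd_one.1 h2)
      · rw [h3] at h2
        exact hqn h2
  obtain ⟨hQn, K, hKn, hqK, hdisQ, hsupQ⟩ := Cfsg.Agent.S4035.result hYq (default : Sylow q Y)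
  set QY : Subgroup Y := ((default : Sylow q Y) : Subgroup Y) with hQY
  have hQYq : IsPGroup q QY := (default : Sylow q Y).isPGroup'
  obtain ⟨hKidx, hQYidx⟩ := index_eq_card_of_disjoint_sup QY K hdisQ hsupQ
  obtain ⟨b, hb⟩ := IsPGroup.iff_card.1 hQYq
  -- `s` lies in `Q_Y`
  set s' : Y := ⟨s, hs⟩ with hs'
  have hs'ord : orderOf s' = orderOf s := by
    rw [← Subgroup.orderOf_coe]
  have hs'Q : s' ∈ QY := by
    obtain ⟨k, hk⟩ := hsq
    apply mem_of_coprime_index QY
    rw [hQYidx, hs'ord, hk]
    exact Nat.Coprime.pow_right k ((Nat.Prime.coprime_iff_not_dvd hqp).2 hqK).symm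
  have hKle : K ≤ centralizer ({s'} : Set Y) := by
    intro h hh
    simp only [mem_centralizer_iff, Set.mem_singleton_iff, forall_eq]
    exact (commute_of_normal_of_disjoint QY K hQn hKn (disjoint_iff.2 hdisQ) s' h hs'Q hh).eq
  have hdvd : (centralizer ({s'} : Set Y)).index ∣ q ^ b := by
    rw [← hb, ← hKidx]
    exact index_dvd_of_le hKle
  have hs'cop : (orderOf s').Coprime p := by
    obtain ⟨k, hk⟩ := hsq
    rw [hs'ord, hk]
    exact Nat.Coprime.pow_left k ((Nat.coprime_primes hqp hpp).2 (Ne.symm hpq))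
  have hone : (centralizer ({s'} : Set Y)).index = 1 := by
    rcases hstep1 s' hs'cop with h1 | h1
    · exact h1
    · exfalso
      rw [h1] at hdvd
      obtain ⟨r, hr, hrn⟩ := Nat.exists_prime_and_dvd H.hn.ne'
      have h2 : r ∣ q := hr.dvd_of_dvd_pow (dvd_trans hrn hdvd)
      rw [(Nat.prime_dvd_prime_iff_eq hr hqp).1 h2] at hrn
      exact hqn hrn
  have htop : centralizer ({s'} : Set Y) = ⊤ := index_eq_one.1 hone
  intro y hy
  have h1 : (⟨y, hy⟩ : Y) ∈ centralizer ({s'} : Set Y) := by
    rw [htop]
    exact mem_top _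
  simp only [mem_centralizer_iff, Set.mem_singleton_iff, forall_eq] at h1 ⊢
  exact congrArg Subtype.val h1

end Cfsg.Agent.Lib.Helper81.CR2
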