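import Mathlib

/-!
# Keystone 115203 (K-Ree2-V, architect helper76): an explicit Klein four group of `PSL₂(F)`, char 3

`V` = image of the quaternion group `⟨w, v⟩`, `w = !![0,1;-1,0]`, `v = !![1,1;1,-1]`; `t` = image of
`!![1,1;0,1]`.
-/

set_option autoImplicit false

namespace Cfsg.Agent.Lib.Helper81.Ree2

open Matrix

section abstractKlein

variable {G : Type*} [Group G]

theorem klein_ncard_four {β : Type*} {a b c d : β} (hab : a ≠ b) (hac : a ≠ c) (had : a ≠ d)
    (hbc : b ≠ c) (hbd : b ≠ d) (hcd : c ≠ d) : ({a, b, c, d} : Set β).ncard = 4 := by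
  have h1 : c ∉ ({d} : Set β) := by simp [hcd]
  have h2 : b ∉ ({c, d} : Set β) := by simp [hbc, hbd]
  have h3 : a ∉ ({b, c, d} : Set β) := by simp [hab, hac, had]
  rw [Set.ncard_insert_of_notMem h3, Set.ncard_insert_of_notMem h2, Set.ncard_insert_of_notMem h1,
    Set.ncard_singleton]

/-- The Klein four subgroup generated by two commuting involutions. -/
def kleinSub (a b : G) (ha : a * a = 1) (hb : b * b = 1) (hab : b * a = a * b) : Subgroup G where
  carrier := {1, a, b, a * b}
  one_mem' := by simp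
  mul_mem' := by
    intro x y hx hy
    have e1 : a * (a * b) = b := by rw [← mul_assoc, ha, one_mul]
    have e2 : b * (a * b) = a := by rw [← mul_assoc, hab, mul_assoc, hb, mul_one]
    have e3 : a * b * a = b := by rw [mul_assoc, hab, ← mul_assoc, ha, one_mul]
    have e4 : a * b * b = a := by rw [mul_assoc, hb, mul_one]
    have e5 : a * b * (a * b) = 1 := by rw [mul_assoc, e2, ha]
    simp only [Set.mem_insert_iff, Set.mem_singleton_iff] at hx hy ⊢
    rcases hx with hx | hx | hx | hx <;> rcases hy with hy | hy | hy | hy <;> rw [hx, hy] <;>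
      simp [ha, hb, hab, e1, e2, e3, e4, e5]
  inv_mem' := by
    intro x hx
    simp only [Set.mem_insert_iff, Set.mem_singleton_iff] at hx ⊢
    have i1 : a⁻¹ = a := inv_eq_of_mul_eq_one_right ha
    have i2 : b⁻¹ = b := inv_eq_of_mul_eq_one_right hb
    have i3 : (a * b)⁻¹ = a * b := by rw [_root_.mul_inv_rev, i1, i2, hab]
    rcases hx with hx | hx | hx | hx <;> rw [hx]
    · left; exact inv_one
    · right; left; exact i1
    · right; right; left; exact i2
    · right; right; right; exact i3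

theorem mem_kleinSub {a b : G} {ha : a * a = 1} {hb : b * b = 1} {hab : b * a = a * b} {x : G} :
    x ∈ kleinSub a b ha hb hab ↔ x = 1 ∨ x = a ∨ x = b ∨ x = a * b := by
  show x ∈ ({1, a, b, a * b} : Set G) ↔ _
  simp only [Set.mem_insert_iff, Set.mem_singleton_iff]

theorem card_kleinSub {a b : G} {ha : a * a = 1} {hb : b * b = 1} {hab : b * a = a * b}
    (h1 : a ≠ 1) (h2 : b ≠ 1) (h3 : a ≠ b) : Nat.card ↥(kleinSub a b ha hb hab) = 4 := by
  have hc : Nat.card ↥(kleinSub a b ha hb hab) = Set.ncard ({1, a, b, a * b} : Set G) :=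
    _root_.Nat.card_coe_set_eq ({1, a, b, a * b} : Set G)
  rw [hc]
  apply klein_ncard_four
  · exact fun h => h1 h.symm
  · exact fun h => h2 h.symm
  · intro h
    apply h3
    have : a = b⁻¹ := eq_inv_of_mul_eq_one_left h.symm
    rw [this]
    exact inv_eq_of_mul_eq_one_right hb
  · exact h3
  · intro h
    apply h2
    have : a * 1 = a * b := by rw [mul_one]; exact h
    exact (mul_left_cancel this).symm
  · intro h
    apply h1
    have : 1 * b = a * b := by rw [one_mul]; exact h
    exact (mul_right_cancel this).symm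

theorem kleinSub_comm {a b : G} {ha : a * a = 1} {hb : b * b = 1} {hab : b * a = a * b}
    {x y : G} (hx : x ∈ kleinSub a b ha hb hab) (hy : y ∈ kleinSub a b ha hb hab) :
    x * y = y * x := by
  have e1 : a * (a * b) = b := by rw [← mul_assoc, ha, one_mul]
  have e2 : b * (a * b) = a := by rw [← mul_assoc, hab, mul_assoc, hb, mul_one]
  have e3 : a * b * a = b := by rw [mul_assoc, hab, ← mul_assoc, ha, one_mul]
  have e4 : a * b * b = a := by rw [mul_assoc, hb, mul_one]
  rw [mem_kleinSub] at hx hy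
  rcases hx with hx | hx | hx | hx <;> rcases hy with hy | hy | hy | hy <;> rw [hx, hy] <;>
    simp [hab, e1, e2, e3, e4]

end abstractKlein

section psl

variable {F : Type*} [Field F]

/-- the quotient map `SL₂(F) → PSL₂(F)` -/
def kpi : Matrix.SpecialLinearGroup (Fin 2) F →* Matrix.ProjectiveSpecialLinearGroup (Fin 2) F :=
  QuotientGroup.mk' _

theorem kpi_surjective : Function.Surjective (kpi (F := F)) :=
  QuotientGroup.mk'_surjective _

theorem kpi_eq_of_neg {x y : Matrix.SpecialLinearGroup (Fin 2) F}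
    (h : (y : Matrix (Fin 2) (Fin 2) F) = -(x : Matrix (Fin 2) (Fin 2) F)) : kpi x = kpi y := by
  unfold kpi
  rw [QuotientGroup.mk'_apply, QuotientGroup.mk'_apply, QuotientGroup.eq,
    Matrix.SpecialLinearGroup.mem_center_iff]
  refine ⟨-1, by simp, ?_⟩
  rw [Matrix.SpecialLinearGroup.coe_mul, Matrix.SpecialLinearGroup.coe_inv, h, Matrix.mul_neg,
    Matrix.adjugate_mul, x.det_coe]
  ext i j
  fin_cases i <;> fin_cases j <;> simp

theorem kpi_eq_of_eq {x y : Matrix.SpecialLinearGroup (Fin 2) F}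
    (h : (y : Matrix (Fin 2) (Fin 2) F) = (x : Matrix (Fin 2) (Fin 2) F)) : kpi x = kpi y := by
  have : y = x := Subtype.ext h
  rw [this]

theorem kpi_eq_imp {x y : Matrix.SpecialLinearGroup (Fin 2) F} (h : kpi x = kpi y) :
    (y : Matrix (Fin 2) (Fin 2) F) = (x : Matrix (Fin 2) (Fin 2) F) ∨
      (y : Matrix (Fin 2) (Fin 2) F) = -(x : Matrix (Fin 2) (Fin 2) F) := by
  unfold kpi at h
  rw [QuotientGroup.mk'_apply, QuotientGroup.mk'_apply, QuotientGroup.eq,
    Matrix.SpecialLinearGroup.mem_center_iff] at h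
  obtain ⟨r, hr, hrs⟩ := h
  have hr2 : r = 1 ∨ r = -1 := by
    have : r * r = 1 := by simpa [pow_two] using hr
    exact mul_self_eq_one_iff.mp this
  have hy : (y : Matrix (Fin 2) (Fin 2) F) = (x : Matrix (Fin 2) (Fin 2) F) * (scalar (Fin 2) r) := by
    rw [hrs, Matrix.SpecialLinearGroup.coe_mul, ← Matrix.mul_assoc,
      Matrix.SpecialLinearGroup.coe_inv, Matrix.mul_adjugate, x.det_coe, one_smul, Matrix.one_mul]
  rcases hr2 with rfl | rfl
  · left
    rw [hy]
    simp
  · right
    rw [hy]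
    ext i j
    fin_cases i <;> fin_cases j <;> simp [Matrix.mul_apply, Fin.sum_univ_two]

omit [Field F] in
theorem mat2_ext_iff {a b c d a' b' c' d' : F} :
    (!![a, b; c, d] : Matrix (Fin 2) (Fin 2) F) = !![a', b'; c', d'] ↔
      a = a' ∧ b = b' ∧ c = c' ∧ d = d' := by
  constructor
  · intro h
    refine ⟨?_, ?_, ?_, ?_⟩
    · simpa using congrFun (congrFun h 0) 0
    · simpa using congrFun (congrFun h 0) 1
    · simpa using congrFun (congrFun h 1) 0
    · simpa using congrFun (congrFun h 1) 1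
  · rintro ⟨rfl, rfl, rfl, rfl⟩
    rfl

theorem mat2_neg (a b c d : F) :
    -(!![a, b; c, d] : Matrix (Fin 2) (Fin 2) F) = !![-a, -b; -c, -d] := by
  ext i j
  fin_cases i <;> fin_cases j <;> simp

variable [CharP F 3]

theorem three_eq_zero' : (3 : F) = 0 := by
  have := CharP.cast_eq_zero F 3
  exact_mod_cast this

/-- `w` -/
def wS : Matrix.SpecialLinearGroup (Fin 2) F :=
  ⟨!![0, 1; -1, 0], by simp [Matrix.det_fin_two_of]⟩

/-- `v` (determinant `-2 = 1`) -/
def vS : Matrix.SpecialLinearGroup (Fin 2) F :=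
  ⟨!![1, 1; 1, -1], by
    rw [Matrix.det_fin_two_of]
    linear_combination (-1 : F) * (three_eq_zero' (F := F))⟩

/-- `u` -/
def uS : Matrix.SpecialLinearGroup (Fin 2) F :=
  ⟨!![1, 1; 0, 1], by simp [Matrix.det_fin_two_of]⟩

omit [CharP F 3] in
theorem coe_wS : ((wS : Matrix.SpecialLinearGroup (Fin 2) F) : Matrix (Fin 2) (Fin 2) F) =
    !![0, 1; -1, 0] := rfl

theorem coe_vS : ((vS : Matrix.SpecialLinearGroup (Fin 2) F) : Matrix (Fin 2) (Fin 2) F) =
    !![1, 1; 1, -1] := rfl

omit [CharP F 3] in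
theorem coe_uS : ((uS : Matrix.SpecialLinearGroup (Fin 2) F) : Matrix (Fin 2) (Fin 2) F) =
    !![1, 1; 0, 1] := rfl

omit [CharP F 3] in
theorem coe_one_SL : ((1 : Matrix.SpecialLinearGroup (Fin 2) F) : Matrix (Fin 2) (Fin 2) F) =
    !![1, 0; 0, 1] := by
  rw [Matrix.SpecialLinearGroup.coe_one]
  exact Matrix.one_fin_two

omit [CharP F 3] in
theorem mat2_smul (c a b d e : F) :
    c • (!![a, b; d, e] : Matrix (Fin 2) (Fin 2) F) = !![c * a, c * b; c * d, c * e] := by
  ext i j
  fin_cases i <;> fin_cases j <;> simp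

omit [CharP F 3] in
theorem kpi_eq_of_smul {x y : Matrix.SpecialLinearGroup (Fin 2) F} {c : F} (hc : c * c = 1)
    (h : (y : Matrix (Fin 2) (Fin 2) F) = c • (x : Matrix (Fin 2) (Fin 2) F)) : kpi x = kpi y := by
  rcases mul_self_eq_one_iff.mp hc with rfl | rfl
  · apply kpi_eq_of_eq
    rw [h, one_smul]
  · apply kpi_eq_of_neg
    rw [h, neg_smul, one_smul]

theorem coe_wvS : ((wS * vS : Matrix.SpecialLinearGroup (Fin 2) F) : Matrix (Fin 2) (Fin 2) F) =
    !![1, -1; -1, -1] := by
  rw [Matrix.SpecialLinearGroup.coe_mul, coe_wS, coe_vS, Matrix.mul_fin_two, mat2_ext_iff]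
  refine ⟨by ring, by ring, by ring, by ring⟩

theorem rel_ww : kpi (wS : Matrix.SpecialLinearGroup (Fin 2) F) * kpi wS = 1 := by
  rw [← map_mul, ← map_one (kpi (F := F))]
  refine (kpi_eq_of_neg ?_).symm
  rw [Matrix.SpecialLinearGroup.coe_mul, coe_wS, coe_one_SL, Matrix.mul_fin_two, mat2_neg,
    mat2_ext_iff]
  refine ⟨by ring, by ring, by ring, by ring⟩

theorem rel_vv : kpi (vS : Matrix.SpecialLinearGroup (Fin 2) F) * kpi vS = 1 := by
  have h3 : (3 : F) = 0 := three_eq_zero'
  rw [← map_mul, ← map_one (kpi (F := F))]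
  refine (kpi_eq_of_neg ?_).symm
  rw [Matrix.SpecialLinearGroup.coe_mul, coe_vS, coe_one_SL, Matrix.mul_fin_two, mat2_neg,
    mat2_ext_iff]
  refine ⟨by linear_combination h3, by ring, by ring, by linear_combination h3⟩

theorem rel_vw : kpi (vS : Matrix.SpecialLinearGroup (Fin 2) F) * kpi wS = kpi wS * kpi vS := by
  rw [← map_mul, ← map_mul]
  refine (kpi_eq_of_neg ?_).symm
  rw [Matrix.SpecialLinearGroup.coe_mul, Matrix.SpecialLinearGroup.coe_mul, coe_wS, coe_vS,
    Matrix.mul_fin_two, Matrix.mul_fin_two, mat2_neg, mat2_ext_iff]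
  refine ⟨by ring, by ring, by ring, by ring⟩

theorem rel_uw : kpi (uS : Matrix.SpecialLinearGroup (Fin 2) F) * kpi wS = kpi vS * kpi uS := by
  have h3 : (3 : F) = 0 := three_eq_zero'
  rw [← map_mul, ← map_mul]
  refine kpi_eq_of_neg ?_
  rw [Matrix.SpecialLinearGroup.coe_mul, Matrix.SpecialLinearGroup.coe_mul, coe_wS, coe_vS, coe_uS,
    Matrix.mul_fin_two, Matrix.mul_fin_two, mat2_neg, mat2_ext_iff]
  refine ⟨by ring, by linear_combination h3, by ring, by ring⟩

theorem rel_uv : kpi (uS : Matrix.SpecialLinearGroup (Fin 2) F) * kpi vS =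
    kpi wS * kpi vS * kpi uS := by
  have h3 : (3 : F) = 0 := three_eq_zero'
  rw [← map_mul, ← map_mul, ← map_mul]
  refine kpi_eq_of_neg ?_
  rw [Matrix.SpecialLinearGroup.coe_mul, coe_wvS, Matrix.SpecialLinearGroup.coe_mul, coe_vS, coe_uS,
    Matrix.mul_fin_two, Matrix.mul_fin_two, mat2_neg, mat2_ext_iff]
  refine ⟨by linear_combination h3, by ring, by ring, by linear_combination (-1 : F) * h3⟩

theorem rel_uuu : kpi (uS : Matrix.SpecialLinearGroup (Fin 2) F) ^ 3 = 1 := by
  have h3 : (3 : F) = 0 := three_eq_zero'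
  rw [← map_pow, ← map_one (kpi (F := F))]
  refine (kpi_eq_of_eq ?_).symm
  rw [pow_succ, pow_succ, pow_one, Matrix.SpecialLinearGroup.coe_mul,
    Matrix.SpecialLinearGroup.coe_mul, coe_uS, coe_one_SL, Matrix.mul_fin_two, Matrix.mul_fin_two,
    mat2_ext_iff]
  refine ⟨by ring, by linear_combination h3, by ring, by ring⟩

omit [CharP F 3] in
theorem one_ne_neg_one_of_three (h3 : (3 : F) = 0) : (1 : F) ≠ -1 := by
  intro h
  have h2 : (2 : F) = 0 := by linear_combination h
  have : (1 : F) = 0 := by linear_combination h3 - h2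
  exact one_ne_zero this

theorem kpi_uS_ne_one : kpi (uS : Matrix.SpecialLinearGroup (Fin 2) F) ≠ 1 := by
  intro h
  rw [← map_one (kpi (F := F))] at h
  rcases kpi_eq_imp h with h1 | h1
  · rw [coe_one_SL, coe_uS, mat2_ext_iff] at h1
    exact one_ne_zero h1.2.1.symm
  · rw [coe_one_SL, coe_uS, mat2_neg, mat2_ext_iff] at h1
    have : (1 : F) = 0 := by linear_combination h1.2.1
    exact one_ne_zero this

theorem kpi_wS_ne_one : kpi (wS : Matrix.SpecialLinearGroup (Fin 2) F) ≠ 1 := by
  intro h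
  rw [← map_one (kpi (F := F))] at h
  rcases kpi_eq_imp h with h1 | h1
  · rw [coe_one_SL, coe_wS, mat2_ext_iff] at h1
    exact one_ne_zero h1.1
  · rw [coe_one_SL, coe_wS, mat2_neg, mat2_ext_iff] at h1
    have : (1 : F) = 0 := by linear_combination h1.1
    exact one_ne_zero this

theorem kpi_vS_ne_one : kpi (vS : Matrix.SpecialLinearGroup (Fin 2) F) ≠ 1 := by
  intro h
  rw [← map_one (kpi (F := F))] at h
  rcases kpi_eq_imp h with h1 | h1
  · rw [coe_one_SL, coe_vS, mat2_ext_iff] at h1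
    exact one_ne_zero h1.2.1.symm
  · rw [coe_one_SL, coe_vS, mat2_neg, mat2_ext_iff] at h1
    have : (1 : F) = 0 := by linear_combination h1.2.1
    exact one_ne_zero this

theorem kpi_wS_ne_vS : kpi (wS : Matrix.SpecialLinearGroup (Fin 2) F) ≠ kpi vS := by
  intro h
  rcases kpi_eq_imp h with h1 | h1
  · rw [coe_wS, coe_vS, mat2_ext_iff] at h1
    exact one_ne_zero h1.1
  · rw [coe_wS, coe_vS, mat2_neg, mat2_ext_iff] at h1
    have : (1 : F) = 0 := by linear_combination h1.1
    exact one_ne_zero this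

/-- an element of `PSL₂(F)` commuting with the images of `w` and `v` is in `{1, w, v, wv}` -/
theorem central_key (gS : Matrix.SpecialLinearGroup (Fin 2) F)
    (hga : kpi wS * kpi gS = kpi gS * kpi wS) (hgb : kpi vS * kpi gS = kpi gS * kpi vS) :
    kpi gS = 1 ∨ kpi gS = kpi wS ∨ kpi gS = kpi vS ∨ kpi gS = kpi wS * kpi vS := by
  have h3 : (3 : F) = 0 := three_eq_zero'
  rw [← map_mul, ← map_mul] at hga hgb
  have h1 := kpi_eq_imp hga
  have h2 := kpi_eq_imp hgb
  obtain ⟨p, q, r, s, hG⟩ : ∃ p q r s : F,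
      (gS : Matrix (Fin 2) (Fin 2) F) = !![p, q; r, s] := ⟨_, _, _, _, Matrix.eta_fin_two _⟩
  have hdet : p * s - q * r = 1 := by
    have := gS.det_coe
    rw [hG, Matrix.det_fin_two_of] at this
    exact this
  rw [Matrix.SpecialLinearGroup.coe_mul, Matrix.SpecialLinearGroup.coe_mul, hG, coe_wS,
    Matrix.mul_fin_two, Matrix.mul_fin_two, mat2_neg, mat2_ext_iff, mat2_ext_iff] at h1
  rw [Matrix.SpecialLinearGroup.coe_mul, Matrix.SpecialLinearGroup.coe_mul, hG, coe_vS,
    Matrix.mul_fin_two, Matrix.mul_fin_two, mat2_neg, mat2_ext_iff, mat2_ext_iff] at h2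
  rcases h1 with ⟨w1, w2, w3, w4⟩ | ⟨w1, w2, w3, w4⟩ <;>
    rcases h2 with ⟨v1, v2, v3, v4⟩ | ⟨v1, v2, v3, v4⟩
  · -- g = p • 1
    left
    have hq : q = 0 := by grind
    have hr : r = 0 := by grind
    have hs : s = p := by grind
    have hp : p * p = 1 := by grind
    rw [← map_one (kpi (F := F))]
    refine (kpi_eq_of_smul hp ?_).symm
    rw [hG, coe_one_SL, mat2_smul, mat2_ext_iff]
    refine ⟨by ring, by rw [hq]; ring, by rw [hr]; ring, by rw [hs]; ring⟩
  · -- g = q • w
    right; left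
    have hp : p = 0 := by grind
    have hs : s = 0 := by grind
    have hr : r = -q := by grind
    have hq : q * q = 1 := by grind
    refine (kpi_eq_of_smul hq ?_).symm
    rw [hG, coe_wS, mat2_smul, mat2_ext_iff]
    refine ⟨by rw [hp]; ring, by ring, by rw [hr]; ring, by rw [hs]; ring⟩
  · -- g = p • v
    right; right; left
    have hq : q = p := by grind
    have hr : r = p := by grind
    have hs : s = -p := by grind
    have hp : p * p = 1 := by grind
    refine (kpi_eq_of_smul hp ?_).symm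
    rw [hG, coe_vS, mat2_smul, mat2_ext_iff]
    refine ⟨by ring, by rw [hq]; ring, by rw [hr]; ring, by rw [hs]; ring⟩
  · -- g = p • (w v)
    right; right; right
    have hq : q = -p := by grind
    have hr : r = -p := by grind
    have hs : s = -p := by grind
    have hp : p * p = 1 := by grind
    rw [← map_mul]
    refine (kpi_eq_of_smul hp ?_).symm
    rw [hG, coe_wvS, mat2_smul, mat2_ext_iff]
    refine ⟨by ring, by rw [hq]; ring, by rw [hr]; ring, by rw [hs]; ring⟩

end psl

/-- **Keystone 115203 (K-Ree2-V)**: an explicit self-centralising Klein four group of `PSL₂(F)`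
(characteristic 3), normalised by an element of order 3. -/
theorem exists_klein_psl2 {F : Type*} [Field F] [CharP F 3] :
    ∃ (V : Subgroup (Matrix.ProjectiveSpecialLinearGroup (Fin 2) F))
      (t : Matrix.ProjectiveSpecialLinearGroup (Fin 2) F),
      Nat.card ↥V = 4 ∧
      Subgroup.centralizer (V : Set (Matrix.ProjectiveSpecialLinearGroup (Fin 2) F)) = V ∧
      t ≠ 1 ∧ t ^ 3 = 1 ∧ ∀ x ∈ V, t * x * t⁻¹ ∈ V := by
  have ha : kpi (wS : Matrix.SpecialLinearGroup (Fin 2) F) * kpi wS = 1 := rel_ww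
  have hb : kpi (vS : Matrix.SpecialLinearGroup (Fin 2) F) * kpi vS = 1 := rel_vv
  have hab : kpi (vS : Matrix.SpecialLinearGroup (Fin 2) F) * kpi wS = kpi wS * kpi vS := rel_vw
  refine ⟨kleinSub (kpi wS) (kpi vS) ha hb hab, kpi uS,
    card_kleinSub kpi_wS_ne_one kpi_vS_ne_one kpi_wS_ne_vS, ?_, kpi_uS_ne_one, rel_uuu, ?_⟩
  · ext g
    constructor
    · intro hg
      rw [Subgroup.mem_centralizer_iff] at hg
      have hga : kpi wS * g = g * kpi wS :=
        hg _ (mem_kleinSub.mpr (Or.inr (Or.inl rfl)))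
      have hgb : kpi vS * g = g * kpi vS :=
        hg _ (mem_kleinSub.mpr (Or.inr (Or.inr (Or.inl rfl))))
      obtain ⟨gS, rfl⟩ := kpi_surjective g
      exact mem_kleinSub.mpr (central_key gS hga hgb)
    · intro hg
      rw [Subgroup.mem_centralizer_iff]
      intro h hh
      exact kleinSub_comm hh hg
  · intro x hx
    have hta : kpi (uS : Matrix.SpecialLinearGroup (Fin 2) F) * kpi wS * (kpi uS)⁻¹ = kpi vS := by
      rw [rel_uw, mul_assoc, mul_inv_cancel, mul_one]
    have htb : kpi (uS : Matrix.SpecialLinearGroup (Fin 2) F) * kpi vS * (kpi uS)⁻¹ =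
        kpi wS * kpi vS := by
      rw [rel_uv, mul_assoc, mul_inv_cancel, mul_one]
    rw [mem_kleinSub] at hx
    apply mem_kleinSub.mpr
    rcases hx with rfl | rfl | rfl | rfl
    · left
      rw [mul_one, mul_inv_cancel]
    · right; right; left
      exact hta
    · right; right; right
      exact htb
    · right; left
      have : kpi (uS : Matrix.SpecialLinearGroup (Fin 2) F) * (kpi wS * kpi vS) * (kpi uS)⁻¹ =
          (kpi uS * kpi wS * (kpi uS)⁻¹) * (kpi uS * kpi vS * (kpi uS)⁻¹) := by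
        group
      rw [this, hta, htb, ← mul_assoc, hab, mul_assoc, hb, mul_one]

end Cfsg.Agent.Lib.Helper81.Ree2
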