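import Mathlib
import Cfsg.Agent.Lib.Helper89.CycCover

/-!
# BG 12.11 keystone (Y): an invariant cyclic subgroup of full exponent over a prescribed line

`S` abelian `p`-group, `H` a `p'`-group normalizing `S` and a subgroup `X₀ ≤ S` of order `p` that
contains a non-identity `(exp S / p)`-th power.  Then there is an `H`-invariant cyclic `Y ≤ S` of
order `exp S` containing `X₀`.
-/

set_option autoImplicit false

namespace Cfsg.Agent.Lib.Helper81.BG1211

open Subgroup

variable {G : Type*} [Group G] [Finite G]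

theorem le_normalizer_of_conj_mem' (H N : Subgroup G)
    (h : ∀ a ∈ H, ∀ x ∈ N, a * x * a⁻¹ ∈ N) : H ≤ normalizer (N : Set G) := by
  intro a ha
  rw [Subgroup.mem_normalizer_iff]
  intro x
  constructor
  · exact h a ha x
  · intro hx
    have h1 := h a⁻¹ (H.inv_mem ha) _ hx
    have h2 : a⁻¹ * (a * x * a⁻¹) * a⁻¹⁻¹ = x := by group
    rw [h2] at h1
    exact h1

/-- the inductive core -/
theorem exists_cyclic_invariant_aux {p : ℕ} [Fact p.Prime] (S H X₀ : Subgroup G)
    (hSp : IsPGroup p S) (hSab : ∀ x ∈ S, ∀ y ∈ S, x * y = y * x)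
    (hHp : ¬ p ∣ Nat.card H) (hX₀ : Nat.card X₀ = p) (n : ℕ)
    (he : ∀ x ∈ S, x ^ (p ^ (n + 1)) = 1) :
    ∀ (c : ℕ) (T : Subgroup G), Nat.card T = c → T ≤ S → H ≤ normalizer (T : Set G) →
      (∀ x ∈ T, x ^ (p ^ n) ∈ X₀) → (∃ t ∈ T, t ^ (p ^ n) ≠ 1) →
      ∃ Y : Subgroup G, Y ≤ T ∧ IsCyclic Y ∧ H ≤ normalizer (Y : Set G) ∧
        Nat.card Y = p ^ (n + 1) ∧ X₀ ≤ Y := by
  classical
  have hp : p.Prime := Fact.out
  intro c
  induction c using Nat.strong_induction_on with
  | _ c ih =>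
    intro T hc hTS hHT hTX hex
    obtain ⟨t, htT, ht1⟩ := hex
    by_cases hcyc : IsCyclic T
    · -- cyclic case: `T` itself works
      refine ⟨T, le_refl _, hcyc, hHT, ?_, ?_⟩
      · have hord : orderOf t = p ^ (n + 1) := orderOf_eq_prime_pow ht1 (he t (hTS htT))
        have h1 : p ^ (n + 1) ∣ Nat.card T := by
          rw [← hord]
          have := orderOf_dvd_natCard (⟨t, htT⟩ : T)
          rwa [Subgroup.orderOf_mk] at this
        have h2 : Nat.card T ∣ p ^ (n + 1) := by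
          rw [← IsCyclic.exponent_eq_card]
          apply Monoid.exponent_dvd_of_forall_pow_eq_one
          intro x
          apply Subtype.ext
          rw [Subgroup.coe_pow]
          exact he x (hTS x.2)
        exact Nat.dvd_antisymm h2 h1
      · intro x hx
        have hP : Fact (Nat.card X₀).Prime := ⟨by rw [hX₀]; exact hp⟩
        have hne : (⟨t ^ (p ^ n), hTX t htT⟩ : X₀) ≠ 1 := by
          intro h
          apply ht1
          exact congrArg Subtype.val h
        have hmem := mem_zpowers_of_prime_card (G := X₀) (p := p) hX₀ (g := ⟨t ^ (p ^ n), hTX t htT⟩)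
          (g' := ⟨x, hx⟩) hne
        obtain ⟨k, hk⟩ := Subgroup.mem_zpowers_iff.1 hmem
        have hk' : (t ^ (p ^ n)) ^ k = x := by
          have := congrArg Subtype.val hk
          simpa using this
        rw [← hk']
        exact T.zpow_mem (T.pow_mem htT _) k
    · -- noncyclic case
      let N : Subgroup G :=
        { carrier := {x | x ∈ T ∧ x ^ (p ^ n) = 1}
          one_mem' := ⟨T.one_mem, one_pow _⟩
          mul_mem' := fun {a b} ha hb => ⟨T.mul_mem ha.1 hb.1, by
            have hcomm : Commute a b := hSab a (hTS ha.1) b (hTS hb.1)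
            rw [hcomm.mul_pow, ha.2, hb.2, one_mul]⟩
          inv_mem' := fun {a} ha => ⟨T.inv_mem ha.1, by rw [inv_pow, ha.2, inv_one]⟩ }
      have hNmem : ∀ x, x ∈ N ↔ x ∈ T ∧ x ^ (p ^ n) = 1 := fun x => Iff.rfl
      have hNT : N ≤ T := fun x hx => ((hNmem x).1 hx).1
      have hHN : H ≤ normalizer (N : Set G) := by
        apply le_normalizer_of_conj_mem'
        intro a ha x hx
        obtain ⟨hxT, hx1⟩ := (hNmem x).1 hx
        refine (hNmem _).2 ⟨?_, ?_⟩
        · exact ((Subgroup.mem_normalizer_iff.1 (hHT ha)) x).1 hxT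
        · rw [conj_pow, hx1, mul_one, mul_inv_cancel]
      -- the power hom `T → X₀`
      let ψ : ↥T →* ↥X₀ :=
        { toFun := fun x => ⟨(x : G) ^ (p ^ n), hTX x x.2⟩
          map_one' := by
            apply Subtype.ext
            simp
          map_mul' := fun x y => by
            apply Subtype.ext
            have hcomm : Commute (x : G) (y : G) := hSab x (hTS x.2) y (hTS y.2)
            simp [hcomm.mul_pow] }
      have hψ : ∀ x : ↥T, ((ψ x : ↥X₀) : G) = (x : G) ^ (p ^ n) := fun x => rfl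
      have hker : N.subgroupOf T = ψ.ker := by
        ext x
        rw [Subgroup.mem_subgroupOf, MonoidHom.mem_ker, hNmem]
        constructor
        · intro h
          apply Subtype.ext
          rw [hψ]
          exact h.2
        · intro h
          refine ⟨x.2, ?_⟩
          rw [← hψ, h]
          rfl
      have hP : Fact (Nat.card X₀).Prime := ⟨by rw [hX₀]; exact hp⟩
      have hrange : ψ.range = ⊤ := by
        rcases Subgroup.eq_bot_or_eq_top_of_prime_card ψ.range with h | h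
        · exfalso
          have hmem : ψ ⟨t, htT⟩ ∈ ψ.range := ⟨_, rfl⟩
          rw [h, Subgroup.mem_bot] at hmem
          apply ht1
          have := congrArg Subtype.val hmem
          simpa [hψ] using this
        · exact h
      have hidx : N.relIndex T = p := by
        show (N.subgroupOf T).index = p
        rw [hker, Subgroup.index_ker, hrange, Subgroup.card_top, hX₀]
      have hcop : (Nat.card H).Coprime p :=
        ((Nat.Prime.coprime_iff_not_dvd hp).2 hHp).symm
      obtain ⟨Y₁, hY₁T, hY₁ne, hY₁N, hHY₁⟩ :=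
        Cfsg.Agent.Lib.Helper89.exists_invariant_lt H T N hcop (hSp.to_le hTS) hHT hHN hNT hidx hcyc
      have hlt : Nat.card Y₁ < c := by
        rw [← hc]
        by_contra hge
        exact hY₁ne (Subgroup.eq_of_le_of_card_ge hY₁T (not_lt.1 hge))
      have hex₁ : ∃ y ∈ Y₁, y ^ (p ^ n) ≠ 1 := by
        by_contra hcon
        apply hY₁N
        intro y hy
        refine (hNmem y).2 ⟨hY₁T hy, ?_⟩
        by_contra hy1
        exact hcon ⟨y, hy, hy1⟩
      obtain ⟨Y, hYY₁, hYc, hHY, hYcard, hXY⟩ :=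
        ih (Nat.card Y₁) hlt Y₁ rfl (hY₁T.trans hTS) hHY₁ (fun x hx => hTX x (hY₁T hx)) hex₁
      exact ⟨Y, hYY₁.trans hY₁T, hYc, hHY, hYcard, hXY⟩

/-- **(Y)** `S` abelian `p`-group, `H` a `p'`-group normalizing `S` and a subgroup `X₀ ≤ S` of order
`p` that contains a non-identity `(exp S / p)`-th power.  Then there is an `H`-invariant CYCLIC
`Y ≤ S` of order `exp S` containing `X₀`. -/
theorem exists_cyclic_invariant {p : ℕ} [Fact p.Prime] (S H X₀ : Subgroup G)
    (hSp : IsPGroup p S) (hSab : ∀ x ∈ S, ∀ y ∈ S, x * y = y * x)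
    (hHS : H ≤ Subgroup.normalizer (S : Set G)) (hHp : ¬ p ∣ Nat.card H)
    (hX₀S : X₀ ≤ S) (hX₀ : Nat.card X₀ = p) (hHX₀ : H ≤ Subgroup.normalizer (X₀ : Set G))
    (s : G) (hs : s ∈ S) (hs1 : s ^ (Monoid.exponent S / p) ≠ 1)
    (hsX : s ^ (Monoid.exponent S / p) ∈ X₀) :
    ∃ Y : Subgroup G, Y ≤ S ∧ IsCyclic Y ∧ H ≤ Subgroup.normalizer (Y : Set G) ∧
      Nat.card Y = Monoid.exponent S ∧ X₀ ≤ Y := by
  classical
  have hp : p.Prime := Fact.out
  -- the exponent is `p ^ (n + 1)`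
  obtain ⟨m, hm⟩ := IsPGroup.iff_card.1 hSp
  have hdvd : Monoid.exponent S ∣ p ^ m := hm ▸ Group.exponent_dvd_nat_card
  obtain ⟨k, _, hk⟩ := (Nat.dvd_prime_pow hp).1 hdvd
  have hk0 : k ≠ 0 := by
    intro h0
    apply hs1
    rw [hk, h0, pow_zero, Nat.div_eq_of_lt hp.one_lt, pow_zero]
  obtain ⟨n, rfl⟩ := Nat.exists_eq_succ_of_ne_zero hk0
  have hdiv : Monoid.exponent S / p = p ^ n := by
    rw [hk, Nat.succ_eq_add_one, pow_succ, Nat.mul_div_cancel _ hp.pos]
  rw [hdiv] at hs1 hsX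
  have he : ∀ x ∈ S, x ^ (p ^ (n + 1)) = 1 := by
    intro x hx
    have h1 := Monoid.pow_exponent_eq_one (⟨x, hx⟩ : S)
    rw [hk] at h1
    have := congrArg Subtype.val h1
    simpa using this
  -- the starting subgroup
  let T₀ : Subgroup G :=
    { carrier := {x | x ∈ S ∧ x ^ (p ^ n) ∈ X₀}
      one_mem' := ⟨S.one_mem, by rw [one_pow]; exact X₀.one_mem⟩
      mul_mem' := fun {a b} ha hb => ⟨S.mul_mem ha.1 hb.1, by
        have hcomm : Commute a b := hSab a ha.1 b hb.1
        rw [hcomm.mul_pow]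
        exact X₀.mul_mem ha.2 hb.2⟩
      inv_mem' := fun {a} ha => ⟨S.inv_mem ha.1, by rw [inv_pow]; exact X₀.inv_mem ha.2⟩ }
  have hT₀mem : ∀ x, x ∈ T₀ ↔ x ∈ S ∧ x ^ (p ^ n) ∈ X₀ := fun x => Iff.rfl
  have hT₀S : T₀ ≤ S := fun x hx => ((hT₀mem x).1 hx).1
  have hHT₀ : H ≤ normalizer (T₀ : Set G) := by
    apply le_normalizer_of_conj_mem'
    intro a ha x hx
    obtain ⟨hxS, hxX⟩ := (hT₀mem x).1 hx
    refine (hT₀mem _).2 ⟨?_, ?_⟩
    · exact ((Subgroup.mem_normalizer_iff.1 (hHS ha)) x).1 hxS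
    · rw [conj_pow]
      exact ((Subgroup.mem_normalizer_iff.1 (hHX₀ ha)) _).1 hxX
  obtain ⟨Y, hYT, hYc, hHY, hYcard, hXY⟩ :=
    exists_cyclic_invariant_aux S H X₀ hSp hSab hHp hX₀ n he (Nat.card T₀) T₀ rfl hT₀S hHT₀
      (fun x hx => ((hT₀mem x).1 hx).2) ⟨s, (hT₀mem s).2 ⟨hs, hsX⟩, hs1⟩
  refine ⟨Y, hYT.trans hT₀S, hYc, hHY, ?_, hXY⟩
  rw [hYcard, hk]

end Cfsg.Agent.Lib.Helper81.BG1211
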