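import Mathlib
import Cfsg.Agent.Lib.Helper15.IsoSubE

/-!
# Keystone 138306 (K-1383-E3, S1383 pack, architect helper78): `card_dvd_succ_of_no_invariant_line`
-/

set_option autoImplicit false
set_option linter.unusedVariables false

namespace Cfsg.Agent.Lib.Helper81.BG1383

open Cfsg
open scoped commutatorElement

/-- a finite set covered by blocks of equal size `m` (each block is the block of each of its
elements) has size divisible by `m` -/
theorem card_dvd_of_blocks {α : Type*} [DecidableEq α] (S : Finset α) (B : α → Finset α) (m : ℕ)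
    (h1 : ∀ v ∈ S, v ∈ B v) (h2 : ∀ v ∈ S, B v ⊆ S) (h3 : ∀ v ∈ S, ∀ w ∈ B v, B w = B v)
    (h4 : ∀ v ∈ S, (B v).card = m) : m ∣ S.card := by
  classical
  have hmaps : Set.MapsTo B (↑S : Set α) (↑(S.image B) : Set (Finset α)) := by
    intro x hx
    exact Finset.mem_coe.mpr (Finset.mem_image_of_mem B (Finset.mem_coe.mp hx))
  rw [Finset.card_eq_sum_card_fiberwise hmaps]
  apply Finset.dvd_sum
  intro b hb
  obtain ⟨u, hu, rfl⟩ := Finset.mem_image.mp hb
  have e : S.filter (fun v => B v = B u) = B u := by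
    ext v
    rw [Finset.mem_filter]
    constructor
    · rintro ⟨hv, e⟩
      rw [← e]
      exact h1 v hv
    · intro hv
      exact ⟨h2 u hu hv, h3 u hu v hv⟩
  rw [e, h4 u hu]

section lines

variable {G : Type*} [Group G]

/-- the "line" `⟨x⟩ Z` -/
def lineOf (Z : Subgroup G) (x : G) : Subgroup G := Subgroup.zpowers x ⊔ Z

theorem self_mem_lineOf (Z : Subgroup G) (x : G) : x ∈ lineOf Z x :=
  Subgroup.mem_sup_left (Subgroup.mem_zpowers x)

theorem le_lineOf (Z : Subgroup G) (x : G) : Z ≤ lineOf Z x := le_sup_right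

theorem lineOf_le {Z P : Subgroup G} (hZP : Z ≤ P) {x : G} (hx : x ∈ P) : lineOf Z x ≤ P :=
  sup_le (Subgroup.zpowers_le.mpr hx) hZP

theorem lineOf_le_of_mem {Z : Subgroup G} {x w : G} (hw : w ∈ lineOf Z x) :
    lineOf Z w ≤ lineOf Z x :=
  sup_le (Subgroup.zpowers_le.mpr hw) le_sup_right

theorem lineOf_comm {Z P : Subgroup G} (hZP : Z ≤ P)
    (hZc : ∀ z ∈ Z, ∀ x ∈ P, z * x = x * z) {x : G} (hx : x ∈ P) :
    ∀ y ∈ lineOf Z x, ∀ y' ∈ lineOf Z x, y * y' = y' * y := by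
  have h1 : lineOf Z x ≤ Subgroup.centralizer ({x} : Set G) := by
    apply sup_le
    · rw [Subgroup.zpowers_le, Subgroup.mem_centralizer_iff]
      intro h hh
      rw [Set.mem_singleton_iff.mp hh]
    · intro z hz
      rw [Subgroup.mem_centralizer_iff]
      intro h hh
      rw [Set.mem_singleton_iff.mp hh]
      exact (hZc z hz x hx).symm
  have h2 : lineOf Z x ≤ Subgroup.centralizer (lineOf Z x : Set G) := by
    apply sup_le
    · rw [Subgroup.zpowers_le, Subgroup.mem_centralizer_iff]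
      intro h hh
      exact (Subgroup.mem_centralizer_iff.mp (h1 hh) x (Set.mem_singleton x)).symm
    · intro z hz
      rw [Subgroup.mem_centralizer_iff]
      intro h hh
      exact (hZc z hz h (lineOf_le hZP hx hh)).symm
  intro y hy y' hy'
  exact Subgroup.mem_centralizer_iff.mp (h2 hy') y hy

theorem conj_mem_lineOf {Z K : Subgroup G} (hZK : ∀ z ∈ Z, ∀ b ∈ K, b * z * b⁻¹ = z) {b : G}
    (hb : b ∈ K) {x w : G} (hw : w ∈ lineOf Z x) : b * w * b⁻¹ ∈ lineOf Z (b * x * b⁻¹) := by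
  have hle : lineOf Z x ≤ (lineOf Z (b * x * b⁻¹)).comap (MulAut.conj b).toMonoidHom := by
    apply sup_le
    · rw [Subgroup.zpowers_le, Subgroup.mem_comap]
      simp only [MulEquiv.coe_toMonoidHom, MulAut.conj_apply]
      exact self_mem_lineOf Z _
    · intro z hz
      rw [Subgroup.mem_comap]
      simp only [MulEquiv.coe_toMonoidHom, MulAut.conj_apply]
      rw [hZK z hz b hb]
      exact le_lineOf Z _ hz
  have h := hle hw
  rw [Subgroup.mem_comap] at h
  simpa only [MulEquiv.coe_toMonoidHom, MulAut.conj_apply] using h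

variable [Finite G]

theorem card_lineOf {p : ℕ} [Fact p.Prime] {Z P : Subgroup G} (hP : Nat.card P = p ^ 3)
    (hPna : ¬ IsMulCommutative P) (hZP : Z ≤ P) (hZ : Nat.card Z = p)
    (hZc : ∀ z ∈ Z, ∀ x ∈ P, z * x = x * z) {x : G} (hx : x ∈ P) (hxZ : x ∉ Z) :
    Nat.card (lineOf Z x) = p ^ 2 := by
  have hpp : p.Prime := Fact.out
  have hLP := lineOf_le hZP hx
  have hdvd : Nat.card (lineOf Z x) ∣ p ^ 3 := by
    rw [← hP]
    exact Subgroup.card_dvd_of_le hLP
  obtain ⟨j, hj3, hj⟩ := (Nat.dvd_prime_pow hpp).mp hdvd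
  have hZL : Z ≤ lineOf Z x := le_lineOf Z x
  have hj0 : j ≠ 0 := by
    rintro rfl
    have h1 : p ∣ Nat.card (lineOf Z x) := by
      rw [← hZ]
      exact Subgroup.card_dvd_of_le hZL
    rw [hj, pow_zero] at h1
    exact hpp.one_lt.ne' (Nat.dvd_one.mp h1)
  have hj1 : j ≠ 1 := by
    rintro rfl
    rw [pow_one] at hj
    have h1 : Z = lineOf Z x := Subgroup.eq_of_le_of_card_ge hZL (by rw [hj, hZ])
    apply hxZ
    rw [h1]
    exact self_mem_lineOf Z x
  have hj3' : j ≠ 3 := by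
    rintro rfl
    have h1 : lineOf Z x = P := Subgroup.eq_of_le_of_card_ge hLP (by rw [hj, hP])
    apply hPna
    refine ⟨⟨fun a b => Subtype.ext ?_⟩⟩
    have ha : (a : G) ∈ lineOf Z x := by rw [h1]; exact a.2
    have hb : (b : G) ∈ lineOf Z x := by rw [h1]; exact b.2
    exact lineOf_comm hZP hZc hx a.1 ha b.1 hb
  have hj2 : j = 2 := by omega
  rw [hj, hj2]

theorem lineOf_eq {p : ℕ} [Fact p.Prime] {Z P : Subgroup G} (hP : Nat.card P = p ^ 3)
    (hPna : ¬ IsMulCommutative P) (hZP : Z ≤ P) (hZ : Nat.card Z = p)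
    (hZc : ∀ z ∈ Z, ∀ x ∈ P, z * x = x * z) {x : G} (hx : x ∈ P) (hxZ : x ∉ Z) {w : G}
    (hw : w ∈ lineOf Z x) (hwZ : w ∉ Z) : lineOf Z w = lineOf Z x :=
  Subgroup.eq_of_le_of_card_ge (lineOf_le_of_mem hw) (by
    rw [card_lineOf hP hPna hZP hZ hZc hx hxZ,
      card_lineOf hP hPna hZP hZ hZc (lineOf_le hZP hx hw) hwZ])

omit [Finite G] in
theorem card_filter_mem [Fintype G] (H : Subgroup G) [DecidablePred (· ∈ H)] :
    (Finset.univ.filter (· ∈ H)).card = Nat.card H := by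
  rw [Nat.card_eq_fintype_card, Fintype.card_subtype]

end lines

/-- **LEAF E3 (138306)** -/
theorem card_dvd_succ_of_no_invariant_line {G : Type*} [Group G] [Finite G] (p : ℕ) [Fact p.Prime]
    (hp : p ≠ 2) (P K : Subgroup G) (hP : Nat.card P = p ^ 3) (hPna : ¬ IsMulCommutative P)
    (hKP : K ≤ Subgroup.normalizer (P : Set G)) (hKc : IsCyclic K)
    (hcop : (Nat.card K).Coprime p) (hodd : Odd (Nat.card K))
    (hZ : Nat.card ↥(P ⊓ Subgroup.centralizer (K : Set G)) = p)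
    (hZ' : P ⊓ Subgroup.centralizer (K : Set G) ≤ ⁅P, P⁆)
    (hfix : ∀ k ∈ K, k ≠ 1 →
      P ⊓ Subgroup.centralizer ({k} : Set G) = P ⊓ Subgroup.centralizer (K : Set G))
    (hline : ∀ a ∈ K, a ≠ 1 → ∀ v ∈ P, v ∉ Subgroup.centralizer (K : Set G) →
      a * v * a⁻¹ ∉ Subgroup.zpowers v ⊔ (P ⊓ Subgroup.centralizer (K : Set G))) :
    Nat.card K ∣ p + 1 := by
  classical
  let _ : Fintype G := Fintype.ofFinite G
  have hpp : p.Prime := Fact.out
  have hp2 : 2 ≤ p := hpp.two_le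
  obtain ⟨Z, hZdef⟩ : ∃ Z : Subgroup G, Z = P ⊓ Subgroup.centralizer (K : Set G) := ⟨_, rfl⟩
  rw [← hZdef] at hZ hZ' hline
  have hmemZ : ∀ z, z ∈ Z ↔ z ∈ P ∧ z ∈ Subgroup.centralizer (K : Set G) := fun z => by
    rw [hZdef, Subgroup.mem_inf]
  have hZP : Z ≤ P := fun z hz => ((hmemZ z).mp hz).1
  have hZK : ∀ z ∈ Z, ∀ b ∈ K, b * z * b⁻¹ = z := by
    intro z hz b hb
    have h := (Subgroup.mem_centralizer_iff.mp ((hmemZ z).mp hz).2) b hb
    rw [h, mul_inv_cancel_right]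
  -- `Z` is central in `P`
  have hna : ¬ ∀ a b : P, a * b = b * a := fun h => hPna ⟨⟨h⟩⟩
  have hZc : ∀ z ∈ Z, ∀ x ∈ P, z * x = x * z := by
    have hle : ⁅P, P⁆ ≤ P ⊓ Subgroup.centralizer (P : Set G) := by
      rw [Subgroup.commutator_le]
      intro g₁ h₁ g₂ h₂
      have hmem : ⁅g₁, g₂⁆ ∈ P := by
        rw [commutatorElement_def]
        exact P.mul_mem (P.mul_mem (P.mul_mem h₁ h₂) (P.inv_mem h₁)) (P.inv_mem h₂)
      refine Subgroup.mem_inf.mpr ⟨hmem, ?_⟩
      rw [Subgroup.mem_centralizer_iff]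
      intro x hx
      have hc := Cfsg.Agent.Lib.Helper15.IsoSub.comm_mem_center_of_cube (p := p) hP hna
        (⟨g₁⁻¹, P.inv_mem h₁⟩ : P) (⟨g₂⁻¹, P.inv_mem h₂⟩ : P)
      have hx' := Subgroup.mem_center_iff.mp hc (⟨x, hx⟩ : P)
      have h3 := congrArg Subtype.val hx'
      simp only [Subgroup.coe_mul, Subgroup.coe_inv, inv_inv] at h3
      rw [commutatorElement_def]
      exact h3
    intro z hz x hx
    have h := (Subgroup.mem_inf.mp (hle (hZ' hz))).2
    exact ((Subgroup.mem_centralizer_iff.mp h) x hx).symm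
  have hnotC : ∀ x ∈ P, x ∉ Z → x ∉ Subgroup.centralizer (K : Set G) :=
    fun x hx hxZ hC => hxZ ((hmemZ x).mpr ⟨hx, hC⟩)
  have hconjS : ∀ b ∈ K, ∀ x ∈ P, x ∉ Z → b * x * b⁻¹ ∈ P ∧ b * x * b⁻¹ ∉ Z := by
    intro b hb x hx hxZ
    refine ⟨(Subgroup.mem_normalizer_iff.mp (hKP hb) x).mp hx, ?_⟩
    intro hz
    have h := hZK _ hz b⁻¹ (K.inv_mem hb)
    have e : b⁻¹ * (b * x * b⁻¹) * b⁻¹⁻¹ = x := by group
    rw [e] at h
    apply hxZ
    rw [h]
    exact hz
  have hcardL : ∀ x ∈ P, x ∉ Z → Nat.card (lineOf Z x) = p ^ 2 := fun x hx hxZ =>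
    card_lineOf hP hPna hZP hZ hZc hx hxZ
  have hLeq : ∀ x ∈ P, x ∉ Z → ∀ w ∈ lineOf Z x, w ∉ Z → lineOf Z w = lineOf Z x :=
    fun x hx hxZ w hw hwZ => lineOf_eq hP hPna hZP hZ hZc hx hxZ hw hwZ
  -- the finite sets
  set S : Finset G := Finset.univ.filter (fun v => v ∈ P ∧ v ∉ Z) with hS
  have hmemS : ∀ v, v ∈ S ↔ v ∈ P ∧ v ∉ Z := fun v => by
    rw [hS, Finset.mem_filter]
    simp only [Finset.mem_univ, true_and]
  have hZsub : ∀ H : Subgroup G, Z ≤ H →
      Finset.univ.filter (· ∈ Z) ⊆ Finset.univ.filter (· ∈ H) := by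
    intro H hH u hu
    rw [Finset.mem_filter] at hu ⊢
    exact ⟨hu.1, hH hu.2⟩
  have hScard : S.card = p ^ 3 - p := by
    have e : S = Finset.univ.filter (· ∈ P) \ Finset.univ.filter (· ∈ Z) := by
      ext v
      rw [hmemS, Finset.mem_sdiff, Finset.mem_filter, Finset.mem_filter]
      simp only [Finset.mem_univ, true_and]
    rw [e, Finset.card_sdiff_of_subset (hZsub P hZP), card_filter_mem, card_filter_mem, hP, hZ]
  have hclass : ∀ x ∈ P, x ∉ Z → (S.filter (fun u => u ∈ lineOf Z x)).card = p ^ 2 - p := by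
    intro x hx hxZ
    have e : S.filter (fun u => u ∈ lineOf Z x) =
        Finset.univ.filter (· ∈ lineOf Z x) \ Finset.univ.filter (· ∈ Z) := by
      ext u
      rw [Finset.mem_filter, hmemS, Finset.mem_sdiff, Finset.mem_filter, Finset.mem_filter]
      simp only [Finset.mem_univ, true_and]
      constructor
      · rintro ⟨⟨_, huZ⟩, huL⟩
        exact ⟨huL, huZ⟩
      · rintro ⟨huL, huZ⟩
        exact ⟨⟨lineOf_le hZP hx huL, huZ⟩, huL⟩
    rw [e, Finset.card_sdiff_of_subset (hZsub _ (le_lineOf Z x)), card_filter_mem, card_filter_mem,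
      hcardL x hx hxZ, hZ]
  -- the blocks
  set Bk : G → Finset G := fun v =>
    S.filter (fun u => ∃ c ∈ K, u ∈ lineOf Z (c * v * c⁻¹)) with hBk
  have hmemB : ∀ v u, u ∈ Bk v ↔ u ∈ S ∧ ∃ c ∈ K, u ∈ lineOf Z (c * v * c⁻¹) := fun v u => by
    rw [hBk, Finset.mem_filter]
  have h1 : ∀ v ∈ S, v ∈ Bk v := by
    intro v hv
    rw [hmemB]
    refine ⟨hv, 1, K.one_mem, ?_⟩
    rw [one_mul, inv_one, mul_one]
    exact self_mem_lineOf Z v
  have h2 : ∀ v ∈ S, Bk v ⊆ S := fun v _ u hu => ((hmemB v u).mp hu).1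
  have h3 : ∀ v ∈ S, ∀ w ∈ Bk v, Bk w = Bk v := by
    intro v hv w hw
    obtain ⟨hvP, hvZ⟩ := (hmemS v).mp hv
    obtain ⟨hwS, a, ha, hwa⟩ := (hmemB v w).mp hw
    obtain ⟨hwP, hwZ⟩ := (hmemS w).mp hwS
    -- for every `b ∈ K`: `lineOf (b w b⁻¹) = lineOf ((b a) v (b a)⁻¹)`
    have hkey : ∀ b ∈ K, lineOf Z (b * w * b⁻¹) = lineOf Z (b * a * v * (b * a)⁻¹) := by
      intro b hb
      obtain ⟨h1P, h1Z⟩ := hconjS a ha v hvP hvZ
      obtain ⟨h2P, h2Z⟩ := hconjS b hb _ h1P h1Z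
      obtain ⟨h3P, h3Z⟩ := hconjS b hb w hwP hwZ
      have hm := conj_mem_lineOf hZK hb hwa
      have e := hLeq _ h2P h2Z _ hm h3Z
      rw [e]
      congr 1
      group
    ext u
    rw [hmemB, hmemB]
    constructor
    · rintro ⟨hu, b, hb, hub⟩
      refine ⟨hu, b * a, K.mul_mem hb ha, ?_⟩
      rw [← hkey b hb]
      exact hub
    · rintro ⟨hu, c, hc, huc⟩
      refine ⟨hu, c * a⁻¹, K.mul_mem hc (K.inv_mem ha), ?_⟩
      rw [hkey (c * a⁻¹) (K.mul_mem hc (K.inv_mem ha))]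
      have e : c * a⁻¹ * a * v * (c * a⁻¹ * a)⁻¹ = c * v * c⁻¹ := by group
      rw [e]
      exact huc
  have h4 : ∀ v ∈ S, (Bk v).card = Nat.card K * (p ^ 2 - p) := by
    intro v hv
    obtain ⟨hvP, hvZ⟩ := (hmemS v).mp hv
    have eB : Bk v = (Finset.univ : Finset K).biUnion
        (fun c => S.filter (fun u => u ∈ lineOf Z ((c : G) * v * (c : G)⁻¹))) := by
      ext u
      rw [hmemB, Finset.mem_biUnion]
      constructor
      · rintro ⟨hu, c, hc, huc⟩
        exact ⟨⟨c, hc⟩, Finset.mem_univ _, Finset.mem_filter.mpr ⟨hu, huc⟩⟩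
      · rintro ⟨c, _, hc⟩
        obtain ⟨hu, huc⟩ := Finset.mem_filter.mp hc
        exact ⟨hu, c.1, c.2, huc⟩
    have hdisj : ((Finset.univ : Finset K) : Set K).PairwiseDisjoint
        (fun c => S.filter (fun u => u ∈ lineOf Z ((c : G) * v * (c : G)⁻¹))) := by
      intro c _ c' _ hne
      show Disjoint _ _
      rw [Finset.disjoint_left]
      intro u hu hu'
      obtain ⟨huS, huc⟩ := Finset.mem_filter.mp hu
      obtain ⟨_, huc'⟩ := Finset.mem_filter.mp hu'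
      obtain ⟨huP, huZ⟩ := (hmemS u).mp huS
      obtain ⟨hcP, hcZ⟩ := hconjS c.1 c.2 v hvP hvZ
      obtain ⟨hcP', hcZ'⟩ := hconjS c'.1 c'.2 v hvP hvZ
      have e1 := hLeq _ hcP hcZ u huc huZ
      have e2 := hLeq _ hcP' hcZ' u huc' huZ
      have hmem : (c' : G) * v * (c' : G)⁻¹ ∈ lineOf Z ((c : G) * v * (c : G)⁻¹) := by
        rw [← e1, e2]
        exact self_mem_lineOf Z _
      have hane : (c' : G) * (c : G)⁻¹ ≠ 1 := by
        intro h
        apply hne
        have h' : (c' : G) = (c : G) := by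
          have := mul_inv_eq_one.mp h
          exact this
        exact (Subtype.ext h').symm
      have hbad := hline ((c' : G) * (c : G)⁻¹) (K.mul_mem c'.2 (K.inv_mem c.2)) hane
        ((c : G) * v * (c : G)⁻¹) hcP (hnotC _ hcP hcZ)
      apply hbad
      have e : (c' : G) * (c : G)⁻¹ * ((c : G) * v * (c : G)⁻¹) * ((c' : G) * (c : G)⁻¹)⁻¹ =
          (c' : G) * v * (c' : G)⁻¹ := by group
      rw [e]
      exact hmem
    rw [eB, Finset.card_biUnion hdisj,
      Finset.sum_const_nat (fun c _ => hclass _ (hconjS c.1 c.2 v hvP hvZ).1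
        (hconjS c.1 c.2 v hvP hvZ).2), Finset.card_univ, ← Nat.card_eq_fintype_card]
  have key := card_dvd_of_blocks S Bk _ h1 h2 h3 h4
  rw [hScard] at key
  -- arithmetic
  have hle2 : p ≤ p ^ 2 := by nlinarith
  have hle3 : p ≤ p ^ 3 := by nlinarith [pow_pos hpp.pos 2]
  have e : p ^ 3 - p = (p + 1) * (p ^ 2 - p) := by
    zify [hle2, hle3]
    ring
  rw [e] at key
  have hpos : 0 < p ^ 2 - p := by
    have : p < p ^ 2 := by nlinarith
    omega
  exact Nat.dvd_of_mul_dvd_mul_right hpos key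

end Cfsg.Agent.Lib.Helper81.BG1383
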