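import Mathlib
import Cfsg.Agent.Lib.Helper16.BG1363Defs
import Cfsg.Agent.Lib.Helper55.Basic
import Cfsg.Agent.Lib.Helper36.BG14P2K
import Cfsg.Agent.Lib.Helper31.FittingHall

/-!
# Keystone 143501 (K-1435-Q0, S1435 pack, architect helper31): `nu_of_sylow`
-/

set_option autoImplicit false

namespace Cfsg.Agent.Lib.Helper81.BG1435

open Cfsg Subgroup Cfsg.Agent.Lib.Helper55 Cfsg.Agent.Lib.Helper11.BG14D Cfsg.Agent.Lib.Helper16.BG1363

variable {G : Type*} [Group G] [Finite G]

/-- KEYSTONE 143501  K-1435-Q0  `nu_of_sylow` -/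
theorem nu_of_sylow (hG : IsMinSimpleOddOrder G) {M K U H : Subgroup G} (hM : IsCoatom M)
    (hKU : IsSigmaDecomposition M K U) (hK1 : K ≠ ⊥) (hU1 : U ≠ ⊥) (r : ℕ) [Fact r.Prime]
    (hr : r ∣ Nat.card U) (R : Sylow r U) (hH : IsCoatom H)
    (hNR : normalizer (((R : Subgroup U).map U.subtype : Subgroup G) : Set G) ≤ H) :
    NU M K U ((R : Subgroup U).map U.subtype) H r := by
  have hrp : r.Prime := Fact.out
  have hinj : Function.Injective U.subtype := U.subtype_injective
  have hcardR : Nat.card ((R : Subgroup U).map U.subtype) = Nat.card (R : Subgroup U) :=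
    Subgroup.card_map_of_injective hinj
  have hRcard : Nat.card (R : Subgroup U) = r ^ (Nat.card U).factorization r :=
    Sylow.card_eq_multiplicity R
  -- `r` does not divide `|K ⊔ M_σ|`
  obtain ⟨hrσ, hrκ⟩ := Cfsg.Agent.Lib.Helper36.BG14.not_mem_of_dvd_card_U hG hM hKU.hall hKU.compl hrp hr
  have hKn : K ≤ normalizer (sigmaCore M : Set G) :=
    hKU.hall.1.trans (Cfsg.Agent.Lib.Helper71.BG11.le_normalizer_sigmaCore M)
  have hrK : ¬ r ∣ Nat.card K := fun h => hrκ (hKU.hall.2.1 r hrp h)
  have hrS : ¬ r ∣ Nat.card (sigmaCore M) := fun h =>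
    hrσ (Cfsg.Agent.Lib.Helper71.BG11.sigmaCore_pi hG hM hrp h)
  have hsupdvd : Nat.card (K ⊔ sigmaCore M : Subgroup G) ∣ Nat.card K * Nat.card (sigmaCore M) := by
    have h1 : (sigmaCore M).relIndex K = (sigmaCore M).relIndex (K ⊔ sigmaCore M) := by
      have := Subgroup.normal_subgroupOf_of_le_normalizer hKn
      have := Subgroup.normal_subgroupOf_sup_of_le_normalizer hKn
      unfold Subgroup.relIndex Subgroup.index
      exact Nat.card_congr
        (QuotientGroup.quotientInfEquivProdNormalizerQuotient K (sigmaCore M) hKn).toEquiv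
    have h2 : Nat.card (sigmaCore M) * (sigmaCore M).relIndex (K ⊔ sigmaCore M) =
        Nat.card (K ⊔ sigmaCore M : Subgroup G) := by
      have := Subgroup.relIndex_mul_relIndex ⊥ (sigmaCore M) (K ⊔ sigmaCore M) bot_le le_sup_right
      rwa [Subgroup.relIndex_bot_left, Subgroup.relIndex_bot_left] at this
    rw [← h2, ← h1, mul_comm]
    exact Nat.mul_dvd_mul (Subgroup.relIndex_dvd_card (sigmaCore M) K) dvd_rfl
  have hrKS : ¬ r ∣ Nat.card (K ⊔ sigmaCore M : Subgroup G) := by
    intro h
    rcases (Nat.Prime.dvd_mul hrp).mp (h.trans hsupdvd) with h | h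
    · exact hrK h
    · exact hrS h
  have hcardM : Nat.card U * Nat.card (K ⊔ sigmaCore M : Subgroup G) = Nat.card M :=
    Cfsg.Agent.Lib.Helper31.IsComplIn.card_mul hKU.compl
  have hUpos : Nat.card U ≠ 0 := Nat.card_pos.ne'
  have hKSpos : Nat.card (K ⊔ sigmaCore M : Subgroup G) ≠ 0 := Nat.card_pos.ne'
  have hfact : (Nat.card M).factorization r = (Nat.card U).factorization r := by
    rw [← hcardM, Nat.factorization_mul hUpos hKSpos, Finsupp.add_apply,
      Nat.factorization_eq_zero_of_not_dvd hrKS, add_zero]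
  refine
    { hM := hM
      hKU := hKU
      hK1 := hK1
      hU1 := hU1
      hr := hrp
      hRU := Subgroup.map_subtype_le _
      hR1 := ?_
      hRp := R.2.map _
      hRsyl := ?_
      hH := hH
      hNH := hNR }
  · intro hbot
    have h1 : Nat.card ((R : Subgroup U).map U.subtype) = 1 := by
      rw [hbot]; exact Subgroup.card_bot
    rw [hcardR, hRcard] at h1
    have hpos : 0 < (Nat.card U).factorization r :=
      Nat.Prime.factorization_pos_of_dvd hrp hUpos hr
    have : 1 < r ^ (Nat.card U).factorization r := Nat.one_lt_pow hpos.ne' hrp.one_lt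
    omega
  · intro Q hQM hQp hRQ
    obtain ⟨k, hk⟩ := hQp.exists_card_eq
    have hQdvd : Nat.card Q ∣ Nat.card M := Subgroup.card_dvd_of_le hQM
    have hkle : k ≤ (Nat.card M).factorization r := by
      rw [hk] at hQdvd
      exact (Nat.Prime.pow_dvd_iff_le_factorization hrp Nat.card_pos.ne').mp hQdvd
    have hle : Nat.card Q ≤ Nat.card ((R : Subgroup U).map U.subtype) := by
      rw [hcardR, hRcard, hk, ← hfact]
      exact Nat.pow_le_pow_right hrp.pos hkle
    exact (Subgroup.eq_of_le_of_card_ge hRQ hle).symm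

end Cfsg.Agent.Lib.Helper81.BG1435
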