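import Mathlib

/-!
# Keystone 147107 (K-147C-C7, architect helper15): Schur-Zassenhaus complement containing a
normal subgroup of coprime order.  Pure group theory, Mathlib only.
-/

set_option autoImplicit false

namespace Cfsg.Agent.Lib.Helper81.BG147

/-- in a finite group `Z` with complementary subgroups `D'`, `R'`, a normal subgroup `S'` of order
prime to `|D'|` lies in `R'` -/
theorem c7_le_compl {Z : Type*} [Group Z] [Finite Z] {D' R' S' : Subgroup Z} [S'.Normal]
    (hR' : Subgroup.IsComplement' D' R') (hcop : (Nat.card S').Coprime (Nat.card D')) :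
    S' ≤ R' := by
  have h1 : S'.relIndex (S' ⊔ R') = S'.relIndex R' := Subgroup.relIndex_sup_left R' S'
  have hST : S' ≤ S' ⊔ R' := le_sup_left
  have hRT : R' ≤ S' ⊔ R' := le_sup_right
  have hS : Nat.card S' * S'.relIndex (S' ⊔ R') = Nat.card ↥(S' ⊔ R') := by
    have := Subgroup.relIndex_mul_relIndex (⊥ : Subgroup Z) S' (S' ⊔ R') bot_le hST
    rwa [Subgroup.relIndex_bot_left, Subgroup.relIndex_bot_left] at this
  have hR : Nat.card R' * R'.relIndex (S' ⊔ R') = Nat.card ↥(S' ⊔ R') := by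
    have := Subgroup.relIndex_mul_relIndex (⊥ : Subgroup Z) R' (S' ⊔ R') bot_le hRT
    rwa [Subgroup.relIndex_bot_left, Subgroup.relIndex_bot_left] at this
  obtain ⟨c, hc⟩ : S'.relIndex R' ∣ Nat.card R' := Subgroup.relIndex_dvd_card S' R'
  have hapos : 0 < S'.relIndex R' := by
    rcases Nat.eq_zero_or_pos (S'.relIndex R') with h0 | h0
    · exfalso
      rw [h0, zero_mul] at hc
      exact (Nat.card_pos (α := R')).ne' hc
    · exact h0
  have hdvdS : R'.relIndex (S' ⊔ R') ∣ Nat.card S' := by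
    refine ⟨c, ?_⟩
    have h2 : Nat.card S' * S'.relIndex R' = S'.relIndex R' * c * R'.relIndex (S' ⊔ R') := by
      rw [← hc, ← h1, hS, hR]
    have h3 : S'.relIndex R' * Nat.card S' = S'.relIndex R' * (R'.relIndex (S' ⊔ R') * c) := by
      rw [mul_comm, h2]; ring
    exact Nat.eq_of_mul_eq_mul_left hapos h3
  have hdvdD : R'.relIndex (S' ⊔ R') ∣ Nat.card D' := by
    rw [← hR'.index_eq_card]
    exact Subgroup.relIndex_dvd_index_of_le hRT
  have hone : R'.relIndex (S' ⊔ R') = 1 := Nat.eq_one_of_dvd_coprimes hcop hdvdS hdvdD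
  exact hST.trans (Subgroup.relIndex_eq_one.mp hone)

variable {G : Type*} [Group G] [Finite G]

/-- **LEAF C7 (147107)**, pure group theory. -/
theorem exists_compl_ge {Z D S : Subgroup G} (hDZ : D ≤ Z)
    (hDn : Z ≤ Subgroup.normalizer (D : Set G)) (hSZ : S ≤ Z)
    (hSn : Z ≤ Subgroup.normalizer (S : Set G))
    (hcop : (Nat.card D).Coprime (D.relIndex Z)) (hcop2 : (Nat.card S).Coprime (Nat.card D)) :
    ∃ R0 : Subgroup G, R0 ≤ Z ∧ D ⊓ R0 = ⊥ ∧ D ⊔ R0 = Z ∧ S ≤ R0 ∧
      Nat.card R0 = D.relIndex Z := by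
  have hDnorm : (D.subgroupOf Z).Normal := (Subgroup.normal_subgroupOf_iff_le_normalizer hDZ).mpr hDn
  have hSnorm : (S.subgroupOf Z).Normal := (Subgroup.normal_subgroupOf_iff_le_normalizer hSZ).mpr hSn
  have hcardD : Nat.card ↥(D.subgroupOf Z) = Nat.card D :=
    Nat.card_congr (Subgroup.subgroupOfEquivOfLe hDZ).toEquiv
  have hcardS : Nat.card ↥(S.subgroupOf Z) = Nat.card S :=
    Nat.card_congr (Subgroup.subgroupOfEquivOfLe hSZ).toEquiv
  have hcop' : (Nat.card ↥(D.subgroupOf Z)).Coprime (D.subgroupOf Z).index := by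
    rw [hcardD]
    exact hcop
  obtain ⟨R', hR'⟩ := Subgroup.exists_right_complement'_of_coprime hcop'
  have hSR : S.subgroupOf Z ≤ R' := by
    apply c7_le_compl hR'
    rw [hcardD, hcardS]
    exact hcop2
  have hcardR : Nat.card ↥(R'.map Z.subtype) = D.relIndex Z := by
    rw [Subgroup.card_map_of_injective Z.subtype_injective]
    exact hR'.symm.index_eq_card.symm
  have hmapD : (D.subgroupOf Z).map Z.subtype = D := Subgroup.map_subgroupOf_eq_of_le hDZ
  have hmapS : (S.subgroupOf Z).map Z.subtype = S := Subgroup.map_subgroupOf_eq_of_le hSZ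
  refine ⟨R'.map Z.subtype, Subgroup.map_subtype_le R', ?_, ?_, ?_, hcardR⟩
  · apply (Subgroup.disjoint_of_coprime_natCard ?_).eq_bot
    rw [hcardR]
    exact hcop
  · have h1 := hR'.sup_eq_top
    have h2 : ((D.subgroupOf Z) ⊔ R').map Z.subtype = (⊤ : Subgroup ↥Z).map Z.subtype := by
      rw [h1]
    rw [Subgroup.map_sup, hmapD] at h2
    rw [h2, ← MonoidHom.range_eq_map, Subgroup.range_subtype]
  · rw [← hmapS]
    exact Subgroup.map_mono hSR

end Cfsg.Agent.Lib.Helper81.BG147
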