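import Mathlib
import Cfsg.Agent.Lib.Helper11.BG14DDefs
import Cfsg.Agent.Lib.Helper01.Coprime
import Cfsg.Agent.Lib.Helper32.CoprimeHall
import Cfsg.Agent.Lib.Helper32.PiNumber
import Cfsg.Agent.Lib.Helper54.BG134A3a
import Cfsg.Agent.Lib.Helper55.Uniq2
import Cfsg.Agent.Lib.Helper71.BG11a

/-!
# K-1370-V (keystone 137005): S1371 from `KFacts`, `UFacts`, `P1370`.  Leaf for helper11's K-1370 pack.

The `M`-conjugates of `Ẑ = K K* - (K ∪ K*)` are exactly `A₀(M) - A(M)`, and this set is a TI-subset.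
-/

set_option autoImplicit false
set_option linter.unusedSectionVars false
set_option linter.unusedVariables false

namespace Cfsg.Agent.Lib.Helper81.BG14D

open Cfsg Subgroup Cfsg.Agent.Lib.Helper11.BG14D
open scoped Pointwise

variable {G : Type*} [Group G] [Finite G]

/-- `(x t)^j ∈ x^j N` when `x` normalises `N ∋ t`. -/
theorem v_pow_mul_mem {N : Subgroup G} {x t : G} (hx : x ∈ normalizer (N : Set G)) (ht : t ∈ N)
    (j : ℕ) : ∃ s ∈ N, (x * t) ^ j = x ^ j * s := by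
  induction j with
  | zero => exact ⟨1, N.one_mem, by simp⟩
  | succ j ih =>
    obtain ⟨s, hs, hj⟩ := ih
    have hxinv : x⁻¹ ∈ normalizer (N : Set G) := inv_mem hx
    have h1 : x⁻¹ * s * x ∈ N := by
      have h2 := (mem_normalizer_iff.mp hxinv s).mp hs
      rwa [inv_inv] at h2
    refine ⟨x⁻¹ * s * x * t, N.mul_mem h1 ht, ?_⟩
    rw [pow_succ, hj, pow_succ]
    group

/-- Elements of `K ⊔ C` with `C` centralising `K` are products. -/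
theorem v_mem_sup_cent {K C : Subgroup G} (hC : C ≤ centralizer (K : Set G)) {z : G}
    (hz : z ∈ K ⊔ C) : ∃ k ∈ K, ∃ y ∈ C, z = k * y := by
  have hcomm : ∀ k ∈ K, ∀ y ∈ C, k * y = y * k := fun k hk y hy =>
    (mem_centralizer_iff.mp (hC hy)) k hk
  rw [sup_eq_closure] at hz
  refine closure_induction (p := fun z _ => ∃ k ∈ K, ∃ y ∈ C, z = k * y) ?_ ?_ ?_ ?_ hz
  · intro x hx
    rcases hx with hx | hx
    · exact ⟨x, hx, 1, C.one_mem, by simp⟩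
    · exact ⟨1, K.one_mem, x, hx, by simp⟩
  · exact ⟨1, K.one_mem, 1, C.one_mem, by simp⟩
  · rintro x y - - ⟨k₁, hk₁, y₁, hy₁, rfl⟩ ⟨k₂, hk₂, y₂, hy₂, rfl⟩
    refine ⟨k₁ * k₂, K.mul_mem hk₁ hk₂, y₁ * y₂, C.mul_mem hy₁ hy₂, ?_⟩
    calc k₁ * y₁ * (k₂ * y₂) = k₁ * (y₁ * k₂) * y₂ := by group
      _ = k₁ * (k₂ * y₁) * y₂ := by rw [hcomm k₂ hk₂ y₁ hy₁]
      _ = k₁ * k₂ * (y₁ * y₂) := by group
  · rintro x - ⟨k, hk, y, hy, rfl⟩
    refine ⟨k⁻¹, K.inv_mem hk, y⁻¹, C.inv_mem hy, ?_⟩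
    rw [mul_inv_rev, hcomm k⁻¹ (K.inv_mem hk) y⁻¹ (C.inv_mem hy)]

/-- `|M| = |K| |U M_σ|`. -/
theorem v_card_eq {M K U : Subgroup G} (hKM : K ≤ M) (hU : UFacts M K U) :
    Nat.card M = Nat.card K * Nat.card (U ⊔ sigmaCore M : Subgroup G) := by
  have hMeq : K ⊔ (U ⊔ sigmaCore M) = M := by
    apply le_antisymm
    · exact sup_le hKM hU.le
    · intro m hm
      obtain ⟨k, hk, t, ht, rfl⟩ := hU.prod m hm
      exact mul_mem (mem_sup_left hk) (mem_sup_right ht)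
  have h1 := Cfsg.Agent.Lib.Helper01.card_sup_mul_card_inf_of_le_normalizer (U ⊔ sigmaCore M) K
    (hKM.trans hU.normal)
  have h2 : (U ⊔ sigmaCore M) ⊓ K = ⊥ := by rw [inf_comm]; exact hU.inf_bot
  rw [h2, card_bot, mul_one, hMeq] at h1
  rw [h1, mul_comm]

/-- An element of `M` killed by `|U M_σ|` lies in `U M_σ` (`M / U M_σ ≅ K`, coprime orders). -/
theorem v_mem_of_pow_eq_one {M K U : Subgroup G} (hKM : K ≤ M) (hU : UFacts M K U)
    (hcop : (Nat.card K).Coprime (Nat.card (U ⊔ sigmaCore M : Subgroup G))) {a : G} (haM : a ∈ M)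
    (ha : a ^ Nat.card (U ⊔ sigmaCore M : Subgroup G) = 1) : a ∈ U ⊔ sigmaCore M := by
  obtain ⟨k, hk, t, ht, rfl⟩ := hU.prod a haM
  obtain ⟨s, hs, hpow⟩ := v_pow_mul_mem (hU.normal (hKM hk)) ht
    (Nat.card (U ⊔ sigmaCore M : Subgroup G))
  rw [hpow] at ha
  have hkn : k ^ Nat.card (U ⊔ sigmaCore M : Subgroup G) ∈ K ⊓ (U ⊔ sigmaCore M) := by
    refine mem_inf.mpr ⟨pow_mem hk _, ?_⟩
    have h1 : k ^ Nat.card (U ⊔ sigmaCore M : Subgroup G) = s⁻¹ := eq_inv_of_mul_eq_one_left ha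
    rw [h1]
    exact (U ⊔ sigmaCore M).inv_mem hs
  rw [hU.inf_bot, mem_bot] at hkn
  have h1 : orderOf k ∣ Nat.card (U ⊔ sigmaCore M : Subgroup G) := orderOf_dvd_of_pow_eq_one hkn
  have h2 : orderOf k ∣ Nat.card K := Subgroup.orderOf_dvd_natCard K hk
  have h3 : orderOf k ∣ 1 := by
    have h4 := Nat.dvd_gcd h2 h1
    rwa [Nat.Coprime.gcd_eq_one hcop] at h4
  have hk1 : k = 1 := orderOf_eq_one_iff.mp (Nat.dvd_one.mp h3)
  rw [hk1, one_mul]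
  exact ht

/-- `⊆`: every `M`-conjugate of an element of `Ẑ` lies in `A₀(M) - A(M)`. -/
theorem v_subset (M K U : Subgroup G) (hKM : K ≤ M) (hF : KFacts M K) (hU : UFacts M K U) {a : G}
    (h : ∃ m ∈ M, ∃ z ∈ Zhat M K, a = m * z * m⁻¹) : a ∈ sigmaA0 M K \ sigmaA M U := by
  obtain ⟨m, hm, z, ⟨hzKK, hznot⟩, rfl⟩ := h
  have hσM : sigmaCore M ≤ M := Cfsg.Agent.Lib.Helper71.BG11.sigmaCore_le M
  have hKsM : Ks M K ≤ M := inf_le_left.trans hσM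
  have hzK : z ∉ K := fun h => hznot (Or.inl h)
  have hzKs : z ∉ Ks M K := fun h => hznot (Or.inr h)
  obtain ⟨k, hk, y, hy, rfl⟩ := v_mem_sup_cent (inf_le_right : Ks M K ≤ centralizer (K : Set G)) hzKK
  have hk1 : k ≠ 1 := by
    rintro rfl
    apply hzKs
    rw [one_mul]; exact hy
  have hy1 : y ≠ 1 := by
    rintro rfl
    apply hzK
    rw [mul_one]; exact hk
  have hyk : k * y = y * k := (mem_centralizer_iff.mp (mem_inf.mp hy).2) k hk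
  have hzM : k * y ∈ M := M.mul_mem (hKM hk) (hKsM hy)
  have haM : m * (k * y) * m⁻¹ ∈ M := M.mul_mem (M.mul_mem hm hzM) (M.inv_mem hm)
  have hN : M ≤ normalizer (sigmaCore M : Set G) :=
    Cfsg.Agent.Lib.Helper71.BG11.le_normalizer_sigmaCore M
  have hhat : m * (k * y) * m⁻¹ ∈ sigmaHat M := by
    refine ⟨haM, m * y * m⁻¹, ?_, ?_, ?_⟩
    · exact (mem_normalizer_iff.mp (hN hm) y).mp (mem_inf.mp hy).1
    · intro h
      exact hy1 (conj_eq_one_iff.mp h)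
    · calc m * (k * y) * m⁻¹ * (m * y * m⁻¹) = m * ((k * y) * y) * m⁻¹ := by group
        _ = m * (y * (k * y)) * m⁻¹ := by rw [hyk, mul_assoc y k y, ← hyk, mul_assoc]
        _ = m * y * m⁻¹ * (m * (k * y) * m⁻¹) := by group
  refine ⟨⟨hhat, ?_⟩, ?_⟩
  · rintro ⟨k', hk', hk'1, m', hm', heq⟩
    have hk'c : k' ^ Nat.card K = 1 :=
      orderOf_dvd_iff_pow_eq_one.mp (Subgroup.orderOf_dvd_natCard K hk')
    have hkc : k ^ Nat.card K = 1 :=
      orderOf_dvd_iff_pow_eq_one.mp (Subgroup.orderOf_dvd_natCard K hk)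
    have hc : (m * (k * y) * m⁻¹) ^ Nat.card K = 1 := by
      rw [heq, conj_pow, hk'c]; group
    rw [conj_pow] at hc
    have h2 : (k * y) ^ Nat.card K = 1 := conj_eq_one_iff.mp hc
    have hcm : Commute k y := hyk
    rw [hcm.mul_pow, hkc, one_mul] at h2
    have h3 : orderOf y ∣ Nat.card K := orderOf_dvd_of_pow_eq_one h2
    have h4 : orderOf y ∣ Nat.card (Ks M K) := Subgroup.orderOf_dvd_natCard _ hy
    have h5 := Nat.dvd_gcd h3 h4
    rw [Nat.Coprime.gcd_eq_one hF.coprime] at h5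
    exact hy1 (orderOf_eq_one_iff.mp (Nat.dvd_one.mp h5))
  · rintro ⟨-, hmem⟩
    have hmem' : m * (k * y) * m⁻¹ ∈ U ⊔ sigmaCore M := hmem
    have h1 : k * y ∈ U ⊔ sigmaCore M := by
      have h2 := (mem_normalizer_iff.mp (hU.normal (M.inv_mem hm)) (m * (k * y) * m⁻¹)).mp hmem'
      have h3 : m⁻¹ * (m * (k * y) * m⁻¹) * m⁻¹⁻¹ = k * y := by group
      rwa [h3] at h2
    have hyN : y ∈ U ⊔ sigmaCore M := mem_sup_right (mem_inf.mp hy).1
    have h2 : k ∈ K ⊓ (U ⊔ sigmaCore M) := by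
      refine mem_inf.mpr ⟨hk, ?_⟩
      have h3 := (U ⊔ sigmaCore M).mul_mem h1 ((U ⊔ sigmaCore M).inv_mem hyN)
      rwa [mul_inv_cancel_right] at h3
    rw [hU.inf_bot, mem_bot] at h2
    exact hk1 h2

/-- `⊇`: an element of `M` outside `U M_σ` that is not `M`-conjugate into `K - 1` is `M`-conjugate into `Ẑ`. -/
theorem v_superset (hG : IsMinSimpleOddOrder G) (M : Subgroup G) (hM : IsCoatom M) (K U : Subgroup G)
    (hKU : IsSigmaDecomposition M K U) (hF : KFacts M K) (hU : UFacts M K U) {a : G}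
    (haM : a ∈ M) (haN : a ∉ U ⊔ sigmaCore M)
    (hanc : ¬ ∃ k ∈ K, k ≠ 1 ∧ ∃ m ∈ M, a = m * k * m⁻¹) :
    ∃ m ∈ M, ∃ z ∈ Zhat M K, a = m * z * m⁻¹ := by
  classical
  have hKM : K ≤ M := hKU.hall.1
  have hcard : Nat.card M = Nat.card K * Nat.card (U ⊔ sigmaCore M : Subgroup G) := v_card_eq hKM hU
  have hrel : K.relIndex M = Nat.card (U ⊔ sigmaCore M : Subgroup G) := by
    have h1 := Cfsg.Agent.Lib.Helper32.card_mul_relIndex_of_le hKM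
    rw [hcard] at h1
    exact Nat.eq_of_mul_eq_mul_left Nat.card_pos h1
  have hcop : (Nat.card K).Coprime (Nat.card (U ⊔ sigmaCore M : Subgroup G)) := by
    apply Nat.coprime_of_dvd
    intro p hp hpc hpn
    have hκ := hKU.hall.2.1 p hp hpc
    exact hKU.hall.2.2 p hp hκ (hrel ▸ hpn)
  obtain ⟨u, v, huv⟩ := Nat.isCoprime_iff_coprime.mpr hcop
  have hacn : a ^ (Nat.card K * Nat.card (U ⊔ sigmaCore M : Subgroup G)) = 1 := by
    rw [← hcard]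
    exact orderOf_dvd_iff_pow_eq_one.mp (Subgroup.orderOf_dvd_natCard M haM)
  obtain ⟨a₁, ha₁⟩ : ∃ a₁ : G, a₁ = a ^ (v * (Nat.card (U ⊔ sigmaCore M : Subgroup G) : ℤ)) := ⟨_, rfl⟩
  obtain ⟨a₂, ha₂⟩ : ∃ a₂ : G, a₂ = a ^ (u * (Nat.card K : ℤ)) := ⟨_, rfl⟩
  have ha12 : a₂ * a₁ = a := by rw [ha₁, ha₂, ← zpow_add, huv, zpow_one]
  have hcomm12 : a₁ * a₂ = a₂ * a₁ := by
    rw [ha₁, ha₂, ← zpow_add, ← zpow_add, add_comm]
  have ha₁c : a₁ ^ Nat.card K = 1 := by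
    rw [ha₁, ← zpow_natCast, ← zpow_mul]
    have h1 : v * (Nat.card (U ⊔ sigmaCore M : Subgroup G) : ℤ) * (Nat.card K : ℤ) =
        ((Nat.card K * Nat.card (U ⊔ sigmaCore M : Subgroup G) : ℕ) : ℤ) * v := by
      push_cast; ring
    rw [h1, zpow_mul, zpow_natCast, hacn, one_zpow]
  have ha₂n : a₂ ^ Nat.card (U ⊔ sigmaCore M : Subgroup G) = 1 := by
    rw [ha₂, ← zpow_natCast, ← zpow_mul]
    have h1 : u * (Nat.card K : ℤ) * (Nat.card (U ⊔ sigmaCore M : Subgroup G) : ℤ) =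
        ((Nat.card K * Nat.card (U ⊔ sigmaCore M : Subgroup G) : ℕ) : ℤ) * u := by
      push_cast; ring
    rw [h1, zpow_mul, zpow_natCast, hacn, one_zpow]
  have ha₁M : a₁ ∈ M := by rw [ha₁]; exact zpow_mem haM _
  have ha₂M : a₂ ∈ M := by rw [ha₂]; exact zpow_mem haM _
  have ha₁ne : a₁ ≠ 1 := by
    intro h
    apply haN
    apply v_mem_of_pow_eq_one hKM hU hcop haM
    rw [← ha12, h, mul_one]
    exact ha₂n
  -- Hall conjugacy in the solvable `M`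
  have hAM : zpowers a₁ ≤ M := zpowers_le.mpr ha₁M
  have hAκ : ∀ p : ℕ, p.Prime → p ∣ Nat.card (zpowers a₁) → p ∈ kappa M := by
    intro p hp hpd
    apply hKU.hall.2.1 p hp
    rw [Nat.card_zpowers] at hpd
    exact hpd.trans (orderOf_dvd_of_pow_eq_one ha₁c)
  have hsolv : Group.IsSolvable ↥M := Cfsg.Agent.Lib.Helper55.ms_solvable hG hM.1
  obtain ⟨L, hL, hAL⟩ :=
    Cfsg.Agent.Lib.Helper54.BG134.exists_isPiHallOf_ge hsolv (kappa M) hAM hAκ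
  have hLc : Nat.card L = Nat.card K :=
    ((Cfsg.Agent.Lib.Helper32.isPiHallOf_iff_card (π := kappa M) (H := L) (G := M) hcard
      (fun p hp hpd => hKU.hall.2.1 p hp hpd)
      (fun p hp hpd hκ => hKU.hall.2.2 p hp hκ (hrel ▸ hpd))).mp hL).2
  obtain ⟨g, hgM, hgL⟩ := Cfsg.Agent.Lib.Helper32.hall_conj_in M hsolv (Nat.card K)
    (Nat.card (U ⊔ sigmaCore M : Subgroup G)) hcard hcop hL.1 hKM hLc rfl
  have hk : g * a₁ * g⁻¹ ∈ K := by
    have h1 : MulAut.conj g • a₁ ∈ MulAut.conj g • L :=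
      Subgroup.smul_mem_pointwise_smul _ _ _ (hAL (mem_zpowers a₁))
    rwa [hgL, MulAut.smul_def, MulAut.conj_apply] at h1
  have hk1 : g * a₁ * g⁻¹ ≠ 1 := fun h => ha₁ne (conj_eq_one_iff.mp h)
  have hbM : g * a₂ * g⁻¹ ∈ M := M.mul_mem (M.mul_mem hgM ha₂M) (M.inv_mem hgM)
  have hbk : g * a₂ * g⁻¹ ∈ centralizer ({g * a₁ * g⁻¹} : Set G) := by
    rw [mem_centralizer_iff]
    intro h hh
    rw [Set.mem_singleton_iff] at hh
    subst hh
    calc g * a₁ * g⁻¹ * (g * a₂ * g⁻¹) = g * (a₁ * a₂) * g⁻¹ := by group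
      _ = g * (a₂ * a₁) * g⁻¹ := by rw [hcomm12]
      _ = g * a₂ * g⁻¹ * (g * a₁ * g⁻¹) := by group
  have hbKK : g * a₂ * g⁻¹ ∈ K ⊔ Ks M K := by
    rw [← hF.cent _ hk hk1]
    exact mem_inf.mpr ⟨hbM, hbk⟩
  have hbn : (g * a₂ * g⁻¹) ^ Nat.card (U ⊔ sigmaCore M : Subgroup G) = 1 := by
    rw [conj_pow, ha₂n]; group
  have hbN : g * a₂ * g⁻¹ ∈ U ⊔ sigmaCore M := v_mem_of_pow_eq_one hKM hU hcop hbM hbn
  obtain ⟨k', hk', y', hy', hb'⟩ :=
    v_mem_sup_cent (inf_le_right : Ks M K ≤ centralizer (K : Set G)) hbKK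
  have hy'N : y' ∈ U ⊔ sigmaCore M := mem_sup_right (mem_inf.mp hy').1
  have hk'1 : k' = 1 := by
    have h1 : k' ∈ K ⊓ (U ⊔ sigmaCore M) := by
      refine mem_inf.mpr ⟨hk', ?_⟩
      have h2 := (U ⊔ sigmaCore M).mul_mem hbN ((U ⊔ sigmaCore M).inv_mem hy'N)
      rwa [hb', mul_inv_cancel_right] at h2
    rwa [hU.inf_bot, mem_bot] at h1
  have hbKs : g * a₂ * g⁻¹ ∈ Ks M K := by
    rw [hb', hk'1, one_mul]; exact hy'
  have hb1 : g * a₂ * g⁻¹ ≠ 1 := by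
    intro h
    apply hanc
    refine ⟨g * a₁ * g⁻¹, hk, hk1, g⁻¹, M.inv_mem hgM, ?_⟩
    have ha₂1 : a₂ = 1 := conj_eq_one_iff.mp h
    rw [← ha12, ha₂1, one_mul]; group
  refine ⟨g⁻¹, M.inv_mem hgM, (g * a₂ * g⁻¹) * (g * a₁ * g⁻¹), ⟨?_, ?_⟩, ?_⟩
  · exact mul_mem (mem_sup_right hbKs) (mem_sup_left hk)
  · rintro (h | h)
    · have h' : (g * a₂ * g⁻¹) * (g * a₁ * g⁻¹) ∈ K := h
      have h1 : g * a₂ * g⁻¹ ∈ K ⊓ Ks M K := by
        refine mem_inf.mpr ⟨?_, hbKs⟩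
        have h2 := K.mul_mem h' (K.inv_mem hk)
        rwa [mul_inv_cancel_right] at h2
      rw [hF.inf_bot, mem_bot] at h1
      exact hb1 h1
    · have h' : (g * a₂ * g⁻¹) * (g * a₁ * g⁻¹) ∈ Ks M K := h
      have h1 : g * a₁ * g⁻¹ ∈ K ⊓ Ks M K := by
        refine mem_inf.mpr ⟨hk, ?_⟩
        have h2 := (Ks M K).mul_mem ((Ks M K).inv_mem hbKs) h'
        rwa [inv_mul_cancel_left] at h2
      rw [hF.inf_bot, mem_bot] at h1
      exact hk1 h1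
  · rw [← ha12]; group

/-- The set of `M`-conjugates of `Ẑ` is a TI-subset (from S1370). -/
theorem v_ti (M K : Subgroup G) (h70 : P1370 M K) (hKM : K ≤ M) (hKsM : Ks M K ≤ M) :
    IsTISubset {a : G | ∃ m ∈ M, ∃ z ∈ Zhat M K, a = m * z * m⁻¹} := by
  intro g hg x hx hgx
  exfalso
  apply hg
  obtain ⟨m, hm, z, hz, rfl⟩ := hx
  obtain ⟨m', hm', z', hz', heq⟩ := hgx
  have hh : (m'⁻¹ * g * m) * z * (m'⁻¹ * g * m)⁻¹ = z' := by
    have h1 : z' = m'⁻¹ * (m' * z' * m'⁻¹) * m' := by group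
    rw [h1, ← heq]; group
  have hz1 : z ≠ 1 := by
    rintro rfl
    exact hz.2 (Or.inl K.one_mem)
  have hnorm : m'⁻¹ * g * m ∈ normalizer (Zhat M K) := by
    by_contra hcon
    exact hz1 (h70.1 _ hcon z hz (hh ▸ hz'))
  have hnorm' : m'⁻¹ * g * m ∈ K ⊔ Ks M K := by
    have h2 := h70.2
    rw [← h2]; exact hnorm
  have hhM : m'⁻¹ * g * m ∈ M := (sup_le hKM hKsM) hnorm'
  have hgM : g ∈ M := by
    have h1 : g = m' * (m'⁻¹ * g * m) * m⁻¹ := by group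
    rw [h1]
    exact M.mul_mem (M.mul_mem hm' hhM) (M.inv_mem hm)
  rw [mem_set_normalizer_iff]
  intro n
  constructor
  · rintro ⟨m₁, hm₁, z₁, hz₁, rfl⟩
    exact ⟨g * m₁, M.mul_mem hgM hm₁, z₁, hz₁, by group⟩
  · rintro ⟨m₁, hm₁, z₁, hz₁, h⟩
    refine ⟨g⁻¹ * m₁, M.mul_mem (M.inv_mem hgM) hm₁, z₁, hz₁, ?_⟩
    have h1 : n = g⁻¹ * (g * n * g⁻¹) * g := by group
    rw [h1, h]; group

/-- K-1370-V (137005).  S1371. -/
theorem s1371_of (hG : IsMinSimpleOddOrder G) (M : Subgroup G) (hM : IsCoatom M) (K U : Subgroup G)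
    (hKU : IsSigmaDecomposition M K U) (hK1 : K ≠ ⊥) (hF : KFacts M K) (hU : UFacts M K U) (h70 : P1370 M K) :
    {a : G | ∃ m ∈ M, ∃ z ∈ ((↑(K ⊔ (sigmaCore M ⊓ centralizer (K : Set G))) : Set G) \ ((K : Set G) ∪ ↑(sigmaCore M ⊓ centralizer (K : Set G)))), a = m * z * m⁻¹} = sigmaA0 M K \ sigmaA M U ∧
      IsTISubset (sigmaA0 M K \ sigmaA M U) := by
  have hKM : K ≤ M := hKU.hall.1
  have hKsM : Ks M K ≤ M := inf_le_left.trans (Cfsg.Agent.Lib.Helper71.BG11.sigmaCore_le M)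
  have h1 : {a : G | ∃ m ∈ M, ∃ z ∈ Zhat M K, a = m * z * m⁻¹} = sigmaA0 M K \ sigmaA M U := by
    apply Set.Subset.antisymm
    · intro a ha
      exact v_subset M K U hKM hF hU ha
    · rintro a ⟨⟨hhat, hnc⟩, hnA⟩
      have haM : a ∈ M := hhat.1
      have haN : a ∉ U ⊔ sigmaCore M := fun h => hnA ⟨hhat, h⟩
      exact v_superset hG M hM K U hKU hF hU haM haN hnc
  refine ⟨h1, ?_⟩
  rw [← h1]
  exact v_ti M K h70 hKM hKsM

end Cfsg.Agent.Lib.Helper81.BG14D
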