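import Mathlib
import Cfsg.Agent.Lib.Helper11.BG144Glue
import Cfsg.Agent.Lib.Helper81.BG144R

/-!
# K-1537-G (keystone 153709): `C_G(a) = R(a) ⋊ C_M(a)` for `a ∈ M_σ#` (BG 14.4(b),(c)).
Leaf of helper2's pack K-1537 (S1537).
-/

set_option autoImplicit false

namespace Cfsg.Agent.Lib.Helper81.BG1537

open Cfsg Subgroup

variable {G : Type*} [Group G] [Finite G]

/-- **L-G** `C_G(a) = R(a) ⋊ C_M(a)` for `a ∈ M_σ#` (BG 14.4(b),(c)). -/
theorem supportR_compl (hG : IsMinSimpleOddOrder G) {M : Subgroup G} (hM : IsCoatom M)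
    {a : G} (ha : a ∈ sigmaCore M) (ha1 : a ≠ 1) :
    supportR M a ⊓ (M ⊓ centralizer ({a} : Set G)) = ⊥ ∧
      supportR M a ⊔ (M ⊓ centralizer ({a} : Set G)) = centralizer ({a} : Set G) := by
  by_cases hc : centralizer ({a} : Set G) ≤ M
  · rw [Cfsg.Agent.Lib.Helper81.BG144.supportR_eq_bot M a hc]
    refine ⟨bot_inf_eq _, ?_⟩
    rw [bot_sup_eq]
    exact inf_eq_right.mpr hc
  · obtain ⟨N, hN⟩ := Cfsg.Agent.Lib.Helper11.BG144.hB_main hG M hM a ha ha1 hc
    rw [Cfsg.Agent.Lib.Helper81.BG144.supportR_eq (Cfsg.Agent.Lib.Helper11.BG144.hC_main hG) hN]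
    constructor
    · have h : sigmaCore N ⊓ centralizer ({a} : Set G) ⊓ (M ⊓ centralizer ({a} : Set G))
          ≤ sigmaCore N ⊓ M := inf_le_inf inf_le_left inf_le_left
      rw [hN.inf_bot] at h
      exact le_bot_iff.mp h
    · apply le_antisymm
      · exact sup_le inf_le_right inf_le_right
      · intro n hn
        obtain ⟨e, he, r, hr, rfl⟩ := hN.cent_split n hn
        rw [sup_comm]
        exact Subgroup.mul_mem_sup he hr

end Cfsg.Agent.Lib.Helper81.BG1537
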