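import Mathlib
import Cfsg.Agent.Lib.Helper32.CoprimeHall

/-!
# Keystone 143809 (K-153-I2, S1438 pack, architect helper32): fusion in `N_M(H)` via Hall conjugacy in `QH`
-/

set_option autoImplicit false

namespace Cfsg.Agent.Lib.Helper81.BG153

open Cfsg
open scoped Pointwise

variable {G : Type*} [Group G] [Finite G]

omit [Finite G] in
/-- If `H` normalizes `N` then `|H ⊔ N|` divides `|H| * |N|`. -/
theorem i2_card_sup_dvd (H N : Subgroup G) (hLE : H ≤ Subgroup.normalizer (N : Set G)) :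
    Nat.card (H ⊔ N : Subgroup G) ∣ Nat.card H * Nat.card N := by
  have h1 : N.relIndex H = N.relIndex (H ⊔ N) := by
    have := Subgroup.normal_subgroupOf_of_le_normalizer hLE
    have := Subgroup.normal_subgroupOf_sup_of_le_normalizer hLE
    unfold Subgroup.relIndex Subgroup.index
    exact Nat.card_congr (QuotientGroup.quotientInfEquivProdNormalizerQuotient H N hLE).toEquiv
  have h2 : Nat.card N * N.relIndex (H ⊔ N) = Nat.card (H ⊔ N : Subgroup G) := by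
    have := Subgroup.relIndex_mul_relIndex ⊥ N (H ⊔ N) bot_le le_sup_right
    rwa [Subgroup.relIndex_bot_left, Subgroup.relIndex_bot_left] at this
  rw [← h2, ← h1, mul_comm]
  exact Nat.mul_dvd_mul (Subgroup.relIndex_dvd_card N H) dvd_rfl

/-- **LEAF I2 (143809)** (PURE) -/
theorem exists_normalizer_conj_of_not_dvd {M N H Q : Subgroup G} {q : ℕ} (hq : q.Prime)
    (hsolv : Group.IsSolvable M)
    (hNM : N ≤ M) (hMN : M ≤ Subgroup.normalizer (N : Set G)) (hHN : H ≤ N)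
    (hHall : (Nat.card H).Coprime (H.relIndex N))
    (hQN : Q ≤ N) (hMQ : M ≤ Subgroup.normalizer (Q : Set G)) (hQp : IsPGroup q Q)
    (hQS : (Nat.card Q).Coprime (Q.relIndex N))
    (huniq : ∀ T T' : Subgroup G, Q ≤ T → T ≤ N → Q ≤ T' → T' ≤ N →
      (Nat.card T).Coprime (T.relIndex N) → Nat.card T' = Nat.card T → T' = T)
    (hqH : ¬ q ∣ Nat.card H) {x m : G} (hx : x ∈ H) (hm : m ∈ M) (hy : m * x * m⁻¹ ∈ H) :
    ∃ n ∈ M ⊓ Subgroup.normalizer (H : Set G), n * x * n⁻¹ = m * x * m⁻¹ := by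
  have hqF : Fact q.Prime := ⟨hq⟩
  have hHM : H ≤ M := hHN.trans hNM
  have hHQn : H ≤ Subgroup.normalizer (Q : Set G) := hHM.trans hMQ
  -- coprimality of `|H|` and `|Q|`
  obtain ⟨k, hk⟩ := hQp.exists_card_eq
  have hcop : (Nat.card H).Coprime (Nat.card Q) := by
    rw [hk]
    exact Nat.Coprime.pow_right k ((Nat.Prime.coprime_iff_not_dvd hq).mpr hqH).symm
  have hdisj : H ⊓ Q = ⊥ := (Subgroup.disjoint_of_coprime_natCard hcop).eq_bot
  -- `T = H ⊔ Q`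
  set T : Subgroup G := H ⊔ Q with hT
  have hTN : T ≤ N := sup_le hHN hQN
  have hHT : H ≤ T := le_sup_left
  have hQT : Q ≤ T := le_sup_right
  have hcardT : Nat.card T = Nat.card H * Nat.card Q := by
    apply Nat.dvd_antisymm (i2_card_sup_dvd H Q hHQn)
    exact Nat.Coprime.mul_dvd_of_dvd_of_dvd hcop (Subgroup.card_dvd_of_le hHT)
      (Subgroup.card_dvd_of_le hQT)
  have hThall : (Nat.card T).Coprime (T.relIndex N) := by
    rw [hcardT]
    apply Nat.Coprime.mul_left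
    · exact hHall.coprime_dvd_right (Subgroup.relIndex_dvd_of_le_left N hHT)
    · exact hQS.coprime_dvd_right (Subgroup.relIndex_dvd_of_le_left N hQT)
  -- the conjugate `T' = m T m⁻¹`
  have hconjN : ∀ g ∈ M, ∀ t ∈ N, g * t * g⁻¹ ∈ N := fun g hg t ht =>
    (Subgroup.mem_normalizer_iff.mp (hMN hg) t).mp ht
  have hconjQ : ∀ g ∈ M, ∀ t ∈ Q, g * t * g⁻¹ ∈ Q := fun g hg t ht =>
    (Subgroup.mem_normalizer_iff.mp (hMQ hg) t).mp ht
  set T' : Subgroup G := T.map (MulAut.conj m).toMonoidHom with hT'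
  have hmemT' : ∀ g, g ∈ T' ↔ ∃ t ∈ T, m * t * m⁻¹ = g := by
    intro g
    rw [hT', Subgroup.mem_map]
    simp only [MulEquiv.coe_toMonoidHom, MulAut.conj_apply]
  have hT'N : T' ≤ N := by
    intro g hg
    obtain ⟨t, ht, rfl⟩ := (hmemT' g).mp hg
    exact hconjN m hm t (hTN ht)
  have hQT' : Q ≤ T' := by
    intro g hg
    refine (hmemT' g).mpr ⟨m⁻¹ * g * m, hQT ?_, by group⟩
    have := hconjQ m⁻¹ (M.inv_mem hm) g hg
    rwa [inv_inv] at this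
  have hcardT' : Nat.card T' = Nat.card T :=
    Subgroup.card_map_of_injective (MulAut.conj m).injective
  have hTT' : T' = T := huniq T T' hQT hTN hQT' hT'N hThall hcardT'
  -- `K = m H m⁻¹ ≤ T`
  set K : Subgroup G := H.map (MulAut.conj m).toMonoidHom with hK
  have hmemK : ∀ g, g ∈ K ↔ ∃ h ∈ H, m * h * m⁻¹ = g := by
    intro g
    rw [hK, Subgroup.mem_map]
    simp only [MulEquiv.coe_toMonoidHom, MulAut.conj_apply]
  have hKT : K ≤ T := by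
    rw [← hTT']
    exact Subgroup.map_mono hHT
  have hcardK : Nat.card K = Nat.card H :=
    Subgroup.card_map_of_injective (MulAut.conj m).injective
  have hsT : Group.IsSolvable T :=
    Group.isSolvable_of_isSolvable_injective (Subgroup.inclusion_injective (hTN.trans hNM))
  obtain ⟨u, huT, hu⟩ := Cfsg.Agent.Lib.Helper32.hall_conj_in T hsT (Nat.card H) (Nat.card Q)
    hcardT hcop hHT hKT rfl hcardK
  have hu1 : ∀ h ∈ H, u * h * u⁻¹ ∈ K := by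
    intro h hh
    have := Subgroup.smul_mem_pointwise_smul h (MulAut.conj u) H hh
    rw [hu, MulAut.smul_def, MulAut.conj_apply] at this
    exact this
  have hu2 : ∀ g ∈ K, ∃ h ∈ H, u * h * u⁻¹ = g := by
    intro g hg
    rw [← hu, Subgroup.mem_smul_pointwise_iff_exists] at hg
    obtain ⟨s, hs, hsg⟩ := hg
    refine ⟨s, hs, ?_⟩
    rw [← hsg, MulAut.smul_def, MulAut.conj_apply]
  have huM : u ∈ M := hNM (hTN huT)
  -- `n₀ = u⁻¹ m` normalizes `H`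
  have hn0M : u⁻¹ * m ∈ M := M.mul_mem (M.inv_mem huM) hm
  have hn0 : u⁻¹ * m ∈ Subgroup.normalizer (H : Set G) := by
    rw [Subgroup.mem_normalizer_iff]
    intro h
    constructor
    · intro hh
      obtain ⟨h', hh', he⟩ := hu2 (m * h * m⁻¹) ((hmemK _).mpr ⟨h, hh, rfl⟩)
      have : u⁻¹ * m * h * (u⁻¹ * m)⁻¹ = h' := by
        calc u⁻¹ * m * h * (u⁻¹ * m)⁻¹ = u⁻¹ * (m * h * m⁻¹) * u := by group
          _ = u⁻¹ * (u * h' * u⁻¹) * u := by rw [he]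
          _ = h' := by group
      rw [this]
      exact hh'
    · intro hh
      obtain ⟨h'', hh'', he⟩ := (hmemK _).mp (hu1 _ hh)
      have : m * h'' * m⁻¹ = m * h * m⁻¹ := by
        rw [he]
        group
      have h2 : h'' = h := by
        have h3 := mul_right_cancel this
        exact mul_left_cancel h3
      rw [← h2]
      exact hh''
  -- decompose `u⁻¹ = h₁ q₁`
  have hset : ((H ⊔ Q : Subgroup G) : Set G) = (H : Set G) * (Q : Set G) :=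
    Subgroup.coe_mul_of_left_le_normalizer_right H Q hHQn
  have huinv : u⁻¹ ∈ ((H ⊔ Q : Subgroup G) : Set G) := T.inv_mem huT
  rw [hset] at huinv
  obtain ⟨h₁, hh₁, q₁, hq₁, hhq⟩ := huinv
  have hh₁' : h₁ ∈ H := hh₁
  have hq₁' : q₁ ∈ Q := hq₁
  have hhq' : h₁ * q₁ = u⁻¹ := hhq
  -- `y' = n₀ x n₀⁻¹ ∈ H`
  have hy' : u⁻¹ * m * x * (u⁻¹ * m)⁻¹ ∈ H := (Subgroup.mem_normalizer_iff.mp hn0 x).mp hx
  -- `y'' = h₁⁻¹ y' h₁ = q₁ y q₁⁻¹ ∈ H`
  have hy''H : h₁⁻¹ * (u⁻¹ * m * x * (u⁻¹ * m)⁻¹) * h₁ ∈ H :=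
    H.mul_mem (H.mul_mem (H.inv_mem hh₁') hy') hh₁'
  have hy''eq : h₁⁻¹ * (u⁻¹ * m * x * (u⁻¹ * m)⁻¹) * h₁ = q₁ * (m * x * m⁻¹) * q₁⁻¹ := by
    rw [← hhq']
    group
  -- `y'' y⁻¹ ∈ H ⊓ Q = ⊥`
  have hmemQ : q₁ * (m * x * m⁻¹) * q₁⁻¹ * (m * x * m⁻¹)⁻¹ ∈ Q := by
    have h1 : (m * x * m⁻¹) * q₁⁻¹ * (m * x * m⁻¹)⁻¹ ∈ Q :=
      (Subgroup.mem_normalizer_iff.mp (hHQn hy) q₁⁻¹).mp (Q.inv_mem hq₁')
    have h2 : q₁ * (m * x * m⁻¹) * q₁⁻¹ * (m * x * m⁻¹)⁻¹ =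
        q₁ * ((m * x * m⁻¹) * q₁⁻¹ * (m * x * m⁻¹)⁻¹) := by group
    rw [h2]
    exact Q.mul_mem hq₁' h1
  have hmemH : q₁ * (m * x * m⁻¹) * q₁⁻¹ * (m * x * m⁻¹)⁻¹ ∈ H := by
    rw [← hy''eq]
    exact H.mul_mem hy''H (H.inv_mem hy)
  have hone : q₁ * (m * x * m⁻¹) * q₁⁻¹ * (m * x * m⁻¹)⁻¹ = 1 := by
    have : q₁ * (m * x * m⁻¹) * q₁⁻¹ * (m * x * m⁻¹)⁻¹ ∈ H ⊓ Q := Subgroup.mem_inf.mpr ⟨hmemH, hmemQ⟩
    rw [hdisj] at this
    exact Subgroup.mem_bot.mp this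
  have hyy : q₁ * (m * x * m⁻¹) * q₁⁻¹ = m * x * m⁻¹ := mul_inv_eq_one.mp hone
  -- conclusion with `n = h₁⁻¹ n₀`
  refine ⟨h₁⁻¹ * (u⁻¹ * m), Subgroup.mem_inf.mpr ⟨?_, ?_⟩, ?_⟩
  · exact M.mul_mem (M.inv_mem (hHM hh₁')) hn0M
  · exact Subgroup.mul_mem _ (Subgroup.inv_mem _ (Subgroup.le_normalizer hh₁')) hn0
  · rw [← hyy, ← hy''eq]
    group

end Cfsg.Agent.Lib.Helper81.BG153
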