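import Mathlib
import Cfsg.Prelude.Def_BrauerPairs
import Cfsg.Agent.Lib.Helper81.BPNormal

set_option autoImplicit false
set_option linter.unusedSectionVars false
set_option linter.style.haveILetI false

/-!
# Idempotents modulo the local ideal in the centre of a group algebra
-/

namespace Cfsg.Agent.Lib.Helper81

open Cfsg
open Cfsg.Agent.Lib.Helper21 Cfsg.Agent.Lib.Helper82 Cfsg.Agent.Lib.Helper83

universe u

section General

variable {K : Type u} [Group K] [Fintype K]

theorem conv_sum_left {ι : Type*} (s : Finset ι) (f : ι → K → ℂ) (h : K → ℂ) :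
    conv (∑ i ∈ s, f i) h = ∑ i ∈ s, conv (f i) h := by
  funext z
  simp only [Cfsg.Agent.Lib.Helper21.conv, Finset.sum_apply, Finset.sum_mul]
  exact Finset.sum_comm

theorem conv_sum_right {ι : Type*} (s : Finset ι) (f : K → ℂ) (h : ι → K → ℂ) :
    conv f (∑ i ∈ s, h i) = ∑ i ∈ s, conv f (h i) := by
  funext z
  simp only [Cfsg.Agent.Lib.Helper21.conv, Finset.sum_apply, Finset.mul_sum]
  exact Finset.sum_comm

variable [Fintype (IrrCharacter K)] {M : Ideal AlgInt}

/-- the central characters take the values `0` or `1` modulo the local ideal on an idempotent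
modulo the local ideal -/
theorem omega_idem_dichotomy (hM : M.IsPrime) {a : K → ℂ} (ha : IsRClass M a)
    (hid : ∀ z, MemLocalIdeal M (a z - conv a a z)) (ξ : IrrCharacter K) :
    MemLocalIdeal M (omega a (ξ : K → ℂ)) ∨ MemLocalIdeal M (omega a (ξ : K → ℂ) - 1) := by
  have h1 : MemLocalIdeal M (omega (a - conv a a) (ξ : K → ℂ)) := by
    apply memLocalIdeal_omega' hM (ha.sub hM (ha.conv hM ha)).1
    intro z
    exact hid z
  rw [omega_sub, omega_conv ξ.2 _ _ ha.1] at h1
  have hx : MemLocalRing M (omega a (ξ : K → ℂ)) := memLocalRing_omega hM ha.1 ha.2 ξ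
  have h2 : MemLocalIdeal M (omega a (ξ : K → ℂ) * (1 - omega a (ξ : K → ℂ))) := by
    have : omega a (ξ : K → ℂ) * (1 - omega a (ξ : K → ℂ))
        = omega a (ξ : K → ℂ) - omega a (ξ : K → ℂ) * omega a (ξ : K → ℂ) := by ring
    rw [this]; exact h1
  rcases memLocalIdeal_of_mul_memLocalIdeal hM hx
    (memLocalRing_sub hM (memLocalRing_one hM) hx) h2 with h | h
  · exact Or.inl h
  · right
    have := memLocalIdeal_neg h
    rwa [neg_sub] at this

/-- an idempotent modulo the local ideal which is not zero modulo the local ideal is mapped to `1`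
by some central character -/
theorem exists_omega_sub_one (hM : M.IsPrime) {a : K → ℂ} (ha : IsRClass M a)
    (hid : ∀ z, MemLocalIdeal M (a z - conv a a z)) (hne : ∃ z, ¬ MemLocalIdeal M (a z)) :
    ∃ ξ : IrrCharacter K, MemLocalIdeal M (omega a (ξ : K → ℂ) - 1) := by
  by_contra hcon
  push Not at hcon
  have hω : ∀ ξ : IrrCharacter K, MemLocalIdeal M (omega a (ξ : K → ℂ)) := by
    intro ξ
    rcases omega_idem_dichotomy hM ha hid ξ with h | h
    · exact h
    · exact absurd h (hcon ξ)
  obtain ⟨m, hm⟩ := isNilpotent_cls hM ha hω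
  have hidem : IsIdempotentElem (cls hM a ha) := by
    show cls hM a ha * cls hM a ha = cls hM a ha
    rw [← cls_conv hM ha ha, cls_eq_iff]
    intro g
    have := memLocalIdeal_neg (hid g)
    rwa [neg_sub] at this
  have h0 : cls hM a ha = 0 := by
    rw [← hidem.pow_succ_eq m, pow_succ, hm, zero_mul]
  obtain ⟨z, hz⟩ := hne
  exact hz ((cls_eq_zero_iff hM ha).1 h0 z)

/-- an idempotent class function is the idempotent of the set of characters whose central
character maps it to `1` -/
theorem eq_blockCoeff_of_idem {a : K → ℂ} (ha : IsClassFunction K a) (hid : conv a a = a) :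
    a = blockCoeff {ψ : IrrCharacter K | omega a (ψ : K → ℂ) = 1} := by
  classical
  funext g
  symm
  apply blockCoeff_eq_of_omega _ ha
  intro χ
  have h1 : omega a (χ : K → ℂ) * omega a (χ : K → ℂ) = omega a (χ : K → ℂ) := by
    rw [← omega_conv χ.2 _ _ ha, hid]
  by_cases h : omega a (χ : K → ℂ) = 1
  · rw [if_pos (by exact h), h]
  · rw [if_neg (by exact h)]
    have h2 : omega a (χ : K → ℂ) * (omega a (χ : K → ℂ) - 1) = 0 := by
      rw [mul_sub, h1, mul_one, sub_self]
    rcases mul_eq_zero.1 h2 with h3 | h3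
    · exact h3
    · exact absurd (sub_eq_zero.1 h3) h

end General

end Cfsg.Agent.Lib.Helper81
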