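import Mathlib
import Cfsg.Prelude.Def_BrauerPairs
import Cfsg.Agent.Lib.Helper81.BPIdem

set_option autoImplicit false
set_option linter.unusedSectionVars false
set_option linter.style.haveILetI false

/-!
# Blocks of a subgroup `H` with `P C_G(P) ≤ H ≤ N_G(P)` as orbit sums of blocks of `C_G(P)`
-/

namespace Cfsg.Agent.Lib.Helper81

open Cfsg
open Cfsg.Agent.Lib.Helper21 Cfsg.Agent.Lib.Helper82 Cfsg.Agent.Lib.Helper83

universe u
variable {G : Type u} [Group G] [Fintype G]

local notation "C(" R ")" => Subgroup.centralizer ((R : Subgroup G) : Set G)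

/-- the idempotent of a block of `H`, where `P ≤ H ≤ N_G(P)`, is not zero modulo the local ideal
on `C_G(P)` -/
theorem exists_not_memLocalIdeal_sbc {p : ℕ} [Fact p.Prime] {M : Ideal AlgInt}
    (hMod : IsPModular p M) {P H : Subgroup G} (hP : IsPGroup p P) (hPH : P ≤ H)
    (hHN : H ≤ Subgroup.normalizer (P : Set G)) [Fintype H] [Fintype (IrrCharacter H)]
    {b : Set (IrrCharacter H)} (hb : IsPBlock M b) :
    ∃ c ∈ C(P), ¬ MemLocalIdeal M (subgroupBlockCoeff H b c) := by
  classical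
  have hM : M.IsPrime := hMod.2.1.isPrime
  by_contra hcon
  push Not at hcon
  obtain ⟨ψ, hψ⟩ := IsPBlock.nonempty hM hb
  have h1 : omega (blockCoeff b) (ψ : H → ℂ) = 1 := by
    rw [omega_blockCoeff, if_pos hψ]
  haveI : (P.subgroupOf H).Normal := Subgroup.normal_subgroupOf_of_le_normalizer hHN
  have hPH' : IsPGroup p (P.subgroupOf H) := hP.comap_subtype
  obtain ⟨ψ₀, hψ₀⟩ := id hb
  have hbR : ∀ h : H, MemLocalRing M (blockCoeff b h) := fun h =>
    hψ₀ ▸ memLocalRing_blockCoeff_blockOf hM ψ₀ h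
  have h2 : MemLocalIdeal M (omega (blockCoeff b) (ψ : H → ℂ)) := by
    rw [omega_eq_sum_classes (blockCoeff_isClassFunction b) (isClassFunction_irr ψ)]
    apply memLocalIdeal_sum hM
    intro K _
    by_cases hk : ((Quotient.out K : H) : G) ∈ C(P)
    · have := hcon _ hk
      rw [sbc_of_mem H b (Quotient.out K : H).2] at this
      exact memLocalIdeal_mul_right hM this (memLocalRing_centralChar hM ψ _)
    · have hk' : (Quotient.out K : H) ∉ Subgroup.centralizer ((P.subgroupOf H : Subgroup H) : Set H) := by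
        intro hc
        apply hk
        rw [Subgroup.mem_centralizer_iff]
        intro q hq
        have := Subgroup.mem_centralizer_iff.1 hc ⟨q, hPH hq⟩
          (by rw [SetLike.mem_coe, Subgroup.mem_subgroupOf]; exact hq)
        exact congrArg Subtype.val this
      exact memLocalIdeal_mul_left hM (hbR _)
        (memLocalIdeal_centralChar_of_not_mem_centralizer hMod _ hPH' _ hk' ψ)
  rw [h1] at h2
  exact not_memLocalIdeal_one hM h2

section Orbit

open Classical in
/-- the orbit of a function under conjugation by `H`, as a finite set of functions -/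
noncomputable def orbitIdems (H : Subgroup G) [Fintype H] (ε : G → ℂ) : Finset (G → ℂ) :=
  Finset.univ.image (fun x : H => conjF (x : G) ε)

/-- the sum of the orbit -/
noncomputable def orbitSum (H : Subgroup G) [Fintype H] (ε : G → ℂ) : G → ℂ :=
  ∑ β ∈ orbitIdems H ε, β

theorem mem_orbitIdems {H : Subgroup G} [Fintype H] {ε β : G → ℂ} :
    β ∈ orbitIdems H ε ↔ ∃ x ∈ H, β = conjF x ε := by
  classical
  unfold orbitIdems
  rw [Finset.mem_image]
  constructor
  · rintro ⟨x, -, hx⟩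
    exact ⟨x, x.2, hx.symm⟩
  · rintro ⟨x, hx, rfl⟩
    exact ⟨⟨x, hx⟩, Finset.mem_univ _, rfl⟩

theorem self_mem_orbitIdems (H : Subgroup G) [Fintype H] (ε : G → ℂ) : ε ∈ orbitIdems H ε :=
  mem_orbitIdems.2 ⟨1, H.one_mem, (conjF_one ε).symm⟩

theorem conjF_mem_orbitIdems {H : Subgroup G} [Fintype H] {ε β : G → ℂ} {x : G} (hx : x ∈ H)
    (hβ : β ∈ orbitIdems H ε) : conjF x β ∈ orbitIdems H ε := by
  obtain ⟨y, hy, rfl⟩ := mem_orbitIdems.1 hβ
  exact mem_orbitIdems.2 ⟨x * y, H.mul_mem hx hy, (conjF_mul x y ε).symm⟩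

theorem orbitSum_apply (H : Subgroup G) [Fintype H] (ε : G → ℂ) (g : G) :
    orbitSum H ε g = ∑ β ∈ orbitIdems H ε, β g := by
  unfold orbitSum
  rw [Finset.sum_apply]

theorem conjF_inv_conjF (x : G) (β : G → ℂ) : conjF x⁻¹ (conjF x β) = β := by
  rw [← conjF_mul, inv_mul_cancel, conjF_one]

theorem conjF_conjF_inv (x : G) (β : G → ℂ) : conjF x (conjF x⁻¹ β) = β := by
  rw [← conjF_mul, mul_inv_cancel, conjF_one]

/-- the orbit sum is invariant under `H` -/
theorem orbitSum_conjInv (H : Subgroup G) [Fintype H] (ε : G → ℂ) : ConjInv H (orbitSum H ε) := by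
  intro x hx g
  rw [orbitSum_apply, orbitSum_apply]
  have h1 : ∀ β : G → ℂ, β (x * g * x⁻¹) = conjF x⁻¹ β g := by
    intro β
    simp only [conjF, inv_inv]
  simp only [h1]
  apply Finset.sum_nbij' (fun β => conjF x⁻¹ β) (fun β => conjF x β)
  · intro β hβ
    exact conjF_mem_orbitIdems (H.inv_mem hx) hβ
  · intro β hβ
    exact conjF_mem_orbitIdems hx hβ
  · intro β _
    exact conjF_conjF_inv x β
  · intro β _
    exact conjF_inv_conjF x β
  · intro β _
    rfl

/-- the sum over `H` of the conjugates is the orbit sum times the order of the stabilizer -/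
theorem sum_conjF_eq (H : Subgroup G) [Fintype H] (ε : G → ℂ)
    [DecidablePred (fun x : H => conjF (x : G) ε = ε)] :
    ∑ x : H, conjF (x : G) ε
      = (Finset.univ.filter (fun x : H => conjF (x : G) ε = ε)).card • orbitSum H ε := by
  classical
  have h1 := Finset.sum_comp (s := (Finset.univ : Finset H)) (fun β : G → ℂ => β)
    (fun x : H => conjF (x : G) ε)
  rw [h1, orbitSum, Finset.smul_sum]
  unfold orbitIdems
  apply Finset.sum_congr rfl
  intro β hβ
  obtain ⟨y, -, rfl⟩ := Finset.mem_image.1 hβ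
  congr 1
  apply Finset.card_bij (fun x _ => y⁻¹ * x)
  · intro x hx
    rw [Finset.mem_filter] at hx ⊢
    refine ⟨Finset.mem_univ _, ?_⟩
    push_cast
    rw [conjF_mul, hx.2, conjF_inv_conjF]
  · intro x₁ _ x₂ _ h
    exact mul_left_cancel h
  · intro t ht
    rw [Finset.mem_filter] at ht
    refine ⟨y * t, ?_, by group⟩
    rw [Finset.mem_filter]
    refine ⟨Finset.mem_univ _, ?_⟩
    push_cast
    rw [conjF_mul, ht.2]

end Orbit

section BlockOrbit

variable [Fintype (IrrCharacter G)] {p : ℕ} [Fact p.Prime] {M : Ideal AlgInt}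
variable {P H : Subgroup G} [Fintype H] [Fintype (IrrCharacter H)]
  [Fintype (Subgroup.centralizer (P : Set G))]
  [Fintype (IrrCharacter (Subgroup.centralizer (P : Set G)))]

/-- the members of the orbit of a block idempotent are block idempotents -/
theorem exists_block_of_mem_orbitIdems (hHN : H ≤ Subgroup.normalizer (P : Set G))
    {e : Set (IrrCharacter C(P))} (he : IsPBlock M e) {β : G → ℂ}
    (hβ : β ∈ orbitIdems H (subgroupBlockCoeff C(P) e)) :
    ∃ f : Set (IrrCharacter C(P)), IsPBlock M f ∧ β = subgroupBlockCoeff C(P) f := by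
  obtain ⟨x, hx, rfl⟩ := mem_orbitIdems.1 hβ
  obtain ⟨θ, rfl⟩ := he
  have hxN : x ∈ Subgroup.normalizer ((C(P) : Subgroup G) : Set G) :=
    normalizer_le_normalizer_centralizer P (hHN hx)
  exact ⟨_, ⟨_, rfl⟩, conjF_sbc_blockOf M C(P) hxN θ⟩

/-- central characters on the members of the orbit -/
theorem omega_rs_sbc (f : Set (IrrCharacter C(P))) [DecidablePred (· ∈ f)]
    (ξ : IrrCharacter C(P)) :
    omega (rs C(P) (subgroupBlockCoeff C(P) f)) (ξ : C(P) → ℂ) = if ξ ∈ f then 1 else 0 := by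
  rw [rs_sbc, omega_blockCoeff]

theorem sbc_injective_on_blocks (hM : M.IsPrime) {f f' : Set (IrrCharacter C(P))}
    (hf : IsPBlock M f) (hf' : IsPBlock M f')
    (h : subgroupBlockCoeff C(P) f = subgroupBlockCoeff C(P) f') : f = f' := by
  classical
  obtain ⟨ξ, hξ⟩ := IsPBlock.nonempty hM hf
  have h1 := omega_rs_sbc f ξ
  rw [h, omega_rs_sbc, if_pos hξ] at h1
  have hξ' : ξ ∈ f' := by
    by_contra hno
    rw [if_neg hno] at h1
    exact zero_ne_one h1
  rw [IsPBlock.eq_blockOf hM hf hξ, IsPBlock.eq_blockOf hM hf' hξ']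

/-- the central characters of `C_G(P)` take the value `0` or `1` on the orbit sum -/
theorem omega_orbitSum (hM : M.IsPrime) (hHN : H ≤ Subgroup.normalizer (P : Set G))
    {e : Set (IrrCharacter C(P))} (he : IsPBlock M e) (ξ : IrrCharacter C(P)) :
    omega (rs C(P) (orbitSum H (subgroupBlockCoeff C(P) e))) (ξ : C(P) → ℂ)
      = by classical exact if ∃ f : Set (IrrCharacter C(P)), IsPBlock M f ∧ ξ ∈ f ∧
          subgroupBlockCoeff C(P) f ∈ orbitIdems H (subgroupBlockCoeff C(P) e) then 1 else 0 := by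
  classical
  have hrs : rs C(P) (orbitSum H (subgroupBlockCoeff C(P) e))
      = ∑ β ∈ orbitIdems H (subgroupBlockCoeff C(P) e), rs C(P) β := by
    funext k
    rw [rs_apply, orbitSum_apply, Finset.sum_apply]
    rfl
  rw [hrs, omega_sum]
  split_ifs with h
  · obtain ⟨f, hf, hξ, hmem⟩ := h
    rw [Finset.sum_eq_single (subgroupBlockCoeff C(P) f)]
    · rw [omega_rs_sbc, if_pos hξ]
    · intro β hβ hne
      obtain ⟨f', hf', rfl⟩ := exists_block_of_mem_orbitIdems hHN he hβ
      rw [omega_rs_sbc, if_neg]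
      intro hξ'
      apply hne
      rw [IsPBlock.eq_blockOf hM hf hξ, IsPBlock.eq_blockOf hM hf' hξ']
    · intro hno
      exact absurd hmem hno
  · apply Finset.sum_eq_zero
    intro β hβ
    obtain ⟨f', hf', rfl⟩ := exists_block_of_mem_orbitIdems hHN he hβ
    rw [omega_rs_sbc, if_neg]
    intro hξ'
    exact h ⟨f', hf', hξ', hβ⟩

theorem orbitSum_memLocalRing (hM : M.IsPrime) (hHN : H ≤ Subgroup.normalizer (P : Set G))
    {e : Set (IrrCharacter C(P))} (he : IsPBlock M e) (g : G) :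
    MemLocalRing M (orbitSum H (subgroupBlockCoeff C(P) e) g) := by
  rw [orbitSum_apply]
  apply memLocalRing_sum hM
  intro β hβ
  obtain ⟨f', hf', rfl⟩ := exists_block_of_mem_orbitIdems hHN he hβ
  exact sbc_memLocalRing C(P) hM hf' g

theorem orbitSum_of_not_mem (hHN : H ≤ Subgroup.normalizer (P : Set G))
    {e : Set (IrrCharacter C(P))} (he : IsPBlock M e) {g : G} (hg : g ∉ C(P)) :
    orbitSum H (subgroupBlockCoeff C(P) e) g = 0 := by
  rw [orbitSum_apply]
  apply Finset.sum_eq_zero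
  intro β hβ
  obtain ⟨f', hf', rfl⟩ := exists_block_of_mem_orbitIdems hHN he hβ
  exact sbc_of_not_mem C(P) f' hg

theorem orbitSum_conjInv_centralizer (hHN : H ≤ Subgroup.normalizer (P : Set G))
    {e : Set (IrrCharacter C(P))} (he : IsPBlock M e) :
    ConjInv C(P) (orbitSum H (subgroupBlockCoeff C(P) e)) := by
  intro t ht g
  rw [orbitSum_apply, orbitSum_apply]
  apply Finset.sum_congr rfl
  intro β hβ
  obtain ⟨f', hf', rfl⟩ := exists_block_of_mem_orbitIdems hHN he hβ
  exact sbc_conjInv_self C(P) f' t ht g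

/-- the orbit sum is idempotent -/
theorem conv_orbitSum_self (hM : M.IsPrime) (hHN : H ≤ Subgroup.normalizer (P : Set G))
    {e : Set (IrrCharacter C(P))} (he : IsPBlock M e) :
    conv (orbitSum H (subgroupBlockCoeff C(P) e)) (orbitSum H (subgroupBlockCoeff C(P) e))
      = orbitSum H (subgroupBlockCoeff C(P) e) := by
  classical
  unfold orbitSum
  rw [conv_sum_left]
  apply Finset.sum_congr rfl
  intro β hβ
  rw [conv_sum_right, Finset.sum_eq_single β]
  · obtain ⟨f, hf, rfl⟩ := exists_block_of_mem_orbitIdems hHN he hβ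
    exact conv_sbc_self C(P) f
  · intro β' hβ' hne
    obtain ⟨f, hf, rfl⟩ := exists_block_of_mem_orbitIdems hHN he hβ
    obtain ⟨f', hf', rfl⟩ := exists_block_of_mem_orbitIdems hHN he hβ'
    have hff : f ≠ f' := fun h => hne (h ▸ rfl)
    rw [sbc_eq_ext0, sbc_eq_ext0]
    have := gconv_ext0 C(P) (blockCoeff f) (blockCoeff f')
    rw [show conv (ext0 C(P) (blockCoeff f)) (ext0 C(P) (blockCoeff f'))
      = gconv (ext0 C(P) (blockCoeff f)) (ext0 C(P) (blockCoeff f')) from rfl, this,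
      show gconv (blockCoeff f) (blockCoeff f') = conv (blockCoeff f) (blockCoeff f') from rfl,
      conv_blockCoeff_of_ne hM hf hf' hff]
    funext g
    by_cases hg : g ∈ C(P)
    · rw [ext0_of_mem _ _ hg]; rfl
    · rw [ext0_of_not_mem _ _ hg]; rfl
  · intro hno
    exact absurd hβ hno

theorem conjInv_ext0_of_le {L : Subgroup G} (hL : L ≤ H) {F : H → ℂ}
    (hF : IsClassFunction H F) : ConjInv L (ext0 H F) := by
  intro t ht g
  have htH : t ∈ H := hL ht
  by_cases hg : g ∈ H
  · have hg' : t * g * t⁻¹ ∈ H := H.mul_mem (H.mul_mem htH hg) (H.inv_mem htH)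
    rw [ext0_of_mem H _ hg, ext0_of_mem H _ hg']
    exact hF ⟨g, hg⟩ ⟨t, htH⟩
  · have hg' : t * g * t⁻¹ ∉ H := by
      intro h
      apply hg
      have := H.mul_mem (H.mul_mem (H.inv_mem htH) h) htH
      simpa [mul_assoc] using this
    rw [ext0_of_not_mem H _ hg, ext0_of_not_mem H _ hg']

theorem ext0_add' (F F' : H → ℂ) : ext0 H (F + F') = ext0 H F + ext0 H F' := by
  funext g
  by_cases hg : g ∈ H
  · simp only [Pi.add_apply, ext0_of_mem H _ hg]
  · simp only [Pi.add_apply, ext0_of_not_mem H _ hg, add_zero]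

theorem ext0_smul' (c : ℂ) (F : H → ℂ) : ext0 H (c • F) = c • ext0 H F := by
  funext g
  by_cases hg : g ∈ H
  · simp only [Pi.smul_apply, ext0_of_mem H _ hg]
  · simp only [Pi.smul_apply, ext0_of_not_mem H _ hg, smul_zero]

theorem ext0_deltaOne : ext0 H (deltaOne : H → ℂ) = (deltaOne : G → ℂ) := by
  classical
  rw [deltaOne_eq, deltaOne_eq]
  exact ext0_gdelta H

theorem rs_add' (K : Subgroup G) (β γ : G → ℂ) : rs K (β + γ) = rs K β + rs K γ := rfl

theorem rs_smul' (K : Subgroup G) (c : ℂ) (β : G → ℂ) : rs K (c • β) = c • rs K β := rfl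

/-- **The orbit sum of a block of `C_G(P)` under `H` is the idempotent of a block of `H`.** -/
theorem exists_block_orbitSum (hMod : IsPModular p M) (hP : IsPGroup p P) (hPH : P ≤ H)
    (hCH : C(P) ≤ H) (hHN : H ≤ Subgroup.normalizer (P : Set G))
    {e : Set (IrrCharacter C(P))} (he : IsPBlock M e) :
    ∃ b' : Set (IrrCharacter H), IsPBlock M b' ∧
      ∀ h : H, blockCoeff b' h = orbitSum H (subgroupBlockCoeff C(P) e) h := by
  classical
  have hM : M.IsPrime := hMod.2.1.isPrime
  set ε : G → ℂ := subgroupBlockCoeff C(P) e with hε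
  set s : G → ℂ := orbitSum H ε with hs
  have hsR : ∀ g, MemLocalRing M (s g) := orbitSum_memLocalRing hM hHN he
  have hsC : ConjInv C(P) s := orbitSum_conjInv_centralizer hHN he
  have hsH : ConjInv H s := orbitSum_conjInv H ε
  have hsid : conv s s = s := conv_orbitSum_self hM hHN he
  set a : H → ℂ := rs H s with ha_def
  have hsupp : s = ext0 H a := by
    funext g
    by_cases hg : g ∈ H
    · rw [ext0_of_mem H _ hg]; rfl
    · rw [ext0_of_not_mem H _ hg]
      exact orbitSum_of_not_mem hHN he (fun h => hg (hCH h))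
  have ha : IsRClass M a := ⟨rs_isClassFunction hsH, fun h => hsR h⟩
  have haid : conv a a = a := by
    have h1 : ext0 H (conv a a) = ext0 H a := by
      have := gconv_ext0 H a a
      rw [show gconv a a = conv a a from rfl] at this
      rw [← this, ← hsupp]
      exact hsid
    funext h
    have := congrFun h1 (h : G)
    rwa [ext0_coe, ext0_coe] at this
  set S : Set (IrrCharacter H) := {ψ | omega a (ψ : H → ℂ) = 1} with hS
  have haS : a = blockCoeff S := eq_blockCoeff_of_idem ha.1 haid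
  obtain ⟨ξ₀, hξ₀⟩ := IsPBlock.nonempty hM he
  -- the functional
  set lam : (H → ℂ) → ℂ := fun F => omega (rs C(P) (ext0 H F)) (ξ₀ : C(P) → ℂ) with hlam
  have hlam_mod : IsModHom M lam := by
    refine ⟨fun f h => ?_, fun c f => ?_, ?_, fun f hf => ?_, fun f h hf hh => ?_⟩
    · show omega (rs C(P) (ext0 H (f + h))) (ξ₀ : C(P) → ℂ) = _
      rw [ext0_add', rs_add', omega_add]
    · show omega (rs C(P) (ext0 H (c • f))) (ξ₀ : C(P) → ℂ) = _
      rw [ext0_smul', rs_smul', omega_smul]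
    · show omega (rs C(P) (ext0 H (deltaOne : H → ℂ))) (ξ₀ : C(P) → ℂ) = 1
      rw [ext0_deltaOne, rs_deltaOne, omega_deltaOne]
    · show MemLocalRing M (omega (rs C(P) (ext0 H f)) (ξ₀ : C(P) → ℂ))
      apply memLocalRing_omega hM (rs_isClassFunction (conjInv_ext0_of_le hCH hf.1))
      intro x
      rw [rs_apply]
      by_cases hx : (x : G) ∈ H
      · rw [ext0_of_mem H _ hx]; exact hf.2 _
      · rw [ext0_of_not_mem H _ hx]; exact memLocalRing_zero hM
    · show MemLocalIdeal M (omega (rs C(P) (ext0 H (conv f h))) (ξ₀ : C(P) → ℂ)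
        - omega (rs C(P) (ext0 H f)) (ξ₀ : C(P) → ℂ) * omega (rs C(P) (ext0 H h)) (ξ₀ : C(P) → ℂ))
      have e1 : ext0 H (conv f h) = conv (ext0 H f) (ext0 H h) := (gconv_ext0 H f h).symm
      rw [e1]
      have hR : ∀ {F : H → ℂ}, IsRClass M F → ∀ g, MemLocalRing M (ext0 H F g) := by
        intro F hF g
        by_cases hg : g ∈ H
        · rw [ext0_of_mem H _ hg]; exact hF.2 _
        · rw [ext0_of_not_mem H _ hg]; exact memLocalRing_zero hM
      exact omega_rs_conv hMod P hP (conjInv_ext0_of_le hPH hf.1) (conjInv_ext0_of_le hPH hh.1)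
        (conjInv_ext0_of_le hCH hf.1) (conjInv_ext0_of_le hCH hh.1) (hR hf) (hR hh) ξ₀
  obtain ⟨ψ₁, hψ₁⟩ := exists_irr_of_isModHom hM hlam_mod
  have hSR : ∀ h, MemLocalRing M (blockCoeff S h) := by
    rw [← haS]; exact ha.2
  have h1 : ψ₁ ∈ S := by
    have h := hψ₁ a ha
    have hl : lam a = 1 := by
      show omega (rs C(P) (ext0 H a)) (ξ₀ : C(P) → ℂ) = 1
      rw [← hsupp, hs, omega_orbitSum hM hHN he, if_pos ⟨e, he, hξ₀, self_mem_orbitIdems H ε⟩]
    rw [hl] at h
    by_contra hno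
    have h0 : omega a (ψ₁ : H → ℂ) = 0 := by
      conv_lhs => rw [haS]
      rw [omega_blockCoeff, if_neg hno]
    rw [h0, sub_zero] at h
    exact not_memLocalIdeal_one hM h
  have h2 : blockOf M (ψ₁ : H → ℂ) ⊆ S := blockOf_subset_of_memLocalRing_blockCoeff hM S hSR h1
  have h3 : S ⊆ blockOf M (ψ₁ : H → ℂ) := by
    intro ψ₂ hψ₂
    set b₂ : Set (IrrCharacter H) := blockOf M (ψ₂ : H → ℂ) with hb₂
    have hb₂S : b₂ ⊆ S := blockOf_subset_of_memLocalRing_blockCoeff hM S hSR hψ₂
    have hb₂ : IsPBlock M b₂ := ⟨ψ₂, rfl⟩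
    set β₂ : G → ℂ := subgroupBlockCoeff H b₂ with hβ₂
    have hconvH : conv (blockCoeff b₂) a = blockCoeff b₂ := by
      apply eq_of_omega_eq (conv_isClassFunction (blockCoeff_isClassFunction b₂) ha.1)
        (blockCoeff_isClassFunction b₂)
      intro ψ
      rw [omega_conv ψ.2 _ _ ha.1, omega_blockCoeff]
      by_cases hψ : ψ ∈ b₂
      · rw [if_pos hψ, one_mul]
        exact hb₂S hψ
      · rw [if_neg hψ, zero_mul]
    have hconv : conv β₂ s = β₂ := by
      rw [hβ₂, sbc_eq_ext0, hsupp]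
      have := gconv_ext0 H (blockCoeff b₂) a
      rw [show conv (ext0 H (blockCoeff b₂)) (ext0 H a)
        = gconv (ext0 H (blockCoeff b₂)) (ext0 H a) from rfl, this,
        show gconv (blockCoeff b₂) a = conv (blockCoeff b₂) a from rfl, hconvH]
    have hβ₂R : ∀ g, MemLocalRing M (β₂ g) := sbc_memLocalRing H hM hb₂
    have hβ₂H : ConjInv H β₂ := sbc_conjInv_self H b₂
    set a₂ : C(P) → ℂ := rs C(P) β₂ with ha₂_def
    have ha₂ : IsRClass M a₂ := ⟨rs_isClassFunction (hβ₂H.mono hCH), fun x => hβ₂R x⟩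
    have hid₂ : ∀ z, MemLocalIdeal M (a₂ z - conv a₂ a₂ z) := by
      intro z
      have := brauer_mul hMod P hP (hβ₂H.mono hPH) (hβ₂H.mono hPH) hβ₂R hβ₂R z
      rw [conv_sbc_self] at this
      exact this
    have hne₂ : ∃ z, ¬ MemLocalIdeal M (a₂ z) := by
      obtain ⟨c, hc, hcJ⟩ := exists_not_memLocalIdeal_sbc hMod hP hPH hHN hb₂
      exact ⟨⟨c, hc⟩, hcJ⟩
    obtain ⟨ξ₂, hξ₂⟩ := exists_omega_sub_one hM ha₂ hid₂ hne₂
    have hmul := omega_rs_conv hMod P hP (hβ₂H.mono hPH) (hsH.mono hPH) (hβ₂H.mono hCH) hsC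
      hβ₂R hsR ξ₂
    rw [hconv, hs, omega_orbitSum hM hHN he] at hmul
    have hex : ∃ f : Set (IrrCharacter C(P)), IsPBlock M f ∧ ξ₂ ∈ f ∧
        subgroupBlockCoeff C(P) f ∈ orbitIdems H ε := by
      by_contra hno
      rw [if_neg hno, mul_zero, sub_zero] at hmul
      have := memLocalIdeal_sub hM hmul hξ₂
      rw [sub_sub_cancel] at this
      exact not_memLocalIdeal_one hM this
    obtain ⟨f, hf, hξ₂f, hmem⟩ := hex
    obtain ⟨x, hx, hfx⟩ := mem_orbitIdems.1 hmem
    obtain ⟨θ, hθ⟩ := id he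
    have hxN : x ∈ Subgroup.normalizer ((C(P) : Subgroup G) : Set G) :=
      normalizer_le_normalizer_centralizer P (hHN hx)
    set φ : C(P) ≃* C(P) := (conjEquivN C(P) x hxN).symm with hφ
    have hf_eq : f = blockOf M (irrComp φ θ : C(P) → ℂ) := by
      apply sbc_injective_on_blocks hM hf ⟨_, rfl⟩
      rw [hfx, hε, hθ]
      exact conjF_sbc_blockOf M C(P) hxN θ
    have hξ₂' : irrComp φ.symm ξ₂ ∈ e := by
      rw [hθ, ← mem_blockOf_irrComp_iff, ← hf_eq]
      exact hξ₂f
    have hinv : (fun c : C(P) => a₂ (φ.symm c)) = a₂ := by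
      funext c
      show β₂ ((φ.symm c : C(P)) : G) = β₂ c
      have : ((φ.symm c : C(P)) : G) = x * c * x⁻¹ := rfl
      rw [this]
      exact hβ₂H x hx c
    have hω' : omega a₂ (irrComp φ.symm ξ₂ : C(P) → ℂ) = omega a₂ (ξ₂ : C(P) → ℂ) := by
      have := omega_comp φ.symm a₂ (ξ₂ : C(P) → ℂ)
      rw [hinv] at this
      exact this
    have hω₀ : MemLocalIdeal M (omega a₂ (ξ₀ : C(P) → ℂ) - 1) := by
      have h4 := omega_sub_memLocalIdeal hM ha₂.1 ha₂.2
        (IsPBlock.sameBlock hM he hξ₀ hξ₂')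
      rw [hω'] at h4
      have := memLocalIdeal_add hM h4 hξ₂
      convert this using 1
      ring
    have hl₂ : lam (blockCoeff b₂) = omega a₂ (ξ₀ : C(P) → ℂ) := by
      show omega (rs C(P) (ext0 H (blockCoeff b₂))) (ξ₀ : C(P) → ℂ) = _
      rw [← sbc_eq_ext0]
    have h5 := hψ₁ (blockCoeff b₂) (blockCoeff_isRClass hM ψ₂)
    rw [hl₂, omega_blockCoeff] at h5
    have hψ₁b₂ : ψ₁ ∈ b₂ := by
      by_contra hno
      rw [if_neg hno, sub_zero] at h5
      have := memLocalIdeal_sub hM h5 hω₀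
      rw [sub_sub_cancel] at this
      exact not_memLocalIdeal_one hM this
    rw [mem_blockOf_iff] at hψ₁b₂ ⊢
    exact sameBlock_symm hψ₁b₂
  have hSeq : S = blockOf M (ψ₁ : H → ℂ) := Set.Subset.antisymm h3 h2
  refine ⟨blockOf M (ψ₁ : H → ℂ), ⟨ψ₁, rfl⟩, fun h => ?_⟩
  rw [← hSeq, ← haS]
  rfl

end BlockOrbit

end Cfsg.Agent.Lib.Helper81
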