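import Mathlib
import Cfsg.Prelude.Def_BrauerPairs
import Cfsg.Agent.Lib.Helper81.BPOrbit

set_option autoImplicit false
set_option linter.unusedSectionVars false
set_option linter.style.haveILetI false

/-!
# Stabilizers of blocks of centralizers
-/

namespace Cfsg.Agent.Lib.Helper81

open Cfsg
open Cfsg.Agent.Lib.Helper21 Cfsg.Agent.Lib.Helper82 Cfsg.Agent.Lib.Helper83

universe u
variable {G : Type u} [Group G] [Fintype G]

local notation "C(" R ")" => Subgroup.centralizer ((R : Subgroup G) : Set G)

theorem conjF_eq_self_iff (x : G) (ε : G → ℂ) :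
    conjF x ε = ε ↔ ∀ g, ε (x * g * x⁻¹) = ε g := by
  constructor
  · intro h g
    have h1 : conjF x⁻¹ ε = ε := by
      conv_lhs => rw [← h]
      exact conjF_inv_conjF x ε
    have := congrFun h1 g
    simpa [conjF] using this
  · intro h
    funext g
    simp only [conjF]
    have := h (x⁻¹ * g * x)
    rw [← this]
    congr 1
    group

theorem stabilizesBlock_iff_conjF (K : Subgroup G) [Fintype K] [Fintype (IrrCharacter K)]
    {M : Ideal AlgInt} (hM : M.IsPrime) {e : Set (IrrCharacter K)} (he : IsPBlock M e) (x : G) :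
    StabilizesBlock K e x ↔ x ∈ Subgroup.normalizer (K : Set G) ∧
      conjF x (subgroupBlockCoeff K e) = subgroupBlockCoeff K e := by
  rw [stabilizesBlock_iff K hM he, conjF_eq_self_iff]

variable {M : Ideal AlgInt} {P : Subgroup G} [Fintype (Subgroup.centralizer (P : Set G))]
  [Fintype (IrrCharacter (Subgroup.centralizer (P : Set G)))]

/-- `P` acts trivially on the blocks of its centralizer -/
theorem sbc_centralizer_conjInv_self (e : Set (IrrCharacter C(P))) :
    ConjInv P (subgroupBlockCoeff C(P) e) := by
  intro u hu g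
  have huN : u ∈ Subgroup.normalizer ((C(P) : Subgroup G) : Set G) :=
    normalizer_le_normalizer_centralizer P (Subgroup.le_normalizer hu)
  by_cases hg : g ∈ C(P)
  · have : u * g * u⁻¹ = g := by
      have := Subgroup.mem_centralizer_iff.1 hg u hu
      rw [this]; group
    rw [this]
  · have hg' : u * g * u⁻¹ ∉ C(P) :=
      fun h => hg ((conj_mem_iff_of_mem_normalizer C(P) huN g).1 h)
    rw [sbc_of_not_mem _ e hg, sbc_of_not_mem _ e hg']

theorem stabilizesBlock_of_mem (hM : M.IsPrime) {e : Set (IrrCharacter C(P))}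
    (he : IsPBlock M e) {u : G} (hu : u ∈ P) : StabilizesBlock C(P) e u := by
  rw [stabilizesBlock_iff C(P) hM he]
  exact ⟨normalizer_le_normalizer_centralizer P (Subgroup.le_normalizer hu),
    sbc_centralizer_conjInv_self e u hu⟩

theorem stabilizesBlock_of_mem_centralizer (hM : M.IsPrime) {e : Set (IrrCharacter C(P))}
    (he : IsPBlock M e) {c : G} (hc : c ∈ C(P)) : StabilizesBlock C(P) e c := by
  rw [stabilizesBlock_iff C(P) hM he]
  exact ⟨Subgroup.le_normalizer hc, sbc_conjInv_self C(P) e c hc⟩

/-- if all of `H` stabilizes the block, the orbit sum is the idempotent itself -/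
theorem orbitSum_eq_self {H : Subgroup G} [Fintype H] {ε : G → ℂ}
    (h : ∀ x ∈ H, conjF x ε = ε) : orbitSum H ε = ε := by
  classical
  have : orbitIdems H ε = {ε} := by
    ext β
    rw [mem_orbitIdems, Finset.mem_singleton]
    constructor
    · rintro ⟨x, hx, rfl⟩
      exact h x hx
    · rintro rfl
      exact ⟨1, H.one_mem, (conjF_one _).symm⟩
  rw [orbitSum, this, Finset.sum_singleton]

end Cfsg.Agent.Lib.Helper81
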