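import Mathlib
import Cfsg.Prelude.Def_BrauerPairs
import Cfsg.Agent.Lib.Helper81.BPStab

set_option autoImplicit false
set_option linter.unusedSectionVars false
set_option linter.style.haveILetI false

/-!
# Conjugation of Brauer pairs
-/

namespace Cfsg.Agent.Lib.Helper81

open Cfsg
open Cfsg.Agent.Lib.Helper21 Cfsg.Agent.Lib.Helper82 Cfsg.Agent.Lib.Helper83

universe u
variable {G : Type u} [Group G]

local notation "C(" R ")" => Subgroup.centralizer ((R : Subgroup G) : Set G)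

/-- the conjugate subgroup `x Q x⁻¹` -/
abbrev cj (x : G) (Q : Subgroup G) : Subgroup G := Q.map (MulAut.conj x).toMonoidHom

theorem mem_cj {x : G} {Q : Subgroup G} {v : G} : v ∈ cj x Q ↔ ∃ u ∈ Q, v = x * u * x⁻¹ := by
  rw [Subgroup.mem_map]
  constructor
  · rintro ⟨u, hu, rfl⟩
    exact ⟨u, hu, by simp⟩
  · rintro ⟨u, hu, rfl⟩
    exact ⟨u, hu, by simp⟩

theorem conj_mem_cj {x : G} {Q : Subgroup G} {u : G} (hu : u ∈ Q) : x * u * x⁻¹ ∈ cj x Q :=
  mem_cj.2 ⟨u, hu, rfl⟩

theorem mem_centralizer_cj_iff {x : G} {Q : Subgroup G} {c : G} :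
    c ∈ C(cj x Q) ↔ x⁻¹ * c * x ∈ C(Q) := by
  rw [Subgroup.mem_centralizer_iff, Subgroup.mem_centralizer_iff]
  constructor
  · intro h q hq
    have h1 := h (x * q * x⁻¹) (conj_mem_cj hq)
    calc q * (x⁻¹ * c * x) = x⁻¹ * (x * q * x⁻¹ * c) * x := by group
      _ = x⁻¹ * (c * (x * q * x⁻¹)) * x := by rw [h1]
      _ = x⁻¹ * c * x * q := by group
  · intro h v hv
    obtain ⟨q, hq, rfl⟩ := mem_cj.1 hv
    have h1 := h q hq
    calc x * q * x⁻¹ * c = x * (q * (x⁻¹ * c * x)) * x⁻¹ := by group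
      _ = x * (x⁻¹ * c * x * q) * x⁻¹ := by rw [h1]
      _ = c * (x * q * x⁻¹) := by group

/-- conjugation by `x⁻¹` as an isomorphism `C_G(x Q x⁻¹) ≃ C_G(Q)` -/
def centConj (x : G) (Q : Subgroup G) : C(cj x Q) ≃* C(Q) where
  toFun c := ⟨x⁻¹ * c * x, mem_centralizer_cj_iff.1 c.2⟩
  invFun c := ⟨x * c * x⁻¹, mem_centralizer_cj_iff.2 (by
    have : x⁻¹ * (x * (c : G) * x⁻¹) * x = c := by group
    rw [this]; exact c.2)⟩
  left_inv c := by
    apply Subtype.ext
    show x * (x⁻¹ * (c : G) * x) * x⁻¹ = c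
    group
  right_inv c := by
    apply Subtype.ext
    show x⁻¹ * (x * (c : G) * x⁻¹) * x = c
    group
  map_mul' a b := by
    apply Subtype.ext
    show x⁻¹ * ((a : G) * b) * x = (x⁻¹ * a * x) * (x⁻¹ * b * x)
    group

@[simp] theorem centConj_apply (x : G) (Q : Subgroup G) (c : C(cj x Q)) :
    ((centConj x Q c : C(Q)) : G) = x⁻¹ * c * x := rfl

@[simp] theorem centConj_symm_apply (x : G) (Q : Subgroup G) (c : C(Q)) :
    (((centConj x Q).symm c : C(cj x Q)) : G) = x * c * x⁻¹ := rfl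

/-- the conjugate block is the image under composition with `centConj` -/
theorem mem_conjBlock_iff (x : G) (Q : Subgroup G) (f : Set (IrrCharacter C(Q)))
    (ξ' : IrrCharacter C(cj x Q)) :
    ξ' ∈ conjBlock Q x f ↔ irrComp (centConj x Q).symm ξ' ∈ f := by
  constructor
  · rintro ⟨ξ, hξ, h⟩
    have : irrComp (centConj x Q).symm ξ' = ξ := by
      apply Subtype.ext
      funext c
      rw [irrComp_apply]
      exact h c _ (centConj_symm_apply x Q c)
    rw [this]
    exact hξ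
  · intro h
    refine ⟨_, h, fun c c' hc => ?_⟩
    rw [irrComp_apply]
    have : (centConj x Q).symm c = c' := by
      apply Subtype.ext
      rw [centConj_symm_apply, hc]
    rw [this]

theorem conjBlock_blockOf (M : Ideal AlgInt) (x : G) (Q : Subgroup G) (θ : IrrCharacter C(Q)) :
    conjBlock Q x (blockOf M (θ : C(Q) → ℂ))
      = blockOf M (irrComp (centConj x Q) θ : C(cj x Q) → ℂ) := by
  ext ξ'
  rw [mem_conjBlock_iff, mem_blockOf_irrComp_iff]

theorem isPBlock_conjBlock {M : Ideal AlgInt} (x : G) (Q : Subgroup G)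
    {f : Set (IrrCharacter C(Q))} (hf : IsPBlock M f) : IsPBlock M (conjBlock Q x f) := by
  obtain ⟨θ, rfl⟩ := hf
  exact ⟨_, conjBlock_blockOf M x Q θ⟩

section Fin

variable [Fintype G]

/-- the idempotent of the conjugate block is the conjugate of the idempotent -/
theorem sbc_conjBlock {M : Ideal AlgInt} (x : G) (Q : Subgroup G)
    {f : Set (IrrCharacter C(Q))} (hf : IsPBlock M f) :
    subgroupBlockCoeff C(cj x Q) (conjBlock Q x f) = conjF x (subgroupBlockCoeff C(Q) f) := by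
  classical
  haveI : Fintype C(Q) := Fintype.ofFinite _
  haveI : Finite (IrrCharacter C(Q)) := irr_finite
  haveI : Fintype (IrrCharacter C(Q)) := Fintype.ofFinite _
  haveI : Fintype C(cj x Q) := Fintype.ofFinite _
  haveI : Finite (IrrCharacter C(cj x Q)) := irr_finite
  haveI : Fintype (IrrCharacter C(cj x Q)) := Fintype.ofFinite _
  obtain ⟨θ, rfl⟩ := hf
  rw [conjBlock_blockOf]
  funext g
  simp only [conjF]
  by_cases hg : g ∈ C(cj x Q)
  · rw [sbc_of_mem _ _ hg, sbc_of_mem _ _ (mem_centralizer_cj_iff.1 hg),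
      blockCoeff_blockOf_irrComp M (centConj x Q) θ ⟨g, hg⟩]
    rfl
  · rw [sbc_of_not_mem _ _ hg, sbc_of_not_mem _ _ (fun h => hg (mem_centralizer_cj_iff.2 h))]

/-- the Brauer functional of a conjugate -/
theorem brauerOmega_conj (x : G) (R : Subgroup G) (β : G → ℂ) (ξ : IrrCharacter C(R)) :
    brauerOmega (cj x R) (conjF x β) (irrComp (centConj x R) ξ : C(cj x R) → ℂ)
      = brauerOmega R β (ξ : C(R) → ℂ) := by
  classical
  haveI : Finite (IrrCharacter G) := irr_finite
  haveI : Fintype (IrrCharacter G) := Fintype.ofFinite _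
  haveI : Fintype C(R) := Fintype.ofFinite _
  haveI : Fintype C(cj x R) := Fintype.ofFinite _
  rw [brauerOmega_eq_omega_rs, brauerOmega_eq_omega_rs]
  have h1 : rs C(cj x R) (conjF x β) = fun c => rs C(R) β (centConj x R c) := by
    funext c
    rfl
  rw [h1]
  exact omega_comp (centConj x R) (rs C(R) β) (ξ : C(R) → ℂ)

theorem mem_conjBlock_of_mem (x : G) (Q : Subgroup G) {f : Set (IrrCharacter C(Q))}
    {ξ : IrrCharacter C(Q)} (hξ : ξ ∈ f) : irrComp (centConj x Q) ξ ∈ conjBlock Q x f := by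
  rw [mem_conjBlock_iff, irrComp_symm_irrComp]
  exact hξ

theorem exists_of_mem_conjBlock (x : G) (Q : Subgroup G) {f : Set (IrrCharacter C(Q))}
    {ξ' : IrrCharacter C(cj x Q)} (hξ' : ξ' ∈ conjBlock Q x f) :
    ∃ ξ ∈ f, ξ' = irrComp (centConj x Q) ξ :=
  ⟨_, (mem_conjBlock_iff x Q f ξ').1 hξ', (irrComp_irrComp_symm _ _).symm⟩

theorem cj_le_normalizer_cj {x : G} {Q R : Subgroup G}
    (h : R ≤ Subgroup.normalizer (Q : Set G)) :
    cj x R ≤ Subgroup.normalizer ((cj x Q : Subgroup G) : Set G) := by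
  intro v hv
  obtain ⟨r, hr, rfl⟩ := mem_cj.1 hv
  have key : ∀ r ∈ R, ∀ w ∈ cj x Q, x * r * x⁻¹ * w * (x * r * x⁻¹)⁻¹ ∈ cj x Q := by
    intro r hr w hw
    obtain ⟨q, hq, rfl⟩ := mem_cj.1 hw
    have h1 : r * q * r⁻¹ ∈ Q := (Subgroup.mem_normalizer_iff.1 (h hr) q).1 hq
    have : x * r * x⁻¹ * (x * q * x⁻¹) * (x * r * x⁻¹)⁻¹ = x * (r * q * r⁻¹) * x⁻¹ := by group
    rw [this]
    exact conj_mem_cj h1
  rw [Subgroup.mem_normalizer_iff]
  intro w
  constructor
  · exact key r hr w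
  · intro hw
    have := key r⁻¹ (R.inv_mem hr) _ hw
    have e : x * r⁻¹ * x⁻¹ * (x * r * x⁻¹ * w * (x * r * x⁻¹)⁻¹) * (x * r⁻¹ * x⁻¹)⁻¹ = w := by group
    rwa [e] at this

/-- **Conjugation of a normal inclusion.** -/
theorem isNormalSubpair_conj {p : ℕ} [Fact p.Prime] {M : Ideal AlgInt} (hMod : IsPModular p M)
    (x : G) {Q R : Subgroup G} {f : Set (IrrCharacter C(Q))} {g : Set (IrrCharacter C(R))}
    (h : IsNormalSubpair p M Q f R g) :
    IsNormalSubpair p M (cj x Q) (conjBlock Q x f) (cj x R) (conjBlock R x g) := by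
  classical
  have hM : M.IsPrime := hMod.2.1.isPrime
  haveI : Fintype C(Q) := Fintype.ofFinite _
  haveI : Finite (IrrCharacter C(Q)) := irr_finite
  haveI : Fintype (IrrCharacter C(Q)) := Fintype.ofFinite _
  haveI : Fintype C(cj x Q) := Fintype.ofFinite _
  haveI : Finite (IrrCharacter C(cj x Q)) := irr_finite
  haveI : Fintype (IrrCharacter C(cj x Q)) := Fintype.ofFinite _
  obtain ⟨⟨hQp, hf⟩, ⟨hRp, hg⟩, hle, hN, hstab, hbr⟩ := h
  have hN' := cj_le_normalizer_cj (x := x) hN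
  refine ⟨⟨hQp.map _, isPBlock_conjBlock x Q hf⟩, ⟨hRp.map _, isPBlock_conjBlock x R hg⟩,
    Subgroup.map_mono hle, hN', fun v hv => ?_, fun ξ' hξ' => ?_⟩
  · rw [stabilizesBlock_iff C(cj x Q) hM (isPBlock_conjBlock x Q hf), sbc_conjBlock x Q hf]
    refine ⟨normalizer_le_normalizer_centralizer _ (hN' hv), fun w => ?_⟩
    obtain ⟨r, hr, rfl⟩ := mem_cj.1 hv
    have hinv := ((stabilizesBlock_iff C(Q) hM hf r).1 (hstab r hr)).2
    simp only [conjF]
    have : x⁻¹ * (x * r * x⁻¹ * w * (x * r * x⁻¹)⁻¹) * x = r * (x⁻¹ * w * x) * r⁻¹ := by group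
    rw [this, hinv]
  · obtain ⟨ξ, hξ, rfl⟩ := exists_of_mem_conjBlock x R hξ'
    rw [sbc_conjBlock x Q hf, brauerOmega_conj]
    exact hbr ξ hξ

/-- conjugation on the index type of Brauer pairs -/
def conjPair (x : G) (a : BrauerPairIdx G) : BrauerPairIdx G :=
  ⟨cj x a.1, conjBlock a.1 x a.2⟩

/-- **Conjugation of an inclusion of Brauer pairs.** -/
theorem subpairLE_conj {p : ℕ} [Fact p.Prime] {M : Ideal AlgInt} (hMod : IsPModular p M)
    (x : G) {Q R : Subgroup G} {f : Set (IrrCharacter C(Q))} {g : Set (IrrCharacter C(R))}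
    (h : SubpairLE p M Q f R g) :
    SubpairLE p M (cj x Q) (conjBlock Q x f) (cj x R) (conjBlock R x g) := by
  have key : ∀ a b : BrauerPairIdx G, Relation.ReflTransGen (NormalSubpairRel p M) a b →
      Relation.ReflTransGen (NormalSubpairRel p M) (conjPair x a) (conjPair x b) := by
    intro a b hab
    induction hab with
    | refl => exact Relation.ReflTransGen.refl
    | tail _ hbc ih =>
      exact ih.tail (isNormalSubpair_conj hMod x hbc)
  exact key ⟨Q, f⟩ ⟨R, g⟩ h

/-- a conjugate of a Brauer pair of `B` is a Brauer pair of `B` -/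
theorem isBrauerPairOf_conj {p : ℕ} [Fact p.Prime] {M : Ideal AlgInt} (x : G)
    {B : Set (IrrCharacter G)} {Q : Subgroup G} {f : Set (IrrCharacter C(Q))}
    (h : IsBrauerPairOf p M B Q f) : IsBrauerPairOf p M B (cj x Q) (conjBlock Q x f) := by
  classical
  haveI : Finite (IrrCharacter G) := irr_finite
  haveI : Fintype (IrrCharacter G) := Fintype.ofFinite _
  obtain ⟨⟨hQp, hf⟩, hB, hbr⟩ := h
  refine ⟨⟨hQp.map _, isPBlock_conjBlock x Q hf⟩, hB, fun ξ' hξ' => ?_⟩
  obtain ⟨ξ, hξ, rfl⟩ := exists_of_mem_conjBlock x Q hξ'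
  have hcl : conjF x (blockCoeff B) = blockCoeff B := by
    funext w
    simp only [conjF]
    have := blockCoeff_isClassFunction B w x⁻¹
    rw [inv_inv] at this
    exact this
  rw [← hcl, brauerOmega_conj]
  exact hbr ξ hξ

/-- equality of Brauer pairs from equality of the subgroups and of the idempotents -/
theorem pair_eq_of_sbc_eq {M : Ideal AlgInt} (hM : M.IsPrime) {R P : Subgroup G} (hRP : R = P)
    {g : Set (IrrCharacter C(R))} {e : Set (IrrCharacter C(P))} (hg : IsPBlock M g)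
    (he : IsPBlock M e) (h : subgroupBlockCoeff C(R) g = subgroupBlockCoeff C(P) e) :
    (⟨R, g⟩ : BrauerPairIdx G) = ⟨P, e⟩ := by
  subst hRP
  haveI : Finite (IrrCharacter G) := irr_finite
  haveI : Fintype (IrrCharacter G) := Fintype.ofFinite _
  haveI : Fintype C(R) := Fintype.ofFinite _
  haveI : Finite (IrrCharacter C(R)) := irr_finite
  haveI : Fintype (IrrCharacter C(R)) := Fintype.ofFinite _
  have := sbc_injective_on_blocks hM hg he h
  rw [this]

end Fin

end Cfsg.Agent.Lib.Helper81
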