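import Mathlib
import Cfsg.Prelude.Def_BrauerPairs
import Cfsg.Agent.Lib.Helper81.BPStab
import Cfsg.Agent.Lib.Helper81.BPUnique
import Cfsg.Agent.Lib.Helper81.ThirdMain
import Cfsg.Agent.Lib.Helper81.Cores
import Cfsg.Agent.S0919
import Cfsg.Agent.S0912
import Cfsg.Agent.S0920
import Cfsg.Agent.S4658

set_option autoImplicit false
set_option linter.unusedSectionVars false
set_option linter.style.haveILetI false

/-!
# Maximal Brauer pairs and defect groups
-/

namespace Cfsg.Agent.Lib.Helper81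

open Cfsg
open Cfsg.Agent.Lib.Helper21 Cfsg.Agent.Lib.Helper82 Cfsg.Agent.Lib.Helper83

universe u
variable {G : Type u} [Group G] [Fintype G]

local notation "C(" R ")" => Subgroup.centralizer ((R : Subgroup G) : Set G)

section

variable [Fintype (IrrCharacter G)] {p : ℕ} [Fact p.Prime] {M : Ideal AlgInt}
variable {P H : Subgroup G} [Fintype H] [Fintype (IrrCharacter H)]
  [Fintype (Subgroup.centralizer (P : Set G))]
  [Fintype (IrrCharacter (Subgroup.centralizer (P : Set G)))]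

/-- the Brauer functional on the class functions of `H` -/
theorem isModHom_brauerH (hMod : IsPModular p M) (hP : IsPGroup p P) (hPH : P ≤ H)
    (hCH : C(P) ≤ H) (ξ₀ : IrrCharacter C(P)) :
    IsModHom M (fun F : H → ℂ => omega (rs C(P) (ext0 H F)) (ξ₀ : C(P) → ℂ)) := by
  have hM : M.IsPrime := hMod.2.1.isPrime
  refine ⟨fun f h => ?_, fun c f => ?_, ?_, fun f hf => ?_, fun f h hf hh => ?_⟩
  · show omega (rs C(P) (ext0 H (f + h))) (ξ₀ : C(P) → ℂ) = _
    rw [ext0_add', rs_add', omega_add]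
  · show omega (rs C(P) (ext0 H (c • f))) (ξ₀ : C(P) → ℂ) = _
    rw [ext0_smul', rs_smul', omega_smul]
  · show omega (rs C(P) (ext0 H (deltaOne : H → ℂ))) (ξ₀ : C(P) → ℂ) = 1
    rw [ext0_deltaOne, rs_deltaOne, omega_deltaOne]
  · show MemLocalRing M (omega (rs C(P) (ext0 H f)) (ξ₀ : C(P) → ℂ))
    apply memLocalRing_omega hM (rs_isClassFunction (conjInv_ext0_of_le hCH hf.1))
    intro x
    rw [rs_apply]
    by_cases hx : (x : G) ∈ H
    · rw [ext0_of_mem H _ hx]; exact hf.2 _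
    · rw [ext0_of_not_mem H _ hx]; exact memLocalRing_zero hM
  · show MemLocalIdeal M (omega (rs C(P) (ext0 H (conv f h))) (ξ₀ : C(P) → ℂ)
      - omega (rs C(P) (ext0 H f)) (ξ₀ : C(P) → ℂ) * omega (rs C(P) (ext0 H h)) (ξ₀ : C(P) → ℂ))
    have e1 : ext0 H (conv f h) = conv (ext0 H f) (ext0 H h) := (gconv_ext0 H f h).symm
    rw [e1]
    have hR : ∀ {F : H → ℂ}, IsRClass M F → ∀ g, MemLocalRing M (ext0 H F g) := by
      intro F hF g
      by_cases hg : g ∈ H
      · rw [ext0_of_mem H _ hg]; exact hF.2 _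
      · rw [ext0_of_not_mem H _ hg]; exact memLocalRing_zero hM
    exact omega_rs_conv hMod P hP (conjInv_ext0_of_le hPH hf.1) (conjInv_ext0_of_le hPH hh.1)
      (conjInv_ext0_of_le hCH hf.1) (conjInv_ext0_of_le hCH hh.1) (hR hf) (hR hh) ξ₀

/-- the central characters of the orbit sum block are the Brauer functionals of the block of the
centralizer -/
theorem omega_orbitBlock_congr (hMod : IsPModular p M) (hP : IsPGroup p P) (hPH : P ≤ H)
    (hCH : C(P) ≤ H) (hHN : H ≤ Subgroup.normalizer (P : Set G))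
    {e : Set (IrrCharacter C(P))} (he : IsPBlock M e) {b' : Set (IrrCharacter H)}
    (hb' : IsPBlock M b')
    (hb'c : ∀ h : H, blockCoeff b' h = orbitSum H (subgroupBlockCoeff C(P) e) h)
    {ψ : IrrCharacter H} (hψ : ψ ∈ b') {ξ : IrrCharacter C(P)} (hξ : ξ ∈ e)
    {F : H → ℂ} (hF : IsRClass M F) :
    MemLocalIdeal M (omega (rs C(P) (ext0 H F)) (ξ : C(P) → ℂ) - omega F (ψ : H → ℂ)) := by
  classical
  have hM : M.IsPrime := hMod.2.1.isPrime
  obtain ⟨ψ₁, hψ₁⟩ := exists_irr_of_isModHom hM (isModHom_brauerH hMod hP hPH hCH ξ)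
  obtain ⟨ψ₀, hψ₀⟩ := id hb'
  have hbR : IsRClass M (blockCoeff b') := hψ₀ ▸ blockCoeff_isRClass hM ψ₀
  have h1 : MemLocalIdeal M (omega (rs C(P) (ext0 H (blockCoeff b'))) (ξ : C(P) → ℂ)
      - omega (blockCoeff b') (ψ₁ : H → ℂ)) := hψ₁ _ hbR
  have hext : ext0 H (blockCoeff b') = orbitSum H (subgroupBlockCoeff C(P) e) := by
    funext g
    by_cases hg : g ∈ H
    · rw [ext0_of_mem H _ hg, hb'c]
    · rw [ext0_of_not_mem H _ hg]
      exact (orbitSum_of_not_mem hHN he (fun h => hg (hCH h))).symm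
  rw [hext, omega_orbitSum hM hHN he, if_pos ⟨e, he, hξ, self_mem_orbitIdems H _⟩,
    omega_blockCoeff] at h1
  have hψ₁b : ψ₁ ∈ b' := by
    by_contra hno
    rw [if_neg hno, sub_zero] at h1
    exact not_memLocalIdeal_one hM h1
  have h2 : MemLocalIdeal M (omega (rs C(P) (ext0 H F)) (ξ : C(P) → ℂ)
      - omega F (ψ₁ : H → ℂ)) := hψ₁ F hF
  have h3 := omega_sub_memLocalIdeal hM hF.1 hF.2 (IsPBlock.sameBlock hM hb' hψ₁b hψ)
  have := memLocalIdeal_add hM h2 h3
  convert this using 1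
  ring

end

section Normalizer

variable [Fintype (IrrCharacter G)] {p : ℕ} [Fact p.Prime] {M : Ideal AlgInt}
variable {P : Subgroup G} [Fintype (Subgroup.normalizer (P : Set G))]
  [Fintype (IrrCharacter (Subgroup.normalizer (P : Set G)))]
  [Fintype (Subgroup.centralizer (P : Set G))]
  [Fintype (IrrCharacter (Subgroup.centralizer (P : Set G)))]

local notation "N(" R ")" => Subgroup.normalizer ((R : Subgroup G) : Set G)

/-- **Step A.** The orbit sum block of `N_G(P)` attached to a Brauer pair `(P, e)` of `B`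
induces `B`. -/
theorem isInducedBlock_orbitBlock (hMod : IsPModular p M)
    {e : Set (IrrCharacter C(P))} {B : Set (IrrCharacter G)}
    (hBe : IsBrauerPairOf p M B P e) {b' : Set (IrrCharacter N(P))} (hb' : IsPBlock M b')
    (hb'c : ∀ h : N(P), blockCoeff b' h = orbitSum N(P) (subgroupBlockCoeff C(P) e) h) :
    IsInducedBlock M N(P) b' B := by
  classical
  have hM : M.IsPrime := hMod.2.1.isPrime
  obtain ⟨⟨hP, he⟩, hB, hbr⟩ := hBe
  have hPH : P ≤ N(P) := Subgroup.le_normalizer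
  have hCH : C(P) ≤ N(P) := Subgroup.centralizer_le_normalizer _
  obtain ⟨B', hind⟩ := Cfsg.Agent.S0919.result p M hMod P N(P) hP hPH hCH le_rfl b' hb'
  obtain ⟨χ', hχ'⟩ := IsPBlock.nonempty hM hind.2.1
  obtain ⟨ψ, hψ⟩ := IsPBlock.nonempty hM hb'
  obtain ⟨ξ₀, hξ₀⟩ := IsPBlock.nonempty hM he
  obtain ⟨χ₀, hχ₀⟩ := id hB
  have hBR : IsRClass M (blockCoeff B) := hχ₀ ▸ blockCoeff_isRClass hM χ₀
  have h1 := omega_restrict_sub_omega N(P) hM hind hψ hχ' hBR
  have hFR : IsRClass M (fun h : N(P) => blockCoeff B (h : G)) :=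
    ⟨fun g t => hBR.1 (g : G) (t : G), fun g => hBR.2 g⟩
  have h2 := omega_orbitBlock_congr hMod hP hPH hCH le_rfl he hb' hb'c hψ hξ₀ hFR
  have e1 : rs C(P) (ext0 N(P) (fun h : N(P) => blockCoeff B (h : G))) = rs C(P) (blockCoeff B) := by
    funext c
    rw [rs_apply, rs_apply, ext0_of_mem _ _ (hCH c.2)]
  rw [e1] at h2
  have h3 := hbr ξ₀ hξ₀
  rw [brauerOmega_eq_omega_rs] at h3
  rw [omega_blockCoeff] at h1
  have hχB : χ' ∈ B := by
    by_contra hno
    rw [if_neg hno, sub_zero] at h1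
    have h4 := memLocalIdeal_add hM h2 h1
    rw [sub_add_cancel] at h4
    have h5 := memLocalIdeal_sub hM h4 h3
    rw [sub_sub_cancel] at h5
    exact not_memLocalIdeal_one hM h5
  have : B' = B := by
    rw [IsPBlock.eq_blockOf hM hind.2.1 hχ', IsPBlock.eq_blockOf hM hB hχB]
  rw [← this]
  exact hind

end Normalizer

section Counting

variable {p : ℕ} [Fact p.Prime] {M : Ideal AlgInt}

/-- orbit counting for a `p`-subgroup `E ≤ H` acting on the `H`-orbit of a function: if the orbit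
sum is not in the local ideal at an element centralizing `E`, some member of the orbit is fixed by
`E` and is not in the local ideal there -/
theorem exists_fixed_conjF (hMod : IsPModular p M) {E H : Subgroup G} [Fintype H]
    (hE : IsPGroup p E) (hEH : E ≤ H) (ε : G → ℂ)
    (hεR : ∀ β ∈ orbitIdems H ε, ∀ g, MemLocalRing M (β g)) {c : G} (hc : c ∈ C(E))
    (hne : ¬ MemLocalIdeal M (orbitSum H ε c)) :
    ∃ x ∈ H, (∀ u ∈ E, conjF (x⁻¹ * u * x) ε = ε) ∧ ¬ MemLocalIdeal M (ε (x⁻¹ * c * x)) := by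
  classical
  have hM : M.IsPrime := hMod.2.1.isPrime
  set 𝔖 : Finset (G → ℂ) := orbitIdems H ε with h𝔖
  letI act : MulAction E {β // β ∈ 𝔖} :=
    { smul := fun u b => ⟨conjF (u : G) b.1, conjF_mem_orbitIdems (hEH u.2) b.2⟩
      one_smul := fun b => Subtype.ext (conjF_one b.1)
      mul_smul := fun u v b => Subtype.ext (conjF_mul (u : G) (v : G) b.1) }
  have hsmul : ∀ (u : E) (b : {β // β ∈ 𝔖}),
      ((u • b : {β // β ∈ 𝔖}) : G → ℂ) = conjF (u : G) b.1 := fun _ _ => rfl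
  set F : {β // β ∈ 𝔖} → ℂ := fun b => b.1 c with hF
  have hFinv : ∀ (u : E) (b : {β // β ∈ 𝔖}), F (u • b) = F b := by
    intro u b
    simp only [hF]
    rw [hsmul]
    simp only [conjF]
    have h1 := Subgroup.mem_centralizer_iff.1 hc (u : G) u.2
    have : (u : G)⁻¹ * c * u = c := by
      rw [mul_assoc, ← h1]; group
    rw [this]
  have hFR : ∀ b, MemLocalRing M (F b) := fun b => hεR b.1 b.2 c
  have hcount := sum_sub_sum_fixed_memLocalIdeal hMod hE F hFinv hFR
  have hsum : ∑ b, F b = orbitSum H ε c := by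
    rw [orbitSum_apply]
    exact Finset.sum_coe_sort 𝔖 (fun β => β c)
  have hex : ∃ b ∈ Finset.univ.filter (· ∈ MulAction.fixedPoints E {β // β ∈ 𝔖}),
      ¬ MemLocalIdeal M (F b) := by
    by_contra hcon
    push Not at hcon
    have h1 : MemLocalIdeal M
        (∑ b ∈ Finset.univ.filter (· ∈ MulAction.fixedPoints E {β // β ∈ 𝔖}), F b) :=
      memLocalIdeal_sum hM _ _ hcon
    have h2 := memLocalIdeal_add hM hcount h1
    rw [sub_add_cancel, hsum] at h2
    exact hne h2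
  obtain ⟨b, hb, hbJ⟩ := hex
  have hbfix := MulAction.mem_fixedPoints.1 (Finset.mem_filter.1 hb).2
  obtain ⟨x, hx, hbx⟩ := mem_orbitIdems.1 b.2
  refine ⟨x, hx, fun u hu => ?_, ?_⟩
  · have h1 := congrArg Subtype.val (hbfix ⟨u, hu⟩)
    rw [hsmul, hbx] at h1
    -- `conjF u (conjF x ε) = conjF x ε`
    have h2 : conjF (x⁻¹ * u * x) ε = conjF x⁻¹ (conjF u (conjF x ε)) := by
      rw [← conjF_mul, ← conjF_mul, mul_assoc]
    rw [h2, h1, conjF_inv_conjF]
  · have : F b = ε (x⁻¹ * c * x) := by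
      simp only [hF]
      rw [hbx]
      rfl
    rw [← this]
    exact hbJ

end Counting

section StepB

variable [Fintype (IrrCharacter G)] {p : ℕ} [Fact p.Prime] {M : Ideal AlgInt}
variable {P : Subgroup G} [Fintype (Subgroup.normalizer (P : Set G))]
  [Fintype (IrrCharacter (Subgroup.normalizer (P : Set G)))]
  [Fintype (Subgroup.centralizer (P : Set G))]
  [Fintype (IrrCharacter (Subgroup.centralizer (P : Set G)))]

local notation "N(" R ")" => Subgroup.normalizer ((R : Subgroup G) : Set G)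

/-- **Step B.** For a maximal Brauer pair `(P, e)`, the orbit sum block of `N_G(P)` has defect
group `P`. -/
theorem isDefectGroup_orbitBlock (hMod : IsPModular p M)
    {e : Set (IrrCharacter C(P))} {B : Set (IrrCharacter G)}
    (hmax : IsMaximalBrauerPair p M B P e) {b' : Set (IrrCharacter N(P))} (hb' : IsPBlock M b')
    (hb'c : ∀ h : N(P), blockCoeff b' h = orbitSum N(P) (subgroupBlockCoeff C(P) e) h) :
    IsDefectGroup p M b' (P.subgroupOf N(P)) := by
  classical
  have hM : M.IsPrime := hMod.2.1.isPrime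
  obtain ⟨hBe, hmaxi⟩ := hmax
  obtain ⟨⟨hP, he⟩, hB, hbr⟩ := id hBe
  have hPH : P ≤ N(P) := Subgroup.le_normalizer
  have hCH : C(P) ≤ N(P) := Subgroup.centralizer_le_normalizer _
  set ε : G → ℂ := subgroupBlockCoeff C(P) e with hε
  -- a defect class and a defect group of `b'`
  obtain ⟨ψ₀, hψ₀⟩ := id hb'
  obtain ⟨g₀, hg₀⟩ := exists_isDefectClass hM ψ₀
  rw [← hψ₀] at hg₀
  obtain ⟨S⟩ : Nonempty (Sylow p (Subgroup.centralizer ({g₀} : Set N(P)))) := inferInstance
  set D' : Subgroup N(P) :=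
    (S : Subgroup (Subgroup.centralizer ({g₀} : Set N(P)))).map
      (Subgroup.centralizer ({g₀} : Set N(P))).subtype with hD'def
  have hD' : IsDefectGroup p M b' D' := ⟨g₀, hg₀, S, rfl⟩
  haveI : (P.subgroupOf N(P)).Normal := Subgroup.normal_subgroupOf_of_le_normalizer le_rfl
  have hP' : IsPGroup p (P.subgroupOf N(P)) := hP.comap_subtype
  have hle1 : P.subgroupOf N(P) ≤ D' :=
    (le_pCore inferInstance hP').trans (Cfsg.Agent.S0912.result p M hMod b' hb' D' hD')
  have hle2 : D' ≤ P.subgroupOf N(P) := by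
    by_contra hnot
    set E : Subgroup G := D'.map (N(P)).subtype with hEdef
    have hEN : E ≤ N(P) := by
      rintro _ ⟨d, -, rfl⟩
      exact d.2
    have hEp : IsPGroup p E := (S.isPGroup'.map _).map _
    have hPE : P ≤ E := fun q hq =>
      ⟨⟨q, hPH hq⟩, hle1 (Subgroup.mem_subgroupOf.2 hq), rfl⟩
    have hcE : (g₀ : G) ∈ C(E) := by
      rw [Subgroup.mem_centralizer_iff]
      rintro _ ⟨d, hd, rfl⟩
      obtain ⟨s, -, rfl⟩ := hd
      have h1 := Subgroup.mem_centralizer_iff.1 s.2 g₀ (Set.mem_singleton g₀)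
      exact (congrArg Subtype.val h1).symm
    have hne : ¬ MemLocalIdeal M (orbitSum N(P) ε (g₀ : G)) := by
      rw [← hb'c]; exact hg₀.2.1
    have hεR : ∀ β ∈ orbitIdems N(P) ε, ∀ g, MemLocalRing M (β g) := by
      intro β hβ g
      obtain ⟨f, hf, rfl⟩ := exists_block_of_mem_orbitIdems le_rfl he hβ
      exact sbc_memLocalRing _ hM hf g
    obtain ⟨x, hx, hfix, hxJ⟩ := exists_fixed_conjF hMod hEp hEN ε hεR hcE hne
    set E₀ : Subgroup G := E.map (MulAut.conj x⁻¹).toMonoidHom with hE₀def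
    have hmemE₀ : ∀ v, v ∈ E₀ ↔ ∃ u ∈ E, v = x⁻¹ * u * x := by
      intro v
      rw [hE₀def, Subgroup.mem_map]
      constructor
      · rintro ⟨u, hu, rfl⟩
        exact ⟨u, hu, by simp⟩
      · rintro ⟨u, hu, rfl⟩
        exact ⟨u, hu, by simp⟩
    have hE₀p : IsPGroup p E₀ := hEp.map _
    have hE₀N : E₀ ≤ N(P) := by
      intro v hv
      obtain ⟨u, hu, rfl⟩ := (hmemE₀ v).1 hv
      exact (N(P)).mul_mem ((N(P)).mul_mem ((N(P)).inv_mem hx) (hEN hu)) hx
    have hPE₀ : P ≤ E₀ := by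
      intro q hq
      rw [hmemE₀]
      exact ⟨x * q * x⁻¹, hPE ((Subgroup.mem_normalizer_iff.1 hx q).1 hq), by group⟩
    have hεE₀ : ConjInv E₀ ε := by
      intro v hv g
      obtain ⟨u, hu, rfl⟩ := (hmemE₀ v).1 hv
      exact (conjF_eq_self_iff _ ε).1 (hfix u hu) g
    have hc₀ : x⁻¹ * (g₀ : G) * x ∈ C(E₀) := by
      rw [Subgroup.mem_centralizer_iff]
      intro v hv
      obtain ⟨u, hu, rfl⟩ := (hmemE₀ v).1 hv
      have h1 := Subgroup.mem_centralizer_iff.1 hcE u hu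
      calc x⁻¹ * u * x * (x⁻¹ * (g₀ : G) * x) = x⁻¹ * (u * (g₀ : G)) * x := by group
        _ = x⁻¹ * ((g₀ : G) * u) * x := by rw [h1]
        _ = x⁻¹ * (g₀ : G) * x * (x⁻¹ * u * x) := by group
    have hCC₀ : C(E₀) ≤ C(P) := Subgroup.centralizer_le hPE₀
    haveI : Fintype C(E₀) := Fintype.ofFinite _
    haveI : Finite (IrrCharacter C(E₀)) := irr_finite
    haveI : Fintype (IrrCharacter C(E₀)) := Fintype.ofFinite _
    have hεR' : ∀ g, MemLocalRing M (ε g) := sbc_memLocalRing _ hM he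
    have hεC₀ : ConjInv C(E₀) ε := (sbc_conjInv_self C(P) e).mono hCC₀
    set a : C(E₀) → ℂ := rs C(E₀) ε with ha_def
    have ha : IsRClass M a := ⟨rs_isClassFunction hεC₀, fun z => hεR' z⟩
    have hid : ∀ z, MemLocalIdeal M (a z - conv a a z) := by
      intro z
      have := brauer_mul hMod E₀ hE₀p hεE₀ hεE₀ hεR' hεR' z
      rw [hε, conv_sbc_self] at this
      exact this
    obtain ⟨ξ', hξ'⟩ := exists_omega_sub_one hM ha hid ⟨⟨_, hc₀⟩, hxJ⟩
    have hg₁ : IsPBlock M (blockOf M (ξ' : C(E₀) → ℂ)) := ⟨ξ', rfl⟩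
    have hnorm : IsNormalSubpair p M P e E₀ (blockOf M (ξ' : C(E₀) → ℂ)) := by
      refine ⟨⟨hP, he⟩, ⟨hE₀p, hg₁⟩, hPE₀, hE₀N, fun v hv => ?_, fun ξ'' hξ'' => ?_⟩
      · rw [stabilizesBlock_iff C(P) hM he]
        exact ⟨normalizer_le_normalizer_centralizer P (hE₀N hv), hεE₀ v hv⟩
      · have h4 := brauerOmega_sub_of_mem_block hM E₀ hg₁ hεR' hεC₀ (mem_blockOf_self hM ξ') hξ''
        have h5 : brauerOmega E₀ ε (ξ' : C(E₀) → ℂ) = omega a (ξ' : C(E₀) → ℂ) :=
          brauerOmega_eq_omega_rs E₀ ε _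
        rw [h5] at h4
        have := memLocalIdeal_add hM h4 hξ'
        convert this using 1
        ring
    have hle : SubpairLE p M P e E₀ (blockOf M (ξ' : C(E₀) → ℂ)) :=
      Relation.ReflTransGen.single hnorm
    have hpair : IsBrauerPairOf p M B E₀ (blockOf M (ξ' : C(E₀) → ℂ)) :=
      (Cfsg.Agent.S4658.result p M hMod E₀ P _ e ⟨hE₀p, hg₁⟩ ⟨hP, he⟩ hle B hB).2 hBe
    have hEq : E₀ = P := hmaxi E₀ _ hpair hle
    apply hnot
    intro d hd
    rw [Subgroup.mem_subgroupOf]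
    have h5 : x⁻¹ * (d : G) * x ∈ E₀ := (hmemE₀ _).2 ⟨d, ⟨d, hd, rfl⟩, rfl⟩
    rw [hEq] at h5
    have h6 := (Subgroup.mem_normalizer_iff.1 ((N(P)).inv_mem hx) (d : G)).2
    rw [inv_inv] at h6
    exact h6 h5
  have hDeq : D' = P.subgroupOf N(P) := le_antisymm hle2 hle1
  rw [← hDeq]
  exact hD'

end StepB

end Cfsg.Agent.Lib.Helper81
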