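import Mathlib
import Cfsg.Prelude.Def_BrauerPairs
import Cfsg.Agent.Lib.Helper81.BPMax
import Cfsg.Agent.Lib.Helper81.BPConj
import Cfsg.Agent.Lib.Helper22.DefectConj
import Cfsg.Agent.S0917
import Cfsg.Agent.S4659

set_option autoImplicit false
set_option linter.unusedSectionVars false
set_option linter.style.haveILetI false

/-!
# Sylow theory of Brauer pairs: every Brauer pair of `B` is conjugate into a given maximal pair
-/

namespace Cfsg.Agent.Lib.Helper81

open Cfsg
open Cfsg.Agent.Lib.Helper21 Cfsg.Agent.Lib.Helper82 Cfsg.Agent.Lib.Helper83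

universe u
variable {G : Type u} [Group G] [Fintype G]

local notation "C(" R ")" => Subgroup.centralizer ((R : Subgroup G) : Set G)
local notation "N(" R ")" => Subgroup.normalizer ((R : Subgroup G) : Set G)

section Above

variable {p : ℕ} [Fact p.Prime] {M : Ideal AlgInt}

/-- every Brauer pair of `B` lies below a maximal Brauer pair of `B` -/
theorem exists_maximal_above_aux (hMod : IsPModular p M) {B : Set (IrrCharacter G)} :
    ∀ n : ℕ, ∀ (Q : Subgroup G) (f : Set (IrrCharacter C(Q))), IsBrauerPairOf p M B Q f →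
      Nat.card G - Nat.card Q ≤ n →
      ∃ (P₂ : Subgroup G) (e₂ : Set (IrrCharacter C(P₂))),
        IsMaximalBrauerPair p M B P₂ e₂ ∧ SubpairLE p M Q f P₂ e₂ := by
  intro n
  induction n with
  | zero =>
    intro Q f hQf hn
    by_cases hmax : IsMaximalBrauerPair p M B Q f
    · exact ⟨Q, f, hmax, Relation.ReflTransGen.refl⟩
    · exfalso
      apply hmax
      refine ⟨hQf, fun R g hRg hle => ?_⟩
      by_contra hne
      have hQR : Q ≤ R := subpairLE_le hMod hle hQf.1.2
      have hlt : Q < R := lt_of_le_of_ne hQR (fun h => hne h.symm)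
      have h1 := card_lt_card_of_lt hlt
      have h2 : Nat.card R ≤ Nat.card G := Subgroup.card_le_card_group R
      omega
  | succ n ih =>
    intro Q f hQf hn
    by_cases hmax : IsMaximalBrauerPair p M B Q f
    · exact ⟨Q, f, hmax, Relation.ReflTransGen.refl⟩
    · have : ∃ (R : Subgroup G) (g : Set (IrrCharacter C(R))),
          IsBrauerPairOf p M B R g ∧ SubpairLE p M Q f R g ∧ R ≠ Q := by
        by_contra hno
        apply hmax
        refine ⟨hQf, fun R g hRg hle => ?_⟩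
        by_contra hne
        exact hno ⟨R, g, hRg, hle, hne⟩
      obtain ⟨R, g, hRg, hle, hne⟩ := this
      have hQR : Q ≤ R := subpairLE_le hMod hle hQf.1.2
      have hlt : Q < R := lt_of_le_of_ne hQR (fun h => hne h.symm)
      have h1 := card_lt_card_of_lt hlt
      have h2 : Nat.card R ≤ Nat.card G := Subgroup.card_le_card_group R
      obtain ⟨P₂, e₂, hmax₂, hle₂⟩ := ih R g hRg (by omega)
      exact ⟨P₂, e₂, hmax₂, Relation.ReflTransGen.trans hle hle₂⟩

theorem exists_maximal_above (hMod : IsPModular p M) {B : Set (IrrCharacter G)}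
    {Q : Subgroup G} {f : Set (IrrCharacter C(Q))} (hQf : IsBrauerPairOf p M B Q f) :
    ∃ (P₂ : Subgroup G) (e₂ : Set (IrrCharacter C(P₂))),
      IsMaximalBrauerPair p M B P₂ e₂ ∧ SubpairLE p M Q f P₂ e₂ :=
  exists_maximal_above_aux hMod _ Q f hQf le_rfl

end Above

section StepB'

variable [Fintype (IrrCharacter G)] {p : ℕ} [Fact p.Prime] {M : Ideal AlgInt}
variable {P : Subgroup G} [Fintype (Subgroup.normalizer (P : Set G))]
  [Fintype (IrrCharacter (Subgroup.normalizer (P : Set G)))]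
  [Fintype (Subgroup.centralizer (P : Set G))]
  [Fintype (IrrCharacter (Subgroup.centralizer (P : Set G)))]

/-- **Step B'.** For a Brauer pair `(P, e)` of `B` with `P` a defect group of `B`, the orbit sum
block of `N_G(P)` has defect group `P`. -/
theorem isDefectGroup_orbitBlock_of_defect (hMod : IsPModular p M)
    {e : Set (IrrCharacter C(P))} {B : Set (IrrCharacter G)}
    (hBe : IsBrauerPairOf p M B P e) (hPD : IsDefectGroup p M B P)
    {b' : Set (IrrCharacter N(P))} (hb' : IsPBlock M b')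
    (hb'c : ∀ h : N(P), blockCoeff b' h = orbitSum N(P) (subgroupBlockCoeff C(P) e) h) :
    IsDefectGroup p M b' (P.subgroupOf N(P)) := by
  classical
  have hM : M.IsPrime := hMod.2.1.isPrime
  obtain ⟨⟨hP, he⟩, hB, hbr⟩ := id hBe
  have hPH : P ≤ N(P) := Subgroup.le_normalizer
  obtain ⟨ψ₀, hψ₀⟩ := id hb'
  obtain ⟨g₀, hg₀⟩ := exists_isDefectClass hM ψ₀
  rw [← hψ₀] at hg₀
  obtain ⟨S⟩ : Nonempty (Sylow p (Subgroup.centralizer ({g₀} : Set N(P)))) := inferInstance
  set D' : Subgroup N(P) :=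
    (S : Subgroup (Subgroup.centralizer ({g₀} : Set N(P)))).map
      (Subgroup.centralizer ({g₀} : Set N(P))).subtype with hD'def
  have hD' : IsDefectGroup p M b' D' := ⟨g₀, hg₀, S, rfl⟩
  haveI : (P.subgroupOf N(P)).Normal := Subgroup.normal_subgroupOf_of_le_normalizer le_rfl
  have hP' : IsPGroup p (P.subgroupOf N(P)) := hP.comap_subtype
  have hle1 : P.subgroupOf N(P) ≤ D' :=
    (le_pCore inferInstance hP').trans (Cfsg.Agent.S0912.result p M hMod b' hb' D' hD')
  have hind := isInducedBlock_orbitBlock hMod hBe hb' hb'c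
  obtain ⟨E, hE, hDE⟩ := Cfsg.Agent.S0917.result p M hMod N(P) b' hb' B hB hind D' hD'
  have hcE := Cfsg.Agent.Lib.Helper22.IsDefectGroup.card_eq hMod hB hE
  have hcP := Cfsg.Agent.Lib.Helper22.IsDefectGroup.card_eq hMod hB hPD
  have hc1 : Nat.card (D'.map (N(P)).subtype) = Nat.card D' :=
    Subgroup.card_map_of_injective (N(P)).subtype_injective
  have hc2 : Nat.card (D'.map (N(P)).subtype) ≤ Nat.card E := Subgroup.card_le_of_le hDE
  have hc3 : Nat.card (P.subgroupOf N(P)) = Nat.card P :=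
    Nat.card_congr (Subgroup.subgroupOfEquivOfLe hPH).toEquiv
  have hDeq : P.subgroupOf N(P) = D' := by
    apply Subgroup.eq_of_le_of_card_ge hle1
    rw [hc3, hcP, ← hcE, ← hc1]
    exact hc2
  rw [hDeq]
  exact hD'

/-- two Brauer pairs of `B` on the same defect group `P` are conjugate under `N_G(P)` -/
theorem exists_normalizer_conj (hMod : IsPModular p M)
    {e e₃ : Set (IrrCharacter C(P))} {B : Set (IrrCharacter G)}
    (hBe : IsBrauerPairOf p M B P e) (hBe₃ : IsBrauerPairOf p M B P e₃)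
    (hPD : IsDefectGroup p M B P) :
    ∃ n ∈ N(P), subgroupBlockCoeff C(P) e₃ = conjF n (subgroupBlockCoeff C(P) e) := by
  classical
  have hM : M.IsPrime := hMod.2.1.isPrime
  obtain ⟨⟨hP, he⟩, hB, hbr⟩ := id hBe
  obtain ⟨⟨-, he₃⟩, -, hbr₃⟩ := id hBe₃
  have hPH : P ≤ N(P) := Subgroup.le_normalizer
  have hCH : C(P) ≤ N(P) := Subgroup.centralizer_le_normalizer _
  obtain ⟨b₁, hb₁, hb₁c⟩ := exists_block_orbitSum hMod hP hPH hCH le_rfl he (H := N(P))
  obtain ⟨b₃, hb₃, hb₃c⟩ := exists_block_orbitSum hMod hP hPH hCH le_rfl he₃ (H := N(P))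
  have hind₁ := isInducedBlock_orbitBlock hMod hBe hb₁ hb₁c
  have hind₃ := isInducedBlock_orbitBlock hMod hBe₃ hb₃ hb₃c
  have hdef₁ := isDefectGroup_orbitBlock_of_defect hMod hBe hPD hb₁ hb₁c
  have hdef₃ := isDefectGroup_orbitBlock_of_defect hMod hBe₃ hPD hb₃ hb₃c
  obtain ⟨b, -, huniq⟩ := (Cfsg.Agent.S0920.result p M hMod P hP).2 B hB hPD
  have hbb : b₃ = b₁ := (huniq b₃ ⟨hb₃, hdef₃, hind₃⟩).trans (huniq b₁ ⟨hb₁, hdef₁, hind₁⟩).symm
  -- the orbit sums agree on `C_G(P)`
  have hrs : rs C(P) (orbitSum N(P) (subgroupBlockCoeff C(P) e₃))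
      = rs C(P) (orbitSum N(P) (subgroupBlockCoeff C(P) e)) := by
    funext c
    rw [rs_apply, rs_apply]
    have h1 := hb₃c ⟨c, hCH c.2⟩
    have h2 := hb₁c ⟨c, hCH c.2⟩
    rw [hbb] at h1
    exact h1.symm.trans h2
  obtain ⟨ξ, hξ⟩ := IsPBlock.nonempty hM he₃
  have h3 := omega_orbitSum hM (le_rfl : N(P) ≤ N(P)) he₃ ξ
  rw [if_pos ⟨e₃, he₃, hξ, self_mem_orbitIdems _ _⟩] at h3
  have h1 := omega_orbitSum hM (le_rfl : N(P) ≤ N(P)) he ξ
  rw [← hrs, h3] at h1
  have hex : ∃ f : Set (IrrCharacter C(P)), IsPBlock M f ∧ ξ ∈ f ∧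
      subgroupBlockCoeff C(P) f ∈ orbitIdems N(P) (subgroupBlockCoeff C(P) e) := by
    by_contra hno
    rw [if_neg hno] at h1
    exact one_ne_zero h1
  obtain ⟨f, hf, hξf, hmem⟩ := hex
  have hfe : f = e₃ := by
    rw [IsPBlock.eq_blockOf hM hf hξf, IsPBlock.eq_blockOf hM he₃ hξ]
  rw [hfe] at hmem
  obtain ⟨n, hn, hn'⟩ := mem_orbitIdems.1 hmem
  exact ⟨n, hn, hn'⟩

end StepB'

section Main

variable {p : ℕ} [Fact p.Prime] {M : Ideal AlgInt}

/-- conjugating by an element of the normalizer does not move the subgroup -/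
theorem cj_eq_of_mem_normalizer {n : G} {P : Subgroup G} (hn : n ∈ N(P)) : cj n P = P := by
  ext v
  rw [mem_cj]
  constructor
  · rintro ⟨u, hu, rfl⟩
    exact (Subgroup.mem_normalizer_iff.1 hn u).1 hu
  · intro hv
    refine ⟨n⁻¹ * v * n, ?_, by group⟩
    have := (Subgroup.mem_normalizer_iff.1 (Subgroup.inv_mem _ hn) v).1 hv
    rwa [inv_inv] at this

theorem cj_mul (x y : G) (P : Subgroup G) : cj (x * y) P = cj x (cj y P) := by
  ext v
  rw [mem_cj, mem_cj]
  constructor
  · rintro ⟨u, hu, rfl⟩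
    exact ⟨y * u * y⁻¹, conj_mem_cj hu, by group⟩
  · rintro ⟨w, hw, rfl⟩
    obtain ⟨u, hu, rfl⟩ := mem_cj.1 hw
    exact ⟨u, hu, by group⟩

/-- **Sylow theorem for Brauer pairs.** -/
theorem exists_conj_subpairLE (hMod : IsPModular p M) {B : Set (IrrCharacter G)}
    {P Q : Subgroup G} {e : Set (IrrCharacter C(P))} {f : Set (IrrCharacter C(Q))}
    (hmax : IsMaximalBrauerPair p M B P e) (hQf : IsBrauerPairOf p M B Q f) :
    ∃ x : G, SubpairLE p M (cj x Q) (conjBlock Q x f) P e := by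
  classical
  haveI : Finite (IrrCharacter G) := irr_finite
  haveI : Fintype (IrrCharacter G) := Fintype.ofFinite _
  have hM : M.IsPrime := hMod.2.1.isPrime
  obtain ⟨P₂, e₂, hmax₂, hle₂⟩ := exists_maximal_above hMod hQf
  have hB : IsPBlock M B := hQf.2.1
  have hPD : IsDefectGroup p M B P := Cfsg.Agent.S4659.result p M hMod B P e hmax
  have hPD₂ : IsDefectGroup p M B P₂ := Cfsg.Agent.S4659.result p M hMod B P₂ e₂ hmax₂
  obtain ⟨y, hy⟩ := Cfsg.Agent.Lib.Helper22.IsDefectGroup.exists_conj hMod hB hPD₂ hPD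
  change P = cj y P₂ at hy
  subst hy
  haveI : Fintype N(cj y P₂) := Fintype.ofFinite _
  haveI : Finite (IrrCharacter N(cj y P₂)) := irr_finite
  haveI : Fintype (IrrCharacter N(cj y P₂)) := Fintype.ofFinite _
  haveI : Fintype C(cj y P₂) := Fintype.ofFinite _
  haveI : Finite (IrrCharacter C(cj y P₂)) := irr_finite
  haveI : Fintype (IrrCharacter C(cj y P₂)) := Fintype.ofFinite _
  have hBe := hmax.1
  have hBe₃ : IsBrauerPairOf p M B (cj y P₂) (conjBlock P₂ y e₂) := isBrauerPairOf_conj y hmax₂.1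
  obtain ⟨n, hn, hn'⟩ := exists_normalizer_conj hMod hBe hBe₃ hPD
  have he₂ : IsPBlock M e₂ := hmax₂.1.1.2
  have he : IsPBlock M e := hBe.1.2
  set x : G := n⁻¹ * y with hx
  have hcj : cj x P₂ = cj y P₂ := by
    rw [hx, cj_mul, cj_eq_of_mem_normalizer (Subgroup.inv_mem _ hn)]
  have hsbc : subgroupBlockCoeff C(cj x P₂) (conjBlock P₂ x e₂)
      = subgroupBlockCoeff C(cj y P₂) e := by
    rw [sbc_conjBlock x P₂ he₂, hx, conjF_mul, ← sbc_conjBlock y P₂ he₂, hn', conjF_inv_conjF]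
  have hpair := pair_eq_of_sbc_eq hM hcj (isPBlock_conjBlock x P₂ he₂) he hsbc
  have hfin := subpairLE_conj hMod x hle₂
  refine ⟨x, ?_⟩
  unfold SubpairLE at hfin ⊢
  rw [← hpair]
  exact hfin

end Main

end Cfsg.Agent.Lib.Helper81
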