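import Mathlib
import Cfsg.Prelude.Def_BrauerPairs
import Cfsg.Agent.Lib.Helper81.BPSylow
import Cfsg.Agent.Lib.Helper21.DefectTransport
import Cfsg.Agent.Lib.Helper82.VanishOffDefect
import Cfsg.Agent.S0911
import Cfsg.Agent.Lib.Helper81.DefectBasic

set_option autoImplicit false
set_option linter.unusedSectionVars false
set_option linter.style.haveILetI false

/-!
# Defect groups of the blocks attached to a Brauer pair below a maximal pair
-/

namespace Cfsg.Agent.Lib.Helper81

open Cfsg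
open Cfsg.Agent.Lib.Helper21 Cfsg.Agent.Lib.Helper82 Cfsg.Agent.Lib.Helper83

universe u

section Sylow

/-- a `p`-subgroup of `K` lies in a conjugate of any given Sylow `p`-subgroup of `K` -/
theorem exists_conj_le_of_isPGroup {X : Type*} [Group X] [Finite X] {p : ℕ} [Fact p.Prime]
    {K R : Subgroup X} (hR : IsPGroup p R) (hRK : R ≤ K) (Q' : Sylow p K) :
    ∃ z : X, R ≤ ((Q' : Subgroup K).map K.subtype).map (MulAut.conj z).toMonoidHom := by
  obtain ⟨Q'', hQ''⟩ := (hR.comap_subtype (K := K)).exists_le_sylow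
  obtain ⟨z, hz⟩ := MulAction.exists_smul_eq K Q' Q''
  refine ⟨(z : X), fun r hr => ?_⟩
  have h1 : (⟨r, hRK hr⟩ : K) ∈ (Q'' : Subgroup K) := hQ'' (Subgroup.mem_subgroupOf.2 hr)
  rw [← hz, Sylow.smul_def, Sylow.pointwise_smul_def,
    Subgroup.mem_pointwise_smul_iff_inv_smul_mem] at h1
  have hmem : (z : X)⁻¹ * r * z ∈ K := K.mul_mem (K.mul_mem (K.inv_mem z.2) (hRK hr)) z.2
  have h2 : (MulAut.conj z)⁻¹ • (⟨r, hRK hr⟩ : K) = ⟨(z : X)⁻¹ * r * z, hmem⟩ := by
    apply Subtype.ext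
    simp [MulAut.smul_def]
  rw [h2] at h1
  refine ⟨(z : X)⁻¹ * r * z, ⟨⟨(z : X)⁻¹ * r * z, hmem⟩, h1, rfl⟩, ?_⟩
  simp [mul_assoc]

end Sylow

variable {G : Type u} [Group G] [Fintype G]

local notation "C(" R ")" => Subgroup.centralizer ((R : Subgroup G) : Set G)
local notation "N(" R ")" => Subgroup.normalizer ((R : Subgroup G) : Set G)

/-- the stabilizer of a function under conjugation -/
def conjStab (β : G → ℂ) : Subgroup G where
  carrier := {u | conjF u β = β}
  one_mem' := conjF_one β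
  mul_mem' {a b} ha hb := by
    change conjF a β = β at ha
    change conjF b β = β at hb
    change conjF (a * b) β = β
    rw [conjF_mul, hb, ha]
  inv_mem' {a} ha := by
    change conjF a β = β at ha
    change conjF a⁻¹ β = β
    have := conjF_inv_conjF a β
    rwa [ha] at this

theorem mem_conjStab {β : G → ℂ} {u : G} : u ∈ conjStab β ↔ conjF u β = β := Iff.rfl

theorem conjInv_iff_le_conjStab {L : Subgroup G} {β : G → ℂ} : ConjInv L β ↔ L ≤ conjStab β := by
  constructor
  · intro h u hu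
    exact (conjF_eq_self_iff u β).2 (h u hu)
  · intro h u hu
    exact (conjF_eq_self_iff u β).1 (h hu)

theorem conjInv_sup {L L' : Subgroup G} {β : G → ℂ} (h : ConjInv L β) (h' : ConjInv L' β) :
    ConjInv (L ⊔ L') β :=
  conjInv_iff_le_conjStab.2
    (sup_le (conjInv_iff_le_conjStab.1 h) (conjInv_iff_le_conjStab.1 h'))

/-- blocks are determined by their idempotents -/
theorem eq_of_blockCoeff_eq {X : Type u} [Group X] [Fintype X] {M : Ideal AlgInt} (hM : M.IsPrime)
    {B₁ B₂ : Set (IrrCharacter X)} (h₁ : IsPBlock M B₁) (h₂ : IsPBlock M B₂)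
    (h : ∀ x, blockCoeff B₁ x = blockCoeff B₂ x) : B₁ = B₂ := by
  classical
  haveI : Finite (IrrCharacter X) := irr_finite
  haveI : Fintype (IrrCharacter X) := Fintype.ofFinite _
  obtain ⟨χ, hχ⟩ := IsPBlock.nonempty hM h₁
  have h1 := omega_blockCoeff B₁ χ
  have hfun : blockCoeff B₁ = blockCoeff B₂ := funext h
  rw [hfun, omega_blockCoeff, if_pos hχ] at h1
  have hχ' : χ ∈ B₂ := by
    by_contra hno
    rw [if_neg hno] at h1
    exact zero_ne_one h1
  rw [IsPBlock.eq_blockOf hM h₁ hχ, IsPBlock.eq_blockOf hM h₂ hχ']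

theorem mem_normalizer_cj_iff {x y : G} {Q : Subgroup G} :
    y ∈ N(cj x Q) ↔ x⁻¹ * y * x ∈ N(Q) := by
  rw [Subgroup.mem_normalizer_iff, Subgroup.mem_normalizer_iff]
  constructor
  · intro h q
    have h1 := h (x * q * x⁻¹)
    rw [mem_cj, mem_cj] at h1
    constructor
    · intro hq
      obtain ⟨u, hu, hu'⟩ := h1.1 ⟨q, hq, rfl⟩
      have : x⁻¹ * y * x * q * (x⁻¹ * y * x)⁻¹ = u := by
        have : x⁻¹ * y * x * q * (x⁻¹ * y * x)⁻¹ = x⁻¹ * (y * (x * q * x⁻¹) * y⁻¹) * x := by group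
        rw [this, hu']; group
      rw [this]; exact hu
    · intro hq
      obtain ⟨u, hu, hu'⟩ := h1.2 ⟨_, hq, by group⟩
      have : q = u := by
        have h2 : q = x⁻¹ * (x * q * x⁻¹) * x := by group
        rw [h2, hu']; group
      rw [this]; exact hu
  · intro h v
    rw [mem_cj, mem_cj]
    constructor
    · rintro ⟨q, hq, rfl⟩
      exact ⟨_, (h q).1 hq, by group⟩
    · rintro ⟨u, hu, hu'⟩
      have h2 : x⁻¹ * y * x * (x⁻¹ * v * x) * (x⁻¹ * y * x)⁻¹ = u := by
        have : x⁻¹ * y * x * (x⁻¹ * v * x) * (x⁻¹ * y * x)⁻¹ = x⁻¹ * (y * v * y⁻¹) * x := by group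
        rw [this, hu']; group
      refine ⟨x⁻¹ * v * x, (h _).2 (by rw [h2]; exact hu), by group⟩

/-- conjugation by `x⁻¹` as an isomorphism `H' ≃ H`, when `H' = x H x⁻¹` -/
def conjEquivSub (x : G) {H H' : Subgroup G} (h : ∀ y, y ∈ H' ↔ x⁻¹ * y * x ∈ H) : H' ≃* H where
  toFun t := ⟨x⁻¹ * t * x, (h t).1 t.2⟩
  invFun t := ⟨x * t * x⁻¹, (h _).2 (by
    have : x⁻¹ * (x * (t : G) * x⁻¹) * x = t := by group
    rw [this]; exact t.2)⟩
  left_inv t := by
    apply Subtype.ext
    show x * (x⁻¹ * (t : G) * x) * x⁻¹ = t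
    group
  right_inv t := by
    apply Subtype.ext
    show x⁻¹ * (x * (t : G) * x⁻¹) * x = t
    group
  map_mul' a b := by
    apply Subtype.ext
    show x⁻¹ * ((a : G) * b) * x = (x⁻¹ * a * x) * (x⁻¹ * b * x)
    group

@[simp] theorem conjEquivSub_apply (x : G) {H H' : Subgroup G}
    (h : ∀ y, y ∈ H' ↔ x⁻¹ * y * x ∈ H) (t : H') :
    ((conjEquivSub x h t : H) : G) = x⁻¹ * t * x := rfl

section Pairs

variable {p : ℕ} [Fact p.Prime] {M : Ideal AlgInt}

/-- **Going up.** If the idempotent of `f` is `E`-stable and does not vanish modulo the local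
ideal on `C_G(E)`, then some Brauer pair on `E` lies normally above `(Q, f)`. -/
theorem exists_normalSubpair_above (hMod : IsPModular p M) {Q E : Subgroup G}
    {f : Set (IrrCharacter C(Q))} (hQf : IsBrauerPair p M Q f) (hE : IsPGroup p E) (hQE : Q ≤ E)
    (hEN : E ≤ N(Q)) (hinv : ConjInv E (subgroupBlockCoeff C(Q) f)) {c : G} (hc : c ∈ C(E))
    (hne : ¬ MemLocalIdeal M (subgroupBlockCoeff C(Q) f c)) :
    ∃ g : Set (IrrCharacter C(E)), IsNormalSubpair p M Q f E g := by
  classical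
  have hM : M.IsPrime := hMod.2.1.isPrime
  obtain ⟨hQ, hf⟩ := hQf
  haveI : Finite (IrrCharacter G) := irr_finite
  haveI : Fintype (IrrCharacter G) := Fintype.ofFinite _
  haveI : Fintype C(Q) := Fintype.ofFinite _
  haveI : Finite (IrrCharacter C(Q)) := irr_finite
  haveI : Fintype (IrrCharacter C(Q)) := Fintype.ofFinite _
  haveI : Fintype C(E) := Fintype.ofFinite _
  haveI : Finite (IrrCharacter C(E)) := irr_finite
  haveI : Fintype (IrrCharacter C(E)) := Fintype.ofFinite _
  set ε : G → ℂ := subgroupBlockCoeff C(Q) f with hε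
  have hCC : C(E) ≤ C(Q) := Subgroup.centralizer_le hQE
  have hεR' : ∀ g, MemLocalRing M (ε g) := sbc_memLocalRing _ hM hf
  have hεC : ConjInv C(E) ε := (sbc_conjInv_self C(Q) f).mono hCC
  set a : C(E) → ℂ := rs C(E) ε with ha_def
  have ha : IsRClass M a := ⟨rs_isClassFunction hεC, fun z => hεR' z⟩
  have hid : ∀ z, MemLocalIdeal M (a z - conv a a z) := by
    intro z
    have := brauer_mul hMod E hE hinv hinv hεR' hεR' z
    rw [hε, conv_sbc_self] at this
    exact this
  obtain ⟨ξ', hξ'⟩ := exists_omega_sub_one hM ha hid ⟨⟨c, hc⟩, hne⟩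
  have hg₁ : IsPBlock M (blockOf M (ξ' : C(E) → ℂ)) := ⟨ξ', rfl⟩
  refine ⟨blockOf M (ξ' : C(E) → ℂ), ⟨hQ, hf⟩, ⟨hE, hg₁⟩, hQE, hEN, fun v hv => ?_,
    fun ξ'' hξ'' => ?_⟩
  · rw [stabilizesBlock_iff C(Q) hM hf]
    exact ⟨normalizer_le_normalizer_centralizer Q (hEN hv), hinv v hv⟩
  · have h4 := brauerOmega_sub_of_mem_block hM E hg₁ hεR' hεC (mem_blockOf_self hM ξ') hξ''
    have h5 : brauerOmega E ε (ξ' : C(E) → ℂ) = omega a (ξ' : C(E) → ℂ) :=
      brauerOmega_eq_omega_rs E ε _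
    rw [h5] at h4
    have := memLocalIdeal_add hM h4 hξ'
    convert this using 1
    ring

/-- below a pair `(S, g)` whose subgroup stabilizes `f`, the idempotent of `f` survives on
`C_G(S)` -/
theorem exists_not_memLocalIdeal_of_subpairLE (hMod : IsPModular p M) {Q S : Subgroup G}
    {f : Set (IrrCharacter C(Q))} {g : Set (IrrCharacter C(S))} (hle : SubpairLE p M Q f S g)
    (hf : IsPBlock M f) (hinv : ConjInv S (subgroupBlockCoeff C(Q) f)) :
    ∃ c ∈ C(S), ¬ MemLocalIdeal M (subgroupBlockCoeff C(Q) f c) := by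
  classical
  have hM : M.IsPrime := hMod.2.1.isPrime
  haveI : Finite (IrrCharacter G) := irr_finite
  haveI : Fintype (IrrCharacter G) := Fintype.ofFinite _
  haveI : Fintype C(Q) := Fintype.ofFinite _
  haveI : Finite (IrrCharacter C(Q)) := irr_finite
  haveI : Fintype (IrrCharacter C(Q)) := Fintype.ofFinite _
  haveI : Fintype C(S) := Fintype.ofFinite _
  haveI : Finite (IrrCharacter C(S)) := irr_finite
  haveI : Fintype (IrrCharacter C(S)) := Fintype.ofFinite _
  have hQS : Q ≤ S := subpairLE_le hMod hle hf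
  have hg : IsPBlock M g := (reflTransGen_brauerOmega_congr hMod hle hf).2.1
  set ε : G → ℂ := subgroupBlockCoeff C(Q) f with hε
  have hCC : C(S) ≤ C(Q) := Subgroup.centralizer_le hQS
  have hεR : ∀ x, MemLocalRing M (ε x) := sbc_memLocalRing _ hM hf
  have hεC : ConjInv C(Q) ε := sbc_conjInv_self C(Q) f
  obtain ⟨ξ, hξ⟩ := IsPBlock.nonempty hM hf
  obtain ⟨ξ', hξ'⟩ := IsPBlock.nonempty hM hg
  have h1 := subpairLE_brauerOmega_congr hMod hle hf hεR hinv hεC hξ hξ'
  rw [hε, brauerOmega_sbc_self, if_pos hξ] at h1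
  by_contra hcon
  push Not at hcon
  have h2 : MemLocalIdeal M (brauerOmega S ε (ξ' : C(S) → ℂ)) := by
    rw [brauerOmega_eq_omega_rs]
    apply memLocalIdeal_omega' hM (rs_isClassFunction (hεC.mono hCC))
    intro c
    exact hcon c c.2
  have h3 := memLocalIdeal_sub hM h2 h1
  rw [sub_sub_cancel] at h3
  exact not_memLocalIdeal_one hM h3

/-- a subpair chain `(Q, f) ≤ (P, e)` factors through every intermediate subgroup -/
theorem subpairLE_factor (hMod : IsPModular p M) {P Q S : Subgroup G}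
    {e : Set (IrrCharacter C(P))} {f : Set (IrrCharacter C(Q))} (hPe : IsBrauerPair p M P e)
    (hle : SubpairLE p M Q f P e) (hf : IsPBlock M f) (hQS : Q ≤ S) (hSP : S ≤ P) :
    ∃ g : Set (IrrCharacter C(S)), IsPBlock M g ∧ SubpairLE p M Q f S g ∧
      SubpairLE p M S g P e := by
  have hQP : Q ≤ P := hQS.trans hSP
  obtain ⟨g, ⟨hg, hleS⟩, -⟩ := existsUnique_subpair hMod hPe hSP
  obtain ⟨f', ⟨hf', hle'⟩, -⟩ := existsUnique_subpair hMod ⟨hPe.1.to_le hSP, hg⟩ hQS
  have hff : f' = f :=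
    (existsUnique_subpair hMod hPe hQP).unique ⟨hf', Relation.ReflTransGen.trans hle' hleS⟩
      ⟨hf, hle⟩
  rw [hff] at hle'
  exact ⟨g, hg, hle', hleS⟩

/-- **(a)** Let `(Q, f) ≤ (P, e)` and let `F` be a block of a subgroup `H`, `C_G(Q) ≤ H ≤ N_G(Q)`,
stabilizing `f`, with the same idempotent as `f`.  Then `P ∩ H` lies in a defect group of `F`. -/
theorem exists_defectGroup_ge (hMod : IsPModular p M) {P Q : Subgroup G}
    {e : Set (IrrCharacter C(P))} {f : Set (IrrCharacter C(Q))} (hPe : IsBrauerPair p M P e)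
    (hle : SubpairLE p M Q f P e) (hf : IsPBlock M f) {H : Subgroup G} (hCH : C(Q) ≤ H)
    (hHst : ConjInv H (subgroupBlockCoeff C(Q) f)) {F : Set (IrrCharacter H)} (hF : IsPBlock M F)
    (hFc : ∀ h : H, blockCoeff F h = subgroupBlockCoeff C(Q) f h) :
    ∃ D : Subgroup H, IsDefectGroup p M F D ∧ (P ⊓ H).subgroupOf H ≤ D := by
  classical
  have hM : M.IsPrime := hMod.2.1.isPrime
  haveI : Fintype C(Q) := Fintype.ofFinite _
  haveI : Finite (IrrCharacter C(Q)) := irr_finite
  haveI : Fintype (IrrCharacter C(Q)) := Fintype.ofFinite _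
  haveI : Fintype H := Fintype.ofFinite _
  haveI : Finite (IrrCharacter H) := irr_finite
  haveI : Fintype (IrrCharacter H) := Fintype.ofFinite _
  have hQP : Q ≤ P := subpairLE_le hMod hle hf
  set ε : G → ℂ := subgroupBlockCoeff C(Q) f with hε
  set S : Subgroup G := Q ⊔ (P ⊓ H) with hS
  have hSP : S ≤ P := sup_le hQP inf_le_left
  have hQS : Q ≤ S := le_sup_left
  obtain ⟨g, hg, hleS, -⟩ := subpairLE_factor hMod hPe hle hf hQS hSP
  have hinvS : ConjInv S ε :=
    conjInv_sup (sbc_centralizer_conjInv_self f) (hHst.mono inf_le_right)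
  obtain ⟨c, hc, hcne⟩ := exists_not_memLocalIdeal_of_subpairLE hMod hleS hf hinvS
  have hcQ : c ∈ C(Q) := Subgroup.centralizer_le hQS hc
  set c' : H := ⟨c, hCH hcQ⟩ with hc'
  have hFc' : blockCoeff F c' = ε c := hFc c'
  -- a defect class and a defect group of `F`
  obtain ⟨ψ₀, hψ₀⟩ := id hF
  obtain ⟨g₀, hg₀⟩ := exists_isDefectClass hM ψ₀
  rw [← hψ₀] at hg₀
  obtain ⟨D₀⟩ : Nonempty (Sylow p (Subgroup.centralizer ({g₀} : Set H))) := inferInstance
  have hR : MemLocalRing M (blockCoeff F c') := by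
    rw [hFc']; exact sbc_memLocalRing _ hM hf c
  have hI : ¬ MemLocalIdeal M (blockCoeff F c') := by
    rw [hFc']; exact hcne
  obtain ⟨x, Q', hQ'⟩ := (Cfsg.Agent.S0911.result p M hMod F hF g₀ hg₀ D₀ c').1 hR hI
  -- `P ∩ H` centralizes `c'`
  have hRK : (P ⊓ H).subgroupOf H ≤ Subgroup.centralizer ({c'} : Set H) := by
    intro r hr
    rw [Subgroup.mem_subgroupOf] at hr
    rw [Subgroup.mem_centralizer_iff]
    intro y hy
    rw [Set.mem_singleton_iff] at hy
    subst hy
    apply Subtype.ext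
    have hrS : (r : G) ∈ S := (le_sup_right : P ⊓ H ≤ S) hr
    have := Subgroup.mem_centralizer_iff.1 hc (r : G) hrS
    exact this.symm
  have hRp : IsPGroup p ((P ⊓ H).subgroupOf H) := (hPe.1.to_le inf_le_left).comap_subtype
  obtain ⟨z, hz⟩ := exists_conj_le_of_isPGroup hRp hRK Q'
  refine ⟨(((D₀ : Subgroup (Subgroup.centralizer ({g₀} : Set H))).map
      (Subgroup.centralizer ({g₀} : Set H)).subtype).map (MulAut.conj x).toMonoidHom).map
      (MulAut.conj z).toMonoidHom, ?_, ?_⟩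
  · exact isDefectGroup_conj (isDefectGroup_conj ⟨g₀, hg₀, D₀, rfl⟩ x) z
  · exact hz.trans (Subgroup.map_mono hQ')

/-- **(b)** With the notation of (a), if moreover `(P, e)` is a maximal Brauer pair of `B`, then
every defect group of `F` can be conjugated into `P` together with `(Q, f)`. -/
theorem exists_conj_defect_le (hMod : IsPModular p M) {B : Set (IrrCharacter G)}
    {P Q : Subgroup G} {e : Set (IrrCharacter C(P))} {f : Set (IrrCharacter C(Q))}
    (hmax : IsMaximalBrauerPair p M B P e)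
    (hle : SubpairLE p M Q f P e) (hf : IsPBlock M f) {H : Subgroup G}
    (hHN : H ≤ N(Q))
    (hHst : ConjInv H (subgroupBlockCoeff C(Q) f)) {F : Set (IrrCharacter H)}
    (hFc : ∀ h : H, blockCoeff F h = subgroupBlockCoeff C(Q) f h)
    {D : Subgroup H} (hD : IsDefectGroup p M F D) :
    ∃ x : G, SubpairLE p M (cj x Q) (conjBlock Q x f) P e ∧ cj x (D.map H.subtype) ≤ P := by
  classical
  have hM : M.IsPrime := hMod.2.1.isPrime
  haveI : Fintype C(Q) := Fintype.ofFinite _
  haveI : Finite (IrrCharacter C(Q)) := irr_finite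
  haveI : Fintype (IrrCharacter C(Q)) := Fintype.ofFinite _
  obtain ⟨⟨hPp, he⟩, hB, -⟩ := id hmax.1
  have hQP : Q ≤ P := subpairLE_le hMod hle hf
  have hQ : IsPGroup p Q := hPp.to_le hQP
  set ε : G → ℂ := subgroupBlockCoeff C(Q) f with hε
  have hDp : IsPGroup p D := isPGroup_of_isDefectGroup' hD
  obtain ⟨g₀, hg₀, S₀, hDeq⟩ := id hD
  set DG : Subgroup G := D.map H.subtype with hDG
  have hDGH : DG ≤ H := by
    rintro _ ⟨d, -, rfl⟩
    exact d.2
  have hDGp : IsPGroup p DG := hDp.map _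
  set E : Subgroup G := Q ⊔ DG with hE
  have hDN : DG ≤ N(Q) := hDGH.trans hHN
  have hEp : IsPGroup p E := IsPGroup.to_sup_of_normal_left' hQ hDGp hDN
  have hEN : E ≤ N(Q) := sup_le Subgroup.le_normalizer hDN
  have hinvE : ConjInv E ε := conjInv_sup (sbc_centralizer_conjInv_self f) (hHst.mono hDGH)
  have hne : ¬ MemLocalIdeal M (ε (g₀ : G)) := by
    rw [← hFc g₀]; exact hg₀.2.1
  have hcQ : (g₀ : G) ∈ C(Q) := by
    by_contra hno
    apply hne
    rw [hε, sbc_of_not_mem _ _ hno]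
    exact memLocalIdeal_zero hM
  have hcE : (g₀ : G) ∈ C(E) := by
    have hsub : E ≤ Subgroup.centralizer ({(g₀ : G)} : Set G) := by
      apply sup_le
      · intro q hq
        rw [Subgroup.mem_centralizer_iff]
        intro y hy
        rw [Set.mem_singleton_iff] at hy
        subst hy
        exact (Subgroup.mem_centralizer_iff.1 hcQ q hq).symm
      · rintro _ ⟨d, hd, rfl⟩
        rw [hDeq] at hd
        obtain ⟨s, -, rfl⟩ := hd
        rw [Subgroup.mem_centralizer_iff]
        intro y hy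
        rw [Set.mem_singleton_iff] at hy
        subst hy
        have h1 := Subgroup.mem_centralizer_iff.1 s.2 g₀ (Set.mem_singleton g₀)
        exact congrArg Subtype.val h1
    rw [Subgroup.mem_centralizer_iff]
    intro u hu
    have := Subgroup.mem_centralizer_iff.1 (hsub hu) (g₀ : G) (Set.mem_singleton _)
    exact this.symm
  obtain ⟨gE, hnorm⟩ := exists_normalSubpair_above hMod ⟨hQ, hf⟩ hEp le_sup_left hEN hinvE hcE hne
  have hgE : IsPBlock M gE := hnorm.2.1.2
  have hQfB : IsBrauerPairOf p M B Q f :=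
    (Cfsg.Agent.S4658.result p M hMod P Q e f ⟨hPp, he⟩ ⟨hQ, hf⟩ hle B hB).1 hmax.1
  have hleE : SubpairLE p M Q f E gE := Relation.ReflTransGen.single hnorm
  have hEB : IsBrauerPairOf p M B E gE :=
    (Cfsg.Agent.S4658.result p M hMod E Q gE f ⟨hEp, hgE⟩ ⟨hQ, hf⟩ hleE B hB).2 hQfB
  obtain ⟨x, hx⟩ := exists_conj_subpairLE hMod hmax hEB
  refine ⟨x, Relation.ReflTransGen.trans (subpairLE_conj hMod x hleE) hx, ?_⟩
  have h1 : cj x E ≤ P := subpairLE_le hMod hx (isPBlock_conjBlock x E hgE)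
  exact (Subgroup.map_mono le_sup_right).trans h1

/-- **(c)** With the notation of (b): for a suitable `x`, the conjugate pair lies below `(P, e)` and
`P ∩ x H x⁻¹` is a defect group of the conjugate block. -/
theorem exists_conj_isDefectGroup (hMod : IsPModular p M) {B : Set (IrrCharacter G)}
    {P Q : Subgroup G} {e : Set (IrrCharacter C(P))} {f : Set (IrrCharacter C(Q))}
    (hmax : IsMaximalBrauerPair p M B P e)
    (hle : SubpairLE p M Q f P e) (hf : IsPBlock M f) {H : Subgroup G} (hCH : C(Q) ≤ H)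
    (hHN : H ≤ N(Q))
    (hHst : ConjInv H (subgroupBlockCoeff C(Q) f)) {F : Set (IrrCharacter H)} (hF : IsPBlock M F)
    (hFc : ∀ h : H, blockCoeff F h = subgroupBlockCoeff C(Q) f h) :
    ∃ x : G, SubpairLE p M (cj x Q) (conjBlock Q x f) P e ∧
      ∀ (H' : Subgroup G), (∀ y, y ∈ H' ↔ x⁻¹ * y * x ∈ H) →
        ∀ F' : Set (IrrCharacter H'), IsPBlock M F' →
        (∀ t : H', blockCoeff F' t = subgroupBlockCoeff C(cj x Q) (conjBlock Q x f) t) →
        IsDefectGroup p M F' ((P ⊓ H').subgroupOf H') := by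
  classical
  have hM : M.IsPrime := hMod.2.1.isPrime
  haveI : Fintype C(Q) := Fintype.ofFinite _
  haveI : Finite (IrrCharacter C(Q)) := irr_finite
  haveI : Fintype (IrrCharacter C(Q)) := Fintype.ofFinite _
  haveI : Fintype H := Fintype.ofFinite _
  haveI : Finite (IrrCharacter H) := irr_finite
  haveI : Fintype (IrrCharacter H) := Fintype.ofFinite _
  obtain ⟨⟨hPp, he⟩, hB, -⟩ := id hmax.1
  set ε : G → ℂ := subgroupBlockCoeff C(Q) f with hε
  obtain ⟨D, hD⟩ := exists_isDefectGroup' hMod hF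
  obtain ⟨x, hlex, hDP⟩ := exists_conj_defect_le hMod hmax hle hf hHN hHst hFc hD
  refine ⟨x, hlex, fun H' hH' F' hF' hF'c => ?_⟩
  haveI : Fintype H' := Fintype.ofFinite _
  haveI : Finite (IrrCharacter H') := irr_finite
  haveI : Fintype (IrrCharacter H') := Fintype.ofFinite _
  have hsbc : subgroupBlockCoeff C(cj x Q) (conjBlock Q x f) = conjF x ε := sbc_conjBlock x Q hf
  have hCH' : C(cj x Q) ≤ H' := fun y hy => (hH' y).2 (hCH (mem_centralizer_cj_iff.1 hy))
  have hHst' : ConjInv H' (subgroupBlockCoeff C(cj x Q) (conjBlock Q x f)) := by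
    rw [hsbc]
    intro t ht g
    simp only [conjF]
    have h1 := hHst (x⁻¹ * t * x) ((hH' t).1 ht) (x⁻¹ * g * x)
    have h2 : x⁻¹ * (t * g * t⁻¹) * x = x⁻¹ * t * x * (x⁻¹ * g * x) * (x⁻¹ * t * x)⁻¹ := by group
    rw [h2, h1]
  obtain ⟨D', hD', hle'⟩ := exists_defectGroup_ge hMod ⟨hPp, he⟩ hlex (isPBlock_conjBlock x Q hf)
    hCH' hHst' hF' hF'c
  -- transport of `F` along conjugation
  set ψ : H' ≃* H := conjEquivSub x hH' with hψ
  obtain ⟨θ₀, hθ₀⟩ := id hF
  have hFF' : F' = blockOf M (irrComp ψ θ₀ : H' → ℂ) := by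
    apply eq_of_blockCoeff_eq hM hF' ⟨_, rfl⟩
    intro t
    rw [blockCoeff_blockOf_irrComp M ψ θ₀ t, ← hθ₀, hFc, hF'c, hsbc]
    rfl
  have hD'' : IsDefectGroup p M F' (D.comap ψ.toMonoidHom) := by
    rw [hFF']
    rw [hθ₀] at hD
    exact isDefectGroup_irrComp ψ θ₀ hD
  have hcard1 : Nat.card D' = Nat.card (D.comap ψ.toMonoidHom) :=
    card_defectGroup_eq' hMod hF' hD'' hD'
  have hcard2 : Nat.card (D.comap ψ.toMonoidHom) = Nat.card D := by
    have h1 : D.comap ψ.toMonoidHom = D.map ψ.symm.toMonoidHom := by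
      ext t
      rw [Subgroup.mem_comap, Subgroup.mem_map]
      constructor
      · intro ht
        exact ⟨ψ t, ht, ψ.symm_apply_apply t⟩
      · rintro ⟨d, hd, rfl⟩
        have : ψ.toMonoidHom (ψ.symm.toMonoidHom d) = d := ψ.apply_symm_apply d
        rw [this]; exact hd
    rw [h1]
    exact Subgroup.card_map_of_injective ψ.symm.injective
  -- the conjugate of `D` lies in `P ∩ H'`
  have hDH' : cj x (D.map H.subtype) ≤ P ⊓ H' := by
    apply le_inf hDP
    intro v hv
    obtain ⟨u, hu, rfl⟩ := mem_cj.1 hv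
    rw [hH']
    have : x⁻¹ * (x * u * x⁻¹) * x = u := by group
    rw [this]
    obtain ⟨d, -, rfl⟩ := hu
    exact d.2
  have hcard3 : Nat.card (cj x (D.map H.subtype)) = Nat.card D := by
    rw [Subgroup.card_map_of_injective (MulAut.conj x).injective,
      Subgroup.card_map_of_injective H.subtype_injective]
  have hcard4 : Nat.card ((P ⊓ H').subgroupOf H') = Nat.card (P ⊓ H' : Subgroup G) :=
    Nat.card_congr (Subgroup.subgroupOfEquivOfLe inf_le_right).toEquiv
  have hcard5 : Nat.card D ≤ Nat.card (P ⊓ H' : Subgroup G) := by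
    rw [← hcard3]; exact Subgroup.card_le_of_le hDH'
  have hEq : (P ⊓ H').subgroupOf H' = D' := by
    apply Subgroup.eq_of_le_of_card_ge hle'
    rw [hcard1, hcard2, hcard4]
    exact hcard5
  rw [hEq]
  exact hD'

end Pairs

end Cfsg.Agent.Lib.Helper81
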