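import Mathlib
import Cfsg.Prelude.Def_BrauerPairs
import Cfsg.Agent.Lib.Helper81.BPDefect

set_option autoImplicit false
set_option linter.unusedSectionVars false
set_option linter.style.haveILetI false

/-!
# The stabilizer of a Brauer pair: its block and the defect groups of that block
-/

namespace Cfsg.Agent.Lib.Helper81

open Cfsg
open Cfsg.Agent.Lib.Helper21 Cfsg.Agent.Lib.Helper82 Cfsg.Agent.Lib.Helper83

universe u

variable {G : Type u} [Group G] [Fintype G]

local notation "C(" R ")" => Subgroup.centralizer ((R : Subgroup G) : Set G)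
local notation "N(" R ")" => Subgroup.normalizer ((R : Subgroup G) : Set G)

variable {p : ℕ} [Fact p.Prime] {M : Ideal AlgInt}

/-- the stabilizer `T` of `f` in `N_G(Q)` leaves the idempotent of `f` invariant -/
theorem conjInv_of_stabilizer (hM : M.IsPrime) {Q : Subgroup G} {f : Set (IrrCharacter C(Q))}
    (hf : IsPBlock M f) {T : Subgroup G}
    (hT : ∀ y : G, y ∈ T ↔ y ∈ N(Q) ∧ StabilizesBlock C(Q) f y) :
    ConjInv T (subgroupBlockCoeff C(Q) f) := by
  classical
  haveI : Fintype C(Q) := Fintype.ofFinite _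
  haveI : Finite (IrrCharacter C(Q)) := irr_finite
  haveI : Fintype (IrrCharacter C(Q)) := Fintype.ofFinite _
  intro y hy
  exact ((stabilizesBlock_iff C(Q) hM hf y).1 ((hT y).1 hy).2).2

theorem centralizer_le_stabilizer (hM : M.IsPrime) {Q : Subgroup G} {f : Set (IrrCharacter C(Q))}
    (hf : IsPBlock M f) {T : Subgroup G}
    (hT : ∀ y : G, y ∈ T ↔ y ∈ N(Q) ∧ StabilizesBlock C(Q) f y) : C(Q) ≤ T := by
  classical
  haveI : Fintype C(Q) := Fintype.ofFinite _
  haveI : Finite (IrrCharacter C(Q)) := irr_finite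
  haveI : Fintype (IrrCharacter C(Q)) := Fintype.ofFinite _
  intro c hc
  exact (hT c).2 ⟨Subgroup.centralizer_le_normalizer _ hc, stabilizesBlock_of_mem_centralizer hM hf hc⟩

theorem le_stabilizer (hM : M.IsPrime) {Q : Subgroup G} {f : Set (IrrCharacter C(Q))}
    (hf : IsPBlock M f) {T : Subgroup G}
    (hT : ∀ y : G, y ∈ T ↔ y ∈ N(Q) ∧ StabilizesBlock C(Q) f y) : Q ≤ T := by
  classical
  haveI : Fintype C(Q) := Fintype.ofFinite _
  haveI : Finite (IrrCharacter C(Q)) := irr_finite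
  haveI : Fintype (IrrCharacter C(Q)) := Fintype.ofFinite _
  intro u hu
  exact (hT u).2 ⟨Subgroup.le_normalizer hu, stabilizesBlock_of_mem hM hf hu⟩

/-- **(i)** the idempotent of `f` is a block idempotent of the stabilizer `T` of `f` in `N_G(Q)` -/
theorem exists_block_of_stabilizer (hMod : IsPModular p M) {Q : Subgroup G}
    {f : Set (IrrCharacter C(Q))} (hQf : IsBrauerPair p M Q f) {T : Subgroup G}
    (hT : ∀ y : G, y ∈ T ↔ y ∈ N(Q) ∧ StabilizesBlock C(Q) f y) :
    ∃ F : Set (IrrCharacter T), IsPBlock M F ∧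
      ∀ t : T, blockCoeff F t = subgroupBlockCoeff C(Q) f t := by
  classical
  have hM : M.IsPrime := hMod.2.1.isPrime
  haveI : Finite (IrrCharacter G) := irr_finite
  haveI : Fintype (IrrCharacter G) := Fintype.ofFinite _
  haveI : Fintype C(Q) := Fintype.ofFinite _
  haveI : Finite (IrrCharacter C(Q)) := irr_finite
  haveI : Fintype (IrrCharacter C(Q)) := Fintype.ofFinite _
  haveI : Fintype T := Fintype.ofFinite _
  haveI : Finite (IrrCharacter T) := irr_finite
  haveI : Fintype (IrrCharacter T) := Fintype.ofFinite _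
  obtain ⟨hQ, hf⟩ := hQf
  have hTN : T ≤ N(Q) := fun y hy => ((hT y).1 hy).1
  obtain ⟨F, hF, hFc⟩ := exists_block_orbitSum hMod hQ (le_stabilizer hM hf hT)
    (centralizer_le_stabilizer hM hf hT) hTN hf
  refine ⟨F, hF, fun t => ?_⟩
  rw [hFc t, orbitSum_eq_self]
  intro x hx
  exact (conjF_eq_self_iff x _).2 (conjInv_of_stabilizer hM hf hT x hx)

/-- **(ii)** `N_P(Q)` stabilizes `f` when `(Q, f) ≤ (P, e)` -/
theorem inf_normalizer_le_stabilizer (hMod : IsPModular p M) {P Q : Subgroup G}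
    {e : Set (IrrCharacter C(P))} {f : Set (IrrCharacter C(Q))} (hPe : IsBrauerPair p M P e)
    (hle : SubpairLE p M Q f P e) (hf : IsPBlock M f) {T : Subgroup G}
    (hT : ∀ y : G, y ∈ T ↔ y ∈ N(Q) ∧ StabilizesBlock C(Q) f y) : P ⊓ N(Q) ≤ T := by
  classical
  haveI : Finite (IrrCharacter G) := irr_finite
  haveI : Fintype (IrrCharacter G) := Fintype.ofFinite _
  have hQP : Q ≤ P := subpairLE_le hMod hle hf
  set S : Subgroup G := P ⊓ N(Q) with hS
  have hQS : Q ≤ S := le_inf hQP Subgroup.le_normalizer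
  have hSP : S ≤ P := inf_le_left
  have hSN : S ≤ N(Q) := inf_le_right
  obtain ⟨g, hg, hleS, hleP⟩ := subpairLE_factor hMod hPe hle hf hQS hSP
  obtain ⟨f'', hn⟩ := exists_normalSubpair hMod ⟨hPe.1.to_le hSP, hg⟩ hQS hSN
  have hf'' : IsPBlock M f'' := hn.1.2
  have hle1 : SubpairLE p M Q f'' S g := Relation.ReflTransGen.single hn
  have hle'' : SubpairLE p M Q f'' P e := Relation.ReflTransGen.trans hle1 hleP
  have hff : f'' = f := (existsUnique_subpair hMod hPe hQP).unique ⟨hf'', hle''⟩ ⟨hf, hle⟩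
  rw [hff] at hn
  intro u hu
  exact (hT u).2 ⟨hSN hu, hn.2.2.2.2.1 u hu⟩

/-- the stabilizer of the conjugate pair is the conjugate of the stabilizer -/
theorem mem_stabilizer_conj_iff (hM : M.IsPrime) {Q : Subgroup G} {f : Set (IrrCharacter C(Q))}
    (hf : IsPBlock M f) (x : G) {T T' : Subgroup G}
    (hT : ∀ y : G, y ∈ T ↔ y ∈ N(Q) ∧ StabilizesBlock C(Q) f y)
    (hT' : ∀ y : G, y ∈ T' ↔ y ∈ N(cj x Q) ∧ StabilizesBlock C(cj x Q) (conjBlock Q x f) y)
    (y : G) : y ∈ T' ↔ x⁻¹ * y * x ∈ T := by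
  classical
  haveI : Fintype C(Q) := Fintype.ofFinite _
  haveI : Finite (IrrCharacter C(Q)) := irr_finite
  haveI : Fintype (IrrCharacter C(Q)) := Fintype.ofFinite _
  haveI : Fintype C(cj x Q) := Fintype.ofFinite _
  haveI : Finite (IrrCharacter C(cj x Q)) := irr_finite
  haveI : Fintype (IrrCharacter C(cj x Q)) := Fintype.ofFinite _
  rw [hT', hT, stabilizesBlock_iff_conjF C(cj x Q) hM (isPBlock_conjBlock x Q hf),
    stabilizesBlock_iff_conjF C(Q) hM hf, sbc_conjBlock x Q hf, mem_normalizer_cj_iff]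
  set ε : G → ℂ := subgroupBlockCoeff C(Q) f with hε
  constructor
  · rintro ⟨hy, -, hc⟩
    refine ⟨hy, normalizer_le_normalizer_centralizer Q hy, ?_⟩
    rw [conjF_mul, conjF_mul, hc, conjF_inv_conjF]
  · rintro ⟨hy, -, hc⟩
    refine ⟨hy, normalizer_le_normalizer_centralizer (cj x Q) (mem_normalizer_cj_iff.2 hy), ?_⟩
    have h1 : conjF x (conjF (x⁻¹ * y * x) ε) = conjF y (conjF x ε) := by
      rw [← conjF_mul, ← conjF_mul]
      congr 1
      group
    rw [← h1, hc]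

/-- **S4662.** -/
theorem stabilizer_defect (hMod : IsPModular p M) {B : Set (IrrCharacter G)}
    {P Q : Subgroup G} {e : Set (IrrCharacter C(P))} {f : Set (IrrCharacter C(Q))}
    (hmax : IsMaximalBrauerPair p M B P e) (hf : IsPBlock M f)
    (hle : SubpairLE p M Q f P e) {T : Subgroup G}
    (hT : ∀ y : G, y ∈ T ↔ y ∈ N(Q) ∧ StabilizesBlock C(Q) f y) :
    (∃ F : Set (IrrCharacter T), IsPBlock M F ∧
      (∀ t : T, blockCoeff F t = subgroupBlockCoeff C(Q) f (t : G)) ∧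
      ∃ D : Subgroup T, IsDefectGroup p M F D ∧ (P ⊓ N(Q)).subgroupOf T ≤ D) ∧
    ∃ x : G, SubpairLE p M (cj x Q) (conjBlock Q x f) P e ∧
      ∀ (T' : Subgroup G),
        (∀ y : G, y ∈ T' ↔ y ∈ N(cj x Q) ∧ StabilizesBlock C(cj x Q) (conjBlock Q x f) y) →
        ∃ F' : Set (IrrCharacter T'), IsPBlock M F' ∧
          (∀ t : T', blockCoeff F' t = subgroupBlockCoeff C(cj x Q) (conjBlock Q x f) (t : G)) ∧
          IsDefectGroup p M F' ((P ⊓ N(cj x Q)).subgroupOf T') := by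
  classical
  have hM : M.IsPrime := hMod.2.1.isPrime
  obtain ⟨⟨hPp, he⟩, hB, -⟩ := id hmax.1
  have hQP : Q ≤ P := subpairLE_le hMod hle hf
  have hQ : IsPGroup p Q := hPp.to_le hQP
  obtain ⟨F, hF, hFc⟩ := exists_block_of_stabilizer hMod ⟨hQ, hf⟩ hT
  have hCT := centralizer_le_stabilizer hM hf hT
  have hTN : T ≤ N(Q) := fun y hy => ((hT y).1 hy).1
  have hTst := conjInv_of_stabilizer hM hf hT
  refine ⟨⟨F, hF, hFc, ?_⟩, ?_⟩
  · obtain ⟨D, hD, hDle⟩ := exists_defectGroup_ge hMod ⟨hPp, he⟩ hle hf hCT hTst hF hFc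
    refine ⟨D, hD, fun r hr => hDle ?_⟩
    rw [Subgroup.mem_subgroupOf] at hr ⊢
    exact ⟨hr.1, r.2⟩
  · obtain ⟨x, hlex, hall⟩ := exists_conj_isDefectGroup hMod hmax hle hf hCT hTN hTst hF hFc
    refine ⟨x, hlex, fun T' hT' => ?_⟩
    have hf' : IsPBlock M (conjBlock Q x f) := isPBlock_conjBlock x Q hf
    obtain ⟨F', hF', hF'c⟩ := exists_block_of_stabilizer hMod ⟨hQ.map _, hf'⟩ hT'
    refine ⟨F', hF', hF'c, ?_⟩
    have h1 := hall T' (mem_stabilizer_conj_iff hM hf x hT hT') F' hF' hF'c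
    have h2 : P ⊓ N(cj x Q) ≤ T' := inf_normalizer_le_stabilizer hMod ⟨hPp, he⟩ hlex hf' hT'
    have hT'N : T' ≤ N(cj x Q) := fun y hy => ((hT' y).1 hy).1
    have h3 : P ⊓ N(cj x Q) = P ⊓ T' :=
      le_antisymm (le_inf inf_le_left h2) (inf_le_inf_left P hT'N)
    rw [h3]
    exact h1

end Cfsg.Agent.Lib.Helper81
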