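import Mathlib
import Cfsg.Prelude.Def_BrauerPairs
import Cfsg.Agent.Lib.Helper81.BPStabDefect

set_option autoImplicit false
set_option linter.unusedSectionVars false
set_option linter.style.haveILetI false

/-!
# The stabilizer of a maximal Brauer pair has index prime to `p` over `P C_G(P)`
-/

namespace Cfsg.Agent.Lib.Helper81

open Cfsg
open Cfsg.Agent.Lib.Helper21 Cfsg.Agent.Lib.Helper82 Cfsg.Agent.Lib.Helper83

universe u

variable {G : Type u} [Group G] [Fintype G]

local notation "C(" R ")" => Subgroup.centralizer ((R : Subgroup G) : Set G)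
local notation "N(" R ")" => Subgroup.normalizer ((R : Subgroup G) : Set G)

open scoped Classical in
/-- the indicator function of the `K`-conjugacy class of `g` -/
noncomputable def kcl (K : Subgroup G) (g : G) : G → ℂ :=
  fun x => if ∃ z ∈ K, x = z * g * z⁻¹ then 1 else 0

theorem kcl_eq_one_iff {K : Subgroup G} {g x : G} : kcl K g x = 1 ↔ ∃ z ∈ K, x = z * g * z⁻¹ := by
  classical
  unfold kcl
  split_ifs with h
  · simp [h]
  · simp [h]

theorem kcl_eq_zero_iff {K : Subgroup G} {g x : G} :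
    kcl K g x = 0 ↔ ¬ ∃ z ∈ K, x = z * g * z⁻¹ := by
  classical
  unfold kcl
  split_ifs with h
  · simp [h]
  · simp [h]

theorem kcl_self (K : Subgroup G) (g : G) : kcl K g g = 1 :=
  kcl_eq_one_iff.2 ⟨1, K.one_mem, by simp⟩

theorem kcl_zero_or_one (K : Subgroup G) (g x : G) : kcl K g x = 0 ∨ kcl K g x = 1 := by
  classical
  unfold kcl
  split_ifs <;> simp

theorem kcl_memLocalRing {M : Ideal AlgInt} (hM : M.IsPrime) (K : Subgroup G) (g x : G) :
    MemLocalRing M (kcl K g x) := by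
  rcases kcl_zero_or_one K g x with h | h <;> rw [h]
  · exact memLocalRing_zero hM
  · exact memLocalRing_one hM

/-- conjugating the class indicator by an element of the normalizer -/
theorem conjF_kcl {K : Subgroup G} {t : G} (ht : t ∈ Subgroup.normalizer (K : Set G)) (g : G) :
    conjF t (kcl K g) = kcl K (t * g * t⁻¹) := by
  classical
  funext x
  simp only [conjF]
  have hiff : (∃ z ∈ K, t⁻¹ * x * t = z * g * z⁻¹) ↔ ∃ z ∈ K, x = z * (t * g * t⁻¹) * z⁻¹ := by
    constructor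
    · rintro ⟨z, hz, h⟩
      refine ⟨t * z * t⁻¹, (Subgroup.mem_normalizer_iff.1 ht z).1 hz, ?_⟩
      have : x = t * (t⁻¹ * x * t) * t⁻¹ := by group
      rw [this, h]; group
    · rintro ⟨z, hz, h⟩
      refine ⟨t⁻¹ * z * t, ?_, ?_⟩
      · have := (Subgroup.mem_normalizer_iff.1 (Subgroup.inv_mem _ ht) z).1 hz
        rwa [inv_inv] at this
      · rw [h]; group
  unfold kcl
  by_cases h : ∃ z ∈ K, t⁻¹ * x * t = z * g * z⁻¹
  · rw [if_pos h, if_pos (hiff.1 h)]
  · rw [if_neg h, if_neg (fun h' => h (hiff.2 h'))]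

theorem kcl_congr {K : Subgroup G} {g g' : G} (h : ∃ z ∈ K, g' = z * g * z⁻¹) :
    kcl K g' = kcl K g := by
  classical
  obtain ⟨z, hz, rfl⟩ := h
  funext x
  have hiff : (∃ y ∈ K, x = y * (z * g * z⁻¹) * y⁻¹) ↔ ∃ y ∈ K, x = y * g * y⁻¹ := by
    constructor
    · rintro ⟨y, hy, h⟩
      exact ⟨y * z, K.mul_mem hy hz, by rw [h]; group⟩
    · rintro ⟨y, hy, h⟩
      exact ⟨y * z⁻¹, K.mul_mem hy (K.inv_mem hz), by rw [h]; group⟩
  unfold kcl
  by_cases h : ∃ y ∈ K, x = y * (z * g * z⁻¹) * y⁻¹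
  · rw [if_pos h, if_pos (hiff.1 h)]
  · rw [if_neg h, if_neg (fun h' => h (hiff.2 h'))]

theorem kcl_conjInv (K : Subgroup G) (g : G) : ConjInv K (kcl K g) := by
  intro t ht
  have h1 : conjF t (kcl K g) = kcl K g := by
    rw [conjF_kcl (Subgroup.le_normalizer ht)]
    exact kcl_congr ⟨t, ht, rfl⟩
  exact (conjF_eq_self_iff t _).1 h1

section Orbit

variable {C T : Subgroup G} [Fintype T]

/-- the indicator of a `T`-class inside the normal subgroup `C` is the orbit sum of the indicator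
of a `C`-class -/
theorem ext0_indicator_eq_orbitSum (hCT : C ≤ T) (hTN : T ≤ Subgroup.normalizer (C : Set G))
    (g₀ : T) [DecidablePred (IsConj g₀)] :
    ext0 T (fun t : T => if IsConj g₀ t then (1 : ℂ) else 0) = orbitSum T (kcl C (g₀ : G)) := by
  classical
  funext x
  rw [orbitSum_apply]
  by_cases hx : ∃ t ∈ T, x = t * (g₀ : G) * t⁻¹
  · obtain ⟨t, ht, rfl⟩ := hx
    have hxT : t * (g₀ : G) * t⁻¹ ∈ T := T.mul_mem (T.mul_mem ht g₀.2) (T.inv_mem ht)
    rw [ext0_of_mem T _ hxT]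
    have hconj : IsConj g₀ (⟨t * (g₀ : G) * t⁻¹, hxT⟩ : T) := by
      rw [isConj_iff]
      exact ⟨⟨t, ht⟩, rfl⟩
    rw [if_pos hconj]
    rw [Finset.sum_eq_single (conjF t (kcl C (g₀ : G)))]
    · rw [conjF_kcl (hTN ht)]
      exact (kcl_self _ _).symm
    · intro b hb hne
      obtain ⟨s, hs, rfl⟩ := mem_orbitIdems.1 hb
      rw [conjF_kcl (hTN hs)]
      rcases kcl_zero_or_one C (s * (g₀ : G) * s⁻¹) (t * (g₀ : G) * t⁻¹) with h | h
      · exact h
      · exfalso
        apply hne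
        rw [conjF_kcl (hTN hs), conjF_kcl (hTN ht)]
        exact (kcl_congr (kcl_eq_one_iff.1 h)).symm
    · intro hno
      exact absurd (mem_orbitIdems.2 ⟨t, ht, rfl⟩) hno
  · have hzero : ext0 T (fun t : T => if IsConj g₀ t then (1 : ℂ) else 0) x = 0 := by
      by_cases hxT : x ∈ T
      · rw [ext0_of_mem T _ hxT]
        rw [if_neg]
        intro hconj
        rw [isConj_iff] at hconj
        obtain ⟨c, hc⟩ := hconj
        exact hx ⟨c, c.2, (congrArg Subtype.val hc).symm⟩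
      · exact ext0_of_not_mem T _ hxT
    rw [hzero]
    symm
    apply Finset.sum_eq_zero
    intro b hb
    obtain ⟨s, hs, rfl⟩ := mem_orbitIdems.1 hb
    rw [conjF_kcl (hTN hs), kcl_eq_zero_iff]
    rintro ⟨z, hz, h⟩
    exact hx ⟨z * s, T.mul_mem (hCT hz) hs, by rw [h]; group⟩

end Orbit

section Main

variable [Fintype (IrrCharacter G)] {p : ℕ} [Fact p.Prime] {M : Ideal AlgInt}

/-- conjugating an invariant function by an element stabilizing the block does not change the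
central character values modulo the local ideal -/
theorem omega_rs_conjF_inv_sub (hM : M.IsPrime) {K : Subgroup G} [Fintype K]
    [Fintype (IrrCharacter K)] {f : Set (IrrCharacter K)} (hf : IsPBlock M f) {t : G}
    (ht : StabilizesBlock K f t) {β : G → ℂ} (hβK : ConjInv K β)
    (hβR : ∀ x, MemLocalRing M (β x)) {ξ : IrrCharacter K} (hξ : ξ ∈ f) :
    MemLocalIdeal M (omega (rs K (conjF t⁻¹ β)) (ξ : K → ℂ) - omega (rs K β) (ξ : K → ℂ)) := by
  obtain ⟨htN, hst⟩ := ht
  obtain ⟨ξ', hξ', hconj⟩ := hst ξ hξ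
  set φ : K ≃* K := conjEquivN K t htN with hφ
  have e1 : rs K (conjF t⁻¹ β) = fun k => rs K β (φ k) := by
    funext k
    simp only [rs_apply, conjF, inv_inv]
    rfl
  have e2 : (ξ : K → ℂ) = fun k => (ξ' : K → ℂ) (φ k) := by
    funext k
    exact (hconj k (φ k) rfl).symm
  have e3 : omega (rs K (conjF t⁻¹ β)) (ξ : K → ℂ) = omega (rs K β) (ξ' : K → ℂ) := by
    rw [e1]
    conv_lhs => rw [e2]
    exact omega_comp φ (rs K β) (ξ' : K → ℂ)
  rw [e3]
  exact omega_sub_memLocalIdeal hM (rs_isClassFunction hβK) (fun k => hβR k)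
    (IsPBlock.sameBlock hM hf hξ' hξ)

variable {R T : Subgroup G} [Fintype T] [Fintype (IrrCharacter T)]
  [Fintype (Subgroup.centralizer (R : Set G))]
  [Fintype (IrrCharacter (Subgroup.centralizer (R : Set G)))]

/-- **Orbit counting for a defect class.**  Let `F` be the block of `T` (with
`R C_G(R) ≤ T ≤ N_G(R)`, `T` stabilizing `f`) having the idempotent of `f`, and let `g₀` represent a
defect class of `F`.  Then every `p`-subgroup of `T` has a `T`-conjugate all of whose elements move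
`g₀` inside its `C_G(R)`-class. -/
theorem exists_conj_stabilizing_class (hMod : IsPModular p M) (hR : IsPGroup p R) (hRT : R ≤ T)
    (hCT : C(R) ≤ T) (hTN : T ≤ N(R)) {f : Set (IrrCharacter C(R))} (hf : IsPBlock M f)
    (hTst : ∀ t ∈ T, StabilizesBlock C(R) f t) {F : Set (IrrCharacter T)} (hF : IsPBlock M F)
    (hFc : ∀ t : T, blockCoeff F t = subgroupBlockCoeff C(R) f t) {g₀ : T}
    (hg₀ : IsDefectClass M F g₀) {E : Subgroup G} (hE : IsPGroup p E) (hET : E ≤ T) :
    (g₀ : G) ∈ C(R) ∧ ∃ t ∈ T, ∀ u ∈ E, ∃ z ∈ C(R),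
      (t⁻¹ * u * t) * (g₀ : G) * (t⁻¹ * u * t)⁻¹ = z * (g₀ : G) * z⁻¹ := by
  classical
  have hM : M.IsPrime := hMod.2.1.isPrime
  set ε : G → ℂ := subgroupBlockCoeff C(R) f with hε
  have hTNC : T ≤ Subgroup.normalizer ((C(R) : Subgroup G) : Set G) :=
    fun t ht => normalizer_le_normalizer_centralizer R (hTN ht)
  -- `g₀ ∈ C_G(R)`
  have hne : ¬ MemLocalIdeal M (ε (g₀ : G)) := by
    rw [← hFc g₀]; exact hg₀.2.1
  have hcR : (g₀ : G) ∈ C(R) := by
    by_contra hno
    apply hne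
    rw [hε, sbc_of_not_mem _ _ hno]
    exact memLocalIdeal_zero hM
  refine ⟨hcR, ?_⟩
  obtain ⟨ψ, hψ⟩ := IsPBlock.nonempty hM hF
  obtain ⟨ξ₀, hξ₀⟩ := IsPBlock.nonempty hM hf
  -- the class indicator
  set a : T → ℂ := fun t : T => if IsConj g₀ t then (1 : ℂ) else 0 with ha
  have haR : IsRClass M a := by
    refine ⟨fun g h => ?_, fun g => ?_⟩
    · simp only [ha]
      have : IsConj g₀ (h * g * h⁻¹) ↔ IsConj g₀ g := by
        constructor
        · intro h1
          exact h1.trans (isConj_iff.2 ⟨h⁻¹, by group⟩)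
        · intro h1
          exact h1.trans (isConj_iff.2 ⟨h, rfl⟩)
      by_cases hc : IsConj g₀ g
      · rw [if_pos hc, if_pos (this.2 hc)]
      · rw [if_neg hc, if_neg (fun h' => hc (this.1 h'))]
    · simp only [ha]
      split_ifs
      · exact memLocalRing_one hM
      · exact memLocalRing_zero hM
  have h4 : omega a (ψ : T → ℂ) = centralChar (ψ : T → ℂ) g₀ :=
    omega_indicator (isClassFunction_irr ψ) g₀
  have h4' : ¬ MemLocalIdeal M (omega a (ψ : T → ℂ)) := by
    rw [h4]; exact hg₀.2.2 ψ hψ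
  -- Brauer homomorphism
  have hεT : ∀ x ∈ T, conjF x ε = ε := by
    intro x hx
    exact ((stabilizesBlock_iff_conjF C(R) hM hf x).1 (hTst x hx)).2
  have hb'c : ∀ h : T, blockCoeff F h = orbitSum T ε h := by
    intro h
    rw [hFc h, orbitSum_eq_self hεT]
  have h5 := omega_orbitBlock_congr hMod hR hRT hCT hTN hf hF hb'c hψ hξ₀ haR
  have h5' : ¬ MemLocalIdeal M (omega (rs C(R) (ext0 T a)) (ξ₀ : C(R) → ℂ)) := by
    intro h
    apply h4'
    have := memLocalIdeal_sub hM h h5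
    rwa [sub_sub_cancel] at this
  -- decomposition into the orbit
  set β₁ : G → ℂ := kcl C(R) (g₀ : G) with hβ₁
  set 𝔖 : Finset (G → ℂ) := orbitIdems T β₁ with h𝔖
  have h6 : ext0 T a = orbitSum T β₁ := ext0_indicator_eq_orbitSum hCT hTNC g₀
  have h7 : rs C(R) (orbitSum T β₁) = ∑ b ∈ 𝔖, rs C(R) b := by
    funext k
    rw [rs_apply, orbitSum_apply, Finset.sum_apply]
    rfl
  set w : ℂ := omega (rs C(R) β₁) (ξ₀ : C(R) → ℂ) with hw
  have h8 : ∀ b ∈ 𝔖, MemLocalIdeal M (omega (rs C(R) b) (ξ₀ : C(R) → ℂ) - w) := by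
    intro b hb
    obtain ⟨s, hs, rfl⟩ := mem_orbitIdems.1 hb
    have := omega_rs_conjF_inv_sub hM hf (hTst s⁻¹ (T.inv_mem hs)) (kcl_conjInv C(R) (g₀ : G))
      (kcl_memLocalRing hM C(R) (g₀ : G)) hξ₀
    rwa [inv_inv] at this
  have hwR : MemLocalRing M w :=
    memLocalRing_omega hM (rs_isClassFunction (kcl_conjInv C(R) (g₀ : G)))
      (fun k => kcl_memLocalRing hM C(R) (g₀ : G) k) ξ₀
  -- the sum of the constant `w` over the orbit is not in the local ideal
  have h9 : ¬ MemLocalIdeal M (∑ _b : {β // β ∈ 𝔖}, w) := by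
    intro h
    apply h5'
    rw [h6, h7, omega_sum]
    have h10 : MemLocalIdeal M (∑ b ∈ 𝔖, (omega (rs C(R) b) (ξ₀ : C(R) → ℂ) - w)) :=
      memLocalIdeal_sum hM _ _ h8
    rw [Finset.sum_sub_distrib] at h10
    have h11 : ∑ _b : {β // β ∈ 𝔖}, w = ∑ _b ∈ 𝔖, w :=
      Finset.sum_coe_sort 𝔖 (fun _ => w)
    rw [h11] at h
    have := memLocalIdeal_add hM h10 h
    rwa [sub_add_cancel] at this
  -- the action of `E` on the orbit
  letI act : MulAction E {β // β ∈ 𝔖} :=
    { smul := fun u b => ⟨conjF (u : G) b.1, conjF_mem_orbitIdems (hET u.2) b.2⟩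
      one_smul := fun b => Subtype.ext (conjF_one b.1)
      mul_smul := fun u v b => Subtype.ext (conjF_mul (u : G) (v : G) b.1) }
  have hsmul : ∀ (u : E) (b : {β // β ∈ 𝔖}),
      ((u • b : {β // β ∈ 𝔖}) : G → ℂ) = conjF (u : G) b.1 := fun _ _ => rfl
  have hcount := sum_sub_sum_fixed_memLocalIdeal hMod hE (fun _ : {β // β ∈ 𝔖} => w)
    (fun _ _ => rfl) (fun _ => hwR)
  have hex : ∃ b : {β // β ∈ 𝔖}, b ∈ MulAction.fixedPoints E {β // β ∈ 𝔖} := by
    by_contra hcon
    push Not at hcon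
    have hempty : Finset.univ.filter (· ∈ MulAction.fixedPoints E {β // β ∈ 𝔖}) = ∅ := by
      apply Finset.filter_eq_empty_iff.2
      intro b _
      exact hcon b
    rw [hempty, Finset.sum_empty, sub_zero] at hcount
    exact h9 hcount
  obtain ⟨b, hb⟩ := hex
  have hbfix := MulAction.mem_fixedPoints.1 hb
  obtain ⟨t, ht, hbt⟩ := mem_orbitIdems.1 b.2
  refine ⟨t, ht, fun u hu => ?_⟩
  have h1 := congrArg Subtype.val (hbfix ⟨u, hu⟩)
  rw [hsmul, hbt] at h1
  have h2 : conjF (t⁻¹ * u * t) β₁ = β₁ := by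
    have : conjF (t⁻¹ * u * t) β₁ = conjF t⁻¹ (conjF u (conjF t β₁)) := by
      rw [← conjF_mul, ← conjF_mul, mul_assoc]
    rw [this, h1, conjF_inv_conjF]
  have h3 := congrFun h2 ((t⁻¹ * u * t) * (g₀ : G) * (t⁻¹ * u * t)⁻¹)
  simp only [conjF] at h3
  have h4 : (t⁻¹ * u * t)⁻¹ * ((t⁻¹ * u * t) * (g₀ : G) * (t⁻¹ * u * t)⁻¹) * (t⁻¹ * u * t)
      = (g₀ : G) := by group
  rw [h4, hβ₁, kcl_self] at h3
  exact kcl_eq_one_iff.1 h3.symm

/-- the normalizer of `R` normalizes `R C_G(R)` -/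
theorem conj_mem_sup_centralizer {R : Subgroup G} {t w : G} (ht : t ∈ N(R))
    (hw : w ∈ R ⊔ C(R)) : t * w * t⁻¹ ∈ R ⊔ C(R) := by
  have h1 : t * w * t⁻¹ ∈ cj t (R ⊔ C(R)) := conj_mem_cj hw
  have h2 : cj t (R ⊔ C(R)) = R ⊔ C(R) := by
    show (R ⊔ C(R)).map (MulAut.conj t).toMonoidHom = R ⊔ C(R)
    rw [Subgroup.map_sup]
    have e1 : R.map (MulAut.conj t).toMonoidHom = R := cj_eq_of_mem_normalizer ht
    have e2 : (C(R)).map (MulAut.conj t).toMonoidHom = C(R) :=
      cj_eq_of_mem_normalizer (normalizer_le_normalizer_centralizer R ht)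
    rw [e1, e2]
  rw [h2] at h1
  exact h1

/-- **The Sylow property.**  If the block `F` of `T` with the idempotent of `f` has the normal
subgroup `R` as a defect group, every element of `T` of `p`-power order lies in `R C_G(R)`. -/
theorem pElement_mem_sup_centralizer (hMod : IsPModular p M) (hR : IsPGroup p R) (hRT : R ≤ T)
    (hCT : C(R) ≤ T) (hTN : T ≤ N(R)) {f : Set (IrrCharacter C(R))} (hf : IsPBlock M f)
    (hTst : ∀ t ∈ T, StabilizesBlock C(R) f t) {F : Set (IrrCharacter T)} (hF : IsPBlock M F)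
    (hFc : ∀ t : T, blockCoeff F t = subgroupBlockCoeff C(R) f t)
    (hdef : IsDefectGroup p M F (R.subgroupOf T)) {u : G} (hu : u ∈ T)
    (hup : ∃ k : ℕ, orderOf u = p ^ k) : u ∈ R ⊔ C(R) := by
  classical
  have hM : M.IsPrime := hMod.2.1.isPrime
  obtain ⟨g₀, hg₀, S, hS⟩ := hdef
  obtain ⟨k, hk⟩ := hup
  have hEp : IsPGroup p (Subgroup.zpowers u) := by
    apply IsPGroup.of_card (n := k)
    rw [Nat.card_zpowers, hk]
  have hET : Subgroup.zpowers u ≤ T := by
    rw [Subgroup.zpowers_le]; exact hu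
  obtain ⟨hcR, t, ht, hall⟩ := exists_conj_stabilizing_class hMod hR hRT hCT hTN hf hTst hF hFc
    hg₀ hEp hET
  obtain ⟨z, hz, hzw⟩ := hall u (Subgroup.mem_zpowers u)
  set w : G := t⁻¹ * u * t with hw
  have hwT : w ∈ T := T.mul_mem (T.mul_mem (T.inv_mem ht) hu) ht
  set y : G := z⁻¹ * w with hy
  have hyT : y ∈ T := T.mul_mem (T.inv_mem (hCT hz)) hwT
  -- `y` centralizes `g₀`
  have hyc : y * (g₀ : G) * y⁻¹ = (g₀ : G) := by
    have : y * (g₀ : G) * y⁻¹ = z⁻¹ * (w * (g₀ : G) * w⁻¹) * z := by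
      rw [hy]; group
    rw [this, hzw]; group
  have hyCg : (⟨y, hyT⟩ : T) ∈ Subgroup.centralizer ({g₀} : Set T) := by
    rw [Subgroup.mem_centralizer_iff]
    intro x hx
    rw [Set.mem_singleton_iff] at hx
    subst hx
    apply Subtype.ext
    show (x : G) * y = y * (x : G)
    have : y * (x : G) = y * (x : G) * y⁻¹ * y := by group
    rw [this, hyc]
  -- `S` is normal in the centralizer of `g₀`
  haveI hRn : (R.subgroupOf T).Normal := Subgroup.normal_subgroupOf_of_le_normalizer hTN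
  have hSeq : (S : Subgroup (Subgroup.centralizer ({g₀} : Set T)))
      = (R.subgroupOf T).subgroupOf (Subgroup.centralizer ({g₀} : Set T)) := by
    show (S : Subgroup (Subgroup.centralizer ({g₀} : Set T)))
      = Subgroup.comap (Subgroup.centralizer ({g₀} : Set T)).subtype (R.subgroupOf T)
    rw [hS]
    exact (Subgroup.comap_map_eq_self_of_injective
      (Subgroup.centralizer ({g₀} : Set T)).subtype_injective _).symm
  haveI hSn : (S : Subgroup (Subgroup.centralizer ({g₀} : Set T))).Normal := by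
    rw [hSeq]
    exact Subgroup.Normal.subgroupOf hRn _
  set m : ℕ := (S : Subgroup (Subgroup.centralizer ({g₀} : Set T))).index with hm
  have hpm : ¬ p ∣ m := S.not_dvd_index
  have hym : y ^ m ∈ R := by
    have h1 : (⟨⟨y, hyT⟩, hyCg⟩ : Subgroup.centralizer ({g₀} : Set T)) ^ m
        ∈ (S : Subgroup (Subgroup.centralizer ({g₀} : Set T))) :=
      Subgroup.pow_index_mem (S : Subgroup (Subgroup.centralizer ({g₀} : Set T))) _
    have h2 := (SetLike.ext_iff.1 hSeq _).1 h1
    rw [Subgroup.mem_subgroupOf, Subgroup.mem_subgroupOf] at h2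
    simpa using h2
  -- powers of `w` and of `y` differ by elements of `C_G(R)`
  have hyN : y ∈ Subgroup.normalizer ((C(R) : Subgroup G) : Set G) :=
    normalizer_le_normalizer_centralizer R (hTN hyT)
  have hpow : ∀ n : ℕ, ∃ c ∈ C(R), w ^ n = c * y ^ n := by
    intro n
    induction n with
    | zero => exact ⟨1, Subgroup.one_mem _, by simp⟩
    | succ n ih =>
      obtain ⟨c, hc, hcn⟩ := ih
      have hyn : y ^ n ∈ Subgroup.normalizer ((C(R) : Subgroup G) : Set G) :=
        Subgroup.pow_mem _ hyN n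
      refine ⟨c * (y ^ n * z * (y ^ n)⁻¹), Subgroup.mul_mem _ hc
        ((Subgroup.mem_normalizer_iff.1 hyn z).1 hz), ?_⟩
      have hwzy : w = z * y := by rw [hy]; group
      rw [pow_succ, hcn, pow_succ]
      conv_lhs => rw [hwzy]
      group
  obtain ⟨c, hc, hcm⟩ := hpow m
  have hwm : w ^ m ∈ R ⊔ C(R) := by
    rw [hcm]
    exact Subgroup.mul_mem _ ((le_sup_right : C(R) ≤ R ⊔ C(R)) hc)
      ((le_sup_left : R ≤ R ⊔ C(R)) hym)
  -- `w` has order `p ^ k`
  have hwo : orderOf w = p ^ k := by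
    rw [← hk, hw]
    have hsc : SemiconjBy t⁻¹ u (t⁻¹ * u * t) := by
      show t⁻¹ * u = t⁻¹ * u * t * t⁻¹
      group
    exact (hsc.orderOf_eq t⁻¹).symm
  have hcop : m.Coprime (orderOf w) := by
    rw [hwo]
    apply Nat.Coprime.pow_right
    rw [Nat.coprime_comm]
    exact (Nat.Prime.coprime_iff_not_dvd (Fact.out : p.Prime)).2 hpm
  obtain ⟨n, hn⟩ := exists_pow_eq_self_of_coprime hcop
  have hwL : w ∈ R ⊔ C(R) := by
    rw [← hn]
    exact Subgroup.pow_mem _ hwm n
  have hfin := conj_mem_sup_centralizer (hTN ht) hwL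
  have : t * w * t⁻¹ = u := by rw [hw]; group
  rwa [this] at hfin

end Main

end Cfsg.Agent.Lib.Helper81
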