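import Mathlib
import Cfsg.Prelude.Def_BrauerPairs
import Cfsg.Agent.Lib.Helper81.BPIndex
import Cfsg.Agent.Lib.Helper81.BPSylow

set_option autoImplicit false
set_option linter.unusedSectionVars false
set_option linter.style.haveILetI false

/-!
# The index of `D C_G(R)` in the stabilizer of a Brauer pair
-/

namespace Cfsg.Agent.Lib.Helper81

open Cfsg
open Cfsg.Agent.Lib.Helper21 Cfsg.Agent.Lib.Helper82 Cfsg.Agent.Lib.Helper83

universe u

section Abstract

variable {T : Type u} [Group T] [Finite T] {p : ℕ} [Fact p.Prime]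

theorem map_conj_normal (K : Subgroup T) [hK : K.Normal] (y : T) :
    K.map (MulAut.conj y).toMonoidHom = K := by
  ext v
  rw [Subgroup.mem_map]
  constructor
  · rintro ⟨k, hk, rfl⟩
    exact hK.conj_mem k hk y
  · intro hv
    refine ⟨y⁻¹ * v * y, ?_, by simp [mul_assoc]⟩
    have := hK.conj_mem v hv y⁻¹
    rwa [inv_inv] at this

/-- **Sylow argument.**  Let `K` be normal in `T`, `g₀ ∈ T` and `D` a Sylow `p`-subgroup of
`C_T(g₀)`.  If a `p`-subgroup `E` of index prime to `p` moves `g₀` only inside its `K`-class, then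
`D K` has index prime to `p`. -/
theorem not_dvd_index_sup_of_class (K : Subgroup T) [hK : K.Normal] (g₀ : T)
    (SX : Sylow p (Subgroup.centralizer ({g₀} : Set T))) (E : Subgroup T) (hEp : IsPGroup p E)
    (hEi : ¬ p ∣ E.index)
    (hE : ∀ u ∈ E, ∃ z ∈ K, u * g₀ * u⁻¹ = z * g₀ * z⁻¹) :
    ¬ p ∣ ((SX : Subgroup (Subgroup.centralizer ({g₀} : Set T))).map
      (Subgroup.centralizer ({g₀} : Set T)).subtype ⊔ K).index := by
  classical
  have hXdef : ∀ x : T, x ∈ Subgroup.centralizer ({g₀} : Set T) ↔ x * g₀ = g₀ * x := by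
    intro x
    rw [Subgroup.mem_centralizer_iff]
    constructor
    · intro h
      exact (h g₀ (Set.mem_singleton _)).symm
    · intro h y hy
      rw [Set.mem_singleton_iff] at hy
      subst hy
      exact h.symm
  set D : Subgroup T := (SX : Subgroup (Subgroup.centralizer ({g₀} : Set T))).map
    (Subgroup.centralizer ({g₀} : Set T)).subtype with hD
  set mk : T →* T ⧸ K := QuotientGroup.mk' K with hmk
  have hsurj : Function.Surjective (mk.subgroupMap (Subgroup.centralizer ({g₀} : Set T))) :=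
    mk.subgroupMap_surjective _
  have hSbcoe : ((SX.mapSurjective hsurj : Sylow p ((Subgroup.centralizer ({g₀} : Set T)).map mk)) :
      Subgroup ((Subgroup.centralizer ({g₀} : Set T)).map mk)).map
        ((Subgroup.centralizer ({g₀} : Set T)).map mk).subtype = D.map mk := by
    rw [Sylow.coe_mapSurjective, hD, Subgroup.map_map, Subgroup.map_map]
    rfl
  have hEb : E.map mk ≤ (Subgroup.centralizer ({g₀} : Set T)).map mk := by
    rintro _ ⟨u, hu, rfl⟩
    obtain ⟨z, hz, hzu⟩ := hE u hu
    have h1 : z⁻¹ * u ∈ Subgroup.centralizer ({g₀} : Set T) := by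
      rw [hXdef]
      have : z⁻¹ * u * g₀ = z⁻¹ * (u * g₀ * u⁻¹) * u := by group
      rw [this, hzu]; group
    refine ⟨z⁻¹ * u, h1, ?_⟩
    rw [hmk, QuotientGroup.mk'_apply, QuotientGroup.mk'_apply, QuotientGroup.mk_mul,
      QuotientGroup.mk_inv, (QuotientGroup.eq_one_iff z).2 hz, inv_one, one_mul]
  obtain ⟨zb, hzb⟩ := exists_conj_le_of_isPGroup (hEp.map mk) hEb (SX.mapSurjective hsurj)
  obtain ⟨y, rfl⟩ := QuotientGroup.mk'_surjective K zb
  rw [hSbcoe] at hzb
  have h2 : ∀ D' : Subgroup T, (D'.map mk).map (MulAut.conj (QuotientGroup.mk' K y)).toMonoidHom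
      = (D'.map (MulAut.conj y).toMonoidHom).map mk := by
    intro D'
    rw [Subgroup.map_map, Subgroup.map_map]
    have : (MulAut.conj (QuotientGroup.mk' K y)).toMonoidHom.comp mk
        = mk.comp (MulAut.conj y).toMonoidHom := by
      ext d
      simp [hmk]
    rw [this]
  rw [h2 D] at hzb
  have h3 : E ≤ D.map (MulAut.conj y).toMonoidHom ⊔ K := by
    have := Subgroup.comap_mono (f := mk) hzb
    rw [Subgroup.comap_map_eq, Subgroup.comap_map_eq, hmk, QuotientGroup.ker_mk'] at this
    exact le_trans le_sup_left this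
  have h4 : D.map (MulAut.conj y).toMonoidHom ⊔ K = (D ⊔ K).map (MulAut.conj y).toMonoidHom := by
    rw [Subgroup.map_sup, map_conj_normal K y]
  have h5 : ((D ⊔ K).map (MulAut.conj y).toMonoidHom).index = (D ⊔ K).index :=
    Subgroup.index_map_equiv (D ⊔ K) (MulAut.conj y)
  intro hdvd
  apply hEi
  rw [← h5, ← h4] at hdvd
  exact dvd_trans hdvd (Subgroup.index_dvd_of_le h3)

end Abstract

variable {G : Type u} [Group G] [Fintype G]

local notation "C(" R ")" => Subgroup.centralizer ((R : Subgroup G) : Set G)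
local notation "N(" R ")" => Subgroup.normalizer ((R : Subgroup G) : Set G)

variable {p : ℕ} [Fact p.Prime] {M : Ideal AlgInt}

/-- **The index of `D C_G(R)`.**  Let `F` be the block of `T` (with `R C_G(R) ≤ T ≤ N_G(R)`, `T`
stabilizing `f`) having the idempotent of `f`, and let `D` be a defect group of `F`.  Then
`D C_G(R)` has index prime to `p` in `T`. -/
theorem not_dvd_index_defect_sup_centralizer (hMod : IsPModular p M) {R T : Subgroup G}
    (hR : IsPGroup p R) (hRT : R ≤ T) (hCT : C(R) ≤ T) (hTN : T ≤ N(R))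
    {f : Set (IrrCharacter C(R))} (hf : IsPBlock M f)
    (hTst : ∀ t ∈ T, StabilizesBlock C(R) f t) {F : Set (IrrCharacter T)} (hF : IsPBlock M F)
    (hFc : ∀ t : T, blockCoeff F t = subgroupBlockCoeff C(R) f t) {D : Subgroup T}
    (hD : IsDefectGroup p M F D) : ¬ p ∣ (D ⊔ (C(R)).subgroupOf T).index := by
  classical
  haveI : Finite (IrrCharacter G) := irr_finite
  haveI : Fintype (IrrCharacter G) := Fintype.ofFinite _
  haveI : Fintype T := Fintype.ofFinite _
  haveI : Finite (IrrCharacter T) := irr_finite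
  haveI : Fintype (IrrCharacter T) := Fintype.ofFinite _
  haveI : Fintype C(R) := Fintype.ofFinite _
  haveI : Finite (IrrCharacter C(R)) := irr_finite
  haveI : Fintype (IrrCharacter C(R)) := Fintype.ofFinite _
  obtain ⟨g₀, hg₀, SX, rfl⟩ := hD
  have hTNC : T ≤ Subgroup.normalizer ((C(R) : Subgroup G) : Set G) :=
    fun t ht => normalizer_le_normalizer_centralizer R (hTN ht)
  haveI hKn : ((C(R)).subgroupOf T).Normal := Subgroup.normal_subgroupOf_of_le_normalizer hTNC
  obtain ⟨S⟩ : Nonempty (Sylow p T) := inferInstance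
  have hSp : IsPGroup p ((S : Subgroup T).map T.subtype) := S.isPGroup'.map _
  have hST : (S : Subgroup T).map T.subtype ≤ T := by
    rintro _ ⟨s, -, rfl⟩
    exact s.2
  obtain ⟨-, t, ht, hall⟩ := exists_conj_stabilizing_class hMod hR hRT hCT hTN hf hTst hF hFc
    hg₀ hSp hST
  set tT : T := ⟨t, ht⟩ with htT
  set E : Subgroup T := (S : Subgroup T).map (MulAut.conj tT⁻¹).toMonoidHom with hE
  have hEp : IsPGroup p E := S.isPGroup'.map _
  have hEi : ¬ p ∣ E.index := by
    have : E.index = (S : Subgroup T).index :=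
      Subgroup.index_map_equiv (S : Subgroup T) (MulAut.conj tT⁻¹)
    rw [this]
    exact S.not_dvd_index
  apply not_dvd_index_sup_of_class ((C(R)).subgroupOf T) g₀ SX E hEp hEi
  rintro _ ⟨s, hs, rfl⟩
  obtain ⟨z, hz, hzs⟩ := hall (s : G) ⟨s, hs, rfl⟩
  refine ⟨⟨z, hCT hz⟩, Subgroup.mem_subgroupOf.2 hz, ?_⟩
  apply Subtype.ext
  simp only [MulEquiv.coe_toMonoidHom, MulAut.conj_apply, inv_inv, Subgroup.coe_mul,
    Subgroup.coe_inv, htT]
  simpa [mul_assoc] using hzs

end Cfsg.Agent.Lib.Helper81
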