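import Mathlib
import Cfsg.Prelude.Def_BrauerPairs
import Cfsg.Prelude.Def_BlockFusion
import Cfsg.Agent.Lib.Helper81.BPStabDefect

set_option autoImplicit false
set_option linter.unusedSectionVars false
set_option linter.style.haveILetI false

/-!
# The fusion system of a block: fully centralized, fully normalized and centric subgroups
-/

namespace Cfsg.Agent.Lib.Helper81

open Cfsg
open Cfsg.Agent.Lib.Helper21 Cfsg.Agent.Lib.Helper82 Cfsg.Agent.Lib.Helper83

universe u

variable {G : Type u} [Group G] [Fintype G]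

local notation "C(" R ")" => Subgroup.centralizer ((R : Subgroup G) : Set G)
local notation "N(" R ")" => Subgroup.normalizer ((R : Subgroup G) : Set G)

variable {p : ℕ} [Fact p.Prime] {M : Ideal AlgInt}

/-- defect groups of blocks corresponding under a conjugation isomorphism have the same order -/
theorem card_defectGroup_conjEquivSub (hMod : IsPModular p M) (x : G) {H H' : Subgroup G}
    (hH' : ∀ y, y ∈ H' ↔ x⁻¹ * y * x ∈ H) {F : Set (IrrCharacter H)} {F' : Set (IrrCharacter H')}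
    (hF : IsPBlock M F) (hF' : IsPBlock M F')
    (hcoef : ∀ t : H', blockCoeff F' t = blockCoeff F (conjEquivSub x hH' t))
    {D : Subgroup H} {D' : Subgroup H'} (hD : IsDefectGroup p M F D)
    (hD' : IsDefectGroup p M F' D') : Nat.card D' = Nat.card D := by
  classical
  have hM : M.IsPrime := hMod.2.1.isPrime
  haveI : Fintype H := Fintype.ofFinite _
  haveI : Finite (IrrCharacter H) := irr_finite
  haveI : Fintype (IrrCharacter H) := Fintype.ofFinite _
  haveI : Fintype H' := Fintype.ofFinite _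
  haveI : Finite (IrrCharacter H') := irr_finite
  haveI : Fintype (IrrCharacter H') := Fintype.ofFinite _
  set ψ : H' ≃* H := conjEquivSub x hH' with hψ
  obtain ⟨θ₀, hθ₀⟩ := id hF
  have hFF' : F' = blockOf M (irrComp ψ θ₀ : H' → ℂ) := by
    apply eq_of_blockCoeff_eq hM hF' ⟨_, rfl⟩
    intro t
    rw [blockCoeff_blockOf_irrComp M ψ θ₀ t, ← hθ₀, hcoef]
  have hD'' : IsDefectGroup p M F' (D.comap ψ.toMonoidHom) := by
    rw [hFF']
    rw [hθ₀] at hD
    exact isDefectGroup_irrComp ψ θ₀ hD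
  have hcard1 : Nat.card D' = Nat.card (D.comap ψ.toMonoidHom) :=
    card_defectGroup_eq' hMod hF' hD'' hD'
  have hcard2 : Nat.card (D.comap ψ.toMonoidHom) = Nat.card D := by
    have h1 : D.comap ψ.toMonoidHom = D.map ψ.symm.toMonoidHom := by
      ext t
      rw [Subgroup.mem_comap, Subgroup.mem_map]
      constructor
      · intro ht
        exact ⟨ψ t, ht, ψ.symm_apply_apply t⟩
      · rintro ⟨d, hd, rfl⟩
        have : ψ.toMonoidHom (ψ.symm.toMonoidHom d) = d := ψ.apply_symm_apply d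
        rw [this]; exact hd
    rw [h1]
    exact Subgroup.card_map_of_injective ψ.symm.injective
  rw [hcard1, hcard2]

/-- defect groups of `f` and of its conjugate have the same order -/
theorem card_defectGroup_conjBlock (hMod : IsPModular p M) (x : G) (Q : Subgroup G)
    {f : Set (IrrCharacter C(Q))} (hf : IsPBlock M f) {D : Subgroup C(Q)}
    {D' : Subgroup C(cj x Q)} (hD : IsDefectGroup p M f D)
    (hD' : IsDefectGroup p M (conjBlock Q x f) D') : Nat.card D' = Nat.card D := by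
  classical
  haveI : Fintype C(Q) := Fintype.ofFinite _
  haveI : Finite (IrrCharacter C(Q)) := irr_finite
  haveI : Fintype (IrrCharacter C(Q)) := Fintype.ofFinite _
  haveI : Fintype C(cj x Q) := Fintype.ofFinite _
  haveI : Finite (IrrCharacter C(cj x Q)) := irr_finite
  haveI : Fintype (IrrCharacter C(cj x Q)) := Fintype.ofFinite _
  refine card_defectGroup_conjEquivSub hMod x (H := C(Q)) (H' := C(cj x Q))
    (fun y => mem_centralizer_cj_iff) hf (isPBlock_conjBlock x Q hf) (fun t => ?_) hD hD'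
  have h1 := congrFun (sbc_conjBlock x Q hf) (t : G)
  rw [sbc_of_mem _ _ t.2] at h1
  simp only [conjF] at h1
  rw [sbc_of_mem _ _ (mem_centralizer_cj_iff.1 t.2)] at h1
  exact h1

theorem card_inf_subgroupOf (A K : Subgroup G) :
    Nat.card ((A ⊓ K).subgroupOf K) = Nat.card (A ⊓ K : Subgroup G) :=
  Nat.card_congr (Subgroup.subgroupOfEquivOfLe inf_le_right).toEquiv

theorem card_subgroupOf_of_le {A K : Subgroup G} (h : A ≤ K) :
    Nat.card (A.subgroupOf K) = Nat.card A :=
  Nat.card_congr (Subgroup.subgroupOfEquivOfLe h).toEquiv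

/-- the lower member of a subpair inclusion is a block when the upper member is -/
theorem isPBlock_of_subpairLE {P Q : Subgroup G} {e : Set (IrrCharacter C(P))}
    {f : Set (IrrCharacter C(Q))} (he : IsPBlock M e) (hle : SubpairLE p M Q f P e) :
    IsPBlock M f := by
  rcases Relation.ReflTransGen.cases_head hle with h | ⟨c, hc, -⟩
  · have h1 : Q = P := congrArg Sigma.fst h
    subst h1
    have h2 : f = e := eq_of_heq (Sigma.mk.inj h).2
    rw [h2]; exact he
  · exact hc.1.2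

/-- the stabilizer of `f` in `N_G(Q)` as a subgroup -/
noncomputable def stabSubgroup (Q : Subgroup G) (f : Set (IrrCharacter C(Q))) : Subgroup G :=
  N(Q) ⊓ conjStab (subgroupBlockCoeff C(Q) f)

theorem mem_stabSubgroup (hM : M.IsPrime) {Q : Subgroup G} {f : Set (IrrCharacter C(Q))}
    (hf : IsPBlock M f) (y : G) :
    y ∈ stabSubgroup Q f ↔ y ∈ N(Q) ∧ StabilizesBlock C(Q) f y := by
  classical
  haveI : Fintype C(Q) := Fintype.ofFinite _
  haveI : Finite (IrrCharacter C(Q)) := irr_finite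
  haveI : Fintype (IrrCharacter C(Q)) := Fintype.ofFinite _
  rw [stabilizesBlock_iff_conjF C(Q) hM hf]
  unfold stabSubgroup
  rw [Subgroup.mem_inf, mem_conjStab]
  constructor
  · rintro ⟨h1, h2⟩
    exact ⟨h1, normalizer_le_normalizer_centralizer Q h1, h2⟩
  · rintro ⟨h1, -, h2⟩
    exact ⟨h1, h2⟩

theorem cj_inf_centralizer (x : G) (Q : Subgroup G) : cj x (Q ⊓ C(Q)) = cj x Q ⊓ C(cj x Q) := by
  ext v
  rw [Subgroup.mem_inf, mem_cj, mem_cj, mem_centralizer_cj_iff]
  constructor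
  · rintro ⟨u, hu, rfl⟩
    refine ⟨⟨u, hu.1, rfl⟩, ?_⟩
    have : x⁻¹ * (x * u * x⁻¹) * x = u := by group
    rw [this]; exact hu.2
  · rintro ⟨⟨u, hu, rfl⟩, h2⟩
    have : x⁻¹ * (x * u * x⁻¹) * x = u := by group
    rw [this] at h2
    exact ⟨u, ⟨hu, h2⟩, rfl⟩

section Fusion

variable {B : Set (IrrCharacter G)} {P : Subgroup G}
  {e : Set (IrrCharacter (Subgroup.centralizer (P : Set G)))} {F : FusionSystem P}

theorem range_conjHom (Q : Subgroup G) (g : G) : (conjHom Q g).range = cj g Q := by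
  ext v
  rw [MonoidHom.mem_range, mem_cj]
  constructor
  · rintro ⟨u, rfl⟩
    exact ⟨u, u.2, rfl⟩
  · rintro ⟨u, hu, rfl⟩
    exact ⟨⟨u, hu⟩, rfl⟩

/-- the conjugates of `Q` in the fusion system of the block -/
theorem isConj_iff (hMod : IsPModular p M) (hF : IsBlockFusionSystemOn p M B P e F)
    {Q : Subgroup G} {f : Set (IrrCharacter C(Q))} (hf : IsPBlock M f)
    (hle : SubpairLE p M Q f P e) (R : Subgroup G) :
    F.IsConj Q R ↔ ∃ g : G, R = cj g Q ∧ SubpairLE p M (cj g Q) (conjBlock Q g f) P e := by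
  have hPe : IsBrauerPair p M P e := hF.1.1.1
  have hQP : Q ≤ P := subpairLE_le hMod hle hf
  constructor
  · rintro ⟨φ, hφ, hrange⟩
    obtain ⟨-, g, hφg, -, f', hle', hle''⟩ := (hF.2 Q φ).1 hφ
    have hf' : IsPBlock M f' := isPBlock_of_subpairLE hPe.2 hle'
    have hff : f' = f := (existsUnique_subpair hMod hPe hQP).unique ⟨hf', hle'⟩ ⟨hf, hle⟩
    rw [hff] at hle''
    refine ⟨g, ?_, hle''⟩
    rw [← hrange]
    ext v
    rw [MonoidHom.mem_range, mem_cj]
    constructor
    · rintro ⟨u, rfl⟩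
      exact ⟨u, u.2, hφg u⟩
    · rintro ⟨u, hu, rfl⟩
      exact ⟨⟨u, hu⟩, hφg ⟨u, hu⟩⟩
  · rintro ⟨g, rfl, hleg⟩
    refine ⟨conjHom Q g, ?_, range_conjHom Q g⟩
    rw [hF.2 Q]
    exact ⟨hQP, g, fun u => rfl, subpairLE_le hMod hleg (isPBlock_conjBlock g Q hf), f, hle, hleg⟩

/-- S4661 again, in library form -/
theorem centralizer_defect (hMod : IsPModular p M)
    (hmax : IsMaximalBrauerPair p M B P e) {Q : Subgroup G} {f : Set (IrrCharacter C(Q))}
    (hf : IsPBlock M f) (hle : SubpairLE p M Q f P e) :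
    (∃ D : Subgroup C(Q), IsDefectGroup p M f D ∧ (P ⊓ C(Q)).subgroupOf C(Q) ≤ D) ∧
    ∃ x : G, SubpairLE p M (cj x Q) (conjBlock Q x f) P e ∧
      IsDefectGroup p M (conjBlock Q x f) ((P ⊓ C(cj x Q)).subgroupOf C(cj x Q)) := by
  classical
  haveI : Fintype C(Q) := Fintype.ofFinite _
  haveI : Finite (IrrCharacter C(Q)) := irr_finite
  haveI : Fintype (IrrCharacter C(Q)) := Fintype.ofFinite _
  have hst : ConjInv C(Q) (subgroupBlockCoeff C(Q) f) := sbc_conjInv_self _ f
  have hFc : ∀ h : C(Q), blockCoeff f h = subgroupBlockCoeff C(Q) f h :=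
    fun h => (sbc_of_mem _ f h.2).symm
  refine ⟨exists_defectGroup_ge hMod hmax.1.1 hle hf le_rfl hst hf hFc, ?_⟩
  obtain ⟨x, hlex, hall⟩ := exists_conj_isDefectGroup hMod hmax hle hf le_rfl
    (Subgroup.centralizer_le_normalizer _) hst hf hFc
  refine ⟨x, hlex, ?_⟩
  haveI : Fintype C(cj x Q) := Fintype.ofFinite _
  haveI : Finite (IrrCharacter C(cj x Q)) := irr_finite
  haveI : Fintype (IrrCharacter C(cj x Q)) := Fintype.ofFinite _
  exact hall _ (fun y => mem_centralizer_cj_iff) (conjBlock Q x f) (isPBlock_conjBlock x Q hf)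
    (fun t => (sbc_of_mem _ _ t.2).symm)

/-- **S4678.** -/
theorem isFullyCentralized_iff (hMod : IsPModular p M)
    (hF : IsBlockFusionSystemOn p M B P e F) {Q : Subgroup G} {f : Set (IrrCharacter C(Q))}
    (hf : IsPBlock M f) (hle : SubpairLE p M Q f P e) :
    F.IsFullyCentralized Q ↔ IsDefectGroup p M f ((P ⊓ C(Q)).subgroupOf C(Q)) := by
  have hmax := hF.1
  have hQP : Q ≤ P := subpairLE_le hMod hle hf
  obtain ⟨⟨D, hD, hDle⟩, x, hlex, hdefx⟩ := centralizer_defect hMod hmax hf hle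
  constructor
  · rintro ⟨-, hfc⟩
    have h1 := hfc (cj x Q) ((isConj_iff hMod hF hf hle _).2 ⟨x, rfl, hlex⟩)
    have h2 : Nat.card ((P ⊓ C(cj x Q)).subgroupOf C(cj x Q)) = Nat.card D :=
      card_defectGroup_conjBlock hMod x Q hf hD hdefx
    have hEq : (P ⊓ C(Q)).subgroupOf C(Q) = D := by
      apply Subgroup.eq_of_le_of_card_ge hDle
      rw [← h2, card_inf_subgroupOf, card_inf_subgroupOf]
      exact h1
    rw [hEq]; exact hD
  · intro hdef
    refine ⟨hQP, fun R hR => ?_⟩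
    obtain ⟨g, rfl, hleg⟩ := (isConj_iff hMod hF hf hle _).1 hR
    have hfg : IsPBlock M (conjBlock Q g f) := isPBlock_conjBlock g Q hf
    obtain ⟨⟨DR, hDR, hDRle⟩, -⟩ := centralizer_defect hMod hmax hfg hleg
    have h2 : Nat.card DR = Nat.card ((P ⊓ C(Q)).subgroupOf C(Q)) :=
      card_defectGroup_conjBlock hMod g Q hf hdef hDR
    have h3 := Subgroup.card_le_of_le hDRle
    rw [h2, card_inf_subgroupOf, card_inf_subgroupOf] at h3
    exact h3

/-- **S4680.** -/
theorem isCentric_iff (hMod : IsPModular p M)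
    (hF : IsBlockFusionSystemOn p M B P e F) {Q : Subgroup G} {f : Set (IrrCharacter C(Q))}
    (hf : IsPBlock M f) (hle : SubpairLE p M Q f P e) :
    F.IsCentric Q ↔ IsDefectGroup p M f ((Q ⊓ C(Q)).subgroupOf C(Q)) := by
  have hmax := hF.1
  have hQP : Q ≤ P := subpairLE_le hMod hle hf
  obtain ⟨⟨D, hD, hDle⟩, x, hlex, hdefx⟩ := centralizer_defect hMod hmax hf hle
  constructor
  · rintro ⟨-, hc⟩
    have h1 : P ⊓ C(cj x Q) ≤ cj x Q :=
      hc (cj x Q) ((isConj_iff hMod hF hf hle _).2 ⟨x, rfl, hlex⟩)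
    have h2 : Nat.card ((P ⊓ C(cj x Q)).subgroupOf C(cj x Q)) = Nat.card D :=
      card_defectGroup_conjBlock hMod x Q hf hD hdefx
    have hZle : (Q ⊓ C(Q)).subgroupOf C(Q) ≤ D := by
      refine le_trans (fun r hr => ?_) hDle
      rw [Subgroup.mem_subgroupOf] at hr ⊢
      exact ⟨hQP hr.1, hr.2⟩
    have h3 : P ⊓ C(cj x Q) ≤ cj x (Q ⊓ C(Q)) := by
      rw [cj_inf_centralizer]
      exact le_inf h1 inf_le_right
    have h4 : Nat.card (cj x (Q ⊓ C(Q))) = Nat.card (Q ⊓ C(Q) : Subgroup G) :=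
      Subgroup.card_map_of_injective (MulAut.conj x).injective
    have hEq : (Q ⊓ C(Q)).subgroupOf C(Q) = D := by
      apply Subgroup.eq_of_le_of_card_ge hZle
      rw [← h2, card_inf_subgroupOf, card_inf_subgroupOf, ← h4]
      exact Subgroup.card_le_of_le h3
    rw [hEq]; exact hD
  · intro hdef
    refine ⟨hQP, fun R hR => ?_⟩
    obtain ⟨g, rfl, hleg⟩ := (isConj_iff hMod hF hf hle _).1 hR
    have hfg : IsPBlock M (conjBlock Q g f) := isPBlock_conjBlock g Q hf
    have hRP : cj g Q ≤ P := subpairLE_le hMod hleg hfg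
    obtain ⟨⟨DR, hDR, hDRle⟩, -⟩ := centralizer_defect hMod hmax hfg hleg
    have h2 : Nat.card DR = Nat.card ((Q ⊓ C(Q)).subgroupOf C(Q)) :=
      card_defectGroup_conjBlock hMod g Q hf hdef hDR
    have h3 := Subgroup.card_le_of_le hDRle
    rw [h2, card_inf_subgroupOf, card_inf_subgroupOf] at h3
    have h4 : Nat.card (cj g (Q ⊓ C(Q))) = Nat.card (Q ⊓ C(Q) : Subgroup G) :=
      Subgroup.card_map_of_injective (MulAut.conj g).injective
    have h5 : cj g Q ⊓ C(cj g Q) ≤ P ⊓ C(cj g Q) := inf_le_inf_right _ hRP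
    have h6 : cj g Q ⊓ C(cj g Q) = P ⊓ C(cj g Q) := by
      apply Subgroup.eq_of_le_of_card_ge h5
      rw [← cj_inf_centralizer, h4]
      exact h3
    show P ⊓ C(cj g Q) ≤ cj g Q
    rw [← h6]
    exact inf_le_left

/-- **S4679.** -/
theorem isFullyNormalized_iff (hMod : IsPModular p M)
    (hF : IsBlockFusionSystemOn p M B P e F) {Q : Subgroup G} {f : Set (IrrCharacter C(Q))}
    (hf : IsPBlock M f) (hle : SubpairLE p M Q f P e) {T : Subgroup G}
    (hT : ∀ y : G, y ∈ T ↔ y ∈ N(Q) ∧ StabilizesBlock C(Q) f y) :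
    F.IsFullyNormalized Q ↔ ∃ F' : Set (IrrCharacter T), IsPBlock M F' ∧
      (∀ t : T, blockCoeff F' t = subgroupBlockCoeff C(Q) f (t : G)) ∧
      IsDefectGroup p M F' ((P ⊓ N(Q)).subgroupOf T) := by
  classical
  have hM : M.IsPrime := hMod.2.1.isPrime
  have hmax := hF.1
  have hPe : IsBrauerPair p M P e := hmax.1.1
  have hQP : Q ≤ P := subpairLE_le hMod hle hf
  haveI : Fintype C(Q) := Fintype.ofFinite _
  haveI : Finite (IrrCharacter C(Q)) := irr_finite
  haveI : Fintype (IrrCharacter C(Q)) := Fintype.ofFinite _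
  have hNT : P ⊓ N(Q) ≤ T := inf_normalizer_le_stabilizer hMod hPe hle hf hT
  -- the coefficient relation between the blocks of `T` and of the stabilizer of a conjugate
  have hcoef : ∀ (g : G) (F₁ : Set (IrrCharacter T))
      (F₂ : Set (IrrCharacter (stabSubgroup (cj g Q) (conjBlock Q g f))))
      (hH' : ∀ y, y ∈ stabSubgroup (cj g Q) (conjBlock Q g f) ↔ g⁻¹ * y * g ∈ T),
      (∀ t : T, blockCoeff F₁ t = subgroupBlockCoeff C(Q) f (t : G)) →
      (∀ t : stabSubgroup (cj g Q) (conjBlock Q g f),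
        blockCoeff F₂ t = subgroupBlockCoeff C(cj g Q) (conjBlock Q g f) (t : G)) →
      ∀ t : stabSubgroup (cj g Q) (conjBlock Q g f),
        blockCoeff F₂ t = blockCoeff F₁ (conjEquivSub g hH' t) := by
    intro g F₁ F₂ hH' h1 h2 t
    haveI : Fintype C(cj g Q) := Fintype.ofFinite _
    haveI : Finite (IrrCharacter C(cj g Q)) := irr_finite
    haveI : Fintype (IrrCharacter C(cj g Q)) := Fintype.ofFinite _
    rw [h2, h1, sbc_conjBlock g Q hf]
    rfl
  constructor
  · rintro ⟨-, hfn⟩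
    obtain ⟨⟨F₁, hF₁, hF₁c, D, hD, hDle⟩, x, hlex, hall⟩ := stabilizer_defect hMod hmax hf hle hT
    have hfx : IsPBlock M (conjBlock Q x f) := isPBlock_conjBlock x Q hf
    have hT' := mem_stabSubgroup hM hfx
    obtain ⟨F₂, hF₂, hF₂c, hdef₂⟩ := hall _ hT'
    have hH' := mem_stabilizer_conj_iff hM hf x hT hT'
    have h1 := hfn (cj x Q) ((isConj_iff hMod hF hf hle _).2 ⟨x, rfl, hlex⟩)
    have h2 : Nat.card ((P ⊓ N(cj x Q)).subgroupOf (stabSubgroup (cj x Q) (conjBlock Q x f)))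
        = Nat.card D :=
      card_defectGroup_conjEquivSub hMod x hH' hF₁ hF₂ (hcoef x F₁ F₂ hH' hF₁c hF₂c) hD hdef₂
    have hNT' : P ⊓ N(cj x Q) ≤ stabSubgroup (cj x Q) (conjBlock Q x f) :=
      inf_normalizer_le_stabilizer hMod hPe hlex hfx hT'
    refine ⟨F₁, hF₁, hF₁c, ?_⟩
    have hEq : (P ⊓ N(Q)).subgroupOf T = D := by
      apply Subgroup.eq_of_le_of_card_ge hDle
      rw [← h2, card_subgroupOf_of_le hNT', card_subgroupOf_of_le hNT]
      exact h1
    rw [hEq]; exact hD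
  · rintro ⟨F', hF', hF'c, hdef⟩
    refine ⟨hQP, fun R hR => ?_⟩
    obtain ⟨g, rfl, hleg⟩ := (isConj_iff hMod hF hf hle _).1 hR
    have hfg : IsPBlock M (conjBlock Q g f) := isPBlock_conjBlock g Q hf
    have hT' := mem_stabSubgroup hM hfg
    have hH' := mem_stabilizer_conj_iff hM hf g hT hT'
    obtain ⟨⟨F₂, hF₂, hF₂c, DR, hDR, hDRle⟩, -⟩ := stabilizer_defect hMod hmax hfg hleg hT'
    have h2 : Nat.card DR = Nat.card ((P ⊓ N(Q)).subgroupOf T) :=
      card_defectGroup_conjEquivSub hMod g hH' hF' hF₂ (hcoef g F' F₂ hH' hF'c hF₂c) hdef hDR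
    have hNT' : P ⊓ N(cj g Q) ≤ stabSubgroup (cj g Q) (conjBlock Q g f) :=
      inf_normalizer_le_stabilizer hMod hPe hleg hfg hT'
    have h3 := Subgroup.card_le_of_le hDRle
    rw [h2, card_subgroupOf_of_le hNT', card_subgroupOf_of_le hNT] at h3
    exact h3

end Fusion

end Cfsg.Agent.Lib.Helper81
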