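import Mathlib
import Cfsg.Prelude.Def_Blocks
import Cfsg.Agent.Lib.Helper21.QuotBlock2
import Cfsg.Agent.Lib.Helper82.DefectZero
import Cfsg.Agent.Lib.Helper82.DefectRank
import Cfsg.Agent.Lib.Helper82.WeakOrth
import Cfsg.Agent.Lib.Helper81.DefectBasic

set_option autoImplicit false
set_option linter.unusedSectionVars false
set_option linter.style.haveILetI false

/-!
# Blocks and central `p`-subgroups: a block contains a unique block of the central quotient
-/

namespace Cfsg.Agent.Lib.Helper81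

open Cfsg
open Cfsg.Agent.Lib.Helper21 Cfsg.Agent.Lib.Helper82 Cfsg.Agent.Lib.Helper83

universe u

section PRegular

variable {X : Type u} [Group X] [Fintype X] {p : ℕ} [Fact p.Prime] {M : Ideal AlgInt}

/-- **Blocks are determined by the central characters on the `p`-regular classes.** -/
theorem sameBlock_of_pRegular (hMp : IsPModular p M) (χ ψ : IrrCharacter X)
    (h : ∀ g : X, ¬ p ∣ orderOf g →
      MemLocalIdeal M (centralChar (χ : X → ℂ) g - centralChar (ψ : X → ℂ) g)) :
    ψ ∈ blockOf M (χ : X → ℂ) := by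
  classical
  haveI : Finite (IrrCharacter X) := irr_finite
  haveI : Fintype (IrrCharacter X) := Fintype.ofFinite _
  have hM : M.IsPrime := hMp.2.1.isPrime
  set B : Set (IrrCharacter X) := blockOf M (χ : X → ℂ) with hB
  have h1 := omega_blockCoeff B ψ
  have h2 := omega_blockCoeff B χ
  rw [if_pos (mem_blockOf_self hM χ)] at h2
  have hcl := blockCoeff_isClassFunction B
  rw [omega_eq_sum_classes hcl (isClassFunction_irr ψ)] at h1
  rw [omega_eq_sum_classes hcl (isClassFunction_irr χ)] at h2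
  have h3 : MemLocalIdeal M (∑ K : ConjClasses X,
      (blockCoeff B (Quotient.out K) * centralChar (χ : X → ℂ) (Quotient.out K)
        - blockCoeff B (Quotient.out K) * centralChar (ψ : X → ℂ) (Quotient.out K))) := by
    apply memLocalIdeal_sum hM
    intro K _
    rw [← mul_sub]
    by_cases hK : p ∣ orderOf (Quotient.out K)
    · rw [hB, blockCoeff_eq_zero_of_singular hMp χ _ hK, zero_mul]
      exact memLocalIdeal_zero hM
    · exact memLocalIdeal_mul_left hM (memLocalRing_blockCoeff_blockOf hM χ _) (h _ hK)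
  rw [Finset.sum_sub_distrib, h1, h2] at h3
  by_contra hno
  rw [if_neg hno, sub_zero] at h3
  exact not_memLocalIdeal_one hM h3

end PRegular

section Central

variable {X : Type u} [Group X] [Fintype X] {p : ℕ} [Fact p.Prime] {M : Ideal AlgInt}
variable (N : Subgroup X) [N.Normal]

/-- for a central `p`-subgroup, a `p`-regular element and its image have classes of the same
size -/
theorem classRatio_eq_one_of_central (hN : IsPGroup p N) (hNZ : N ≤ Subgroup.center X) {g : X}
    (hg : ¬ p ∣ orderOf g) : classRatio N g = 1 := by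
  unfold classRatio
  rw [Subgroup.relIndex_eq_one]
  intro x hx
  rw [preCentralizer, Subgroup.mem_comap, Subgroup.mem_centralizer_iff] at hx
  have h1 := hx (QuotientGroup.mk g) (Set.mem_singleton _)
  rw [QuotientGroup.mk'_apply, ← QuotientGroup.mk_mul, ← QuotientGroup.mk_mul] at h1
  -- `z := (x g)⁻¹ (g x) ∈ N`
  have h2 : (x * g)⁻¹ * (g * x) ∈ N := QuotientGroup.eq.1 h1.symm
  set z : X := (x * g)⁻¹ * (g * x) with hz
  have hzc : z ∈ Subgroup.center X := hNZ h2
  have hgx : g * x = x * g * z := by rw [hz]; group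
  -- `x⁻¹ g x = g z`
  have hconj : x⁻¹ * g * x = g * z := by
    have : x⁻¹ * g * x = x⁻¹ * (g * x) := by group
    rw [this, hgx]; group
  have hcomm : Commute g z := Subgroup.mem_center_iff.1 hzc g
  have hord : orderOf (g * z) = orderOf g := by
    rw [← hconj]
    have hsc : SemiconjBy x⁻¹ g (x⁻¹ * g * x) := by
      show x⁻¹ * g = x⁻¹ * g * x * x⁻¹
      group
    exact (hsc.orderOf_eq x⁻¹).symm
  obtain ⟨k, hk⟩ := (IsPGroup.iff_orderOf.1 hN) ⟨z, h2⟩
  have hzo : orderOf z = p ^ k := by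
    rw [← hk]; exact (Subgroup.orderOf_mk z h2).symm
  have hcop : (orderOf g).Coprime (orderOf z) := by
    rw [hzo]
    apply Nat.Coprime.pow_right
    rw [Nat.coprime_comm]
    exact (Nat.Prime.coprime_iff_not_dvd (Fact.out : p.Prime)).2 hg
  have hmul := hcomm.orderOf_mul_eq_mul_orderOf_of_coprime hcop
  rw [hord] at hmul
  have hgpos : 0 < orderOf g := orderOf_pos g
  have hz1 : orderOf z = 1 := by
    have : orderOf g * 1 = orderOf g * orderOf z := by rw [mul_one]; exact hmul
    exact (Nat.eq_of_mul_eq_mul_left hgpos this).symm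
  have hz1' : z = 1 := orderOf_eq_one_iff.1 hz1
  rw [Subgroup.mem_centralizer_iff]
  intro y hy
  rw [Set.mem_singleton_iff] at hy
  subst hy
  rw [hgx, hz1', mul_one]

/-- a `p`-regular element of the quotient by a `p`-subgroup lifts to a `p`-regular element -/
theorem exists_pRegular_lift (hN : IsPGroup p N) (q : X ⧸ N) (hq : ¬ p ∣ orderOf q) :
    ∃ x : X, (QuotientGroup.mk x : X ⧸ N) = q ∧ ¬ p ∣ orderOf x := by
  obtain ⟨y, rfl⟩ := QuotientGroup.mk_surjective q
  set n : ℕ := orderOf (QuotientGroup.mk y : X ⧸ N) with hn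
  have hnpos : 0 < n := orderOf_pos _
  have hyn : y ^ n ∈ N := by
    rw [← QuotientGroup.eq_one_iff, QuotientGroup.mk_pow, hn]
    exact pow_orderOf_eq_one _
  obtain ⟨j, hj⟩ := (IsPGroup.iff_orderOf.1 hN) ⟨y ^ n, hyn⟩
  have hynj : (y ^ n) ^ (p ^ j) = 1 := by
    have h1 : orderOf (y ^ n) = p ^ j := by
      rw [← hj]; exact (Subgroup.orderOf_mk (y ^ n) hyn).symm
    rw [← h1]; exact pow_orderOf_eq_one _
  have hcop : (p ^ j).Coprime n := by
    apply Nat.Coprime.pow_left
    exact (Nat.Prime.coprime_iff_not_dvd (Fact.out : p.Prime)).2 hq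
  -- `(ȳ ^ (p ^ j)) ^ m = ȳ`
  have hcop' : (p ^ j).Coprime (orderOf (QuotientGroup.mk y : X ⧸ N)) := hcop
  obtain ⟨m, hm⟩ := exists_pow_eq_self_of_coprime hcop'
  refine ⟨(y ^ (p ^ j)) ^ m, ?_, ?_⟩
  · rw [QuotientGroup.mk_pow, QuotientGroup.mk_pow]
    exact hm
  · intro hdvd
    -- the order of `x` divides `n`
    have hxn : ((y ^ (p ^ j)) ^ m) ^ n = 1 := by
      have : ((y ^ (p ^ j)) ^ m) ^ n = ((y ^ n) ^ (p ^ j)) ^ m := by
        rw [← pow_mul, ← pow_mul, ← pow_mul, ← pow_mul]
        congr 1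
        ring
      rw [this, hynj, one_pow]
    have h1 : orderOf ((y ^ (p ^ j)) ^ m) ∣ n := orderOf_dvd_of_pow_eq_one hxn
    exact hq (hdvd.trans h1)

/-- **Uniqueness of the dominated block** for a central `p`-subgroup: two characters of `X ⧸ N`
whose inflations lie in the same block of `X` lie in the same block of `X ⧸ N`. -/
theorem quotient_block_unique (hMp : IsPModular p M) (hN : IsPGroup p N)
    (hNZ : N ≤ Subgroup.center X) {B : Set (IrrCharacter X)} (hB : IsPBlock M B)
    {ψ₁ ψ₂ : IrrCharacter (X ⧸ N)} (h₁ : (irrQuotientEquiv N ψ₁).1 ∈ B)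
    (h₂ : (irrQuotientEquiv N ψ₂).1 ∈ B) : ψ₂ ∈ blockOf M (ψ₁ : X ⧸ N → ℂ) := by
  classical
  have hM : M.IsPrime := hMp.2.1.isPrime
  haveI : Fintype (X ⧸ N) := Fintype.ofFinite _
  apply sameBlock_of_pRegular hMp
  intro q hq
  obtain ⟨x, rfl, hx⟩ := exists_pRegular_lift N hN q hq
  have hsame := IsPBlock.sameBlock hM hB h₁ h₂ x
  have e1 : (((irrQuotientEquiv N ψ₁).1 : IrrCharacter X) : X → ℂ)
      = (ψ₁ : X ⧸ N → ℂ) ∘ (QuotientGroup.mk : X → X ⧸ N) := by
    funext g; exact irrQuotientEquiv_apply N ψ₁ g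
  have e2 : (((irrQuotientEquiv N ψ₂).1 : IrrCharacter X) : X → ℂ)
      = (ψ₂ : X ⧸ N → ℂ) ∘ (QuotientGroup.mk : X → X ⧸ N) := by
    funext g; exact irrQuotientEquiv_apply N ψ₂ g
  rw [e1, e2, centralChar_inflate, centralChar_inflate,
    classRatio_eq_one_of_central N hN hNZ hx] at hsame
  simpa using hsame

end Central

end Cfsg.Agent.Lib.Helper81
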