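import Mathlib
import Cfsg.Prelude.Def_Blocks
import Cfsg.Agent.Lib.Helper81.CentralQuot

set_option autoImplicit false
set_option linter.unusedSectionVars false
set_option linter.style.haveILetI false

/-!
# A character of defect zero modulo a central `p`-subgroup forces the defect group
-/

namespace Cfsg.Agent.Lib.Helper81

open Cfsg
open Cfsg.Agent.Lib.Helper21 Cfsg.Agent.Lib.Helper82 Cfsg.Agent.Lib.Helper83

universe u

section

variable {X : Type u} [Group X] [Finite X] {p : ℕ} [Fact p.Prime] {M : Ideal AlgInt}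
variable (N : Subgroup X) [N.Normal]

/-- If a block `B` of `X` contains a character `θ` with the central `p`-subgroup `N` in its
kernel and of defect zero as a character of `X ⧸ N`, then the defect groups of `B` lie in `N`. -/
theorem defectGroup_le_of_defectZero_mod (hMp : IsPModular p M) (hN : IsPGroup p N)
    (hNZ : N ≤ Subgroup.center X) {B : Set (IrrCharacter X)} (hB : IsPBlock M B)
    {θ : IrrCharacter X} (hθ : θ ∈ B)
    (hker : ∀ n ∈ N, (θ : X → ℂ) n = (θ : X → ℂ) 1)
    (hdeg : (charDegree (θ : X → ℂ)).factorization p + (Nat.card N).factorization p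
      = (Nat.card X).factorization p)
    {D : Subgroup X} (hD : IsDefectGroup p M B D) : D ≤ N := by
  classical
  haveI : Fintype X := Fintype.ofFinite X
  haveI : Fintype (X ⧸ N) := Fintype.ofFinite _
  have hp : p.Prime := Fact.out
  have hM : M.IsPrime := hMp.2.1.isPrime
  obtain ⟨Bbar, hBbar, hsub, hdef⟩ := exists_quotient_block_defectGroup N hMp hN B hB
  set θb : IrrCharacter (X ⧸ N) := (irrQuotientEquiv N).symm ⟨θ, hker⟩ with hθb
  have hθb' : (irrQuotientEquiv N θb).1 = θ := by
    rw [hθb, Equiv.apply_symm_apply]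
  obtain ⟨ψ₁, hψ₁⟩ := hBbar
  have hψ₁mem : ψ₁ ∈ Bbar := by rw [hψ₁]; exact mem_blockOf_self hM ψ₁
  have h1 : (irrQuotientEquiv N ψ₁).1 ∈ B :=
    hsub ψ₁ hψ₁mem _ (by funext g; exact irrQuotientEquiv_apply N ψ₁ g)
  have h2 : (irrQuotientEquiv N θb).1 ∈ B := by rw [hθb']; exact hθ
  have hθbmem : θb ∈ Bbar := by
    rw [hψ₁]
    exact quotient_block_unique N hMp hN hNZ hB h1 h2
  have hBbar' : IsPBlock M Bbar := ⟨ψ₁, hψ₁⟩
  have hBbareq : Bbar = blockOf M (θb : X ⧸ N → ℂ) := IsPBlock.eq_blockOf hM hBbar' hθbmem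
  -- `θb` has defect zero
  have hdegb : charDegree (θb : X ⧸ N → ℂ) = charDegree (θ : X → ℂ) := by
    rw [← charDegree_irrQuotientEquiv N θb, hθb']
  have hXN : Nat.card X = Nat.card (X ⧸ N) * Nat.card N :=
    Subgroup.card_eq_card_quotient_mul_card_subgroup N
  have hQpos : Nat.card (X ⧸ N) ≠ 0 := (Nat.card_pos (α := X ⧸ N)).ne'
  have hNpos : Nat.card N ≠ 0 := (Nat.card_pos (α := N)).ne'
  have hfac : (Nat.card X).factorization p
      = (Nat.card (X ⧸ N)).factorization p + (Nat.card N).factorization p := by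
    rw [hXN, Nat.factorization_mul hQpos hNpos, Finsupp.add_apply]
  have hle : (Nat.card (X ⧸ N)).factorization p
      ≤ (charDegree (θb : X ⧸ N → ℂ)).factorization p := by
    rw [hdegb]; omega
  have hnd : ¬ p ∣ Nat.card (X ⧸ N) / charDegree (θb : X ⧸ N → ℂ) :=
    (factorization_le_iff_not_dvd hp θb).1 hle
  have hsing : Bbar = {θb} := by
    rw [hBbareq]; exact blockOf_eq_singleton_of_not_dvd hMp θb hnd
  have hdefect : blockDefect p Bbar = 0 := by
    rw [blockDefect_eq_zero_iff ⟨θb, hθbmem⟩]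
    intro χ hχ
    rw [hsing, Set.mem_singleton_iff] at hχ
    rw [hχ]; exact hle
  have hDbar : IsDefectGroup p M Bbar (D.map (QuotientGroup.mk' N)) :=
    (hdef _).2 ⟨D, hD, rfl⟩
  have hcard : Nat.card (D.map (QuotientGroup.mk' N)) = 1 := by
    rw [Cfsg.Agent.Lib.Helper22.IsDefectGroup.card_eq hMp hBbar' hDbar, hdefect, pow_zero]
  have hbot : D.map (QuotientGroup.mk' N) = ⊥ := Subgroup.card_eq_one.1 hcard
  intro x hx
  have : (QuotientGroup.mk' N) x ∈ D.map (QuotientGroup.mk' N) := Subgroup.mem_map_of_mem _ hx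
  rw [hbot, Subgroup.mem_bot] at this
  exact (QuotientGroup.eq_one_iff x).1 this

end

end Cfsg.Agent.Lib.Helper81
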