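import Mathlib
import Cfsg.Prelude.Def_BrauerPairs
import Cfsg.Agent.Lib.Helper81.BPFusion
import Cfsg.Agent.Lib.Helper81.BPIndex
import Cfsg.Agent.Lib.Helper81.DefectZeroQuot
import Cfsg.Agent.Lib.Helper81.BPUnique

set_option autoImplicit false
set_option linter.unusedSectionVars false
set_option linter.style.haveILetI false

/-!
# Characterization of the maximal Brauer pairs
-/

namespace Cfsg.Agent.Lib.Helper81

open Cfsg
open Cfsg.Agent.Lib.Helper21 Cfsg.Agent.Lib.Helper82 Cfsg.Agent.Lib.Helper83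

universe u

section General

variable {X : Type u} [Group X] [Finite X] {p : ℕ} [Fact p.Prime] {M : Ideal AlgInt}

/-- a subgroup of the center is normal -/
theorem normal_of_le_center' {N : Subgroup X} (h : N ≤ Subgroup.center X) : N.Normal := by
  refine ⟨fun n hn g => ?_⟩
  have h1 : g * n = n * g := Subgroup.mem_center_iff.1 (h hn) g
  have h2 : g * n * g⁻¹ = n := by rw [h1]; group
  rw [h2]; exact hn

/-- **The canonical character.**  If the normal `p`-subgroup `N` is a defect group of the block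
`e`, then `e` contains a character with `N` in its kernel and of defect zero modulo `N`. -/
theorem exists_canonical_character (hMp : IsPModular p M) (N : Subgroup X) [N.Normal]
    {e : Set (IrrCharacter X)} (he : IsPBlock M e) (hN : IsDefectGroup p M e N) :
    ∃ θ ∈ e, (∀ n ∈ N, (θ : X → ℂ) n = (θ : X → ℂ) 1) ∧
      (charDegree (θ : X → ℂ)).factorization p + (Nat.card N).factorization p
        = (Nat.card X).factorization p := by
  classical
  have hp : p.Prime := Fact.out
  have hNp : IsPGroup p N := isPGroup_of_isDefectGroup' hN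
  obtain ⟨ψ₀, hmem, hdeg⟩ := exists_quotient_block N hMp hNp e he
  refine ⟨(irrQuotientEquiv N ψ₀).1, hmem, (irrQuotientEquiv N ψ₀).2, ?_⟩
  rw [charDegree_irrQuotientEquiv N ψ₀, hdeg]
  have hcard : Nat.card N = p ^ blockDefect p e :=
    Cfsg.Agent.Lib.Helper22.IsDefectGroup.card_eq hMp he hN
  rw [hcard, hp.factorization_pow, Finsupp.single_eq_same, blockDefect]
  have hle : sInf ((fun χ : IrrCharacter X => (charDegree (χ : X → ℂ)).factorization p) '' e)
      ≤ (Nat.card X).factorization p := by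
    rw [← hdeg, ← charDegree_irrQuotientEquiv N ψ₀]
    set θ : IrrCharacter X := (irrQuotientEquiv N ψ₀).1
    have hdvd : charDegree (θ : X → ℂ) ∣ Nat.card X := IsIrrCharacter.charDegree_dvd_card θ.2
    have hpos : charDegree (θ : X → ℂ) ≠ 0 := (IsIrrCharacter.charDegree_pos θ.2).ne'
    have hXpos : Nat.card X ≠ 0 := Nat.card_pos.ne'
    exact (Nat.factorization_le_iff_dvd hpos hXpos).2 hdvd p
  omega

end General

variable {G : Type u} [Group G] [Fintype G]

local notation "C(" R ")" => Subgroup.centralizer ((R : Subgroup G) : Set G)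
local notation "N(" R ")" => Subgroup.normalizer ((R : Subgroup G) : Set G)

variable {p : ℕ} [Fact p.Prime] {M : Ideal AlgInt}

/-- `Z(Q) = Q ∩ C_G(Q)` is central in `C_G(Q)` -/
theorem center_subgroupOf_le_center (Q : Subgroup G) :
    (Q ⊓ C(Q)).subgroupOf C(Q) ≤ Subgroup.center C(Q) := by
  intro z hz
  rw [Subgroup.mem_subgroupOf] at hz
  rw [Subgroup.mem_center_iff]
  intro c
  apply Subtype.ext
  show (c : G) * (z : G) = (z : G) * (c : G)
  exact ((Subgroup.mem_centralizer_iff.1 c.2) (z : G) hz.1).symm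

/-- For a maximal Brauer pair `(Q, e)`, `Z(Q)` is a defect group of `e`. -/
theorem center_isDefectGroup_of_maximal (hMod : IsPModular p M) {B : Set (IrrCharacter G)}
    {Q : Subgroup G} {e : Set (IrrCharacter C(Q))} (hmax : IsMaximalBrauerPair p M B Q e) :
    IsDefectGroup p M e ((Q ⊓ C(Q)).subgroupOf C(Q)) := by
  obtain ⟨⟨hQp, he⟩, hB, -⟩ := id hmax.1
  obtain ⟨⟨D, hD, hDle⟩, x, hlex, hdefx⟩ :=
    centralizer_defect hMod hmax he Relation.ReflTransGen.refl
  have hfx : IsPBlock M (conjBlock Q x e) := isPBlock_conjBlock x Q he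
  have hxQ : cj x Q ≤ Q := subpairLE_le hMod hlex hfx
  have hcardx : Nat.card (cj x Q) = Nat.card Q :=
    Subgroup.card_map_of_injective (MulAut.conj x).injective
  have hxQeq : cj x Q = Q := Subgroup.eq_of_le_of_card_ge hxQ hcardx.ge
  have h2 : Nat.card ((Q ⊓ C(cj x Q)).subgroupOf C(cj x Q)) = Nat.card D :=
    card_defectGroup_conjBlock hMod x Q he hD hdefx
  rw [card_inf_subgroupOf] at h2
  have h3 : Nat.card (Q ⊓ C(cj x Q) : Subgroup G) = Nat.card (Q ⊓ C(Q) : Subgroup G) := by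
    rw [hxQeq]
  have hEq : (Q ⊓ C(Q)).subgroupOf C(Q) = D := by
    apply Subgroup.eq_of_le_of_card_ge hDle
    rw [card_inf_subgroupOf, ← h2, h3]
  rw [hEq]; exact hD

/-- For a maximal Brauer pair `(Q, e)`, `Q` is a defect group of the block of the stabilizer of
`e` with the idempotent of `e`. -/
theorem stab_isDefectGroup_of_maximal (hMod : IsPModular p M) {B : Set (IrrCharacter G)}
    {Q : Subgroup G} {e : Set (IrrCharacter C(Q))} (hmax : IsMaximalBrauerPair p M B Q e)
    {T : Subgroup G} (hT : ∀ y : G, y ∈ T ↔ y ∈ N(Q) ∧ StabilizesBlock C(Q) e y)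
    {F : Set (IrrCharacter T)} (hF : IsPBlock M F)
    (hFc : ∀ t : T, blockCoeff F t = subgroupBlockCoeff C(Q) e t) :
    IsDefectGroup p M F (Q.subgroupOf T) := by
  have hM : M.IsPrime := hMod.2.1.isPrime
  obtain ⟨⟨hQp, he⟩, hB, -⟩ := id hmax.1
  have hCT : C(Q) ≤ T := centralizer_le_stabilizer hM he hT
  have hQT : Q ≤ T := le_stabilizer hM he hT
  have hTN : T ≤ N(Q) := fun y hy => ((hT y).1 hy).1
  have hinv : ConjInv T (subgroupBlockCoeff C(Q) e) := conjInv_of_stabilizer hM he hT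
  obtain ⟨D, hD, hDle⟩ :=
    exists_defectGroup_ge hMod hmax.1.1 Relation.ReflTransGen.refl he hCT hinv hF hFc
  obtain ⟨x, hlex, hxD⟩ :=
    exists_conj_defect_le hMod hmax Relation.ReflTransGen.refl he hTN hinv hFc hD
  have hcard3 : Nat.card (cj x (D.map T.subtype)) = Nat.card D := by
    rw [Subgroup.card_map_of_injective (MulAut.conj x).injective,
      Subgroup.card_map_of_injective T.subtype_injective]
  have hcard : Nat.card D ≤ Nat.card Q := by
    rw [← hcard3]; exact Subgroup.card_le_of_le hxD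
  have hQle : Q.subgroupOf T ≤ D := by
    refine le_trans (fun r hr => ?_) hDle
    rw [Subgroup.mem_subgroupOf] at hr ⊢
    exact ⟨hr, r.2⟩
  have hEq : Q.subgroupOf T = D := by
    apply Subgroup.eq_of_le_of_card_ge hQle
    rw [card_subgroupOf_of_le hQT]; exact hcard
  rw [hEq]; exact hD

/-- **Forward direction, third condition.** -/
theorem pElement_mem_of_maximal (hMod : IsPModular p M) {B : Set (IrrCharacter G)}
    {Q : Subgroup G} {e : Set (IrrCharacter C(Q))} (hmax : IsMaximalBrauerPair p M B Q e)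
    {g : G} (hgN : g ∈ N(Q)) (hgst : StabilizesBlock C(Q) e g)
    (hgp : ∃ k : ℕ, orderOf g = p ^ k) : g ∈ Q ⊔ C(Q) := by
  classical
  have hM : M.IsPrime := hMod.2.1.isPrime
  obtain ⟨⟨hQp, he⟩, hB, -⟩ := id hmax.1
  set T : Subgroup G := stabSubgroup Q e with hTdef
  have hT : ∀ y : G, y ∈ T ↔ y ∈ N(Q) ∧ StabilizesBlock C(Q) e y := mem_stabSubgroup hM he
  obtain ⟨F, hF, hFc⟩ := exists_block_of_stabilizer hMod hmax.1.1 hT
  have hdef := stab_isDefectGroup_of_maximal hMod hmax hT hF hFc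
  have hCT : C(Q) ≤ T := centralizer_le_stabilizer hM he hT
  have hQT : Q ≤ T := le_stabilizer hM he hT
  have hTN : T ≤ N(Q) := fun y hy => ((hT y).1 hy).1
  haveI : Finite (IrrCharacter G) := irr_finite
  haveI : Fintype (IrrCharacter G) := Fintype.ofFinite _
  haveI : Fintype T := Fintype.ofFinite _
  haveI : Finite (IrrCharacter T) := irr_finite
  haveI : Fintype (IrrCharacter T) := Fintype.ofFinite _
  haveI : Fintype C(Q) := Fintype.ofFinite _
  haveI : Finite (IrrCharacter C(Q)) := irr_finite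
  haveI : Fintype (IrrCharacter C(Q)) := Fintype.ofFinite _
  exact pElement_mem_sup_centralizer hMod hQp hQT hCT hTN he (fun t ht => ((hT t).1 ht).2) hF hFc
    hdef ((hT g).2 ⟨hgN, hgst⟩) hgp

/-- **Forward direction.** -/
theorem maximal_forward (hMod : IsPModular p M) {B : Set (IrrCharacter G)}
    {Q : Subgroup G} {e : Set (IrrCharacter C(Q))} (hmax : IsMaximalBrauerPair p M B Q e) :
    ∃ θ ∈ e, (∀ z : C(Q), (z : G) ∈ Q → (θ : C(Q) → ℂ) z = (θ : C(Q) → ℂ) 1) ∧
      (charDegree (θ : C(Q) → ℂ)).factorization p + (Nat.card ↥(Q ⊓ C(Q))).factorization p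
        = (Nat.card C(Q)).factorization p ∧
      (∀ g : G, g ∈ N(Q) → StabilizesBlock C(Q) e g → (∃ k : ℕ, orderOf g = p ^ k) →
        g ∈ Q ⊔ C(Q)) := by
  obtain ⟨⟨hQp, he⟩, hB, -⟩ := id hmax.1
  have hZ := center_isDefectGroup_of_maximal hMod hmax
  haveI : ((Q ⊓ C(Q)).subgroupOf C(Q)).Normal :=
    normal_of_le_center' (center_subgroupOf_le_center Q)
  obtain ⟨θ, hθ, hker, hdeg⟩ := exists_canonical_character hMod _ he hZ
  refine ⟨θ, hθ, ?_, ?_, fun g hgN hgst hgp => pElement_mem_of_maximal hMod hmax hgN hgst hgp⟩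
  · intro z hz
    apply hker
    rw [Subgroup.mem_subgroupOf]
    exact ⟨hz, z.2⟩
  · rw [card_inf_subgroupOf] at hdeg
    exact hdeg

/-- **Backward direction.** -/
theorem maximal_backward (hMod : IsPModular p M) {B : Set (IrrCharacter G)}
    {Q : Subgroup G} {e : Set (IrrCharacter C(Q))} (hBe : IsBrauerPairOf p M B Q e)
    {θ : IrrCharacter C(Q)} (hθ : θ ∈ e)
    (hker : ∀ z : C(Q), (z : G) ∈ Q → (θ : C(Q) → ℂ) z = (θ : C(Q) → ℂ) 1)
    (hdeg : (charDegree (θ : C(Q) → ℂ)).factorization p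
      + (Nat.card ↥(Q ⊓ C(Q))).factorization p = (Nat.card C(Q)).factorization p)
    (hst : ∀ g : G, g ∈ N(Q) → StabilizesBlock C(Q) e g → (∃ k : ℕ, orderOf g = p ^ k) →
      g ∈ Q ⊔ C(Q)) :
    IsMaximalBrauerPair p M B Q e := by
  classical
  refine ⟨hBe, fun R g hRg hle => ?_⟩
  by_contra hne
  obtain ⟨⟨hQp, he⟩, hB, -⟩ := id hBe
  obtain ⟨c, hlt, hstep, -⟩ := exists_proper_step hMod hle (fun h => hne h.symm)
  obtain ⟨R₁, g₁⟩ := c
  have hns : IsNormalSubpair p M Q e R₁ g₁ := hstep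
  have hlt' : Q < R₁ := hlt
  obtain ⟨-, hR₁g₁, hQR₁, hR₁N, hR₁st, -⟩ := id hns
  have hR₁p : IsPGroup p R₁ := hR₁g₁.1
  have hZc : (Q ⊓ C(Q)).subgroupOf C(Q) ≤ Subgroup.center C(Q) := center_subgroupOf_le_center Q
  haveI : ((Q ⊓ C(Q)).subgroupOf C(Q)).Normal := normal_of_le_center' hZc
  have hZp : IsPGroup p ((Q ⊓ C(Q)).subgroupOf C(Q)) :=
    (hQp.to_le inf_le_left).comap_subtype
  haveI : Fintype C(Q) := Fintype.ofFinite _
  haveI : Finite (IrrCharacter C(Q)) := irr_finite
  haveI : Fintype (IrrCharacter C(Q)) := Fintype.ofFinite _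
  obtain ⟨D, hD, hDle⟩ := exists_defectGroup_ge hMod hR₁g₁ (Relation.ReflTransGen.single hns) he
    (le_refl C(Q)) (sbc_conjInv_self C(Q) e) he (fun h => (sbc_of_mem C(Q) e h.2).symm)
  have hker' : ∀ n ∈ (Q ⊓ C(Q)).subgroupOf C(Q), (θ : C(Q) → ℂ) n = (θ : C(Q) → ℂ) 1 := by
    intro n hn
    rw [Subgroup.mem_subgroupOf] at hn
    exact hker n hn.1
  have hdeg' : (charDegree (θ : C(Q) → ℂ)).factorization p
      + (Nat.card ((Q ⊓ C(Q)).subgroupOf C(Q))).factorization p
        = (Nat.card C(Q)).factorization p := by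
    rw [card_inf_subgroupOf]; exact hdeg
  have hDZ : D ≤ (Q ⊓ C(Q)).subgroupOf C(Q) :=
    defectGroup_le_of_defectZero_mod _ hMod hZp hZc he hθ hker' hdeg' hD
  have hR₁Q : R₁ ≤ Q := by
    intro r hr
    have hrp : ∃ k : ℕ, orderOf r = p ^ k := by
      obtain ⟨k, hk⟩ := (IsPGroup.iff_orderOf.1 hR₁p) ⟨r, hr⟩
      exact ⟨k, by rw [← hk]; exact (Subgroup.orderOf_mk r hr).symm⟩
    have h1 : r ∈ Q ⊔ C(Q) := hst r (hR₁N hr) (hR₁st r hr) hrp
    have h2 : r ∈ ((Q ⊔ C(Q) : Subgroup G) : Set G) := h1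
    rw [Subgroup.coe_mul_of_right_le_normalizer_left Q C(Q)
      (Subgroup.centralizer_le_normalizer _)] at h2
    obtain ⟨q, hq, c, hc, rfl⟩ := h2
    have hcR : c ∈ R₁ := by
      have : c = q⁻¹ * (q * c) := by group
      rw [this]; exact R₁.mul_mem (R₁.inv_mem (hQR₁ hq)) hr
    have hcQ : c ∈ Q := by
      have h3 : (⟨c, hc⟩ : C(Q)) ∈ (R₁ ⊓ C(Q)).subgroupOf C(Q) := by
        rw [Subgroup.mem_subgroupOf]; exact ⟨hcR, hc⟩
      have h4 := hDZ (hDle h3)
      rw [Subgroup.mem_subgroupOf] at h4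
      exact h4.1
    exact Q.mul_mem hq hcQ
  exact (not_le_of_gt hlt') hR₁Q

end Cfsg.Agent.Lib.Helper81
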