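import Mathlib
import Cfsg.Prelude.Def_BrauerPairs
import Cfsg.Agent.Lib.Helper81.BPConj

set_option autoImplicit false
set_option linter.unusedSectionVars false
set_option linter.style.haveILetI false

/-!
# Brauer pairs of a subgroup `L` and Brauer pairs of `G`

For a subgroup `R'` of `L` with `C_G(R') ≤ L`, the centralizers of `R'` in `L` and in `G` agree,
and the Brauer pairs of `L` on such subgroups are Brauer pairs of `G`.
-/

namespace Cfsg.Agent.Lib.Helper81

open Cfsg
open Cfsg.Agent.Lib.Helper21 Cfsg.Agent.Lib.Helper82 Cfsg.Agent.Lib.Helper83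

universe u
variable {G : Type u} [Group G] (L : Subgroup G)

local notation "C(" R ")" => Subgroup.centralizer ((R : Subgroup G) : Set G)
local notation "CL(" R ")" => Subgroup.centralizer ((R : Subgroup L) : Set L)

/-- the image in `G` of a subgroup of `L` -/
abbrev upS (R' : Subgroup L) : Subgroup G := R'.map L.subtype

theorem mem_upS {R' : Subgroup L} {g : G} :
    g ∈ upS L R' ↔ ∃ h : g ∈ L, (⟨g, h⟩ : L) ∈ R' := by
  constructor
  · rintro ⟨r, hr, rfl⟩
    exact ⟨r.2, hr⟩
  · rintro ⟨h, hr⟩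
    exact ⟨⟨g, h⟩, hr, rfl⟩

theorem coe_mem_upS {R' : Subgroup L} {r : L} : (r : G) ∈ upS L R' ↔ r ∈ R' := by
  rw [mem_upS]
  constructor
  · rintro ⟨_, hr⟩
    exact hr
  · intro hr
    exact ⟨r.2, hr⟩

theorem upS_le (R' : Subgroup L) : upS L R' ≤ L := by
  rintro _ ⟨r, -, rfl⟩
  exact r.2

theorem upS_subgroupOf {R : Subgroup G} (h : R ≤ L) : upS L (R.subgroupOf L) = R :=
  Subgroup.map_subgroupOf_eq_of_le h

theorem coe_mem_centralizer_upS {R' : Subgroup L} {c : L} :
    (c : G) ∈ C(upS L R') ↔ c ∈ CL(R') := by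
  rw [Subgroup.mem_centralizer_iff, Subgroup.mem_centralizer_iff]
  constructor
  · intro h r hr
    apply Subtype.ext
    exact h (r : G) ((coe_mem_upS L).2 hr)
  · rintro h _ ⟨r, hr, rfl⟩
    exact congrArg Subtype.val (h r hr)

/-- the centralizer in `L` embeds in the centralizer in `G` -/
def centIncl (R' : Subgroup L) : CL(R') →* C(upS L R') where
  toFun c := ⟨((c : L) : G), (coe_mem_centralizer_upS L).2 c.2⟩
  map_one' := rfl
  map_mul' _ _ := rfl

@[simp] theorem centIncl_coe (R' : Subgroup L) (c : CL(R')) :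
    ((centIncl L R' c : C(upS L R')) : G) = ((c : L) : G) := rfl

/-- the centralizers in `L` and in `G` agree when the latter lies in `L` -/
def centUp (R' : Subgroup L) (hc : C(upS L R') ≤ L) : CL(R') ≃* C(upS L R') where
  toFun := centIncl L R'
  invFun c := ⟨⟨(c : G), hc c.2⟩, (coe_mem_centralizer_upS L).1 c.2⟩
  left_inv _ := rfl
  right_inv _ := rfl
  map_mul' := map_mul _

@[simp] theorem centUp_coe (R' : Subgroup L) (hc : C(upS L R') ≤ L) (c : CL(R')) :
    ((centUp L R' hc c : C(upS L R')) : G) = ((c : L) : G) := rfl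

@[simp] theorem centUp_symm_coe (R' : Subgroup L) (hc : C(upS L R') ≤ L) (c : C(upS L R')) :
    ((((centUp L R' hc).symm c : CL(R')) : L) : G) = (c : G) := rfl

/-- transport of a set of characters of `C_L(R')` to `C_G(R')` -/
def upBlock (R' : Subgroup L) (ε' : Set (IrrCharacter CL(R'))) :
    Set (IrrCharacter C(upS L R')) :=
  {ξ | ∃ ξ' ∈ ε', ∀ c : CL(R'), (ξ : C(upS L R') → ℂ) (centIncl L R' c) = (ξ' : CL(R') → ℂ) c}

theorem mem_upBlock_iff (R' : Subgroup L) (hc : C(upS L R') ≤ L)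
    (ε' : Set (IrrCharacter CL(R'))) (ξ : IrrCharacter C(upS L R')) :
    ξ ∈ upBlock L R' ε' ↔ irrComp (centUp L R' hc) ξ ∈ ε' := by
  constructor
  · rintro ⟨ξ', hξ', h⟩
    have : irrComp (centUp L R' hc) ξ = ξ' := by
      apply Subtype.ext
      funext c
      rw [irrComp_apply]
      exact h c
    rw [this]
    exact hξ'
  · intro h
    exact ⟨_, h, fun c => rfl⟩

theorem upBlock_blockOf (M : Ideal AlgInt) (R' : Subgroup L) (hc : C(upS L R') ≤ L)
    (θ' : IrrCharacter CL(R')) :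
    upBlock L R' (blockOf M (θ' : CL(R') → ℂ))
      = blockOf M (irrComp (centUp L R' hc).symm θ' : C(upS L R') → ℂ) := by
  ext ξ
  rw [mem_upBlock_iff L R' hc, mem_blockOf_irrComp_iff]
  rfl

theorem isPBlock_upBlock {M : Ideal AlgInt} (R' : Subgroup L) (hc : C(upS L R') ≤ L)
    {ε' : Set (IrrCharacter CL(R'))} (hε' : IsPBlock M ε') : IsPBlock M (upBlock L R' ε') := by
  obtain ⟨θ', rfl⟩ := hε'
  exact ⟨_, upBlock_blockOf L M R' hc θ'⟩

theorem mem_upBlock_of_mem (R' : Subgroup L) (hc : C(upS L R') ≤ L)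
    {ε' : Set (IrrCharacter CL(R'))} {ξ' : IrrCharacter CL(R')} (hξ' : ξ' ∈ ε') :
    irrComp (centUp L R' hc).symm ξ' ∈ upBlock L R' ε' := by
  rw [mem_upBlock_iff L R' hc, irrComp_irrComp_symm]
  exact hξ'

section Fin

variable [Fintype G]

/-- the idempotent of the transported block is the extension by zero of the idempotent -/
theorem sbc_upBlock {M : Ideal AlgInt} (R' : Subgroup L) (hc : C(upS L R') ≤ L)
    {ε' : Set (IrrCharacter CL(R'))} (hε' : IsPBlock M ε') :
    subgroupBlockCoeff C(upS L R') (upBlock L R' ε')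
      = ext0 L (subgroupBlockCoeff CL(R') ε') := by
  classical
  haveI : Fintype L := Fintype.ofFinite _
  haveI : Fintype CL(R') := Fintype.ofFinite _
  haveI : Finite (IrrCharacter CL(R')) := irr_finite
  haveI : Fintype (IrrCharacter CL(R')) := Fintype.ofFinite _
  haveI : Fintype C(upS L R') := Fintype.ofFinite _
  haveI : Finite (IrrCharacter C(upS L R')) := irr_finite
  haveI : Fintype (IrrCharacter C(upS L R')) := Fintype.ofFinite _
  obtain ⟨θ', rfl⟩ := hε'
  rw [upBlock_blockOf L M R' hc]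
  funext g
  by_cases hg : g ∈ C(upS L R')
  · have hgL : g ∈ L := hc hg
    have hg' : (⟨g, hgL⟩ : L) ∈ CL(R') := (coe_mem_centralizer_upS L).1 hg
    rw [sbc_of_mem _ _ hg, ext0_of_mem L _ hgL, sbc_of_mem _ _ hg',
      blockCoeff_blockOf_irrComp M (centUp L R' hc).symm θ' ⟨g, hg⟩]
    rfl
  · rw [sbc_of_not_mem _ _ hg]
    by_cases hgL : g ∈ L
    · have hg' : (⟨g, hgL⟩ : L) ∉ CL(R') := fun h => hg ((coe_mem_centralizer_upS L).2 h)
      rw [ext0_of_mem L _ hgL, sbc_of_not_mem _ _ hg']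
    · rw [ext0_of_not_mem L _ hgL]

theorem sbc_upBlock_coe {M : Ideal AlgInt} (R' : Subgroup L) (hc : C(upS L R') ≤ L)
    {ε' : Set (IrrCharacter CL(R'))} (hε' : IsPBlock M ε') (l : L) :
    subgroupBlockCoeff C(upS L R') (upBlock L R' ε') (l : G)
      = subgroupBlockCoeff CL(R') ε' l := by
  rw [sbc_upBlock L R' hc hε', ext0_coe]

/-- the Brauer functional in `L` and in `G` -/
theorem brauerOmega_up (R' : Subgroup L) (hc : C(upS L R') ≤ L) (β : G → ℂ)
    (ξ : IrrCharacter C(upS L R')) :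
    brauerOmega R' (fun l : L => β l) (irrComp (centUp L R' hc) ξ : CL(R') → ℂ)
      = brauerOmega (upS L R') β (ξ : C(upS L R') → ℂ) := by
  classical
  haveI : Finite (IrrCharacter G) := irr_finite
  haveI : Fintype (IrrCharacter G) := Fintype.ofFinite _
  haveI : Fintype L := Fintype.ofFinite _
  haveI : Finite (IrrCharacter L) := irr_finite
  haveI : Fintype (IrrCharacter L) := Fintype.ofFinite _
  haveI : Fintype CL(R') := Fintype.ofFinite _
  haveI : Fintype C(upS L R') := Fintype.ofFinite _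
  rw [brauerOmega_eq_omega_rs, brauerOmega_eq_omega_rs]
  have h1 : rs CL(R') (fun l : L => β l)
      = fun c => rs C(upS L R') β (centUp L R' hc c) := by
    funext c
    rfl
  rw [h1]
  exact omega_comp (centUp L R' hc) (rs C(upS L R') β) (ξ : C(upS L R') → ℂ)

/-- membership in normalizers -/
theorem coe_mem_normalizer_upS {R' : Subgroup L} {x : L}
    (hx : x ∈ Subgroup.normalizer (R' : Set L)) :
    (x : G) ∈ Subgroup.normalizer ((upS L R' : Subgroup G) : Set G) := by
  have key : ∀ y : L, y ∈ Subgroup.normalizer (R' : Set L) → ∀ g ∈ upS L R',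
      (y : G) * g * (y : G)⁻¹ ∈ upS L R' := by
    rintro y hy _ ⟨r, hr, rfl⟩
    have h1 : y * r * y⁻¹ ∈ R' := (Subgroup.mem_normalizer_iff.1 hy r).1 hr
    exact ⟨y * r * y⁻¹, h1, rfl⟩
  rw [Subgroup.mem_normalizer_iff]
  intro g
  constructor
  · exact key x hx g
  · intro h
    have := key x⁻¹ (Subgroup.inv_mem _ hx) _ h
    have e : ((x⁻¹ : L) : G) * ((x : G) * g * (x : G)⁻¹) * ((x⁻¹ : L) : G)⁻¹ = g := by
      simp only [Subgroup.coe_inv]; group
    rwa [e] at this

/-- stabilizing a block in `L` and in `G` -/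
theorem stabilizesBlock_up {M : Ideal AlgInt} (hM : M.IsPrime) (R' : Subgroup L)
    (hc : C(upS L R') ≤ L) {ε' : Set (IrrCharacter CL(R'))} (hε' : IsPBlock M ε') {x : L}
    (hxN : x ∈ Subgroup.normalizer (R' : Set L)) (hx : StabilizesBlock CL(R') ε' x) :
    StabilizesBlock C(upS L R') (upBlock L R' ε') (x : G) := by
  classical
  haveI : Fintype L := Fintype.ofFinite _
  haveI : Fintype CL(R') := Fintype.ofFinite _
  haveI : Finite (IrrCharacter CL(R')) := irr_finite
  haveI : Fintype (IrrCharacter CL(R')) := Fintype.ofFinite _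
  haveI : Fintype C(upS L R') := Fintype.ofFinite _
  haveI : Finite (IrrCharacter C(upS L R')) := irr_finite
  haveI : Fintype (IrrCharacter C(upS L R')) := Fintype.ofFinite _
  rw [stabilizesBlock_iff C(upS L R') hM (isPBlock_upBlock L R' hc hε')]
  have h2 := ((stabilizesBlock_iff CL(R') hM hε' x).1 hx).2
  refine ⟨normalizer_le_normalizer_centralizer _ (coe_mem_normalizer_upS L hxN), fun g => ?_⟩
  rw [sbc_upBlock L R' hc hε']
  by_cases hg : g ∈ L
  · have hg' : (x : G) * g * (x : G)⁻¹ ∈ L := L.mul_mem (L.mul_mem x.2 hg) (L.inv_mem x.2)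
    rw [ext0_of_mem L _ hg, ext0_of_mem L _ hg']
    exact h2 ⟨g, hg⟩
  · have hg' : (x : G) * g * (x : G)⁻¹ ∉ L := by
      intro h
      apply hg
      have := L.mul_mem (L.mul_mem (L.inv_mem x.2) h) x.2
      simpa [mul_assoc] using this
    rw [ext0_of_not_mem L _ hg, ext0_of_not_mem L _ hg']

/-- **A normal inclusion of Brauer pairs of `L` is a normal inclusion of Brauer pairs of `G`.** -/
theorem isNormalSubpair_up {p : ℕ} [Fact p.Prime] {M : Ideal AlgInt} (hMod : IsPModular p M)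
    {R₁' R₂' : Subgroup L} {ε₁' : Set (IrrCharacter CL(R₁'))} {ε₂' : Set (IrrCharacter CL(R₂'))}
    (hc : C(upS L R₁') ≤ L) (h : IsNormalSubpair p M R₁' ε₁' R₂' ε₂') :
    IsNormalSubpair p M (upS L R₁') (upBlock L R₁' ε₁') (upS L R₂') (upBlock L R₂' ε₂') := by
  classical
  have hM : M.IsPrime := hMod.2.1.isPrime
  obtain ⟨⟨hp₁, hε₁⟩, ⟨hp₂, hε₂⟩, hle, hN, hstab, hbr⟩ := h
  have hle' : upS L R₁' ≤ upS L R₂' := Subgroup.map_mono hle
  have hc₂ : C(upS L R₂') ≤ L := le_trans (Subgroup.centralizer_le hle') hc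
  refine ⟨⟨hp₁.map _, isPBlock_upBlock L R₁' hc hε₁⟩, ⟨hp₂.map _, isPBlock_upBlock L R₂' hc₂ hε₂⟩,
    hle', ?_, ?_, ?_⟩
  · rintro _ ⟨x, hx, rfl⟩
    exact coe_mem_normalizer_upS L (hN hx)
  · rintro _ ⟨x, hx, rfl⟩
    exact stabilizesBlock_up L hM R₁' hc hε₁ (hN hx) (hstab x hx)
  · intro ξ hξ
    have hξ' := (mem_upBlock_iff L R₂' hc₂ ε₂' ξ).1 hξ
    have h1 := hbr _ hξ'
    rw [← brauerOmega_up L R₂' hc₂]
    have h2 : (fun l : L => subgroupBlockCoeff C(upS L R₁') (upBlock L R₁' ε₁') (l : G))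
        = subgroupBlockCoeff CL(R₁') ε₁' := by
      funext l
      exact sbc_upBlock_coe L R₁' hc hε₁ l
    rw [h2]
    exact h1

/-- transport of a pair -/
def upPair (a : BrauerPairIdx L) : BrauerPairIdx G := ⟨upS L a.1, upBlock L a.1 a.2⟩

theorem le_of_chain {p : ℕ} {M : Ideal AlgInt} {a b : BrauerPairIdx G}
    (h : Relation.ReflTransGen (NormalSubpairRel p M) a b) : a.1 ≤ b.1 := by
  induction h with
  | refl => exact le_rfl
  | tail _ hbc ih => exact le_trans ih hbc.2.2.1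

/-- **An inclusion of Brauer pairs of `L` is an inclusion of Brauer pairs of `G`.** -/
theorem subpairLE_up {p : ℕ} [Fact p.Prime] {M : Ideal AlgInt} (hMod : IsPModular p M)
    {a b : BrauerPairIdx L} (hc : C(upS L a.1) ≤ L)
    (h : Relation.ReflTransGen (NormalSubpairRel p M) a b) :
    Relation.ReflTransGen (NormalSubpairRel p M) (upPair L a) (upPair L b) := by
  haveI : Fintype L := Fintype.ofFinite _
  induction h with
  | refl => exact Relation.ReflTransGen.refl
  | @tail b c hab hbc ih =>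
    have hab' : a.1 ≤ b.1 := le_of_chain hab
    have hcb : C(upS L b.1) ≤ L :=
      le_trans (Subgroup.centralizer_le (Subgroup.map_mono hab')) hc
    exact ih.tail (isNormalSubpair_up L hMod hcb hbc)

theorem upS_cj (l : L) (R' : Subgroup L) : upS L (cj l R') = cj (l : G) (upS L R') := by
  show (R'.map (MulAut.conj l).toMonoidHom).map L.subtype
    = (R'.map L.subtype).map (MulAut.conj (l : G)).toMonoidHom
  rw [Subgroup.map_map, Subgroup.map_map]
  congr 1

theorem ext0_conjF (l : L) (β' : L → ℂ) :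
    ext0 L (conjF l β') = conjF (l : G) (ext0 L β') := by
  funext g
  simp only [conjF]
  by_cases hg : g ∈ L
  · have hg' : (l : G)⁻¹ * g * (l : G) ∈ L := L.mul_mem (L.mul_mem (L.inv_mem l.2) hg) l.2
    rw [ext0_of_mem L _ hg, ext0_of_mem L _ hg']
    rfl
  · have hg' : (l : G)⁻¹ * g * (l : G) ∉ L := by
      intro h
      apply hg
      have := L.mul_mem (L.mul_mem l.2 h) (L.inv_mem l.2)
      simpa [mul_assoc] using this
    rw [ext0_of_not_mem L _ hg, ext0_of_not_mem L _ hg']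

theorem centralizer_cj_le {l : G} (hl : l ∈ L) {R : Subgroup G} (hc : C(R) ≤ L) :
    C(cj l R) ≤ L := by
  intro c hc'
  have h1 : l⁻¹ * c * l ∈ L := hc (mem_centralizer_cj_iff.1 hc')
  have := L.mul_mem (L.mul_mem hl h1) (L.inv_mem hl)
  simpa [mul_assoc] using this

/-- **Transport commutes with conjugation by elements of `L`.** -/
theorem upPair_conjPair {M : Ideal AlgInt} (hM : M.IsPrime) (l : L) (a : BrauerPairIdx L)
    (ha : IsPBlock M a.2) (hc : C(upS L a.1) ≤ L) :
    upPair L (conjPair l a) = conjPair (l : G) (upPair L a) := by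
  classical
  haveI : Fintype L := Fintype.ofFinite _
  obtain ⟨R', ε'⟩ := a
  have hS : upS L (cj l R') = cj (l : G) (upS L R') := upS_cj L l R'
  have hc' : C(upS L (cj l R')) ≤ L := by
    rw [hS]; exact centralizer_cj_le L l.2 hc
  have hb1 : IsPBlock M (conjBlock R' l ε') := isPBlock_conjBlock l R' ha
  have hb2 : IsPBlock M (upBlock L R' ε') := isPBlock_upBlock L R' hc ha
  apply pair_eq_of_sbc_eq hM hS (isPBlock_upBlock L (cj l R') hc' hb1)
    (isPBlock_conjBlock (l : G) (upS L R') hb2)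
  rw [sbc_upBlock L (cj l R') hc' hb1, sbc_conjBlock l R' ha, ext0_conjF,
    sbc_conjBlock (l : G) (upS L R') hb2, sbc_upBlock L R' hc ha]

/-- **Every Brauer pair of `G` on a subgroup of `L` whose centralizer lies in `L` comes from
`L`.** -/
theorem exists_down {M : Ideal AlgInt} (a : BrauerPairIdx G) (haL : a.1 ≤ L)
    (hc : C(a.1) ≤ L) (ha : IsPBlock M a.2) :
    ∃ a' : BrauerPairIdx L, upPair L a' = a ∧ IsPBlock M a'.2 := by
  obtain ⟨E, ε⟩ := a
  obtain ⟨E', rfl⟩ : ∃ E' : Subgroup L, upS L E' = E := ⟨_, upS_subgroupOf L haL⟩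
  change C(upS L E') ≤ L at hc
  change IsPBlock M ε at ha
  refine ⟨⟨E', {ξ' | irrComp (centUp L E' hc).symm ξ' ∈ ε}⟩, ?_, ?_⟩
  · show (⟨upS L E', upBlock L E' _⟩ : BrauerPairIdx G) = ⟨upS L E', ε⟩
    congr 1
    ext ξ
    rw [mem_upBlock_iff L E' hc]
    show irrComp (centUp L E' hc).symm (irrComp (centUp L E' hc) ξ) ∈ ε ↔ ξ ∈ ε
    rw [irrComp_symm_irrComp]
  · obtain ⟨θ, rfl⟩ := ha
    refine ⟨irrComp (centUp L E' hc) θ, ?_⟩
    ext χ
    rw [mem_blockOf_irrComp_iff]
    rfl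

/-- **A Brauer pair of `G` lying normally above `(Q, f)` is a Brauer pair, in `L`, of the block
of `L` with the idempotent of `f`.** -/
theorem isBrauerPairOf_down {p : ℕ} [Fact p.Prime] {M : Ideal AlgInt} {Q : Subgroup G}
    {f : Set (IrrCharacter C(Q))} {FL : Set (IrrCharacter L)} (hFL : IsPBlock M FL)
    (hFc : ∀ l : L, blockCoeff FL l = subgroupBlockCoeff C(Q) f (l : G))
    {a' : BrauerPairIdx L} (hp : IsPGroup p a'.1) (ha' : IsPBlock M a'.2)
    (hc : C(upS L a'.1) ≤ L)
    (hbr : ∀ ξ ∈ upBlock L a'.1 a'.2, MemLocalIdeal M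
      (brauerOmega (upS L a'.1) (subgroupBlockCoeff C(Q) f) (ξ : C(upS L a'.1) → ℂ) - 1)) :
    IsBrauerPairOf p M FL a'.1 a'.2 := by
  refine ⟨⟨hp, ha'⟩, hFL, fun ξ' hξ' => ?_⟩
  have h1 := hbr _ (mem_upBlock_of_mem L a'.1 hc hξ')
  rw [← brauerOmega_up L a'.1 hc, irrComp_irrComp_symm] at h1
  have h2 : (fun l : L => subgroupBlockCoeff C(Q) f (l : G)) = blockCoeff FL := by
    funext l; exact (hFc l).symm
  rw [h2] at h1
  exact h1

end Fin

end Cfsg.Agent.Lib.Helper81
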