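import Mathlib
import Cfsg.Prelude.Def_BrauerPairs
import Cfsg.Agent.Lib.Helper81.BPSylow
import Cfsg.Agent.Lib.Helper81.BPSub

set_option autoImplicit false
set_option linter.unusedSectionVars false
set_option linter.style.haveILetI false

/-!
# Operations on Brauer pairs as elements of the index type
-/

namespace Cfsg.Agent.Lib.Helper81

open Cfsg
open Cfsg.Agent.Lib.Helper21 Cfsg.Agent.Lib.Helper82 Cfsg.Agent.Lib.Helper83

universe u
variable {G : Type u} [Group G] [Fintype G]

local notation "C(" R ")" => Subgroup.centralizer ((R : Subgroup G) : Set G)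
local notation "N(" R ")" => Subgroup.normalizer ((R : Subgroup G) : Set G)

variable {p : ℕ} [Fact p.Prime] {M : Ideal AlgInt}

/-- chains of normal inclusions -/
abbrev Chain (p : ℕ) (M : Ideal AlgInt) (a b : BrauerPairIdx G) : Prop :=
  Relation.ReflTransGen (NormalSubpairRel p M) a b

theorem chain_conj (hMod : IsPModular p M) (x : G) {a b : BrauerPairIdx G}
    (h : Chain p M a b) : Chain p M (conjPair x a) (conjPair x b) :=
  subpairLE_conj hMod x (Q := a.1) (f := a.2) (R := b.1) (g := b.2) h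

theorem conjPair_mul (hM : M.IsPrime) (x y : G) (a : BrauerPairIdx G) (ha : IsPBlock M a.2) :
    conjPair (x * y) a = conjPair x (conjPair y a) := by
  obtain ⟨Q, f⟩ := a
  change IsPBlock M f at ha
  have h1 : IsPBlock M (conjBlock Q y f) := isPBlock_conjBlock y Q ha
  apply pair_eq_of_sbc_eq hM (cj_mul x y Q) (isPBlock_conjBlock (x * y) Q ha)
    (isPBlock_conjBlock x (cj y Q) h1)
  rw [sbc_conjBlock (x * y) Q ha, sbc_conjBlock x (cj y Q) h1, sbc_conjBlock y Q ha, conjF_mul]

theorem cj_one (Q : Subgroup G) : cj (1 : G) Q = Q := by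
  ext v
  rw [mem_cj]
  constructor
  · rintro ⟨u, hu, rfl⟩
    simpa using hu
  · intro hv
    exact ⟨v, hv, by simp⟩

theorem conjPair_one (hM : M.IsPrime) (a : BrauerPairIdx G) (ha : IsPBlock M a.2) :
    conjPair 1 a = a := by
  obtain ⟨Q, f⟩ := a
  change IsPBlock M f at ha
  apply pair_eq_of_sbc_eq hM (cj_one Q) (isPBlock_conjBlock 1 Q ha) ha
  rw [sbc_conjBlock 1 Q ha, conjF_one]

theorem isPBlock_conjPair (x : G) {a : BrauerPairIdx G} (ha : IsPBlock M a.2) :
    IsPBlock M (conjPair x a).2 := isPBlock_conjBlock x a.1 ha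

theorem conjPair_inv_conjPair (hM : M.IsPrime) (x : G) (a : BrauerPairIdx G)
    (ha : IsPBlock M a.2) : conjPair x⁻¹ (conjPair x a) = a := by
  rw [← conjPair_mul hM x⁻¹ x a ha, inv_mul_cancel, conjPair_one hM a ha]

theorem conjPair_of_stab (hM : M.IsPrime) {Q : Subgroup G} {f : Set (IrrCharacter C(Q))}
    (hf : IsPBlock M f) {x : G} (hxN : x ∈ N(Q)) (hx : StabilizesBlock C(Q) f x) :
    conjPair x (⟨Q, f⟩ : BrauerPairIdx G) = ⟨Q, f⟩ := by
  classical
  haveI : Fintype C(Q) := Fintype.ofFinite _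
  haveI : Finite (IrrCharacter C(Q)) := irr_finite
  haveI : Fintype (IrrCharacter C(Q)) := Fintype.ofFinite _
  apply pair_eq_of_sbc_eq hM (cj_eq_of_mem_normalizer hxN) (isPBlock_conjBlock x Q hf) hf
  rw [sbc_conjBlock x Q hf]
  exact ((stabilizesBlock_iff_conjF C(Q) hM hf x).1 hx).2

theorem conjPair_of_mem (hM : M.IsPrime) {P : Subgroup G} {e : Set (IrrCharacter C(P))}
    (he : IsPBlock M e) {n : G} (hn : n ∈ P) :
    conjPair n (⟨P, e⟩ : BrauerPairIdx G) = ⟨P, e⟩ := by
  classical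
  haveI : Fintype C(P) := Fintype.ofFinite _
  haveI : Finite (IrrCharacter C(P)) := irr_finite
  haveI : Fintype (IrrCharacter C(P)) := Fintype.ofFinite _
  exact conjPair_of_stab hM he (Subgroup.le_normalizer hn) (stabilizesBlock_of_mem hM he hn)

theorem pair_eq_of_chain (hMod : IsPModular p M) {a b c : BrauerPairIdx G}
    (hac : Chain p M a c) (hbc : Chain p M b c) (h1 : a.1 = b.1) (ha : IsPBlock M a.2)
    (hb : IsPBlock M b.2) (hc : IsBrauerPair p M c.1 c.2) : a = b := by
  obtain ⟨Q, f⟩ := a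
  obtain ⟨Q₂, f₂⟩ := b
  obtain ⟨P, e⟩ := c
  change Q = Q₂ at h1
  subst h1
  change IsPBlock M f at ha
  change IsPBlock M f₂ at hb
  change IsBrauerPair p M P e at hc
  have hQP : Q ≤ P := subpairLE_le hMod hac ha
  have := (existsUnique_subpair hMod hc hQP).unique ⟨ha, hac⟩ ⟨hb, hbc⟩
  rw [this]

end Cfsg.Agent.Lib.Helper81
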