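import Mathlib
import Cfsg.Prelude.Def_BrauerPairs
import Cfsg.Prelude.Def_BlockFusion
import Cfsg.Agent.Lib.Helper81.BPPairOps
import Cfsg.Agent.Lib.Helper81.BPFusion
import Cfsg.Agent.Lib.Helper81.BPMaxChar
import Cfsg.Agent.S4828
import Cfsg.Agent.S4657
import Cfsg.Agent.S4658
import Cfsg.Agent.S4654

set_option autoImplicit false
set_option linter.unusedSectionVars false
set_option linter.style.haveILetI false

/-!
# Centric Brauer pairs whose stabilizer is the whole group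
-/

namespace Cfsg.Agent.Lib.Helper81

open Cfsg
open Cfsg.Agent.Lib.Helper21 Cfsg.Agent.Lib.Helper82 Cfsg.Agent.Lib.Helper83

universe u
variable {G : Type u} [Group G] [Fintype G]

local notation "C(" R ")" => Subgroup.centralizer ((R : Subgroup G) : Set G)
local notation "N(" R ")" => Subgroup.normalizer ((R : Subgroup G) : Set G)

variable {p : ℕ} [Fact p.Prime] {M : Ideal AlgInt}

theorem mem_of_pow_mem_of_coprime' {K : Subgroup G} {x : G} {a b : ℕ} (hab : Nat.Coprime a b)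
    (ha : x ^ a ∈ K) (hb : x ^ b ∈ K) : x ∈ K := by
  have h := Nat.gcd_eq_gcd_ab a b
  rw [hab] at h
  have : x = (x ^ a) ^ (Nat.gcdA a b) * (x ^ b) ^ (Nat.gcdB a b) := by
    rw [← zpow_natCast, ← zpow_natCast, ← zpow_mul, ← zpow_mul, ← zpow_add, ← h]
    simp
  rw [this]
  exact K.mul_mem (K.zpow_mem ha _) (K.zpow_mem hb _)

theorem upS_centralizer (L : Subgroup G) (Q' : Subgroup L)
    (hc : C(upS L Q') ≤ L) :
    upS L (Subgroup.centralizer (Q' : Set L)) = C(upS L Q') := by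
  ext x
  rw [mem_upS]
  constructor
  · rintro ⟨h, hx⟩
    exact (coe_mem_centralizer_upS L (c := ⟨x, h⟩)).2 hx
  · intro hx
    exact ⟨hc hx, (coe_mem_centralizer_upS L (c := ⟨x, hc hx⟩)).1 hx⟩

/-- **Core.** In `L = Q C_G(Q)`, the block with the idempotent of `f` is nilpotent as soon as
`Z(Q)` is a defect group of `f`. -/
theorem nilpotent_of_centric_aux (hMod : IsPModular p M) (L : Subgroup G) (Q' : Subgroup L)
    {f : Set (IrrCharacter C(upS L Q'))} (hf : IsPBlock M f) (hQp : IsPGroup p (upS L Q'))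
    (hL : upS L Q' ⊔ C(upS L Q') = L)
    (hZ : IsDefectGroup p M f ((upS L Q' ⊓ C(upS L Q')).subgroupOf C(upS L Q')))
    {F' : Set (IrrCharacter L)} (hF' : IsPBlock M F')
    (hFc : ∀ l : L, blockCoeff F' l = subgroupBlockCoeff C(upS L Q') f (l : G)) :
    IsNilpotentBlock p M F' := by
  classical
  have hM : M.IsPrime := hMod.2.1.isPrime
  have hp : p.Prime := Fact.out
  haveI : Fintype L := Fintype.ofFinite _
  have hc : C(upS L Q') ≤ L := le_of_le_of_eq le_sup_right hL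
  have hQL : upS L Q' ≤ L := upS_le L Q'
  have hLle : L ≤ upS L Q' ⊔ C(upS L Q') := le_of_eq hL.symm
  set φ := centUp L Q' hc with hφ
  set fL : Set (IrrCharacter (Subgroup.centralizer (Q' : Set L))) :=
    {ξ' | irrComp φ.symm ξ' ∈ f} with hfLdef
  have hupf : upBlock L Q' fL = f := by
    ext ξ
    rw [mem_upBlock_iff L Q' hc]
    show irrComp φ.symm (irrComp φ ξ) ∈ f ↔ ξ ∈ f
    rw [irrComp_symm_irrComp]
  have hfL : IsPBlock M fL := by
    obtain ⟨θ₀, hθ₀⟩ := hf
    refine ⟨irrComp φ θ₀, ?_⟩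
    ext χ
    rw [mem_blockOf_irrComp_iff]
    show irrComp φ.symm χ ∈ f ↔ _
    rw [hθ₀]
  have hQ'p : IsPGroup p Q' := by
    have : Q' = (upS L Q').comap L.subtype :=
      (Subgroup.comap_map_eq_self_of_injective L.subtype_injective _).symm
    rw [this]
    exact hQp.comap_of_injective _ L.subtype_injective
  have hpairL : IsBrauerPairOf p M F' Q' fL := by
    apply isBrauerPairOf_down L hF' hFc (a' := ⟨Q', fL⟩) hQ'p hfL hc
    intro ξ hξ
    change ξ ∈ upBlock L Q' fL at hξ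
    rw [hupf] at hξ
    show MemLocalIdeal M (brauerOmega (upS L Q') (subgroupBlockCoeff C(upS L Q') f)
      (ξ : C(upS L Q') → ℂ) - 1)
    rw [brauerOmega_sbc_self (upS L Q') f ξ, if_pos hξ, sub_self]
    exact memLocalIdeal_zero hM
  -- the canonical character
  haveI : ((upS L Q' ⊓ C(upS L Q')).subgroupOf C(upS L Q')).Normal :=
    normal_of_le_center' (center_subgroupOf_le_center (upS L Q'))
  obtain ⟨θ, hθ, hker, hdeg⟩ := exists_canonical_character hMod _ hf hZ
  have hθL : irrComp φ θ ∈ fL := by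
    show irrComp φ.symm (irrComp φ θ) ∈ f
    rw [irrComp_symm_irrComp]
    exact hθ
  have cond1 : ∀ z : Subgroup.centralizer (Q' : Set L), (z : L) ∈ Q' →
      (irrComp φ θ : Subgroup.centralizer (Q' : Set L) → ℂ) z
        = (irrComp φ θ : Subgroup.centralizer (Q' : Set L) → ℂ) 1 := by
    intro z hz
    rw [irrComp_apply, irrComp_apply, map_one]
    apply hker
    rw [Subgroup.mem_subgroupOf]
    exact ⟨(coe_mem_upS L).2 hz, (φ z).2⟩
  have hcardC : Nat.card (Subgroup.centralizer (Q' : Set L)) = Nat.card C(upS L Q') :=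
    Nat.card_congr φ.toEquiv
  have hcardZ : Nat.card ↥(Q' ⊓ Subgroup.centralizer (Q' : Set L))
      = Nat.card ↥(upS L Q' ⊓ C(upS L Q')) := by
    have h1 : upS L (Q' ⊓ Subgroup.centralizer (Q' : Set L)) = upS L Q' ⊓ C(upS L Q') := by
      show (Q' ⊓ Subgroup.centralizer (Q' : Set L)).map L.subtype = _
      rw [Subgroup.map_inf _ _ _ L.subtype_injective]
      congr 1
      exact upS_centralizer L Q' hc
    rw [← h1]
    exact (Subgroup.card_map_of_injective L.subtype_injective).symm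
  have cond2 : (charDegree (irrComp φ θ : Subgroup.centralizer (Q' : Set L) → ℂ)).factorization p
      + (Nat.card ↥(Q' ⊓ Subgroup.centralizer (Q' : Set L))).factorization p
        = (Nat.card (Subgroup.centralizer (Q' : Set L))).factorization p := by
    have hd : charDegree (irrComp φ θ : Subgroup.centralizer (Q' : Set L) → ℂ)
        = charDegree (θ : C(upS L Q') → ℂ) := by
      unfold charDegree
      rw [irrComp_apply, map_one]
    rw [hd, hcardC, hcardZ, ← card_inf_subgroupOf]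
    exact hdeg
  have hsupL : upS L (Q' ⊔ Subgroup.centralizer (Q' : Set L)) = upS L Q' ⊔ C(upS L Q') := by
    show (Q' ⊔ Subgroup.centralizer (Q' : Set L)).map L.subtype = _
    rw [Subgroup.map_sup]
    congr 1
    exact upS_centralizer L Q' hc
  have cond3 : ∀ g : L, g ∈ Subgroup.normalizer (Q' : Set L) →
      StabilizesBlock (Subgroup.centralizer (Q' : Set L)) fL g → (∃ k : ℕ, orderOf g = p ^ k) →
      g ∈ Q' ⊔ Subgroup.centralizer (Q' : Set L) := by
    intro g _ _ _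
    rw [← coe_mem_upS L, hsupL]
    exact hLle g.2
  obtain ⟨B', hB'⟩ := (Cfsg.Agent.S4828.result p M hMod Q' fL ⟨hQ'p, hfL⟩).2
    ⟨irrComp φ θ, hθL, cond1, cond2, cond3⟩
  have hBB : B' = F' :=
    (Cfsg.Agent.S4657.result p M hMod Q' fL ⟨hQ'p, hfL⟩).unique hB'.1 hpairL
  rw [hBB] at hB'
  -- `Q'` is normal in `L`
  have hLN : L ≤ N(upS L Q') :=
    hLle.trans (sup_le Subgroup.le_normalizer (Subgroup.centralizer_le_normalizer _))
  have hQ'n : ∀ (y r : L), r ∈ Q' → y * r * y⁻¹ ∈ Q' := by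
    intro y r hr
    rw [← coe_mem_upS L]
    exact (Subgroup.mem_normalizer_iff.1 (hLN y.2) (r : G)).1 ((coe_mem_upS L).2 hr)
  refine ⟨hF', fun R' g' hR'g' x hxN hxst hxreg => ?_⟩
  obtain ⟨l, hl⟩ := exists_conj_subpairLE hMod hB' hR'g'
  have h1 : cj l R' ≤ Q' := subpairLE_le hMod hl (isPBlock_conjBlock l R' hR'g'.1.2)
  have hR'Q' : R' ≤ Q' := by
    intro r hr
    have h2 : l * r * l⁻¹ ∈ Q' := h1 (conj_mem_cj hr)
    have h3 := hQ'n l⁻¹ _ h2
    have e : l⁻¹ * (l * r * l⁻¹) * l⁻¹⁻¹ = r := by group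
    rwa [e] at h3
  -- decompose `x`
  have hx : (x : G) ∈ ((upS L Q' ⊔ C(upS L Q') : Subgroup G) : Set G) := hLle x.2
  rw [Subgroup.coe_mul_of_right_le_normalizer_left (upS L Q') C(upS L Q')
    (Subgroup.centralizer_le_normalizer _)] at hx
  obtain ⟨q, hq, c, hcc, hqc⟩ := hx
  have hcomm : Commute q c := Subgroup.mem_centralizer_iff.1 hcc q hq
  obtain ⟨k, hk⟩ := (IsPGroup.iff_orderOf.1 hQp) ⟨q, hq⟩
  have hqk : q ^ (p ^ k) = 1 := by
    have h2 : orderOf q = p ^ k := by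
      rw [← hk]; exact (Subgroup.orderOf_mk q hq).symm
    rw [← h2]; exact pow_orderOf_eq_one q
  have hCK : C(upS L Q') ≤ C(upS L R') := Subgroup.centralizer_le (Subgroup.map_mono hR'Q')
  have h_a : (x : G) ^ (p ^ k) ∈ C(upS L R') := by
    have e : (x : G) = q * c := hqc.symm
    rw [e, hcomm.mul_pow, hqk, one_mul]
    exact hCK (Subgroup.pow_mem _ hcc _)
  have h_b : (x : G) ^ (orderOf x) ∈ C(upS L R') := by
    have : (x : G) ^ (orderOf x) = ((x ^ orderOf x : L) : G) := (Subgroup.coe_pow L x _).symm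
    rw [this, pow_orderOf_eq_one]
    exact Subgroup.one_mem _
  have hcop : Nat.Coprime (p ^ k) (orderOf x) :=
    Nat.Coprime.pow_left k ((Nat.Prime.coprime_iff_not_dvd hp).2 hxreg)
  have hxK : (x : G) ∈ C(upS L R') := mem_of_pow_mem_of_coprime' hcop h_a h_b
  exact (coe_mem_centralizer_upS L).1 hxK

theorem nilpotent_of_centric_aux2 (hMod : IsPModular p M) (L Q : Subgroup G)
    (f : Set (IrrCharacter C(Q))) (Q' : Subgroup L) (hQ' : upS L Q' = Q) (hf : IsPBlock M f)
    (hQp : IsPGroup p Q) (hL : Q ⊔ C(Q) = L)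
    (hZ : IsDefectGroup p M f ((Q ⊓ C(Q)).subgroupOf C(Q)))
    {F' : Set (IrrCharacter L)} (hF' : IsPBlock M F')
    (hFc : ∀ l : L, blockCoeff F' l = subgroupBlockCoeff C(Q) f (l : G)) :
    IsNilpotentBlock p M F' := by
  subst hQ'
  exact nilpotent_of_centric_aux hMod L Q' hf hQp hL hZ hF' hFc

/-- **S4693.** -/
theorem centric_normal_pair (hMod : IsPModular p M) {B : Set (IrrCharacter G)}
    {P : Subgroup G} {e : Set (IrrCharacter C(P))} {F : FusionSystem P}
    (hF : IsBlockFusionSystemOn p M B P e F) {Q : Subgroup G} {f : Set (IrrCharacter C(Q))}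
    (hf : IsPBlock M f) (hle : SubpairLE p M Q f P e) (hcen : F.IsCentric Q)
    (hG : ∀ x : G, x ∈ N(Q) ∧ StabilizesBlock C(Q) f x) :
    (∀ g : G, blockCoeff B g = subgroupBlockCoeff C(Q) f g) ∧
      ∃ F' : Set (IrrCharacter ↥(Q ⊔ C(Q))), IsPBlock M F' ∧
        (∀ t : ↥(Q ⊔ C(Q)), blockCoeff F' t = subgroupBlockCoeff C(Q) f (t : G)) ∧
        IsNilpotentBlock p M F' := by
  classical
  have hM : M.IsPrime := hMod.2.1.isPrime
  have hmax : IsMaximalBrauerPair p M B P e := hF.1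
  obtain ⟨⟨hPp, he⟩, hB, -⟩ := id hmax.1
  have hPe : IsBrauerPair p M P e := ⟨hPp, he⟩
  have hQP : Q ≤ P := subpairLE_le hMod hle hf
  have hQp : IsPGroup p Q := hPp.to_le hQP
  haveI : Finite (IrrCharacter G) := irr_finite
  haveI : Fintype (IrrCharacter G) := Fintype.ofFinite _
  haveI : Fintype C(Q) := Fintype.ofFinite _
  haveI : Finite (IrrCharacter C(Q)) := irr_finite
  haveI : Fintype (IrrCharacter C(Q)) := Fintype.ofFinite _
  have hinv : ∀ x g : G, subgroupBlockCoeff C(Q) f (x * g * x⁻¹) = subgroupBlockCoeff C(Q) f g :=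
    fun x g => ((stabilizesBlock_iff C(Q) hM hf x).1 (hG x).2).2 g
  constructor
  · have hBQ : IsBrauerPairOf p M B Q f :=
      (Cfsg.Agent.S4658.result p M hMod P Q e f hPe ⟨hQp, hf⟩ hle B hB).1 hmax.1
    haveI : Q.Normal := ⟨fun n hn g => (Subgroup.mem_normalizer_iff.1 (hG g).1 n).1 hn⟩
    have h1 := (Cfsg.Agent.S4654.result p M hMod Q hQp B f hBQ ⊤
      (fun x => ⟨fun _ => (hG x).2, fun _ => Subgroup.mem_top x⟩)).2
    intro g
    rw [h1 g]
    have h2 : ∀ x : G, subgroupBlockCoeff C(Q) f (x⁻¹ * g * x) = subgroupBlockCoeff C(Q) f g := by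
      intro x
      have := hinv x⁻¹ g
      rwa [inv_inv] at this
    rw [Finset.sum_congr rfl (fun x _ => h2 x), Finset.sum_const, Finset.card_univ,
      Subgroup.card_top, nsmul_eq_mul, Nat.card_eq_fintype_card]
    have hne : (Fintype.card G : ℂ) ≠ 0 := Nat.cast_ne_zero.2 Fintype.card_ne_zero
    field_simp
  · have hZ : IsDefectGroup p M f ((Q ⊓ C(Q)).subgroupOf C(Q)) :=
      (isCentric_iff hMod hF hf hle).1 hcen
    have hLN : Q ⊔ C(Q) ≤ N(Q) := fun x _ => (hG x).1
    haveI : Fintype ↥(Q ⊔ C(Q)) := Fintype.ofFinite _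
    haveI : Finite (IrrCharacter ↥(Q ⊔ C(Q))) := irr_finite
    haveI : Fintype (IrrCharacter ↥(Q ⊔ C(Q))) := Fintype.ofFinite _
    obtain ⟨F', hF', hFc0⟩ := exists_block_orbitSum hMod hQp (le_sup_left : Q ≤ Q ⊔ C(Q))
      (le_sup_right : C(Q) ≤ Q ⊔ C(Q)) hLN hf
    have hFc : ∀ l : ↥(Q ⊔ C(Q)), blockCoeff F' l = subgroupBlockCoeff C(Q) f (l : G) := by
      intro l
      rw [hFc0 l, orbitSum_eq_self]
      intro x _
      exact (conjF_eq_self_iff x _).2 (hinv x)
    refine ⟨F', hF', hFc, ?_⟩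
    exact nilpotent_of_centric_aux2 hMod (Q ⊔ C(Q)) Q f (Q.subgroupOf (Q ⊔ C(Q)))
      (upS_subgroupOf _ le_sup_left) hf hQp rfl hZ hF' hFc

end Cfsg.Agent.Lib.Helper81
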