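import Mathlib
import Cfsg.Prelude.Def_BrauerPairs
import Cfsg.Agent.Lib.Helper81.BPPairOps
import Cfsg.Agent.Lib.Helper81.BPFusion

set_option autoImplicit false
set_option linter.unusedSectionVars false
set_option linter.style.haveILetI false

/-!
# The extension property of fully normalized Brauer pairs
-/

namespace Cfsg.Agent.Lib.Helper81

open Cfsg
open Cfsg.Agent.Lib.Helper21 Cfsg.Agent.Lib.Helper82 Cfsg.Agent.Lib.Helper83

universe u
variable {G : Type u} [Group G] [Fintype G]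

local notation "C(" R ")" => Subgroup.centralizer ((R : Subgroup G) : Set G)
local notation "N(" R ")" => Subgroup.normalizer ((R : Subgroup G) : Set G)

variable {p : ℕ} [Fact p.Prime] {M : Ideal AlgInt}

/-- **Extension.** Let `(Q', f') ≤ (P, e)` with `(P, e)` maximal and `N_P(Q')` a defect group of
the stabilizer block.  Every pair `(E, ε)` normally above `(Q', f')` with
`E ≤ N_P(Q') C_G(Q')` has a `C_G(Q')`-conjugate below `(P, e)`. -/
theorem exists_centralizer_conj_chain (hMod : IsPModular p M) {B : Set (IrrCharacter G)}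
    {P Q' : Subgroup G} {e : Set (IrrCharacter C(P))} {f' : Set (IrrCharacter C(Q'))}
    (hmax : IsMaximalBrauerPair p M B P e) (hf' : IsPBlock M f')
    (hle : SubpairLE p M Q' f' P e) {T' : Subgroup G}
    (hT' : ∀ y : G, y ∈ T' ↔ y ∈ N(Q') ∧ StabilizesBlock C(Q') f' y)
    {F' : Set (IrrCharacter T')} (hF' : IsPBlock M F')
    (hFc' : ∀ t : T', blockCoeff F' t = subgroupBlockCoeff C(Q') f' (t : G))
    (hdef : IsDefectGroup p M F' ((P ⊓ N(Q')).subgroupOf T'))
    {E : Subgroup G} {ε : Set (IrrCharacter C(E))} (hns : IsNormalSubpair p M Q' f' E ε)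
    (hEL : E ≤ (P ⊓ N(Q')) ⊔ C(Q')) :
    ∃ c ∈ C(Q'), Chain p M (conjPair c (⟨E, ε⟩ : BrauerPairIdx G)) ⟨P, e⟩ := by
  classical
  have hM : M.IsPrime := hMod.2.1.isPrime
  obtain ⟨⟨hPp, he⟩, hB, -⟩ := id hmax.1
  have hPe : IsBrauerPair p M P e := ⟨hPp, he⟩
  have hQ'P : Q' ≤ P := subpairLE_le hMod hle hf'
  have hQ'p : IsPGroup p Q' := hPp.to_le hQ'P
  set N : Subgroup G := P ⊓ N(Q') with hN
  set L : Subgroup G := N ⊔ C(Q') with hL
  have hQ'N : Q' ≤ N := le_inf hQ'P Subgroup.le_normalizer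
  have hNP : N ≤ P := inf_le_left
  have hNN : N ≤ N(Q') := inf_le_right
  have hCT : C(Q') ≤ T' := centralizer_le_stabilizer hM hf' hT'
  have hNT : N ≤ T' := inf_normalizer_le_stabilizer hMod hPe hle hf' hT'
  have hTN : T' ≤ N(Q') := fun y hy => ((hT' y).1 hy).1
  have hLT : L ≤ T' := sup_le hNT hCT
  have hCL : C(Q') ≤ L := le_sup_right
  have hNL : N ≤ L := le_sup_left
  have hQ'L : Q' ≤ L := hQ'N.trans hNL
  have hLN : L ≤ N(Q') := hLT.trans hTN
  haveI : Fintype L := Fintype.ofFinite _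
  haveI : Finite (IrrCharacter L) := irr_finite
  haveI : Fintype (IrrCharacter L) := Fintype.ofFinite _
  haveI : Fintype C(Q') := Fintype.ofFinite _
  haveI : Finite (IrrCharacter C(Q')) := irr_finite
  haveI : Fintype (IrrCharacter C(Q')) := Fintype.ofFinite _
  haveI : Finite (IrrCharacter G) := irr_finite
  haveI : Fintype (IrrCharacter G) := Fintype.ofFinite _
  have hinvT : ConjInv T' (subgroupBlockCoeff C(Q') f') := conjInv_of_stabilizer hM hf' hT'
  -- the block of `L`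
  obtain ⟨FL, hFL, hFLc0⟩ := exists_block_orbitSum hMod hQ'p hQ'L hCL hLN hf'
  have hFLc : ∀ l : L, blockCoeff FL l = subgroupBlockCoeff C(Q') f' (l : G) := by
    intro l
    rw [hFLc0 l, orbitSum_eq_self]
    intro x hx
    exact (conjF_eq_self_iff x _).2 (hinvT x (hLT hx))
  -- the pair on `N`
  obtain ⟨eN, heN, hle1, hle2⟩ := subpairLE_factor hMod hPe hle hf' hQ'N hNP
  have hNp : IsPGroup p N := hPp.to_le hNP
  obtain ⟨f'', hnN⟩ := exists_normalSubpair hMod ⟨hNp, heN⟩ hQ'N hNN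
  have hff : f'' = f' := (existsUnique_subpair hMod ⟨hNp, heN⟩ hQ'N).unique
    ⟨hnN.1.2, Relation.ReflTransGen.single hnN⟩ ⟨hf', hle1⟩
  rw [hff] at hnN
  obtain ⟨-, ⟨hEp, hε⟩, hQ'E, hEN, -, hbrE⟩ := id hns
  have hCE : C(E) ≤ L := (Subgroup.centralizer_le hQ'E).trans hCL
  have hCN : C(N) ≤ L := (Subgroup.centralizer_le hQ'N).trans hCL
  obtain ⟨aE, haE, hbE⟩ := exists_down L (⟨E, ε⟩ : BrauerPairIdx G) hEL hCE hε
  obtain ⟨aN, haN, hbN⟩ := exists_down L (⟨N, eN⟩ : BrauerPairIdx G) hNL hCN heN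
  have key : ∀ (a' : BrauerPairIdx L) (E₀ : Subgroup G) (ε₀ : Set (IrrCharacter C(E₀))),
      upPair L a' = ⟨E₀, ε₀⟩ → IsPBlock M a'.2 → IsNormalSubpair p M Q' f' E₀ ε₀ →
      IsBrauerPairOf p M FL a'.1 a'.2 := by
    intro a' E₀ ε₀ h hb hn
    have hn' : NormalSubpairRel p M (⟨Q', f'⟩ : BrauerPairIdx G) ⟨E₀, ε₀⟩ := hn
    rw [← h] at hn'
    change IsNormalSubpair p M Q' f' (upS L a'.1) (upBlock L a'.1 a'.2) at hn'
    obtain ⟨-, ⟨hp', -⟩, hQ'a, -, -, hbr⟩ := hn'
    have hc : C(upS L a'.1) ≤ L := (Subgroup.centralizer_le hQ'a).trans hCL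
    have hp'' : IsPGroup p a'.1 := by
      have : a'.1 = (upS L a'.1).comap L.subtype :=
        (Subgroup.comap_map_eq_self_of_injective L.subtype_injective _).symm
      rw [this]
      exact hp'.comap_of_injective _ L.subtype_injective
    exact isBrauerPairOf_down L hFL hFLc hp'' hb hc hbr
  have hBE := key aE E ε haE hbE hns
  have hBN := key aN N eN haN hbN hnN
  have hupN : upS L aN.1 = N := congrArg Sigma.fst haN
  have hupE : upS L aE.1 = E := congrArg Sigma.fst haE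
  have hcN' : C(upS L aN.1) ≤ L := by rw [hupN]; exact hCN
  have hcE' : C(upS L aE.1) ≤ L := by rw [hupE]; exact hCE
  -- maximality
  have hmaxN : IsMaximalBrauerPair p M FL aN.1 aN.2 := by
    refine ⟨hBN, fun R' g' hR'g' hleR' => ?_⟩
    have hch : Chain p M (upPair L aN) (upPair L ⟨R', g'⟩) := subpairLE_up L hMod hcN' hleR'
    rw [haN] at hch
    change Chain p M (⟨N, eN⟩ : BrauerPairIdx G) ⟨upS L R', upBlock L R' g'⟩ at hch
    have hNR₂ : N ≤ upS L R' := le_of_chain hch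
    have hR₂L : upS L R' ≤ L := upS_le L R'
    have hcR₂ : C(upS L R') ≤ L := (Subgroup.centralizer_le (hQ'N.trans hNR₂)).trans hCL
    have hR₂g₂ : IsBrauerPair p M (upS L R') (upBlock L R' g') :=
      ⟨hR'g'.1.1.map _, isPBlock_upBlock L R' hcR₂ hR'g'.1.2⟩
    have hle3 : SubpairLE p M Q' f' (upS L R') (upBlock L R' g') :=
      Relation.ReflTransGen.trans hle1 hch
    obtain ⟨D, hD, hDle⟩ := exists_defectGroup_ge hMod hR₂g₂ hle3 hf' hCT hinvT hF' hFc'
    have hcardD : Nat.card D = Nat.card (N.subgroupOf T') :=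
      card_defectGroup_eq' hMod hF' hdef hD
    have h1 : Nat.card (upS L R') ≤ Nat.card N := by
      have hR₂T : upS L R' ≤ T' := hR₂L.trans hLT
      have h2 : Nat.card ((upS L R' ⊓ T').subgroupOf T') ≤ Nat.card D :=
        Subgroup.card_le_of_le hDle
      rw [card_inf_subgroupOf, inf_of_le_left hR₂T, hcardD, card_subgroupOf_of_le hNT] at h2
      exact h2
    have hR₂N : upS L R' = N := (Subgroup.eq_of_le_of_card_ge hNR₂ h1).symm
    apply Subgroup.map_injective L.subtype_injective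
    show upS L R' = upS L aN.1
    rw [hupN]; exact hR₂N
  -- Sylow in `L`
  obtain ⟨l, hl⟩ := exists_conj_subpairLE hMod hmaxN hBE
  have hch2 : Chain p M (conjPair l aE) aN := hl
  have hc3 : C(upS L (conjPair l aE).1) ≤ L := by
    show C(upS L (cj l aE.1)) ≤ L
    rw [upS_cj]; exact centralizer_cj_le L l.2 hcE'
  have hch3 := subpairLE_up L hMod hc3 hch2
  rw [upPair_conjPair L hM l aE hbE hcE', haE, haN] at hch3
  -- decompose `l`
  have hlmem : (l : G) ∈ ((N ⊔ C(Q') : Subgroup G) : Set G) := l.2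
  rw [Subgroup.coe_mul_of_left_le_normalizer_right N C(Q')
    (hNN.trans (normalizer_le_normalizer_centralizer Q'))] at hlmem
  obtain ⟨n, hn, c, hc, hnc⟩ := hlmem
  refine ⟨c, hc, ?_⟩
  rw [← hnc, conjPair_mul hM n c _ hε] at hch3
  have hch4 := chain_conj hMod n⁻¹ hch3
  rw [conjPair_inv_conjPair hM n _ (isPBlock_conjPair c hε)] at hch4
  have hch5 : Chain p M (conjPair n⁻¹ (⟨N, eN⟩ : BrauerPairIdx G)) (conjPair n⁻¹ ⟨P, e⟩) :=
    chain_conj hMod n⁻¹ hle2
  rw [conjPair_of_mem hM he (P.inv_mem (hNP hn))] at hch5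
  exact hch4.trans hch5

end Cfsg.Agent.Lib.Helper81
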