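import Mathlib
import Cfsg.Prelude.Def_BrauerPairs
import Cfsg.Prelude.Def_BlockFusion
import Cfsg.Agent.Lib.Helper81.BPRecept
import Cfsg.Agent.Lib.Helper81.BPAutom

set_option autoImplicit false
set_option linter.unusedSectionVars false
set_option linter.style.haveILetI false

/-!
# The fusion system of a block is saturated
-/

namespace Cfsg.Agent.Lib.Helper81

open Cfsg
open Cfsg.Agent.Lib.Helper21 Cfsg.Agent.Lib.Helper82 Cfsg.Agent.Lib.Helper83

universe u
variable {G : Type u} [Group G] [Fintype G]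

local notation "C(" R ")" => Subgroup.centralizer ((R : Subgroup G) : Set G)
local notation "N(" R ")" => Subgroup.normalizer ((R : Subgroup G) : Set G)

variable {p : ℕ} [Fact p.Prime] {M : Ideal AlgInt}

/-- the maps of the fusion system of a block -/
def blockHom (p : ℕ) (M : Ideal AlgInt) (P : Subgroup G) (e : Set (IrrCharacter C(P)))
    (Q : Subgroup G) : Set (Q →* G) :=
  {φ | Q ≤ P ∧ ∃ g : G, (∀ u : Q, φ u = g * (u : G) * g⁻¹) ∧
    Q.map (MulAut.conj g).toMonoidHom ≤ P ∧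
    ∃ f : Set (IrrCharacter C(Q)), SubpairLE p M Q f P e ∧
      SubpairLE p M (Q.map (MulAut.conj g).toMonoidHom) (conjBlock Q g f) P e}

theorem eq_conjHom {Q : Subgroup G} {φ : Q →* G} {g : G}
    (h : ∀ u : Q, φ u = g * (u : G) * g⁻¹) : φ = conjHom Q g := by
  ext u
  rw [h u]
  rfl

theorem range_eq_cj {Q : Subgroup G} {φ : Q →* G} {g : G}
    (h : ∀ u : Q, φ u = g * (u : G) * g⁻¹) : φ.range = cj g Q := by
  rw [eq_conjHom h, range_conjHom]

theorem cj_inv_cj (g : G) (Q : Subgroup G) : cj g⁻¹ (cj g Q) = Q := by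
  rw [← cj_mul, inv_mul_cancel, cj_one]

/-- the inverse of a map, with a general source -/
theorem blockHom_inv_aux (hMod : IsPModular p M) {P : Subgroup G} {e : Set (IrrCharacter C(P))}
    (hPe : IsBrauerPair p M P e) {Q : Subgroup G} (hQP : Q ≤ P) {g : G}
    {f : Set (IrrCharacter C(Q))} (h1 : SubpairLE p M Q f P e)
    (h2 : SubpairLE p M (cj g Q) (conjBlock Q g f) P e) (R : Subgroup G) (hR : R = cj g Q) :
    conjHom R g⁻¹ ∈ blockHom p M P e R := by
  subst hR
  have hM : M.IsPrime := hMod.2.1.isPrime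
  have hf : IsPBlock M f := isPBlock_of_subpairLE hPe.2 h1
  have hRP : cj g Q ≤ P := subpairLE_le hMod h2 (isPBlock_conjBlock g Q hf)
  refine ⟨hRP, g⁻¹, fun u => rfl, ?_, conjBlock Q g f, h2, ?_⟩
  · show cj g⁻¹ (cj g Q) ≤ P
    rw [cj_inv_cj]; exact hQP
  · have h3 : conjPair g⁻¹ (conjPair g (⟨Q, f⟩ : BrauerPairIdx G)) = ⟨Q, f⟩ :=
      conjPair_inv_conjPair hM g _ hf
    show Chain p M (conjPair g⁻¹ (conjPair g (⟨Q, f⟩ : BrauerPairIdx G))) ⟨P, e⟩
    rw [h3]
    exact h1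

/-- **The fusion system of a block on a maximal Brauer pair.** -/
def blockFusion (hMod : IsPModular p M) (P : Subgroup G) (e : Set (IrrCharacter C(P)))
    (hPe : IsBrauerPair p M P e) : FusionSystem P where
  Hom := blockHom p M P e
  le_of_mem := by
    rintro Q φ ⟨hQP, g, hg, hgP, -⟩
    refine ⟨hQP, fun x => hgP ?_⟩
    rw [hg x]
    exact conj_mem_cj x.2
  injective_of_mem := by
    rintro Q φ ⟨-, g, hg, -⟩ a b hab
    rw [hg a, hg b] at hab
    exact Subtype.ext (mul_left_cancel (mul_right_cancel hab))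
  conj_mem := by
    intro Q g hQP hgP
    have hM : M.IsPrime := hMod.2.1.isPrime
    obtain ⟨f, ⟨hf, hle⟩, -⟩ := existsUnique_subpair hMod hPe hQP
    have h1 : Chain p M (conjPair g (⟨Q, f⟩ : BrauerPairIdx G)) (conjPair g ⟨P, e⟩) :=
      chain_conj hMod g hle
    rw [conjPair_of_mem hM hPe.2 hgP] at h1
    refine ⟨hQP, g, fun u => rfl, ?_, f, hle, h1⟩
    exact subpairLE_le hMod h1 (isPBlock_conjBlock g Q hf)
  comp_mem := by
    rintro Q Q₂ φ ψ ⟨hQP, g, hg, hgP, f, hle, hleg⟩ ⟨hQ₂P, k, hk, hkP, f₂, hle₂, hlek⟩ h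
    have hM : M.IsPrime := hMod.2.1.isPrime
    have hf : IsPBlock M f := isPBlock_of_subpairLE hPe.2 hle
    have hf₂ : IsPBlock M f₂ := isPBlock_of_subpairLE hPe.2 hle₂
    have hfg : IsPBlock M (conjBlock Q g f) := isPBlock_conjBlock g Q hf
    have hgQ : cj g Q ≤ Q₂ := by
      intro v hv
      obtain ⟨u, hu, rfl⟩ := mem_cj.1 hv
      have := h ⟨u, hu⟩
      rwa [hg] at this
    obtain ⟨g₂, hg₂, hleA, hleB⟩ := subpairLE_factor hMod hPe hleg hfg hgQ hQ₂P
    have hgf : g₂ = f₂ := (existsUnique_subpair hMod hPe hQ₂P).unique ⟨hg₂, hleB⟩ ⟨hf₂, hle₂⟩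
    rw [hgf] at hleA
    have h1 : Chain p M (conjPair k (conjPair g (⟨Q, f⟩ : BrauerPairIdx G)))
        (conjPair k ⟨Q₂, f₂⟩) := chain_conj hMod k hleA
    have h2 : Chain p M (conjPair k (conjPair g (⟨Q, f⟩ : BrauerPairIdx G))) ⟨P, e⟩ :=
      h1.trans hlek
    rw [← conjPair_mul hM k g _ hf] at h2
    refine ⟨hQP, k * g, fun u => ?_, ?_, f, hle, h2⟩
    · show ψ (φ.codRestrict Q₂ h u) = k * g * (u : G) * (k * g)⁻¹
      rw [hk]
      show k * φ u * k⁻¹ = _
      rw [hg, mul_inv_rev]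
      simp only [mul_assoc]
    · exact subpairLE_le hMod h2 (isPBlock_conjBlock (k * g) Q hf)
  inv_mem := by
    rintro Q φ ⟨hQP, g, hg, hgP, f, hle, hleg⟩
    refine ⟨conjHom φ.range g⁻¹, blockHom_inv_aux hMod hPe hQP hle hleg _ (range_eq_cj hg), ?_⟩
    intro x
    show g⁻¹ * φ x * g⁻¹⁻¹ = (x : G)
    rw [hg x]
    group

theorem isBlockFusionSystemOn_blockFusion (hMod : IsPModular p M) {B : Set (IrrCharacter G)}
    {P : Subgroup G} {e : Set (IrrCharacter C(P))} (hmax : IsMaximalBrauerPair p M B P e) :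
    IsBlockFusionSystemOn p M B P e (blockFusion hMod P e hmax.1.1) :=
  ⟨hmax, fun _ _ => Iff.rfl⟩

section Sat

variable {B : Set (IrrCharacter G)} {P : Subgroup G}
  {e : Set (IrrCharacter (Subgroup.centralizer (P : Set G)))} {F : FusionSystem P}

/-- conjugation by an element of the normalizer, as an automorphism -/
def normConj (Q : Subgroup G) : N(Q) →* MulAut Q where
  toFun t :=
    { toFun := fun x => ⟨(t : G) * x * (t : G)⁻¹, (Subgroup.mem_normalizer_iff.1 t.2 x).1 x.2⟩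
      invFun := fun x => ⟨(t : G)⁻¹ * x * (t : G), by
        have := (Subgroup.mem_normalizer_iff.1 (Subgroup.inv_mem _ t.2) x).1 x.2
        simpa using this⟩
      left_inv := fun x => Subtype.ext (by simp [mul_assoc])
      right_inv := fun x => Subtype.ext (by simp [mul_assoc])
      map_mul' := fun x y => Subtype.ext (by simp [mul_assoc]) }
  map_one' := by
    ext x
    simp
  map_mul' := fun s t => by
    ext x
    simp [mul_assoc]

@[simp] theorem normConj_apply (Q : Subgroup G) (t : N(Q)) (x : Q) :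
    ((normConj Q t x : Q) : G) = (t : G) * x * (t : G)⁻¹ := rfl

theorem mem_normalizer_of_aut {Q : Subgroup G} (α : MulAut Q) (g : G)
    (h : ∀ x : Q, ((α x : Q) : G) = g * x * g⁻¹) : g ∈ N(Q) := by
  rw [Subgroup.mem_normalizer_iff]
  intro v
  constructor
  · intro hv
    rw [← h ⟨v, hv⟩]
    exact (α ⟨v, hv⟩).2
  · intro hw
    set u : Q := α.symm ⟨g * v * g⁻¹, hw⟩ with hu
    have h1 : ((α u : Q) : G) = g * v * g⁻¹ := by
      rw [hu, MulEquiv.apply_symm_apply]
    rw [h u] at h1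
    have h2 : (u : G) = v := mul_left_cancel (mul_right_cancel h1)
    rw [← h2]
    exact u.2

/-- the automorphism group of `Q'` in the fusion system of the block is the image of the
stabilizer of the pair -/
theorem autGroup_eq (hMod : IsPModular p M) (hF : IsBlockFusionSystemOn p M B P e F)
    {Q' : Subgroup G} {f' : Set (IrrCharacter C(Q'))} (hf' : IsPBlock M f')
    (hle' : SubpairLE p M Q' f' P e) {T' : Subgroup G}
    (hT' : ∀ y : G, y ∈ T' ↔ y ∈ N(Q') ∧ StabilizesBlock C(Q') f' y) (hTN : T' ≤ N(Q')) :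
    F.autGroup Q' = ((normConj Q').comp (Subgroup.inclusion hTN)).range := by
  classical
  have hM : M.IsPrime := hMod.2.1.isPrime
  have hPe : IsBrauerPair p M P e := hF.1.1.1
  have hQ'P : Q' ≤ P := subpairLE_le hMod hle' hf'
  haveI : Fintype C(Q') := Fintype.ofFinite _
  haveI : Finite (IrrCharacter C(Q')) := irr_finite
  haveI : Fintype (IrrCharacter C(Q')) := Fintype.ofFinite _
  have hset : {α : MulAut Q' | Q'.subtype.comp α.toMonoidHom ∈ F.Hom Q'}
      = ((((normConj Q').comp (Subgroup.inclusion hTN)).range : Subgroup (MulAut Q')) :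
        Set (MulAut Q')) := by
    ext α
    constructor
    · intro h
      obtain ⟨-, g, hg, hgP, f₁, hle₁, hleg⟩ := (hF.2 Q' _).1 h
      have hg' : ∀ x : Q', ((α x : Q') : G) = g * x * g⁻¹ := fun x => hg x
      have hgN : g ∈ N(Q') := mem_normalizer_of_aut α g hg'
      have hf₁ : IsPBlock M f₁ := isPBlock_of_subpairLE hPe.2 hle₁
      have hff : f₁ = f' := (existsUnique_subpair hMod hPe hQ'P).unique ⟨hf₁, hle₁⟩ ⟨hf', hle'⟩
      rw [hff] at hleg
      have hpair : conjPair g (⟨Q', f'⟩ : BrauerPairIdx G) = ⟨Q', f'⟩ :=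
        pair_eq_of_chain hMod hleg hle' (cj_eq_of_mem_normalizer hgN)
          (isPBlock_conjBlock g Q' hf') hf' hPe
      have hsbc := congrArg (fun a : BrauerPairIdx G => subgroupBlockCoeff C(a.1) a.2) hpair
      simp only [conjPair] at hsbc
      rw [sbc_conjBlock g Q' hf'] at hsbc
      have hst : StabilizesBlock C(Q') f' g :=
        (stabilizesBlock_iff_conjF C(Q') hM hf' g).2
          ⟨normalizer_le_normalizer_centralizer Q' hgN, hsbc⟩
      have hgT : g ∈ T' := (hT' g).2 ⟨hgN, hst⟩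
      refine ⟨⟨g, hgT⟩, ?_⟩
      ext x
      exact (hg' x).symm
    · rintro ⟨t, rfl⟩
      have htN : (t : G) ∈ N(Q') := hTN t.2
      have hst : StabilizesBlock C(Q') f' (t : G) := ((hT' t).1 t.2).2
      have hpair : conjPair (t : G) (⟨Q', f'⟩ : BrauerPairIdx G) = ⟨Q', f'⟩ :=
        conjPair_of_stab hM hf' htN hst
      have hch : Chain p M (conjPair (t : G) (⟨Q', f'⟩ : BrauerPairIdx G)) ⟨P, e⟩ := by
        rw [hpair]; exact hle'
      refine (hF.2 Q' _).2 ⟨hQ'P, (t : G), fun u => rfl, ?_, f', hle', hch⟩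
      show cj (t : G) Q' ≤ P
      rw [cj_eq_of_mem_normalizer htN]; exact hQ'P
  unfold FusionSystem.autGroup
  rw [hset, Subgroup.closure_eq]

/-- the automorphisms induced by `P` -/
theorem autInducedBy_eq {P Q' : Subgroup G} {T' : Subgroup G} (hTN : T' ≤ N(Q'))
    (hNT : P ⊓ N(Q') ≤ T') :
    autInducedBy P Q'
      = ((P ⊓ N(Q')).subgroupOf T').map ((normConj Q').comp (Subgroup.inclusion hTN)) := by
  have hset : {α : MulAut Q' | ∃ g ∈ P, ∀ x : Q', ((α x : Q') : G) = g * (x : G) * g⁻¹}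
      = ((((P ⊓ N(Q')).subgroupOf T').map ((normConj Q').comp (Subgroup.inclusion hTN)) :
        Subgroup (MulAut Q')) : Set (MulAut Q')) := by
    ext α
    constructor
    · rintro ⟨g, hgP, hg⟩
      have hgN : g ∈ N(Q') := mem_normalizer_of_aut α g hg
      refine ⟨⟨g, hNT ⟨hgP, hgN⟩⟩, Subgroup.mem_subgroupOf.2 ⟨hgP, hgN⟩, ?_⟩
      ext x
      exact (hg x).symm
    · rintro ⟨t, ht, rfl⟩
      exact ⟨(t : G), (Subgroup.mem_subgroupOf.1 ht).1, fun x => rfl⟩
  unfold autInducedBy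
  rw [hset, Subgroup.closure_eq]

theorem ker_normConj_comp {Q' T' : Subgroup G} (hTN : T' ≤ N(Q')) :
    ((normConj Q').comp (Subgroup.inclusion hTN)).ker = (C(Q')).subgroupOf T' := by
  ext t
  rw [MonoidHom.mem_ker, Subgroup.mem_subgroupOf, Subgroup.mem_centralizer_iff]
  constructor
  · intro h x hx
    have h1 := congrArg (fun α : MulAut Q' => ((α ⟨x, hx⟩ : Q') : G)) h
    simp only [MonoidHom.comp_apply, normConj_apply, Subgroup.coe_inclusion, MulAut.one_apply] at h1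
    calc x * (t : G) = (t : G) * x * (t : G)⁻¹ * (t : G) := by rw [h1]
      _ = (t : G) * x := by group
  · intro h
    ext x
    simp only [MonoidHom.comp_apply, normConj_apply, Subgroup.coe_inclusion, MulAut.one_apply]
    rw [← h x x.2]
    group

/-- **Fully automized.** -/
theorem isFullyAutomized_of_defect (hMod : IsPModular p M)
    (hF : IsBlockFusionSystemOn p M B P e F) {Q' : Subgroup G}
    {f' : Set (IrrCharacter C(Q'))} (hf' : IsPBlock M f') (hle' : SubpairLE p M Q' f' P e)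
    {T' : Subgroup G} (hT' : ∀ y : G, y ∈ T' ↔ y ∈ N(Q') ∧ StabilizesBlock C(Q') f' y)
    {F' : Set (IrrCharacter T')} (hF' : IsPBlock M F')
    (hFc' : ∀ t : T', blockCoeff F' t = subgroupBlockCoeff C(Q') f' (t : G))
    (hdef : IsDefectGroup p M F' ((P ⊓ N(Q')).subgroupOf T')) : F.IsFullyAutomized p Q' := by
  classical
  have hM : M.IsPrime := hMod.2.1.isPrime
  have hPe : IsBrauerPair p M P e := hF.1.1.1
  have hQ'P : Q' ≤ P := subpairLE_le hMod hle' hf'
  have hQ'p : IsPGroup p Q' := hPe.1.to_le hQ'P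
  have hTN : T' ≤ N(Q') := fun y hy => ((hT' y).1 hy).1
  have hCT : C(Q') ≤ T' := centralizer_le_stabilizer hM hf' hT'
  have hQT : Q' ≤ T' := le_stabilizer hM hf' hT'
  have hNT : P ⊓ N(Q') ≤ T' := inf_normalizer_le_stabilizer hMod hPe hle' hf' hT'
  have hNp : IsPGroup p (P ⊓ N(Q') : Subgroup G) := hPe.1.to_le inf_le_left
  refine ⟨hQ'P, ?_⟩
  rw [autGroup_eq hMod hF hf' hle' hT' hTN, autInducedBy_eq hTN hNT]
  set π : T' →* MulAut Q' := (normConj Q').comp (Subgroup.inclusion hTN) with hπ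
  have hp : IsPGroup p ((((P ⊓ N(Q')).subgroupOf T').map π).subgroupOf π.range) :=
    ((hNp.comap_subtype).map π).comap_subtype
  have hidx : ¬ p ∣ ((((P ⊓ N(Q')).subgroupOf T').map π).subgroupOf π.range).index := by
    have h1 : ((((P ⊓ N(Q')).subgroupOf T').map π).subgroupOf π.range).index
        = (((P ⊓ N(Q')).subgroupOf T').map π).relIndex π.range := rfl
    rw [h1, MonoidHom.range_eq_map, Subgroup.relIndex_map_map, top_sup_eq,
      Subgroup.relIndex_top_right, hπ, ker_normConj_comp hTN]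
    exact not_dvd_index_defect_sup_centralizer hMod hQ'p hQT hCT hTN hf'
      (fun t ht => ((hT' t).1 ht).2) hF' hFc' hdef
  exact ⟨hp.toSylow hidx, rfl⟩

/-- **Receptive.** -/
theorem isReceptive_of_defect (hMod : IsPModular p M)
    (hF : IsBlockFusionSystemOn p M B P e F) {Q' : Subgroup G}
    {f' : Set (IrrCharacter C(Q'))} (hf' : IsPBlock M f') (hle' : SubpairLE p M Q' f' P e)
    {T' : Subgroup G} (hT' : ∀ y : G, y ∈ T' ↔ y ∈ N(Q') ∧ StabilizesBlock C(Q') f' y)
    {F' : Set (IrrCharacter T')} (hF' : IsPBlock M F')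
    (hFc' : ∀ t : T', blockCoeff F' t = subgroupBlockCoeff C(Q') f' (t : G))
    (hdef : IsDefectGroup p M F' ((P ⊓ N(Q')).subgroupOf T')) : F.IsReceptive Q' := by
  classical
  have hM : M.IsPrime := hMod.2.1.isPrime
  have hmax : IsMaximalBrauerPair p M B P e := hF.1
  have hPe : IsBrauerPair p M P e := hF.1.1.1
  have hQ'P : Q' ≤ P := subpairLE_le hMod hle' hf'
  haveI : Finite (IrrCharacter G) := irr_finite
  haveI : Fintype (IrrCharacter G) := Fintype.ofFinite _
  refine ⟨hQ'P, fun R φ hφ hrange => ?_⟩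
  obtain ⟨hRP, g, hg, hgP, fR, hleR, hleg⟩ := (hF.2 R φ).1 hφ
  have hQ'eq : cj g R = Q' := by rw [← range_eq_cj hg, hrange]
  have hfR : IsPBlock M fR := isPBlock_of_subpairLE hPe.2 hleR
  have hpair : conjPair g (⟨R, fR⟩ : BrauerPairIdx G) = ⟨Q', f'⟩ :=
    pair_eq_of_chain hMod hleg hle' hQ'eq (isPBlock_conjBlock g R hfR) hf' hPe
  set Nφ : Subgroup G := FusionSystem.extender P R φ with hNφ
  have hNφP : Nφ ≤ P := (Subgroup.closure_le _).2 (fun y hy => hy.1)
  have hNφN : Nφ ≤ N(R) := (Subgroup.closure_le _).2 (fun y hy => hy.2.1)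
  have hRNφ : R ≤ Nφ := by
    intro y hy
    apply Subgroup.subset_closure
    refine ⟨hRP hy, Subgroup.le_normalizer hy, φ ⟨y, hy⟩, (F.le_of_mem hφ).2 _, fun x hx => ?_⟩
    have : (⟨y * (x : G) * y⁻¹, hx⟩ : R) = ⟨y, hy⟩ * x * (⟨y, hy⟩ : R)⁻¹ := Subtype.ext rfl
    rw [this, map_mul, map_mul, map_inv]
  have hgNφ : cj g Nφ ≤ (P ⊓ N(Q')) ⊔ C(Q') := by
    apply Subgroup.map_le_iff_le_comap.2
    apply (Subgroup.closure_le _).2
    rintro y ⟨hyP, hyN, h, hhP, hyh⟩
    show g * y * g⁻¹ ∈ (P ⊓ N(Q')) ⊔ C(Q')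
    set w : G := g * y * g⁻¹ with hw
    have hwN : w ∈ N(Q') := by
      rw [← hQ'eq, mem_normalizer_cj_iff]
      have : g⁻¹ * w * g = y := by rw [hw]; group
      rw [this]; exact hyN
    have hagree : ∀ q ∈ Q', w * q * w⁻¹ = h * q * h⁻¹ := by
      intro q hq
      rw [← hQ'eq] at hq
      obtain ⟨x, hx, rfl⟩ := mem_cj.1 hq
      have hx' : y * x * y⁻¹ ∈ R := (Subgroup.mem_normalizer_iff.1 hyN x).1 hx
      have h1 := hyh ⟨x, hx⟩ hx'
      rw [hg, hg] at h1
      have : w * (g * x * g⁻¹) * w⁻¹ = g * (y * x * y⁻¹) * g⁻¹ := by rw [hw]; group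
      rw [this]
      exact h1
    have hcen : h⁻¹ * w ∈ C(Q') := by
      rw [Subgroup.mem_centralizer_iff]
      intro q hq
      have h1 := hagree q hq
      calc q * (h⁻¹ * w) = h⁻¹ * (h * q * h⁻¹) * w := by group
        _ = h⁻¹ * (w * q * w⁻¹) * w := by rw [h1]
        _ = h⁻¹ * w * q := by group
    have hhN : h ∈ N(Q') := by
      have : h = w * (h⁻¹ * w)⁻¹ := by group
      rw [this]
      exact Subgroup.mul_mem _ hwN
        (Subgroup.inv_mem _ (Subgroup.centralizer_le_normalizer _ hcen))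
    have : w = h * (h⁻¹ * w) := by group
    rw [this]
    exact Subgroup.mul_mem_sup ⟨hhP, hhN⟩ hcen
  -- the pair on `Nφ`
  obtain ⟨f₂, hf₂, hleA, hleB⟩ := subpairLE_factor hMod hPe hleR hfR hRNφ hNφP
  have hch1 : Chain p M (conjPair g (⟨R, fR⟩ : BrauerPairIdx G)) (conjPair g ⟨Nφ, f₂⟩) :=
    chain_conj hMod g hleA
  rw [hpair] at hch1
  have hEp : IsPGroup p (cj g Nφ) := (hPe.1.to_le hNφP).map _
  have hε : IsPBlock M (conjBlock Nφ g f₂) := isPBlock_conjBlock g Nφ hf₂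
  have hQ'E : Q' ≤ cj g Nφ := by
    rw [← hQ'eq]; exact Subgroup.map_mono hRNφ
  have hEN : cj g Nφ ≤ N(Q') := by
    rw [← hQ'eq]; exact cj_le_normalizer_cj hNφN
  obtain ⟨f'', hn⟩ := exists_normalSubpair hMod ⟨hEp, hε⟩ hQ'E hEN
  have hff : f'' = f' := (existsUnique_subpair hMod ⟨hEp, hε⟩ hQ'E).unique
    ⟨hn.1.2, Relation.ReflTransGen.single hn⟩ ⟨hf', hch1⟩
  rw [hff] at hn
  obtain ⟨c, hc, hch2⟩ := exists_centralizer_conj_chain hMod hmax hf' hle' hT' hF' hFc' hdef hn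
    hgNφ
  have hch3 : Chain p M (conjPair (c * g) (⟨Nφ, f₂⟩ : BrauerPairIdx G)) ⟨P, e⟩ := by
    rw [conjPair_mul hM c g _ hf₂]; exact hch2
  refine ⟨conjHom Nφ (c * g), (hF.2 Nφ _).2 ⟨hNφP, c * g, fun u => rfl,
    subpairLE_le hMod hch3 (isPBlock_conjBlock (c * g) Nφ hf₂), f₂, hleB, hch3⟩, ?_⟩
  intro x hxR hxN
  show (c * g) * x * (c * g)⁻¹ = φ ⟨x, hxR⟩
  rw [hg]
  have hq : g * x * g⁻¹ ∈ Q' := by rw [← hQ'eq]; exact conj_mem_cj hxR
  have h1 := (Subgroup.mem_centralizer_iff.1 hc) _ hq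
  show (c * g) * x * (c * g)⁻¹ = g * x * g⁻¹
  calc c * g * x * (c * g)⁻¹ = c * (g * x * g⁻¹) * c⁻¹ := by group
    _ = (g * x * g⁻¹) * c * c⁻¹ := by rw [h1]
    _ = g * x * g⁻¹ := by group

/-- **The fusion system of a block is saturated.** -/
theorem isSaturated_of_isBlockFusionSystemOn (hMod : IsPModular p M)
    (hF : IsBlockFusionSystemOn p M B P e F) : F.IsSaturated p := by
  classical
  have hM : M.IsPrime := hMod.2.1.isPrime
  have hmax : IsMaximalBrauerPair p M B P e := hF.1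
  have hPe : IsBrauerPair p M P e := hF.1.1.1
  intro Q hQP
  obtain ⟨f, ⟨hf, hle⟩, -⟩ := existsUnique_subpair hMod hPe hQP
  obtain ⟨-, x, hlex, hx⟩ := stabilizer_defect hMod hmax hf hle (mem_stabSubgroup hM hf)
  have hf' : IsPBlock M (conjBlock Q x f) := isPBlock_conjBlock x Q hf
  obtain ⟨F', hF', hFc', hdef⟩ := hx (stabSubgroup (cj x Q) (conjBlock Q x f))
    (mem_stabSubgroup hM hf')
  exact ⟨cj x Q, (isConj_iff hMod hF hf hle _).2 ⟨x, rfl, hlex⟩,
    isFullyAutomized_of_defect hMod hF hf' hlex (mem_stabSubgroup hM hf') hF' hFc' hdef,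
    isReceptive_of_defect hMod hF hf' hlex (mem_stabSubgroup hM hf') hF' hFc' hdef⟩

end Sat

end Cfsg.Agent.Lib.Helper81
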