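import Mathlib
import Cfsg.Agent.Lib.Helper70.BQSDefs

/-! PACK K-BQS (S3912), leaf B4: a nontrivial normal subgroup of a finite solvable group contains a nontrivial
normal elementary abelian `r`-subgroup (a minimal normal subgroup below it). -/

set_option autoImplicit false

namespace Cfsg.Agent.Lib.Helper81.BQS

open Cfsg Cfsg.Agent.Lib.Helper70.BQS

theorem exists_normal_elementary_abelian_le {G : Type*} [Group G] [Finite G] (hsol : Group.IsSolvable G)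
    (M : Subgroup G) [M.Normal] (hM : M ≠ ⊥) :
    ∃ M₁ : Subgroup G, M₁ ≤ M ∧ M₁.Normal ∧ M₁ ≠ ⊥ ∧
      ∃ r t : ℕ, r.Prime ∧ Nat.card ↥M₁ = r ^ t ∧ Cfsg.IsElementaryAbelian r M₁ := by
  classical
  let S : Set (Subgroup G) := {N | N.Normal ∧ N ≤ M ∧ N ≠ ⊥}
  have hSfin : S.Finite := Set.toFinite S
  have hSne : S.Nonempty := ⟨M, inferInstance, le_rfl, hM⟩
  obtain ⟨M₁, hmin⟩ := hSfin.exists_minimal hSne
  obtain ⟨⟨hN, hle, hne⟩, hmin'⟩ := hmin
  haveI := hN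
  have hcomm : ⁅M₁, M₁⁆ = ⊥ := by
    by_contra hc
    have hcn : (⁅M₁, M₁⁆).Normal := Subgroup.commutator_normal M₁ M₁
    have hcle : ⁅M₁, M₁⁆ ≤ M₁ := Subgroup.commutator_le_right M₁ M₁
    have h1 : M₁ ≤ ⁅M₁, M₁⁆ := hmin' ⟨hcn, hcle.trans hle, hc⟩ hcle
    have heq : ⁅M₁, M₁⁆ = M₁ := le_antisymm hcle h1
    obtain ⟨n, hn⟩ := hsol.solvable
    have hall : ∀ k, M₁ ≤ derivedSeries G k := by
      intro k
      induction k with
      | zero => rw [derivedSeries_zero]; exact le_top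
      | succ k ih =>
        rw [derivedSeries_succ]
        calc M₁ = ⁅M₁, M₁⁆ := heq.symm
          _ ≤ ⁅derivedSeries G k, derivedSeries G k⁆ := Subgroup.commutator_mono ih ih
    have h2 : M₁ ≤ ⊥ := hn ▸ hall n
    exact hne (le_bot_iff.mp h2)
  have hcent : M₁ ≤ Subgroup.centralizer (M₁ : Set G) :=
    Subgroup.commutator_eq_bot_iff_le_centralizer.mp hcomm
  have hab : ∀ a ∈ M₁, ∀ b ∈ M₁, a * b = b * a := by
    intro a ha b hb
    exact (Subgroup.mem_centralizer_iff.mp (hcent hb) a ha)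
  have hcard1 : Nat.card M₁ ≠ 1 := by
    intro h
    exact hne (Subgroup.card_eq_one.mp h)
  obtain ⟨r, hr, hrdvd⟩ := Nat.exists_prime_and_dvd hcard1
  haveI : Fact r.Prime := ⟨hr⟩
  obtain ⟨x, hx⟩ := exists_prime_orderOf_dvd_card' r hrdvd
  let Ω : Subgroup G :=
    { carrier := {y | y ∈ M₁ ∧ y ^ r = 1}
      mul_mem' := by
        rintro a b ⟨ha, ha'⟩ ⟨hb, hb'⟩
        refine ⟨M₁.mul_mem ha hb, ?_⟩
        have hc : Commute a b := hab a ha b hb
        rw [hc.mul_pow, ha', hb', one_mul]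
      one_mem' := ⟨M₁.one_mem, one_pow r⟩
      inv_mem' := by
        rintro a ⟨ha, ha'⟩
        exact ⟨M₁.inv_mem ha, by rw [inv_pow, ha', inv_one]⟩ }
  have hΩn : Ω.Normal := ⟨by
    rintro y ⟨hy, hy'⟩ g
    refine ⟨hN.conj_mem y hy g, ?_⟩
    rw [conj_pow, hy', mul_one, mul_inv_cancel]⟩
  have hΩle : Ω ≤ M₁ := fun y hy => hy.1
  have hΩne : Ω ≠ ⊥ := by
    intro h
    have hxm : (x : G) ∈ Ω := ⟨x.2, by
      have h1 := pow_orderOf_eq_one x
      rw [hx] at h1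
      have h2 := congrArg Subtype.val h1
      simpa using h2⟩
    rw [h, Subgroup.mem_bot] at hxm
    have hx1 : x = 1 := Subtype.ext hxm
    rw [hx1, orderOf_one] at hx
    exact hr.one_lt.ne hx
  have hM₁Ω : M₁ ≤ Ω := hmin' ⟨hΩn, hΩle.trans hle, hΩne⟩ hΩle
  have hexp : ∀ a ∈ M₁, a ^ r = 1 := fun a ha => (hM₁Ω ha).2
  have hp : IsPGroup r M₁ := by
    intro g
    refine ⟨1, ?_⟩
    rw [pow_one]
    exact Subtype.ext (by simpa using hexp g g.2)
  obtain ⟨t, ht⟩ := IsPGroup.iff_card.mp hp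
  exact ⟨M₁, hle, hN, hne, r, t, hr, ht, ⟨⟨⟨fun a b => Subtype.ext (hab a a.2 b b.2)⟩⟩, hexp⟩⟩

end Cfsg.Agent.Lib.Helper81.BQS
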