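import Cfsg.Agent.Lib.Helper81.PSolvable

set_option autoImplicit false

namespace Cfsg.Agent.Lib.Helper81

open Cfsg

theorem relIndex_sup_of_normal {G : Type*} [Group G] [Finite G] (A K : Subgroup G) [K.Normal] :
    A.relIndex (A ⊔ K) = A.relIndex K := by
  have h1 : Nat.card (A ⊔ K : Subgroup G) = Nat.card K * K.relIndex A := card_sup_eq_of_normal A K
  have h2 : Nat.card (A ⊔ K : Subgroup G) = Nat.card A * A.relIndex (A ⊔ K) := by
    rw [← Subgroup.relIndex_bot_left, ← Subgroup.relIndex_bot_left,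
      Subgroup.relIndex_mul_relIndex ⊥ A (A ⊔ K) bot_le le_sup_left]
  have h3 : Nat.card A = Nat.card (K ⊓ A : Subgroup G) * K.relIndex A := by
    rw [← Subgroup.relIndex_bot_left, ← Subgroup.relIndex_bot_left,
      ← Subgroup.relIndex_mul_relIndex ⊥ (K ⊓ A) A bot_le inf_le_right, Subgroup.inf_relIndex_right]
  have h4 : Nat.card K = Nat.card (K ⊓ A : Subgroup G) * A.relIndex K := by
    rw [← Subgroup.relIndex_bot_left, ← Subgroup.relIndex_bot_left,
      ← Subgroup.relIndex_mul_relIndex ⊥ (K ⊓ A) K bot_le inf_le_left, Subgroup.inf_relIndex_left]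
  have h5 : K.relIndex A ≠ 0 := by
    haveI : K.IsFiniteRelIndex A := Subgroup.isFiniteRelIndex_of_finiteIndex
    exact Subgroup.relIndex_ne_zero
  have h6 : Nat.card (K ⊓ A : Subgroup G) ≠ 0 := Nat.card_pos.ne'
  have h7 : Nat.card (K ⊓ A : Subgroup G) * K.relIndex A * A.relIndex (A ⊔ K) =
      Nat.card (K ⊓ A : Subgroup G) * K.relIndex A * A.relIndex K := by
    calc Nat.card (K ⊓ A : Subgroup G) * K.relIndex A * A.relIndex (A ⊔ K)
        = Nat.card A * A.relIndex (A ⊔ K) := by rw [← h3]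
      _ = Nat.card K * K.relIndex A := by rw [← h2, h1]
      _ = Nat.card (K ⊓ A : Subgroup G) * K.relIndex A * A.relIndex K := by rw [h4]; ring
  exact Nat.eq_of_mul_eq_mul_left (Nat.pos_of_ne_zero (Nat.mul_ne_zero h6 h5)) h7

/-- Conjugacy of `q`-elements that agree modulo a normal `q'`-subgroup (a special case of the
conjugacy part of Schur--Zassenhaus, via Sylow). -/
theorem exists_conj_eq_of_mem_coprime {Γ : Type*} [Group Γ] [Finite Γ] {q : ℕ} [hq : Fact q.Prime]
    (W : Subgroup Γ) [hW : W.Normal] (hWq : (Nat.card W).Coprime q) (y y' : Γ)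
    (hy : ∃ k : ℕ, orderOf y = q ^ k) (hy' : ∃ k : ℕ, orderOf y' = q ^ k)
    (h : y⁻¹ * y' ∈ W) : ∃ x : Γ, x * y' * x⁻¹ = y := by
  set X : Subgroup Γ := W ⊔ Subgroup.zpowers y with hX
  have hyX : y ∈ X := (le_sup_right : Subgroup.zpowers y ≤ X) (Subgroup.mem_zpowers y)
  have hy'X : y' ∈ X := by
    have : y' = y * (y⁻¹ * y') := by group
    rw [this]
    exact X.mul_mem hyX ((le_sup_left : W ≤ X) h)
  let yh : X := ⟨y, hyX⟩
  let yh' : X := ⟨y', hy'X⟩
  let Wh : Subgroup X := W.subgroupOf X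
  haveI : Wh.Normal := hW.subgroupOf X
  let A : Subgroup X := Subgroup.zpowers yh
  obtain ⟨k, hk⟩ := hy
  obtain ⟨k', hk'⟩ := hy'
  have hAcard : Nat.card A = q ^ k := by
    rw [Nat.card_zpowers, ← hk]; exact Subgroup.orderOf_mk y hyX
  have hA : IsPGroup q A := IsPGroup.of_card hAcard
  have hWhcard : (Nat.card Wh).Coprime q := by
    have : Nat.card Wh ∣ Nat.card W := by
      have e := Subgroup.subgroupOfEquivOfLe (le_sup_left : W ≤ X)
      rw [Nat.card_congr e.toEquiv]
    exact Nat.Coprime.coprime_dvd_left this hWq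
  have hsup : A ⊔ Wh = ⊤ := by
    rw [eq_top_iff]
    rintro ⟨x, hx⟩ -
    have hx' := hx
    rw [hX, Subgroup.mem_sup_of_normal_left] at hx'
    obtain ⟨w, hw, z, hz, rfl⟩ := hx'
    obtain ⟨i, rfl⟩ := Subgroup.mem_zpowers_iff.mp hz
    have h1 : (⟨w, (le_sup_left : W ≤ X) hw⟩ : X) ∈ Wh := by
      simpa [Wh, Subgroup.mem_subgroupOf] using hw
    have h2 : yh ^ i ∈ A := Subgroup.zpow_mem_zpowers yh i
    have : (⟨w * y ^ i, hx⟩ : X) = ⟨w, (le_sup_left : W ≤ X) hw⟩ * yh ^ i := by
      apply Subtype.ext; simp [yh]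
    rw [this, sup_comm]
    exact Subgroup.mul_mem_sup h1 h2
  have hAidx : ¬ q ∣ A.index := by
    intro hd
    have h1 := index_dvd_card_of_sup_eq_top A Wh hsup
    have h2 : q ∣ Nat.gcd (Nat.card Wh) q := Nat.dvd_gcd (hd.trans h1) dvd_rfl
    rw [hWhcard] at h2
    exact hq.out.one_lt.ne' (Nat.dvd_one.mp h2)
  let PA : Sylow q X := hA.toSylow hAidx
  have hA' : IsPGroup q (Subgroup.zpowers yh') := by
    apply IsPGroup.of_card (n := k')
    rw [Nat.card_zpowers, ← hk']; exact Subgroup.orderOf_mk y' hy'X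
  obtain ⟨PA', hPA'⟩ := hA'.exists_le_sylow
  obtain ⟨x, hx⟩ := MulAction.exists_smul_eq X PA' PA
  have hmem : x * yh' * x⁻¹ ∈ A := by
    have h1 : yh' ∈ (PA' : Subgroup X) := hPA' (Subgroup.mem_zpowers yh')
    have h2 : x * yh' * x⁻¹ ∈ ((x • PA' : Sylow q X) : Subgroup X) := by
      rw [Sylow.coe_subgroup_smul]
      exact ⟨_, h1, rfl⟩
    rw [hx] at h2
    exact h2
  -- modulo Wh
  have hmod : yh⁻¹ * (x * yh' * x⁻¹) ∈ Wh := by
    have hxA : ∃ i : ℤ, (yh ^ i)⁻¹ * x ∈ Wh := by
      have : x ∈ A ⊔ Wh := by rw [hsup]; trivial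
      rw [Subgroup.mem_sup_of_normal_right] at this
      obtain ⟨a, ha, w, hw, rfl⟩ := this
      obtain ⟨i, rfl⟩ := Subgroup.mem_zpowers_iff.mp ha
      exact ⟨i, by simpa using hw⟩
    obtain ⟨i, hi⟩ := hxA
    have e1 : (QuotientGroup.mk' Wh) x = (QuotientGroup.mk' Wh) (yh ^ i) := by
      symm; exact QuotientGroup.eq.mpr hi
    have e2 : (QuotientGroup.mk' Wh) yh' = (QuotientGroup.mk' Wh) yh := by
      symm
      apply QuotientGroup.eq.mpr
      show yh⁻¹ * yh' ∈ Wh
      simpa [Wh, Subgroup.mem_subgroupOf, yh, yh'] using h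
    rw [← QuotientGroup.eq_one_iff, ← QuotientGroup.mk'_apply]
    simp only [map_mul, map_inv, e1, e2, map_zpow]
    group
  obtain ⟨j, hj⟩ := Subgroup.mem_zpowers_iff.mp hmem
  have hmemA : yh⁻¹ * (x * yh' * x⁻¹) ∈ A := A.mul_mem (A.inv_mem (Subgroup.mem_zpowers yh)) hmem
  have hbot : Wh ⊓ A = ⊥ := (Subgroup.disjoint_of_coprime_natCard (by
    rw [hAcard]; exact Nat.Coprime.pow_right k hWhcard)).eq_bot
  have h1 : yh⁻¹ * (x * yh' * x⁻¹) = 1 := by
    have : yh⁻¹ * (x * yh' * x⁻¹) ∈ Wh ⊓ A := ⟨hmod, hmemA⟩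
    rw [hbot] at this
    exact this
  have h2 : x * yh' * x⁻¹ = yh := by
    have := congrArg (fun t => yh * t) h1
    simpa using this
  refine ⟨(x : Γ), ?_⟩
  have := congrArg Subtype.val h2
  simpa [yh, yh'] using this


/-- Coprime action: if a `q`-subgroup `Q` acts on a normal `q'`-subgroup `K` and every element of `Q`
centralizes some Sylow `p`-subgroup of `K`, then `Q` centralizes a Sylow `p`-subgroup of `K`. -/
theorem exists_sylow_centralized {G : Type*} [Group G] [Finite G] {p q : ℕ} [hp : Fact p.Prime]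
    [hq : Fact q.Prime] (K : Subgroup G) [hKn : K.Normal] (hKq : (Nat.card K).Coprime q)
    (Q : Subgroup G) (hQ : IsPGroup q Q)
    (hyp : ∀ y ∈ Q, ∃ S' : Subgroup G, S' ≤ K ∧ IsPGroup p S' ∧ ¬ p ∣ S'.relIndex K ∧
      S' ≤ Subgroup.centralizer ({y} : Set G)) :
    ∃ S : Subgroup G, S ≤ K ∧ IsPGroup p S ∧ ¬ p ∣ S.relIndex K ∧
      S ≤ Subgroup.centralizer (Q : Set G) := by
  classical
  letI act : MulAction Q (Sylow p K) :=
    MulAction.compHom (Sylow p K) ((ConjAct.toConjAct.toMonoidHom).comp Q.subtype)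
  have hcard : ¬ q ∣ Nat.card (Sylow p K) := by
    intro hd
    obtain ⟨P0⟩ : Nonempty (Sylow p K) := inferInstance
    have h1 : Nat.card (Sylow p K) ∣ Nat.card K :=
      (P0.card_dvd_index).trans (Subgroup.index_dvd_card _)
    have h2 : q ∣ Nat.gcd (Nat.card K) q := Nat.dvd_gcd (hd.trans h1) dvd_rfl
    rw [hKq] at h2
    exact hq.out.one_lt.ne' (Nat.dvd_one.mp h2)
  obtain ⟨S0, hS0⟩ := hQ.nonempty_fixed_point_of_prime_not_dvd_card (Sylow p K) hcard
  -- S0 is fixed by Q
  have hfix : ∀ y ∈ Q, ∀ s : K, s ∈ (S0 : Subgroup K) →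
      (⟨y * s * y⁻¹, hKn.conj_mem _ s.2 y⟩ : K) ∈ (S0 : Subgroup K) := by
    intro y hy s hs
    have h1 : (⟨y, hy⟩ : Q) • S0 = S0 := hS0 ⟨y, hy⟩
    have h2 : (ConjAct.toConjAct y) • S0 = S0 := h1
    have h3 : (ConjAct.toConjAct y) • s ∈ (((ConjAct.toConjAct y) • S0 : Sylow p K) : Subgroup K) := by
      rw [Sylow.pointwise_smul_def]
      exact Subgroup.smul_mem_pointwise_smul _ _ _ hs
    rw [h2] at h3
    exact h3
  set S : Subgroup G := (S0 : Subgroup K).map K.subtype with hSdef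
  have hSK : S ≤ K := Subgroup.map_subtype_le _
  have hmemS : ∀ g : G, g ∈ S ↔ ∃ hg : g ∈ K, (⟨g, hg⟩ : K) ∈ (S0 : Subgroup K) := by
    intro g
    constructor
    · rintro ⟨s, hs, rfl⟩
      exact ⟨s.2, hs⟩
    · rintro ⟨hg, hs⟩
      exact ⟨⟨g, hg⟩, hs, rfl⟩
  have hSidx : ∀ T : Sylow p K, ((T : Subgroup K).map K.subtype).relIndex K = (T : Subgroup K).index := by
    intro T
    rw [Subgroup.relIndex, ← Subgroup.comap_subtype,
      Subgroup.comap_map_eq_self_of_injective K.subtype_injective]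
  refine ⟨S, hSK, S0.2.map _, ?_, ?_⟩
  · rw [hSidx]
    exact S0.not_dvd_index
  · -- each y ∈ Q centralizes S
    intro s hs y hy
    -- goal: y * s = s * y  (mem_centralizer)
    have hyN : y ∈ Subgroup.normalizer (S : Set G) := by
      have key : ∀ z ∈ Q, ∀ t ∈ S, z * t * z⁻¹ ∈ S := by
        intro z hz t ht
        obtain ⟨htK, ht0⟩ := (hmemS t).mp ht
        exact (hmemS _).mpr ⟨hKn.conj_mem _ htK z, hfix z hz ⟨t, htK⟩ ht0⟩
      rw [Subgroup.mem_normalizer_iff]
      intro t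
      constructor
      · exact key y hy t
      · intro ht
        have := key y⁻¹ (Q.inv_mem hy) _ ht
        simpa [mul_assoc] using this
    obtain ⟨S', hS'K, hS'p, hS'idx, hS'c⟩ := hyp y hy
    -- S' as a Sylow of K
    have hS'p' : IsPGroup p (S'.subgroupOf K) :=
      hS'p.comap_of_injective K.subtype K.subtype_injective
    let S1 : Sylow p K := hS'p'.toSylow hS'idx
    obtain ⟨c, hc⟩ := MulAction.exists_smul_eq K S1 S0
    -- c S' c⁻¹ = S
    have hconj : ∀ t : G, t ∈ S ↔ (c : G)⁻¹ * t * c ∈ S' := by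
      intro t
      rw [hmemS]
      constructor
      · rintro ⟨htK, ht0⟩
        rw [← hc, Sylow.coe_subgroup_smul] at ht0
        obtain ⟨u, hu, hut⟩ := ht0
        have hu' : (u : G) ∈ S' := hu
        have : t = c * u * (c : G)⁻¹ := by
          have := congrArg Subtype.val hut
          simpa using this.symm
        rw [this]
        simpa [mul_assoc] using hu'
      · intro ht
        have htK : t ∈ K := by
          have h1 := hS'K ht
          have : t = c * ((c : G)⁻¹ * t * c) * (c : G)⁻¹ := by group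
          rw [this]
          exact K.mul_mem (K.mul_mem c.2 h1) (K.inv_mem c.2)
        refine ⟨htK, ?_⟩
        rw [← hc, Sylow.coe_subgroup_smul]
        refine ⟨⟨(c : G)⁻¹ * t * c, hS'K ht⟩, ht, ?_⟩
        apply Subtype.ext
        simp [mul_assoc]
    -- y' = c y c⁻¹ centralizes S
    set y' : G := c * y * (c : G)⁻¹ with hy'def
    have hy'c : ∀ t ∈ S, y' * t = t * y' := by
      intro t ht
      have h1 := (hconj t).mp ht
      have h2 := hS'c h1 y (Set.mem_singleton y)
      -- h2 : y * (c⁻¹ t c) = (c⁻¹ t c) * y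
      calc y' * t = c * (y * ((c : G)⁻¹ * t * c)) * (c : G)⁻¹ := by rw [hy'def]; group
        _ = c * (((c : G)⁻¹ * t * c) * y) * (c : G)⁻¹ := by rw [h2]
        _ = t * y' := by rw [hy'def]; group
    have hy'N : y' ∈ Subgroup.normalizer (S : Set G) := by
      apply Subgroup.centralizer_le_normalizer
      intro t ht
      exact (hy'c t ht).symm
    -- apply the conjugacy lemma inside Γ = N_G(S)
    obtain ⟨k, hk⟩ := hQ ⟨y, hy⟩
    have hk' : y ^ q ^ k = 1 := by simpa using congrArg Subtype.val hk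
    obtain ⟨j, -, hj⟩ := (Nat.dvd_prime_pow hq.out).mp (orderOf_dvd_of_pow_eq_one hk')
    let Γ : Subgroup G := Subgroup.normalizer (S : Set G)
    let W : Subgroup Γ := K.subgroupOf Γ
    haveI : W.Normal := hKn.subgroupOf Γ
    have hWq : (Nat.card W).Coprime q := by
      have : Nat.card W ∣ Nat.card K := by
        have h1 : Nat.card W = Nat.card (K ⊓ Γ : Subgroup G) := by
          rw [← Subgroup.subgroupOf_map_subtype]
          exact Nat.card_congr (Subgroup.equivMapOfInjective _ _ Γ.subtype_injective).toEquiv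
        rw [h1]
        exact Subgroup.card_dvd_of_le inf_le_left
      exact Nat.Coprime.coprime_dvd_left this hKq
    obtain ⟨x, hx⟩ := exists_conj_eq_of_mem_coprime W hWq (⟨y, hyN⟩ : Γ) (⟨y', hy'N⟩ : Γ)
      ⟨j, by rw [← hj]; exact Subgroup.orderOf_mk y hyN⟩
      ⟨j, by
        rw [← hj]
        have : orderOf (⟨y', hy'N⟩ : Γ) = orderOf y' := Subgroup.orderOf_mk y' hy'N
        rw [this, hy'def]
        have h9 := orderOf_injective (MulAut.conj (c : G)).toMonoidHom (MulAut.conj (c : G)).injective y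
        simpa [MulAut.conj_apply] using h9⟩
      (by
        show (⟨y, hyN⟩ : Γ)⁻¹ * ⟨y', hy'N⟩ ∈ K.subgroupOf Γ
        rw [Subgroup.mem_subgroupOf]
        simp only [Subgroup.coe_mul, Subgroup.coe_inv]
        have : y⁻¹ * y' = (y⁻¹ * c * y⁻¹⁻¹) * (c : G)⁻¹ := by rw [hy'def]; group
        rw [this]
        exact K.mul_mem (hKn.conj_mem _ c.2 _) (K.inv_mem c.2))
    have hx' : (x : G) * y' * (x : G)⁻¹ = y := by
      have := congrArg Subtype.val hx
      simpa using this
    -- conclude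
    have hxs : (x : G)⁻¹ * s * x ∈ S := by
      have hxinv : (x : G)⁻¹ ∈ Subgroup.normalizer (S : Set G) := Γ.inv_mem x.2
      have := (Subgroup.mem_normalizer_iff.mp hxinv s).mp hs
      simpa using this
    have h5 := hy'c _ hxs
    calc y * s = (x : G) * (y' * ((x : G)⁻¹ * s * x)) * (x : G)⁻¹ := by rw [← hx']; group
      _ = (x : G) * (((x : G)⁻¹ * s * x) * y') * (x : G)⁻¹ := by rw [h5]
      _ = s * y := by rw [← hx']; group


section
variable {G : Type*} [Group G]

/-- The class-size hypothesis passes to quotients. -/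
theorem classSize_hyp_quotient [Finite G] {p q : ℕ} [hp : Fact p.Prime] [hq : Fact q.Prime]
    (N : Subgroup G) [N.Normal]
    (h : ∀ y : G, (∃ k : ℕ, orderOf y = q ^ k) → ¬ p ∣ (Subgroup.centralizer ({y} : Set G)).index) :
    ∀ y : G ⧸ N, (∃ k : ℕ, orderOf y = q ^ k) →
      ¬ p ∣ (Subgroup.centralizer ({y} : Set (G ⧸ N))).index := by
  intro yb ⟨k, hk⟩
  have hfs : Function.Surjective (QuotientGroup.mk' N) := QuotientGroup.mk'_surjective N
  have hz : IsPGroup q (Subgroup.zpowers yb) :=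
    IsPGroup.of_card (n := k) (by rw [Nat.card_zpowers, hk])
  obtain ⟨Qb, hQb⟩ := hz.exists_le_sylow
  obtain ⟨Q, rfl⟩ := Sylow.mapSurjective_surjective hfs q Qb
  have hyb : yb ∈ (Q : Subgroup G).map (QuotientGroup.mk' N) := hQb (Subgroup.mem_zpowers yb)
  obtain ⟨y, hyQ, rfl⟩ := hyb
  obtain ⟨j, hj⟩ := Q.2 ⟨y, hyQ⟩
  have hj' : y ^ q ^ j = 1 := by simpa using congrArg Subtype.val hj
  obtain ⟨i, -, hi⟩ := (Nat.dvd_prime_pow hq.out).mp (orderOf_dvd_of_pow_eq_one hj')
  obtain ⟨S, hS⟩ := exists_sylow_le_of_not_dvd_index _ (h y ⟨i, hi⟩)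
  have hle : ((S.mapSurjective hfs : Sylow p (G ⧸ N)) : Subgroup (G ⧸ N)) ≤
      Subgroup.centralizer ({(QuotientGroup.mk' N) y} : Set (G ⧸ N)) := by
    rw [Sylow.coe_mapSurjective]
    rintro _ ⟨s, hs, rfl⟩
    rw [Subgroup.mem_centralizer_singleton_iff]
    have := hS hs
    rw [Subgroup.mem_centralizer_singleton_iff] at this
    rw [← map_mul, ← map_mul, this]
  intro hd
  exact (S.mapSurjective hfs).not_dvd_index (hd.trans (Subgroup.index_dvd_of_le hle))

theorem exists_conj_le_sylow_of_le' [Finite G] {p : ℕ} [Fact p.Prime]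
    (H : Subgroup G) (Q : Sylow p G) (hQ : (Q : Subgroup G) ≤ H) (R : Subgroup G)
    (hR : IsPGroup p R) (hRH : R ≤ H) :
    ∃ h ∈ H, ∀ r ∈ R, h * r * h⁻¹ ∈ (Q : Subgroup G) := by
  have hR' : IsPGroup p (R.subgroupOf H) :=
    hR.comap_of_injective H.subtype H.subtype_injective
  obtain ⟨R', hR'le⟩ := hR'.exists_le_sylow
  obtain ⟨h, hh⟩ := MulAction.exists_smul_eq H R' (Q.subtype hQ)
  refine ⟨h, h.2, ?_⟩
  intro r hr
  have h1 : (⟨r, hRH hr⟩ : H) ∈ (R' : Subgroup H) := hR'le (by simpa [Subgroup.mem_subgroupOf] using hr)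
  have h2 : h * ⟨r, hRH hr⟩ * h⁻¹ ∈ ((h • R' : Sylow p H) : Subgroup H) := by
    rw [Sylow.coe_subgroup_smul]
    exact ⟨_, h1, rfl⟩
  rw [hh, Sylow.coe_subtype, Subgroup.mem_subgroupOf] at h2
  simpa using h2

theorem mem_normalizer_of_conj_le [Finite G] {q : ℕ} [Fact q.Prime] (Q : Sylow q G) (g : G)
    (h : ∀ u ∈ (Q : Subgroup G), g * u * g⁻¹ ∈ (Q : Subgroup G)) :
    g ∈ Subgroup.normalizer ((Q : Subgroup G) : Set G) := by
  refine Sylow.smul_eq_iff_mem_normalizer.mp ?_
  have hle : ((g • Q : Sylow q G) : Subgroup G) ≤ Q := by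
    rw [Sylow.coe_subgroup_smul]
    rintro _ ⟨u, hu, rfl⟩
    exact h u hu
  have := (g • Q).is_maximal' Q.isPGroup' hle
  exact Sylow.ext this.symm

/-- The normalizer of the image of a Sylow subgroup in a quotient is the image of the normalizer. -/
theorem normalizer_map_le_map_normalizer [Finite G] {q : ℕ} [hq : Fact q.Prime] (N : Subgroup G)
    [hN : N.Normal] (Q : Sylow q G) :
    Subgroup.normalizer (((Q : Subgroup G).map (QuotientGroup.mk' N) : Subgroup (G ⧸ N)) : Set (G ⧸ N)) ≤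
      (Subgroup.normalizer ((Q : Subgroup G) : Set G)).map (QuotientGroup.mk' N) := by
  intro xb hxb
  obtain ⟨x, rfl⟩ := QuotientGroup.mk'_surjective N xb
  set f := QuotientGroup.mk' N with hf
  -- x • Q ≤ Q ⊔ N
  have hle : ((x • Q : Sylow q G) : Subgroup G) ≤ (Q : Subgroup G) ⊔ N := by
    rw [Sylow.coe_subgroup_smul]
    rintro _ ⟨u, hu, rfl⟩
    have h1 : f (x * u * x⁻¹) ∈ (Q : Subgroup G).map f := by
      rw [map_mul, map_mul, map_inv]
      exact (Subgroup.mem_normalizer_iff.mp hxb (f u)).mp (Subgroup.mem_map_of_mem f hu)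
    have h2 : x * u * x⁻¹ ∈ ((Q : Subgroup G).map f).comap f := h1
    rw [Subgroup.comap_map_eq, QuotientGroup.ker_mk'] at h2
    simpa [MulAut.smul_def] using h2
  obtain ⟨m, hm, hmc⟩ := exists_conj_le_sylow_of_le' ((Q : Subgroup G) ⊔ N) Q le_sup_left
    ((x • Q : Sylow q G) : Subgroup G) (x • Q).2 hle
  rw [Subgroup.mem_sup_of_normal_right] at hm
  obtain ⟨u, hu, n, hn, rfl⟩ := hm
  have h1 : u * n * x ∈ Subgroup.normalizer ((Q : Subgroup G) : Set G) := by
    apply mem_normalizer_of_conj_le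
    intro v hv
    have : x * v * x⁻¹ ∈ ((x • Q : Sylow q G) : Subgroup G) := by
      rw [Sylow.coe_subgroup_smul]
      exact ⟨v, hv, rfl⟩
    have := hmc _ this
    simpa [mul_assoc] using this
  have h2 : n * x ∈ Subgroup.normalizer ((Q : Subgroup G) : Set G) := by
    have hu' : u⁻¹ ∈ Subgroup.normalizer ((Q : Subgroup G) : Set G) :=
      Subgroup.le_normalizer (Q.1.inv_mem hu)
    have := Subgroup.mul_mem _ hu' h1
    simpa [mul_assoc] using this
  refine ⟨n * x, h2, ?_⟩
  rw [map_mul]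
  have : f n = 1 := (QuotientGroup.eq_one_iff n).mpr hn
  rw [this, one_mul]

theorem not_dvd_index_normalizer_of_quotient [Finite G] {p q : ℕ} [hp : Fact p.Prime]
    [hq : Fact q.Prime] (N : Subgroup G) [hN : N.Normal] (Q : Sylow q G)
    (h1 : ¬ p ∣ (Subgroup.normalizer
      (((Q : Subgroup G).map (QuotientGroup.mk' N) : Subgroup (G ⧸ N)) : Set (G ⧸ N))).index)
    (h2 : ¬ p ∣ (Subgroup.normalizer ((Q : Subgroup G) : Set G)).relIndex N) :
    ¬ p ∣ (Subgroup.normalizer ((Q : Subgroup G) : Set G)).index := by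
  set A := Subgroup.normalizer ((Q : Subgroup G) : Set G) with hA
  set f := QuotientGroup.mk' N with hf
  have hfs : Function.Surjective f := QuotientGroup.mk'_surjective N
  rw [← Subgroup.relIndex_mul_index (le_sup_left : A ≤ A ⊔ N), relIndex_sup_of_normal]
  apply Nat.Prime.not_dvd_mul hp.out h2
  have h3 : ((A ⊔ N).map f).index = (A ⊔ N).index :=
    Subgroup.index_map_eq _ hfs (by rw [hf, QuotientGroup.ker_mk']; exact le_sup_right)
  rw [← h3]
  have h4 : (A ⊔ N).map f = A.map f := by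
    rw [Subgroup.map_sup]
    have : N.map f = ⊥ := by
      rw [Subgroup.map_eq_bot_iff, hf, QuotientGroup.ker_mk']
    rw [this, sup_bot_eq]
  rw [h4]
  intro hd
  exact h1 (hd.trans (Subgroup.index_dvd_of_le (normalizer_map_le_map_normalizer N Q)))


end

universe u

theorem card_quotient_lt {G : Type u} [Group G] [Finite G] (N : Subgroup G) [N.Normal] (hN : N ≠ ⊥) :
    Nat.card (G ⧸ N) < Nat.card G := by
  rw [← Subgroup.index_eq_card, ← N.card_mul_index]
  have h1 : 1 < Nat.card N := by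
    rw [Subgroup.one_lt_card_iff_ne_bot]; exact hN
  have h2 : 0 < N.index := Nat.pos_of_ne_zero Subgroup.index_ne_zero_of_finite
  nlinarith

/-- In a `q`-solvable group in which every `q`-element centralizes a Sylow `p`-subgroup, the
normalizer of a Sylow `q`-subgroup has index prime to `p`. -/
theorem exists_sylow_normalizer_index {p q : ℕ} [hp : Fact p.Prime] [hq : Fact q.Prime] :
    ∀ n : ℕ, ∀ (G : Type u) [Group G] [Finite G], Nat.card G = n → IsPSolvable q G →
      (∀ y : G, (∃ k : ℕ, orderOf y = q ^ k) → ¬ p ∣ (Subgroup.centralizer ({y} : Set G)).index) →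
      ∃ Q : Sylow q G, ¬ p ∣ (Subgroup.normalizer ((Q : Subgroup G) : Set G)).index := by
  intro n
  induction n using Nat.strong_induction_on with
  | _ n ih =>
  intro G _ _ hn hsolv hyp
  -- the inductive step through a nontrivial normal subgroup
  have step : ∀ (N : Subgroup G) [N.Normal], N ≠ ⊥ →
      (∀ Q : Sylow q G, ¬ p ∣ (Subgroup.normalizer ((Q : Subgroup G) : Set G)).relIndex N) →
      ∃ Q : Sylow q G, ¬ p ∣ (Subgroup.normalizer ((Q : Subgroup G) : Set G)).index := by
    intro N _ hN hrel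
    have hlt : Nat.card (G ⧸ N) < n := hn ▸ card_quotient_lt N hN
    obtain ⟨Qb, hQb⟩ := ih _ hlt (G ⧸ N) rfl (IsPSolvable.quotient hq.out hsolv N)
      (classSize_hyp_quotient N hyp)
    obtain ⟨Q, rfl⟩ := Sylow.mapSurjective_surjective (QuotientGroup.mk'_surjective N) q Qb
    exact ⟨Q, not_dvd_index_normalizer_of_quotient N Q hQb (hrel Q)⟩
  by_cases hK : pPrimeCore q G = ⊥
  · by_cases hR : pCore q G = ⊥
    · -- G is trivial
      have htriv : (⊥ : Subgroup G) = ⊤ := by
        by_contra hne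
        obtain ⟨Y, hYn, -, -, hYne, hidx⟩ :=
          IsPSolvable.exists_normal_between hq.out hsolv ⊥ ⊤ bot_le hne
        rw [Subgroup.relIndex_bot_left] at hidx
        rcases hidx with ⟨m, hm⟩ | hcop
        · have := le_pCore hYn (IsPGroup.of_card hm)
          rw [hR, le_bot_iff] at this
          exact hYne this.symm
        · have := le_pPrimeCore hYn hcop
          rw [hK, le_bot_iff] at this
          exact hYne this.symm
      obtain ⟨Q⟩ : Nonempty (Sylow q G) := inferInstance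
      refine ⟨Q, ?_⟩
      have h1 : Nat.card G = 1 := by
        rw [← Subgroup.card_top (G := G), ← htriv, Subgroup.card_bot]
      have h2 := Subgroup.index_dvd_card (Subgroup.normalizer ((Q : Subgroup G) : Set G))
      rw [h1, Nat.dvd_one] at h2
      rw [h2]
      exact hp.out.one_lt.ne' ∘ Nat.dvd_one.mp
    · haveI := pCore_normal (G := G) q
      apply step (pCore q G) hR
      intro Q
      have hle : pCore q G ≤ Subgroup.normalizer ((Q : Subgroup G) : Set G) :=
        ((isPGroup_pCore q).le_sylow_of_normal Q).trans Subgroup.le_normalizer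
      rw [Subgroup.relIndex_eq_one.mpr hle]
      exact hp.out.one_lt.ne' ∘ Nat.dvd_one.mp
  · haveI hKn := pPrimeCore_normal (G := G) q
    apply step (pPrimeCore q G) hK
    intro Q
    have hKq : (Nat.card (pPrimeCore q G)).Coprime q := card_pPrimeCore_coprime q
    obtain ⟨S, hSK, hSp, hSidx, hSc⟩ := exists_sylow_centralized (p := p) (pPrimeCore q G) hKq
      (Q : Subgroup G) Q.2 (by
        intro y hy
        obtain ⟨k, hk⟩ := Q.2 ⟨y, hy⟩
        have hk' : y ^ q ^ k = 1 := by simpa using congrArg Subtype.val hk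
        obtain ⟨j, -, hj⟩ := (Nat.dvd_prime_pow hq.out).mp (orderOf_dvd_of_pow_eq_one hk')
        obtain ⟨T, hT⟩ := exists_sylow_le_of_not_dvd_index _ (hyp y ⟨j, hj⟩)
        refine ⟨(T : Subgroup G) ⊓ pPrimeCore q G, inf_le_right, T.2.to_le inf_le_left, ?_,
          inf_le_left.trans hT⟩
        rw [Subgroup.inf_relIndex_right, ← relIndex_sup_of_normal]
        intro hd
        exact T.not_dvd_index (hd.trans (Subgroup.relIndex_dvd_index_of_le le_sup_left)))
    intro hd
    apply hSidx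
    refine hd.trans (Subgroup.relIndex_dvd_of_le_left _ ?_)
    exact hSc.trans (Subgroup.centralizer_le_normalizer _)


end Cfsg.Agent.Lib.Helper81
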