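import Mathlib
import Cfsg.Agent.Lib.Helper76.J1Tools

/-!
# S4274, keystone 87780a: no simple group of order `87780` with `n_19 = 1540` under `HMin`
-/

set_option autoImplicit false
set_option linter.style.haveILetI false
set_option maxRecDepth 100000

namespace Cfsg.Agent.Lib.Helper81.J1
open Cfsg.Agent.Lib.Helper76.J1 Subgroup

theorem validList_87780_5 : validList 87780 5 = [21, 66, 231, 266, 2926] := by decide +kernel
theorem validList_87780_7 : validList 87780 7 = [22, 57, 190, 330, 1254, 4180] := by
  decide +kernel
theorem validList_87780_11 : validList 87780 11 = [133, 210, 1596] := by decide +kernel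

theorem no_simple_87780_a {G : Type*} [Group G] [Finite G] [IsSimpleGroup G]
    (hcard : Nat.card G = 87780) (h19 : Nat.card (Sylow 19 G) = 1540) (hmin : HMin G) : False := by
  haveI : Fact (Nat.Prime 5) := ⟨by norm_num⟩
  haveI : Fact (Nat.Prime 7) := ⟨by norm_num⟩
  haveI : Fact (Nat.Prime 11) := ⟨by norm_num⟩
  haveI : Fact (Nat.Prime 19) := ⟨by norm_num⟩
  have hS19 : ∀ S : Sylow 19 G, Nat.card ↥(S : Subgroup G) = 19 := fun S =>
    card_sylow_eq_prime hcard (by norm_num) (by norm_num) S
  have hS5 : ∀ S : Sylow 5 G, Nat.card ↥(S : Subgroup G) = 5 := fun S =>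
    card_sylow_eq_prime hcard (by norm_num) (by norm_num) S
  have hS7 : ∀ S : Sylow 7 G, Nat.card ↥(S : Subgroup G) = 7 := fun S =>
    card_sylow_eq_prime hcard (by norm_num) (by norm_num) S
  -- the Sylow `19`-subgroups
  have hC19 : ∀ S : Sylow 19 G,
      Nat.card ↥(centralizer ((S : Subgroup G) : Set G)) = 19 * 1 := by
    intro S
    obtain ⟨e, c, he1, he2, hc, hce⟩ := exists_relIndex hcard (p := 19) (by norm_num) (by norm_num)
      (by norm_num) S
    rw [h19] at hce
    have h3 : c * e = 3 := by
      have : 19 * (c * e) = 19 * 3 := by rw [← mul_assoc, hce]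
      exact Nat.eq_of_mul_eq_mul_left (by norm_num) this
    have he3 : e ≤ 3 := Nat.le_of_dvd (by norm_num) (Dvd.intro_left c h3)
    have hc1 : c = 1 := by
      interval_cases e <;> omega
    rw [hc, hc1]
  obtain ⟨P⟩ : Nonempty (Sylow 19 G) := inferInstance
  have hN19 : Nat.card ↥(normalizer ((P : Subgroup G) : Set G)) = 57 := by
    rw [card_normalizer_eq_div hcard P, h19]
  -- the candidates
  have h5mem := card_sylow_mem_validList (G := G) hcard (p := 5) (by norm_num) (by norm_num)
    (by norm_num) (by norm_num)
  have h7mem := card_sylow_mem_validList (G := G) hcard (p := 7) (by norm_num) (by norm_num)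
    (by norm_num) (by norm_num)
  have h11mem := card_sylow_mem_validList (G := G) hcard (p := 11) (by norm_num) (by norm_num)
    (by norm_num) (by norm_num)
  rw [validList_87780_5] at h5mem
  rw [validList_87780_7] at h7mem
  rw [validList_87780_11] at h11mem
  have h5dvd : 19 ∣ Nat.card (Sylow 5 G) :=
    dvd_card_sylow_of_hmin hmin P (by rw [hcard]; norm_num) (by rw [hN19]; norm_num)
  have h7dvd : 19 ∣ Nat.card (Sylow 7 G) :=
    dvd_card_sylow_of_hmin hmin P (by rw [hcard]; norm_num) (by rw [hN19]; norm_num)
  have h11dvd : 19 ∣ Nat.card (Sylow 11 G) :=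
    dvd_card_sylow_of_hmin hmin P (by rw [hcard]; norm_num) (by rw [hN19]; norm_num)
  have h5 : Nat.card (Sylow 5 G) = 266 ∨ Nat.card (Sylow 5 G) = 2926 := by
    simp only [List.mem_cons, List.mem_nil_iff, or_false] at h5mem
    rcases h5mem with h | h | h | h | h <;> rw [h] at h5dvd <;> omega
  have h11 : Nat.card (Sylow 11 G) = 133 ∨ Nat.card (Sylow 11 G) = 1596 := by
    simp only [List.mem_cons, List.mem_nil_iff, or_false] at h11mem
    rcases h11mem with h | h | h <;> rw [h] at h11dvd <;> omega
  have h7 : Nat.card (Sylow 7 G) = 4180 := by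
    simp only [List.mem_cons, List.mem_nil_iff, or_false] at h7mem
    rcases h7mem with h | h | h | h | h | h
    · rw [h] at h7dvd; omega
    · exfalso
      have hx := cross_num (G := G) hcard (p := 7) (q := 11) (by norm_num) (by norm_num)
        (by norm_num) (by norm_num) (by rw [h]; norm_num) (by norm_num)
      rcases h11 with h' | h' <;> rw [h'] at hx <;> omega
    · exfalso
      have hx := cross_num (G := G) hcard (p := 7) (q := 11) (by norm_num) (by norm_num)
        (by norm_num) (by norm_num) (by rw [h]; norm_num) (by norm_num)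
      rcases h11 with h' | h' <;> rw [h'] at hx <;> omega
    · rw [h] at h7dvd; omega
    · exfalso
      have hx := cross_num (G := G) hcard (p := 7) (q := 5) (by norm_num) (by norm_num)
        (by norm_num) (by norm_num) (by rw [h]; norm_num) (by norm_num)
      rcases h5 with h' | h' <;> rw [h'] at hx <;> omega
    · exact h
  -- the Sylow `7`-subgroups
  have hC7 : ∀ S : Sylow 7 G,
      Nat.card ↥(centralizer ((S : Subgroup G) : Set G)) = 7 * 1 := by
    intro S
    obtain ⟨e, c, he1, he2, hc, hce⟩ := exists_relIndex hcard (p := 7) (by norm_num) (by norm_num)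
      (by norm_num) S
    rw [h7] at hce
    have h3 : c * e = 3 := by
      have : 7 * (c * e) = 7 * 3 := by rw [← mul_assoc, hce]
      exact Nat.eq_of_mul_eq_mul_left (by norm_num) this
    have he3 : e ≤ 3 := Nat.le_of_dvd (by norm_num) (Dvd.intro_left c h3)
    have hc1 : c = 1 := by
      interval_cases e <;> omega
    rw [hc, hc1]
  -- the Sylow `5`-subgroups
  have hA5 : 35112 ≤ Nat.card {x : G // 5 ∣ orderOf x} := by
    rcases h5 with h | h
    · have hC5 : ∀ S : Sylow 5 G,
          Nat.card ↥(centralizer ((S : Subgroup G) : Set G)) = 5 * 33 := by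
        intro S
        obtain ⟨e, c, he1, he2, hc, hce⟩ := exists_relIndex hcard (p := 5) (by norm_num)
          (by norm_num) (by norm_num) S
        rw [h] at hce
        have h3 : c * e = 66 := by
          have : 5 * (c * e) = 5 * 66 := by rw [← mul_assoc, hce]
          exact Nat.eq_of_mul_eq_mul_left (by norm_num) this
        have he4 : e ≤ 4 := Nat.le_of_dvd (by norm_num) he1
        have hc1 : c = 33 := by
          interval_cases e <;> omega
        rw [hc, hc1]
      have := card_dvd_orderOf_ge hS5 hC5
      rw [h] at this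
      exact le_trans (by norm_num) this
    · have hC5 : ∀ S : Sylow 5 G,
          Nat.card ↥(centralizer ((S : Subgroup G) : Set G)) = 5 * 3 := by
        intro S
        obtain ⟨e, c, he1, he2, hc, hce⟩ := exists_relIndex hcard (p := 5) (by norm_num)
          (by norm_num) (by norm_num) S
        rw [h] at hce
        have h3 : c * e = 6 := by
          have : 5 * (c * e) = 5 * 6 := by rw [← mul_assoc, hce]
          exact Nat.eq_of_mul_eq_mul_left (by norm_num) this
        have he4 : e ≤ 4 := Nat.le_of_dvd (by norm_num) he1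
        have hc1 : c = 3 := by
          interval_cases e <;> omega
        rw [hc, hc1]
      have := card_dvd_orderOf_ge hS5 hC5
      rw [h] at this
      exact le_trans (by norm_num) this
  have hA19 : 27720 ≤ Nat.card {x : G // 19 ∣ orderOf x} := by
    have := card_dvd_orderOf_ge hS19 hC19
    rw [h19] at this
    exact le_trans (by norm_num) this
  have hA7 : 25080 ≤ Nat.card {x : G // 7 ∣ orderOf x} := by
    have := card_dvd_orderOf_ge hS7 hC7
    rw [h7] at this
    exact le_trans (by norm_num) this
  -- disjointness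
  obtain ⟨Q⟩ : Nonempty (Sylow 7 G) := inferInstance
  have hd1 : ∀ x : G, 19 ∣ orderOf x → ¬ 7 ∣ orderOf x := fun x hx =>
    not_dvd_orderOf_of_not_dvd_card_centralizer (by norm_num) hS19 P
      (by rw [hC19 P]; norm_num) x hx
  have hd2 : ∀ x : G, 19 ∣ orderOf x → ¬ 5 ∣ orderOf x := fun x hx =>
    not_dvd_orderOf_of_not_dvd_card_centralizer (by norm_num) hS19 P
      (by rw [hC19 P]; norm_num) x hx
  have hd3 : ∀ x : G, 7 ∣ orderOf x → ¬ 5 ∣ orderOf x := fun x hx =>
    not_dvd_orderOf_of_not_dvd_card_centralizer (by norm_num) hS7 Q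
      (by rw [hC7 Q]; norm_num) x hx
  have hsum := card_add3_le_of_disjoint (G := G) (fun x => 19 ∣ orderOf x)
    (fun x => 7 ∣ orderOf x) (fun x => 5 ∣ orderOf x) hd1 hd2 hd3
  rw [hcard] at hsum
  omega

end Cfsg.Agent.Lib.Helper81.J1
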