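import Mathlib
import Cfsg.Prelude.Def_OddOrderLocal
import Cfsg.Agent.Lib.Helper39.PiCore

set_option autoImplicit false
set_option linter.unusedSectionVars false
set_option linter.style.haveILetI false

/-!
# The `π`-core of a subgroup, inside the ambient group
-/

namespace Cfsg.Agent.Lib.Helper81

open Cfsg

universe u
variable {G : Type u} [Group G]

theorem pco_le (π : Set ℕ) (X : Subgroup G) : piCoreOf π X ≤ X :=
  Subgroup.map_subtype_le _

theorem coe_mem_pco {π : Set ℕ} {X : Subgroup G} {x : X} :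
    (x : G) ∈ piCoreOf π X ↔ x ∈ piCore π X := by
  constructor
  · rintro ⟨y, hy, hyx⟩
    have : y = x := Subtype.ext hyx
    rwa [← this]
  · intro hx
    exact ⟨x, hx, rfl⟩

theorem le_normalizer_pco (π : Set ℕ) (X : Subgroup G) :
    X ≤ Subgroup.normalizer (piCoreOf π X : Set G) := by
  intro x hx
  rw [Subgroup.mem_normalizer_iff]
  intro h
  constructor
  · rintro ⟨y, hy, rfl⟩
    have h1 : (⟨x, hx⟩ : X) * y * (⟨x, hx⟩ : X)⁻¹ ∈ piCore π X :=
      (piCore_normal π X).conj_mem y hy ⟨x, hx⟩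
    exact ⟨_, h1, rfl⟩
  · rintro ⟨y, hy, hyx⟩
    have h1 : (⟨x, hx⟩ : X)⁻¹ * y * ((⟨x, hx⟩ : X)⁻¹)⁻¹ ∈ piCore π X :=
      (piCore_normal π X).conj_mem y hy (⟨x, hx⟩ : X)⁻¹
    refine ⟨_, h1, ?_⟩
    have h2 : (y : G) = x * h * x⁻¹ := hyx
    show x⁻¹ * (y : G) * (x⁻¹)⁻¹ = h
    rw [h2]
    group

theorem pco_pi [Finite G] (π : Set ℕ) (X : Subgroup G) :
    ∀ q : ℕ, q.Prime → q ∣ Nat.card (piCoreOf π X) → q ∈ π := by
  have h1 : Nat.card (piCoreOf π X) = Nat.card (piCore π X) :=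
    Subgroup.card_map_of_injective X.subtype_injective
  rw [h1]
  exact Cfsg.Agent.Lib.Helper39.isPiGroup_piCore π

theorem le_pco (π : Set ℕ) {X Y : Subgroup G} (hYX : Y ≤ X)
    (hXY : X ≤ Subgroup.normalizer (Y : Set G))
    (hπ : ∀ q : ℕ, q.Prime → q ∣ Nat.card Y → q ∈ π) : Y ≤ piCoreOf π X := by
  have h1 : (Y.subgroupOf X).Normal := (Subgroup.normal_subgroupOf_iff_le_normalizer hYX).2 hXY
  have h2 : Nat.card (Y.subgroupOf X) = Nat.card Y :=
    Nat.card_congr (Subgroup.subgroupOfEquivOfLe hYX).toEquiv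
  have h3 : Y.subgroupOf X ≤ piCore π X := le_sSup ⟨h1, by rw [h2]; exact hπ⟩
  have h4 := Subgroup.map_mono (f := X.subtype) h3
  rwa [Subgroup.map_subgroupOf_eq_of_le hYX] at h4

/-- `O_π(B) ∩ A ≤ O_π(A)` for `A ≤ B` -/
theorem inf_le_pco [Finite G] (π : Set ℕ) {A B : Subgroup G} (hAB : A ≤ B) :
    piCoreOf π B ⊓ A ≤ piCoreOf π A := by
  apply le_pco π inf_le_right
  · intro a ha
    rw [Subgroup.mem_normalizer_iff]
    intro h
    have haN := le_normalizer_pco π B (hAB ha)
    rw [Subgroup.mem_normalizer_iff] at haN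
    constructor
    · rintro ⟨h1, h2⟩
      exact ⟨(haN h).1 h1, A.mul_mem (A.mul_mem ha h2) (A.inv_mem ha)⟩
    · rintro ⟨h1, h2⟩
      refine ⟨(haN h).2 h1, ?_⟩
      have : h = a⁻¹ * (a * h * a⁻¹) * a := by group
      rw [this]
      exact A.mul_mem (A.mul_mem (A.inv_mem ha) h2) ha
  · intro q hq hdvd
    exact pco_pi π B q hq (hdvd.trans (Subgroup.card_dvd_of_le inf_le_left))

/-- the conjugate of `O_π(X)` lies in `O_π` of the conjugate of `X` -/
theorem map_conj_pco_le [Finite G] (π : Set ℕ) (x : G) (X : Subgroup G) :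
    (piCoreOf π X).map (MulAut.conj x).toMonoidHom
      ≤ piCoreOf π (X.map (MulAut.conj x).toMonoidHom) := by
  apply le_pco π (Subgroup.map_mono (pco_le π X))
  · rintro _ ⟨a, ha, rfl⟩
    rw [Subgroup.mem_normalizer_iff]
    intro h
    have haN := le_normalizer_pco π X ha
    rw [Subgroup.mem_normalizer_iff] at haN
    constructor
    · rintro ⟨k, hk, rfl⟩
      refine ⟨a * k * a⁻¹, (haN k).1 hk, ?_⟩
      simp only [MulEquiv.coe_toMonoidHom, MulAut.conj_apply]
      group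
    · rintro ⟨k, hk, hkh⟩
      simp only [MulEquiv.coe_toMonoidHom, MulAut.conj_apply] at hkh
      have h1 : x⁻¹ * h * x = a⁻¹ * k * a := by
        have : h = (x * a * x⁻¹)⁻¹ * (x * k * x⁻¹) * (x * a * x⁻¹) := by
          rw [hkh]; group
        rw [this]; group
      have h2 : a⁻¹ * k * a ∈ piCoreOf π X := by
        have := (haN (a⁻¹ * k * a)).2
        apply this
        have e : a * (a⁻¹ * k * a) * a⁻¹ = k := by group
        rw [e]; exact hk
      refine ⟨x⁻¹ * h * x, by rw [h1]; exact h2, ?_⟩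
      simp only [MulEquiv.coe_toMonoidHom, MulAut.conj_apply]
      group
  · intro q hq hdvd
    rw [Subgroup.card_map_of_injective (MulAut.conj x).injective] at hdvd
    exact pco_pi π X q hq hdvd

/-- `N_G(X)` normalizes `O_π(X)` -/
theorem normalizer_le_normalizer_pco [Finite G] (π : Set ℕ) (X : Subgroup G) :
    Subgroup.normalizer (X : Set G) ≤ Subgroup.normalizer (piCoreOf π X : Set G) := by
  have key : ∀ n ∈ Subgroup.normalizer (X : Set G), ∀ k ∈ piCoreOf π X,
      n * k * n⁻¹ ∈ piCoreOf π X := by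
    intro n hn k hk
    have h1 : X.map (MulAut.conj n).toMonoidHom = X := by
      ext v
      constructor
      · rintro ⟨u, hu, rfl⟩
        exact ((Subgroup.mem_normalizer_iff.1 hn) u).1 hu
      · intro hv
        refine ⟨n⁻¹ * v * n, ?_, ?_⟩
        · have := ((Subgroup.mem_normalizer_iff.1 (Subgroup.inv_mem _ hn)) v).1 hv
          simpa using this
        · simp only [MulEquiv.coe_toMonoidHom, MulAut.conj_apply]
          group
    have h2 := map_conj_pco_le π n X
    rw [h1] at h2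
    exact h2 ⟨k, hk, rfl⟩
  intro n hn
  rw [Subgroup.mem_normalizer_iff]
  intro h
  constructor
  · exact key n hn h
  · intro hh
    have := key n⁻¹ (Subgroup.inv_mem _ hn) _ hh
    have e : n⁻¹ * (n * h * n⁻¹) * n⁻¹⁻¹ = h := by group
    rwa [e] at this

/-- elements of `O_π(X)` are `π`-elements -/
theorem prime_mem_of_dvd_orderOf_pco [Finite G] (π : Set ℕ) (X : Subgroup G) {x : G}
    (hx : x ∈ piCoreOf π X) : ∀ q : ℕ, q.Prime → q ∣ orderOf x → q ∈ π := by
  intro q hq hdvd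
  apply pco_pi π X q hq
  have h1 : orderOf (⟨x, hx⟩ : piCoreOf π X) = orderOf x := Subgroup.orderOf_mk x hx
  rw [← h1] at hdvd
  exact hdvd.trans (orderOf_dvd_natCard _)

theorem not_dvd_card_pco [Finite G] {π : Set ℕ} {p : ℕ} (hp : p.Prime) (hpπ : p ∈ π)
    (X : Subgroup G) : ¬ p ∣ Nat.card (piCoreOf {q | q ∉ π} X) := by
  intro h
  exact pco_pi {q | q ∉ π} X p hp h hpπ

end Cfsg.Agent.Lib.Helper81
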