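import Mathlib
import Cfsg.Prelude.Def_BrauerPairs
import Cfsg.Agent.Lib.Helper81.BPStep
import Cfsg.Agent.Lib.Helper83.Quotient

set_option autoImplicit false
set_option linter.unusedSectionVars false
set_option linter.style.haveILetI false

/-!
# The averaging idempotent of a normal `p'`-subgroup and its central character values
-/

namespace Cfsg.Agent.Lib.Helper81

open Cfsg
open Cfsg.Agent.Lib.Helper21 Cfsg.Agent.Lib.Helper82 Cfsg.Agent.Lib.Helper83

universe u

section Def

variable {G : Type u} [Group G]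

open Classical in
/-- the uniform distribution on a subgroup: the coefficients of `|K|⁻¹ ∑_{k ∈ K} k` -/
noncomputable def unif (K : Subgroup G) : G → ℂ :=
  fun g => if g ∈ K then (Nat.card K : ℂ)⁻¹ else 0

theorem unif_of_mem {K : Subgroup G} {g : G} (h : g ∈ K) : unif K g = (Nat.card K : ℂ)⁻¹ := by
  classical
  simp [unif, h]

theorem unif_of_not_mem {K : Subgroup G} {g : G} (h : g ∉ K) : unif K g = 0 := by
  classical
  simp [unif, h]

open Classical in
/-- the indicator of a proposition, as a complex number -/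
noncomputable def ind (a : Prop) : ℂ := if a then 1 else 0

theorem ind_pos {a : Prop} (h : a) : ind a = 1 := by
  classical
  simp [ind, h]

theorem ind_neg {a : Prop} (h : ¬ a) : ind a = 0 := by
  classical
  simp [ind, h]

theorem ind_congr {a b : Prop} (h : a ↔ b) : ind a = ind b := by
  by_cases ha : a
  · rw [ind_pos ha, ind_pos (h.1 ha)]
  · rw [ind_neg ha, ind_neg (fun hb => ha (h.2 hb))]

theorem iff_of_ind_sub {M : Ideal AlgInt} (hM : M.IsPrime) {a b : Prop}
    (h : MemLocalIdeal M (ind a - ind b)) : a ↔ b := by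
  by_cases ha : a
  · by_cases hb : b
    · exact ⟨fun _ => hb, fun _ => ha⟩
    · rw [ind_pos ha, ind_neg hb, sub_zero] at h
      exact absurd h (not_memLocalIdeal_one hM)
  · by_cases hb : b
    · rw [ind_neg ha, ind_pos hb, zero_sub] at h
      have := memLocalIdeal_neg h
      rw [neg_neg] at this
      exact absurd this (not_memLocalIdeal_one hM)
    · exact ⟨fun h' => absurd h' ha, fun h' => absurd h' hb⟩

theorem conjInv_unif {K L : Subgroup G} (hL : L ≤ Subgroup.normalizer (K : Set G)) :
    ConjInv L (unif K) := by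
  intro t ht g
  have h := (Subgroup.mem_normalizer_iff.1 (hL ht)) g
  by_cases hg : g ∈ K
  · rw [unif_of_mem hg, unif_of_mem (h.1 hg)]
  · rw [unif_of_not_mem hg, unif_of_not_mem (fun h' => hg (h.2 h'))]

theorem isClassFunction_unif (K : Subgroup G) [hK : K.Normal] : IsClassFunction G (unif K) := by
  intro g t
  have h : t * g * t⁻¹ ∈ K ↔ g ∈ K := by
    constructor
    · intro h'
      have := hK.conj_mem _ h' t⁻¹
      have e : t⁻¹ * (t * g * t⁻¹) * t⁻¹⁻¹ = g := by group
      rwa [e] at this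
    · intro h'
      exact hK.conj_mem _ h' t
  by_cases hg : g ∈ K
  · rw [unif_of_mem hg, unif_of_mem (h.2 hg)]
  · rw [unif_of_not_mem hg, unif_of_not_mem (fun h' => hg (h.1 h'))]

theorem unif_memLocalRing {p : ℕ} {M : Ideal AlgInt} (hMod : IsPModular p M) {K : Subgroup G}
    (hK : ¬ p ∣ Nat.card K) (g : G) : MemLocalRing M (unif K g) := by
  have hM : M.IsPrime := hMod.2.1.isPrime
  by_cases hg : g ∈ K
  · rw [unif_of_mem hg]
    exact memLocalRing_inv (memLocalRing_natCast hM _)
      (fun h => hK ((memLocalIdeal_natCast_iff hMod _).1 h))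
  · rw [unif_of_not_mem hg]
    exact memLocalRing_zero hM

theorem rs_unif [Finite G] (H K : Subgroup G) :
    rs H (unif K)
      = ((Nat.card (K.subgroupOf H) : ℂ) / (Nat.card K : ℂ)) • unif (K.subgroupOf H) := by
  funext h
  rw [rs_apply, Pi.smul_apply, smul_eq_mul]
  have h0 : (Nat.card (K.subgroupOf H) : ℂ) ≠ 0 := by
    exact_mod_cast (Nat.card_pos (α := K.subgroupOf H)).ne'
  by_cases hh : (h : G) ∈ K
  · rw [unif_of_mem hh, unif_of_mem (Subgroup.mem_subgroupOf.2 hh)]
    field_simp
  · rw [unif_of_not_mem hh, unif_of_not_mem (fun h' => hh (Subgroup.mem_subgroupOf.1 h')), mul_zero]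

end Def

section Fin

variable {G : Type u} [Group G] [Fintype G]

local notation "C(" R ")" => Subgroup.centralizer ((R : Subgroup G) : Set G)

theorem sum_unif_mul (K : Subgroup G) [Fintype K] (χ : G → ℂ) :
    ∑ g : G, unif K g * χ g = (Nat.card K : ℂ)⁻¹ * ∑ k : K, χ k := by
  classical
  rw [Finset.mul_sum]
  have h1 : ∀ g : G, unif K g * χ g = if g ∈ K then (Nat.card K : ℂ)⁻¹ * χ g else 0 := by
    intro g
    by_cases hg : g ∈ K
    · rw [unif_of_mem hg, if_pos hg]
    · rw [unif_of_not_mem hg, if_neg hg, zero_mul]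
  rw [Finset.sum_congr rfl (fun g _ => h1 g), ← Finset.sum_filter]
  exact Finset.sum_subtype (Finset.univ.filter (· ∈ K)) (by simp)
    (fun g => (Nat.card K : ℂ)⁻¹ * χ g)

/-- the central character of `χ` at the averaging idempotent of a normal subgroup `K` is `1` or
`0` according as `K` lies in the kernel of `χ` or not -/
theorem omega_unif (K : Subgroup G) [K.Normal] (χ : IrrCharacter G) :
    omega (unif K) (χ : G → ℂ) = ind (∀ k ∈ K, (χ : G → ℂ) k = (χ : G → ℂ) 1) := by
  classical
  haveI : Fintype K := Fintype.ofFinite _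
  have h1 : (χ : G → ℂ) 1 ≠ 0 := IsIrrCharacter.apply_one_ne_zero χ.2
  have hK : (Nat.card K : ℂ) ≠ 0 := by exact_mod_cast (Nat.card_pos (α := K)).ne'
  rw [omega, sum_unif_mul]
  by_cases h : ∀ k ∈ K, (χ : G → ℂ) k = (χ : G → ℂ) 1
  · have h2 : ∑ k : K, (χ : G → ℂ) k = (Nat.card K : ℂ) * (χ : G → ℂ) 1 := by
      rw [Finset.sum_congr rfl (fun (k : K) _ => h k k.2), Finset.sum_const, Finset.card_univ,
        nsmul_eq_mul, Nat.card_eq_fintype_card]
    rw [h2, ind_pos h]
    field_simp
  · rw [ind_neg h]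
    push Not at h
    obtain ⟨x, hx, hne⟩ := h
    rw [irr_sum_normal_eq_zero χ K ⟨x, hx, hne⟩, mul_zero, zero_div]

/-- the Brauer functional at `P` of the averaging idempotent of `K` -/
theorem brauerOmega_unif (P K : Subgroup G)
    (hC : C(P) ≤ Subgroup.normalizer (K : Set G)) (ξ : IrrCharacter C(P)) :
    brauerOmega P (unif K) (ξ : C(P) → ℂ)
      = ((Nat.card (K.subgroupOf C(P)) : ℂ) / (Nat.card K : ℂ))
        * ind (∀ c : C(P), (c : G) ∈ K → (ξ : C(P) → ℂ) c = (ξ : C(P) → ℂ) 1) := by
  classical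
  haveI : Finite (IrrCharacter G) := irr_finite
  haveI : Fintype (IrrCharacter G) := Fintype.ofFinite _
  haveI : Fintype C(P) := Fintype.ofFinite _
  haveI : (K.subgroupOf C(P)).Normal := Subgroup.normal_subgroupOf_of_le_normalizer hC
  rw [brauerOmega_eq_omega_rs, rs_unif, omega_smul, omega_unif]
  rfl

/-- the number of fixed points of a `p`-group acting on a subgroup -/
theorem card_subgroupOf_centralizer_modEq {p : ℕ} [Fact p.Prime] {P K : Subgroup G}
    (hP : IsPGroup p P) (hPK : P ≤ Subgroup.normalizer (K : Set G)) :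
    Nat.card (K.subgroupOf C(P)) ≡ Nat.card K [MOD p] := by
  classical
  letI act : MulAction P K :=
    { smul := fun u k => ⟨(u : G) * k * (u : G)⁻¹,
        ((Subgroup.mem_normalizer_iff.1 (hPK u.2)) k).1 k.2⟩
      one_smul := fun k => Subtype.ext (by
        show ((1 : P) : G) * k * ((1 : P) : G)⁻¹ = k
        simp)
      mul_smul := fun a b k => Subtype.ext (by
        show ((a * b : P) : G) * k * ((a * b : P) : G)⁻¹
          = (a : G) * ((b : G) * k * (b : G)⁻¹) * (a : G)⁻¹
        simp [mul_assoc]) }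
  have hsmul : ∀ (u : P) (k : K), ((u • k : K) : G) = (u : G) * k * (u : G)⁻¹ := fun _ _ => rfl
  have h := hP.card_modEq_card_fixedPoints K
  have e : MulAction.fixedPoints P K ≃ K.subgroupOf C(P) :=
    { toFun := fun k => ⟨⟨((k : K) : G), by
          rw [Subgroup.mem_centralizer_iff]
          intro u hu
          have h1 := k.2 ⟨u, hu⟩
          have h2 : u * ((k : K) : G) * u⁻¹ = ((k : K) : G) := by
            have := congrArg (Subtype.val : K → G) h1
            rwa [hsmul] at this
          calc u * ((k : K) : G) = u * ((k : K) : G) * u⁻¹ * u := by group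
            _ = ((k : K) : G) * u := by rw [h2]⟩,
          Subgroup.mem_subgroupOf.2 (k : K).2⟩
      invFun := fun c => ⟨⟨((c : C(P)) : G), Subgroup.mem_subgroupOf.1 c.2⟩, by
          intro u
          apply Subtype.ext
          rw [hsmul]
          show (u : G) * ((c : C(P)) : G) * (u : G)⁻¹ = ((c : C(P)) : G)
          have h1 := (Subgroup.mem_centralizer_iff.1 (c : C(P)).2) u u.2
          rw [h1]
          group⟩
      left_inv := fun k => rfl
      right_inv := fun c => rfl }
  rw [Nat.card_congr e] at h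
  exact h.symm

/-- modulo the local ideal the Brauer functional of the averaging idempotent of a `p'`-subgroup
`K` normalized by `P` and `C_G(P)` is `1` or `0` according as `K ∩ C_G(P)` lies in the kernel -/
theorem brauerOmega_unif_congr {p : ℕ} [Fact p.Prime] {M : Ideal AlgInt} (hMod : IsPModular p M)
    {P K : Subgroup G} (hP : IsPGroup p P) (hPK : P ≤ Subgroup.normalizer (K : Set G))
    (hC : C(P) ≤ Subgroup.normalizer (K : Set G)) (hK : ¬ p ∣ Nat.card K)
    (ξ : IrrCharacter C(P)) :
    MemLocalIdeal M (brauerOmega P (unif K) (ξ : C(P) → ℂ)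
      - ind (∀ c : C(P), (c : G) ∈ K → (ξ : C(P) → ℂ) c = (ξ : C(P) → ℂ) 1)) := by
  classical
  have hM : M.IsPrime := hMod.2.1.isPrime
  rw [brauerOmega_unif P K hC ξ]
  have hmod := card_subgroupOf_centralizer_modEq hP hPK
  have hdvd : (p : ℤ) ∣ ((Nat.card (K.subgroupOf C(P)) : ℤ) - (Nat.card K : ℤ)) :=
    (Nat.modEq_iff_dvd.1 hmod.symm)
  have h1 : MemLocalIdeal M (((Nat.card (K.subgroupOf C(P)) : ℤ) - (Nat.card K : ℤ) : ℤ) : ℂ) :=
    (memLocalIdeal_intCast_iff hMod _).2 hdvd
  have hKinv : MemLocalRing M ((Nat.card K : ℂ)⁻¹) :=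
    memLocalRing_inv (memLocalRing_natCast hM _)
      (fun h => hK ((memLocalIdeal_natCast_iff hMod _).1 h))
  have hK0 : (Nat.card K : ℂ) ≠ 0 := by exact_mod_cast (Nat.card_pos (α := K)).ne'
  have h2 : MemLocalIdeal M ((Nat.card (K.subgroupOf C(P)) : ℂ) / (Nat.card K : ℂ) - 1) := by
    have e : (Nat.card (K.subgroupOf C(P)) : ℂ) / (Nat.card K : ℂ) - 1
        = (((Nat.card (K.subgroupOf C(P)) : ℤ) - (Nat.card K : ℤ) : ℤ) : ℂ)
          * (Nat.card K : ℂ)⁻¹ := by
      push_cast
      field_simp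
    rw [e]
    exact memLocalIdeal_mul_right hM h1 hKinv
  by_cases h : ∀ c : C(P), (c : G) ∈ K → (ξ : C(P) → ℂ) c = (ξ : C(P) → ℂ) 1
  · rw [ind_pos h, mul_one]; exact h2
  · rw [ind_neg h, mul_zero, sub_zero]; exact memLocalIdeal_zero hM

end Fin

end Cfsg.Agent.Lib.Helper81
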