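import Mathlib
import Cfsg.Prelude.Def_BrauerPairs
import Cfsg.Agent.Lib.Helper81.BPMax
import Cfsg.Agent.Lib.Helper81.DefectBasic
import Cfsg.Agent.Lib.Helper81.KerUnif

set_option autoImplicit false
set_option linter.unusedSectionVars false
set_option linter.style.haveILetI false

/-!
# Kernels of Brauer pairs: normal `p'`-subgroups in the kernel of a block and of its Brauer pairs
-/

namespace Cfsg.Agent.Lib.Helper81

open Cfsg
open Cfsg.Agent.Lib.Helper21 Cfsg.Agent.Lib.Helper82 Cfsg.Agent.Lib.Helper83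

universe u
variable {G : Type u} [Group G] [Fintype G]

local notation "C(" R ")" => Subgroup.centralizer ((R : Subgroup G) : Set G)

section

variable {p : ℕ} [Fact p.Prime] {M : Ideal AlgInt}

/-- for a Brauer pair `(Q, f)` of `B`, the Brauer functional of `f` at `Q` agrees modulo the local
ideal with the central character of `B` on class functions with local integer values -/
theorem pair_omega (hMod : IsPModular p M) {B : Set (IrrCharacter G)} {Q : Subgroup G}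
    {f : Set (IrrCharacter C(Q))} (hBe : IsBrauerPairOf p M B Q f) {F : G → ℂ}
    (hF : IsRClass M F) {ξ : IrrCharacter C(Q)} (hξ : ξ ∈ f) {χ : IrrCharacter G} (hχ : χ ∈ B) :
    MemLocalIdeal M (brauerOmega Q F (ξ : C(Q) → ℂ) - omega F (χ : G → ℂ)) := by
  classical
  haveI : Finite (IrrCharacter G) := irr_finite
  haveI : Fintype (IrrCharacter G) := Fintype.ofFinite _
  haveI : Fintype C(Q) := Fintype.ofFinite _
  haveI : Finite (IrrCharacter C(Q)) := irr_finite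
  haveI : Fintype (IrrCharacter C(Q)) := Fintype.ofFinite _
  have hM : M.IsPrime := hMod.2.1.isPrime
  obtain ⟨⟨hP, hf⟩, hB, hbr⟩ := hBe
  obtain ⟨χ₁, hχ₁⟩ := exists_irr_of_isModHom hM
    (isModHom_brauer' hMod Q C(Q) hP le_rfl (Subgroup.centralizer_le_normalizer _) ξ)
  have hres : ∀ F' : G → ℂ, resC Q C(Q) F' = rs C(Q) F' := by
    intro F'
    funext c
    rw [resC_apply, if_pos c.2, rs_apply]
  obtain ⟨χ₀, hχ₀⟩ := id hB
  have hBR : IsRClass M (blockCoeff B) := hχ₀ ▸ blockCoeff_isRClass hM χ₀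
  have h1 := hχ₁ _ hBR
  simp only [hres] at h1
  rw [← brauerOmega_eq_omega_rs, omega_blockCoeff] at h1
  have hχ₁B : χ₁ ∈ B := by
    by_contra hno
    rw [if_neg hno, sub_zero] at h1
    have h2 := hbr ξ hξ
    have := memLocalIdeal_sub hM h1 h2
    rw [sub_sub_cancel] at this
    exact not_memLocalIdeal_one hM this
  have h2 := hχ₁ F hF
  simp only [hres] at h2
  rw [← brauerOmega_eq_omega_rs] at h2
  have h3 := omega_sub_memLocalIdeal hM hF.1 hF.2 (IsPBlock.sameBlock hM hB hχ₁B hχ)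
  have := memLocalIdeal_add hM h2 h3
  convert this using 1
  ring

/-- **Kernel criterion.** For a normal `p'`-subgroup `K` of `G` and a Brauer pair `(Q, f)` of the
block `B`: `K` lies in the kernel of `χ ∈ B` iff `C_K(Q)` lies in the kernel of `ξ ∈ f`. -/
theorem ker_iff_of_pair (hMod : IsPModular p M) {B : Set (IrrCharacter G)} {Q : Subgroup G}
    {f : Set (IrrCharacter C(Q))} (hBe : IsBrauerPairOf p M B Q f) (K : Subgroup G) [hKn : K.Normal]
    (hK : ¬ p ∣ Nat.card K) {ξ : IrrCharacter C(Q)} (hξ : ξ ∈ f) {χ : IrrCharacter G}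
    (hχ : χ ∈ B) :
    (∀ k ∈ K, (χ : G → ℂ) k = (χ : G → ℂ) 1)
      ↔ (∀ c : C(Q), (c : G) ∈ K → (ξ : C(Q) → ℂ) c = (ξ : C(Q) → ℂ) 1) := by
  have hM : M.IsPrime := hMod.2.1.isPrime
  have hF : IsRClass M (unif K) := ⟨isClassFunction_unif K, unif_memLocalRing hMod hK⟩
  have h1 := pair_omega hMod hBe hF hξ hχ
  rw [omega_unif] at h1
  have htop : ∀ L : Subgroup G, L ≤ Subgroup.normalizer (K : Set G) := by
    intro L
    rw [Subgroup.normalizer_eq_top_iff.2 hKn]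
    exact le_top
  have h2 := brauerOmega_unif_congr hMod hBe.1.1 (htop Q) (htop _) hK ξ
  have h3 := memLocalIdeal_sub hM h1 h2
  have e : brauerOmega Q (unif K) (ξ : C(Q) → ℂ)
        - ind (∀ k ∈ K, (χ : G → ℂ) k = (χ : G → ℂ) 1)
      - (brauerOmega Q (unif K) (ξ : C(Q) → ℂ)
        - ind (∀ c : C(Q), (c : G) ∈ K → (ξ : C(Q) → ℂ) c = (ξ : C(Q) → ℂ) 1))
      = ind (∀ c : C(Q), (c : G) ∈ K → (ξ : C(Q) → ℂ) c = (ξ : C(Q) → ℂ) 1)
        - ind (∀ k ∈ K, (χ : G → ℂ) k = (χ : G → ℂ) 1) := by ring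
  rw [e] at h3
  exact (iff_of_ind_sub hM h3).symm

/-- **Kernel criterion along a normal inclusion of Brauer pairs.** -/
theorem ker_iff_of_normalSubpair (hMod : IsPModular p M) {Q R : Subgroup G}
    {f : Set (IrrCharacter C(Q))} {g : Set (IrrCharacter C(R))}
    (hn : IsNormalSubpair p M Q f R g) {K : Subgroup G}
    (hRK : R ≤ Subgroup.normalizer (K : Set G)) (hCK : C(Q) ≤ Subgroup.normalizer (K : Set G))
    (hK : ¬ p ∣ Nat.card K) {ξ : IrrCharacter C(Q)} (hξ : ξ ∈ f) {ξ' : IrrCharacter C(R)}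
    (hξ' : ξ' ∈ g) :
    (∀ c : C(Q), (c : G) ∈ K → (ξ : C(Q) → ℂ) c = (ξ : C(Q) → ℂ) 1)
      ↔ (∀ c : C(R), (c : G) ∈ K → (ξ' : C(R) → ℂ) c = (ξ' : C(R) → ℂ) 1) := by
  have hM : M.IsPrime := hMod.2.1.isPrime
  have hQR : Q ≤ R := hn.2.2.1
  have hCRQ : C(R) ≤ C(Q) := Subgroup.centralizer_le (by exact_mod_cast hQR)
  have h1 := normalSubpair_brauerOmega_congr hMod hn (β := unif K) (unif_memLocalRing hMod hK)
    (conjInv_unif hRK) (conjInv_unif hCK) hξ hξ'
  have h2 := brauerOmega_unif_congr hMod hn.1.1 (hQR.trans hRK) hCK hK ξ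
  have h3 := brauerOmega_unif_congr hMod hn.2.1.1 hRK (hCRQ.trans hCK) hK ξ'
  have h4 := memLocalIdeal_add hM (memLocalIdeal_sub hM h1 h3) h2
  have e : brauerOmega R (unif K) (ξ' : C(R) → ℂ) - brauerOmega Q (unif K) (ξ : C(Q) → ℂ)
      - (brauerOmega R (unif K) (ξ' : C(R) → ℂ)
        - ind (∀ c : C(R), (c : G) ∈ K → (ξ' : C(R) → ℂ) c = (ξ' : C(R) → ℂ) 1))
      + (brauerOmega Q (unif K) (ξ : C(Q) → ℂ)
        - ind (∀ c : C(Q), (c : G) ∈ K → (ξ : C(Q) → ℂ) c = (ξ : C(Q) → ℂ) 1))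
      = ind (∀ c : C(R), (c : G) ∈ K → (ξ' : C(R) → ℂ) c = (ξ' : C(R) → ℂ) 1)
        - ind (∀ c : C(Q), (c : G) ∈ K → (ξ : C(Q) → ℂ) c = (ξ : C(Q) → ℂ) 1) := by ring
  rw [e] at h4
  exact (iff_of_ind_sub hM h4).symm

end

end Cfsg.Agent.Lib.Helper81
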