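import Mathlib
import Cfsg.Prelude.Def_BrauerPairs
import Cfsg.Agent.Lib.Helper81.BPPairOps
import Cfsg.Agent.Lib.Helper81.KerPair
import Cfsg.Agent.Lib.Helper81.KerCore

set_option autoImplicit false
set_option linter.unusedSectionVars false
set_option linter.style.haveILetI false

/-!
# The kernel property of Brauer pairs along inclusions and conjugation
-/

namespace Cfsg.Agent.Lib.Helper81

open Cfsg
open Cfsg.Agent.Lib.Helper21 Cfsg.Agent.Lib.Helper82 Cfsg.Agent.Lib.Helper83

universe u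
variable {G : Type u} [Group G] [Fintype G]

local notation "C(" R ")" => Subgroup.centralizer ((R : Subgroup G) : Set G)
local notation "N(" R ")" => Subgroup.normalizer ((R : Subgroup G) : Set G)

variable {p : ℕ} [Fact p.Prime] {M : Ideal AlgInt} {π : Set ℕ}

/-- `O_π'(C_G(Q))` lies in the kernel of every member of `f` -/
def KerP (π : Set ℕ) (Q : Subgroup G) (f : Set (IrrCharacter C(Q))) : Prop :=
  ∀ ξ ∈ f, ∀ c : C(Q), (c : G) ∈ piCoreOf {q | q ∉ π} C(Q) →
    (ξ : C(Q) → ℂ) c = (ξ : C(Q) → ℂ) 1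

/-- `O_π'(C_G(Q))` contains every `π'`-element of `C_G(Q)` -/
def HallP (π : Set ℕ) (Q : Subgroup G) : Prop :=
  ∀ x ∈ C(Q), (∀ q : ℕ, q.Prime → q ∣ orderOf x → q ∉ π) → x ∈ piCoreOf {q | q ∉ π} C(Q)

theorem normalizer_le_normalizer_pco_centralizer (π' : Set ℕ) (Q : Subgroup G) :
    N(Q) ≤ Subgroup.normalizer (piCoreOf π' C(Q) : Set G) :=
  (normalizer_le_normalizer_centralizer Q).trans (normalizer_le_normalizer_pco π' C(Q))

/-- one step down -/
theorem kerP_down_step (hMod : IsPModular p M) (hpπ : p ∈ π) {Q R : Subgroup G}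
    {f : Set (IrrCharacter C(Q))} {g : Set (IrrCharacter C(R))}
    (hn : IsNormalSubpair p M Q f R g) (h : KerP π R g) : KerP π Q f := by
  have hM : M.IsPrime := hMod.2.1.isPrime
  have hp : p.Prime := Fact.out
  have hQR : Q ≤ R := hn.2.2.1
  have hCRQ : C(R) ≤ C(Q) := Subgroup.centralizer_le (by exact_mod_cast hQR)
  obtain ⟨ξ', hξ'⟩ := IsPBlock.nonempty hM hn.2.1.2
  intro ξ hξ
  refine (ker_iff_of_normalSubpair hMod hn
    (hn.2.2.2.1.trans (normalizer_le_normalizer_pco_centralizer _ Q))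
    (le_normalizer_pco _ C(Q)) (not_dvd_card_pco hp hpπ C(Q)) hξ hξ').2 ?_
  intro c hc
  exact h ξ' hξ' c (inf_le_pco _ hCRQ ⟨hc, c.2⟩)

/-- the kernel property passes to smaller Brauer pairs -/
theorem kerP_down (hMod : IsPModular p M) (hpπ : p ∈ π) {a b : BrauerPairIdx G}
    (h : Chain p M a b) (hb : KerP π b.1 b.2) : KerP π a.1 a.2 := by
  induction h with
  | refl => exact hb
  | tail _ hbc ih => exact ih (kerP_down_step hMod hpπ hbc hb)

/-- one step up, in the presence of normal Hall `π'`-subgroups -/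
theorem kerP_up_step (hMod : IsPModular p M) (hpπ : p ∈ π) {Q R : Subgroup G}
    {f : Set (IrrCharacter C(Q))} {g : Set (IrrCharacter C(R))}
    (hn : IsNormalSubpair p M Q f R g) (h : KerP π Q f) (hH : HallP π Q) :
    KerP π R g ∧ HallP π R := by
  have hM : M.IsPrime := hMod.2.1.isPrime
  have hp : p.Prime := Fact.out
  have hQR : Q ≤ R := hn.2.2.1
  have hCRQ : C(R) ≤ C(Q) := Subgroup.centralizer_le (by exact_mod_cast hQR)
  obtain ⟨ξ, hξ⟩ := IsPBlock.nonempty hM hn.1.2
  constructor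
  · intro ξ' hξ' c hc
    have h1 := (ker_iff_of_normalSubpair hMod hn
      (hn.2.2.2.1.trans (normalizer_le_normalizer_pco_centralizer _ Q))
      (le_normalizer_pco _ C(Q)) (not_dvd_card_pco hp hpπ C(Q)) hξ hξ').1 (h ξ hξ)
    apply h1 c
    apply hH _ (hCRQ c.2)
    intro q hq hdvd
    exact prime_mem_of_dvd_orderOf_pco _ C(R) hc q hq hdvd
  · intro x hx hxπ
    exact inf_le_pco _ hCRQ ⟨hH x (hCRQ hx) hxπ, hx⟩

/-- the kernel property passes to larger Brauer pairs in the presence of normal Hall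
`π'`-subgroups -/
theorem kerP_up (hMod : IsPModular p M) (hpπ : p ∈ π) {a b : BrauerPairIdx G}
    (h : Chain p M a b) (ha : KerP π a.1 a.2) (hH : HallP π a.1) :
    KerP π b.1 b.2 ∧ HallP π b.1 := by
  induction h with
  | refl => exact ⟨ha, hH⟩
  | tail _ hbc ih => exact kerP_up_step hMod hpπ hbc ih.1 ih.2

theorem centralizer_cj (x : G) (Q : Subgroup G) : C(cj x Q) = cj x C(Q) := by
  ext c
  rw [mem_centralizer_cj_iff, mem_cj]
  constructor
  · intro h
    exact ⟨x⁻¹ * c * x, h, by group⟩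
  · rintro ⟨u, hu, rfl⟩
    have : x⁻¹ * (x * u * x⁻¹) * x = u := by group
    rw [this]; exact hu

/-- conjugation of the kernel property -/
theorem kerP_conj (x : G) {Q : Subgroup G} {f : Set (IrrCharacter C(Q))} (h : KerP π Q f) :
    KerP π (cj x Q) (conjBlock Q x f) := by
  intro ξ' hξ' c' hc'
  have h1 : irrComp (centConj x Q).symm ξ' ∈ f := (mem_conjBlock_iff x Q f ξ').1 hξ'
  have h2 : ((centConj x Q c' : C(Q)) : G) ∈ piCoreOf {q | q ∉ π} C(Q) := by
    have h3 := map_conj_pco_le {q | q ∉ π} x⁻¹ C(cj x Q)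
    have h4 : (C(cj x Q)).map (MulAut.conj x⁻¹).toMonoidHom = C(Q) := by
      rw [centralizer_cj]
      ext v
      constructor
      · rintro ⟨w, ⟨u, hu, rfl⟩, rfl⟩
        simp only [MulEquiv.coe_toMonoidHom, MulAut.conj_apply]
        have : x⁻¹ * (x * u * x⁻¹) * x⁻¹⁻¹ = u := by group
        rw [this]; exact hu
      · intro hv
        refine ⟨x * v * x⁻¹, ⟨v, hv, by simp⟩, ?_⟩
        simp only [MulEquiv.coe_toMonoidHom, MulAut.conj_apply]
        group
    rw [h4] at h3
    apply h3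
    refine ⟨(c' : G), hc', ?_⟩
    simp only [MulEquiv.coe_toMonoidHom, MulAut.conj_apply, centConj_apply, inv_inv]
  have h5 := h _ h1 (centConj x Q c') h2
  rw [irrComp_apply, irrComp_apply, MulEquiv.symm_apply_apply, map_one] at h5
  exact h5

/-- conjugation of the Hall property -/
theorem hallP_conj (x : G) {Q : Subgroup G} (h : HallP π Q) : HallP π (cj x Q) := by
  intro y hy hyπ
  have h1 : x⁻¹ * y * x ∈ C(Q) := mem_centralizer_cj_iff.1 hy
  have hord : orderOf (x⁻¹ * y * x) = orderOf y := by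
    have := orderOf_injective (MulAut.conj x⁻¹).toMonoidHom (MulAut.conj x⁻¹).injective y
    simpa using this
  have h2 := h _ h1 (by rw [hord]; exact hyπ)
  have h3 := map_conj_pco_le {q | q ∉ π} x C(Q)
  rw [centralizer_cj]
  apply h3
  refine ⟨x⁻¹ * y * x, h2, ?_⟩
  simp only [MulEquiv.coe_toMonoidHom, MulAut.conj_apply]
  group

end Cfsg.Agent.Lib.Helper81
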