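import Mathlib
import Cfsg.Prelude.Def_BrauerPairs
import Cfsg.Agent.Lib.Helper81.BPPairOps
import Cfsg.Agent.S4659

set_option autoImplicit false
set_option linter.unusedSectionVars false
set_option linter.style.haveILetI false

/-!
# Maximal Brauer pairs at a prescribed defect group
-/

namespace Cfsg.Agent.Lib.Helper81

open Cfsg
open Cfsg.Agent.Lib.Helper21 Cfsg.Agent.Lib.Helper82 Cfsg.Agent.Lib.Helper83

universe u
variable {G : Type u} [Group G] [Fintype G]

local notation "C(" R ")" => Subgroup.centralizer ((R : Subgroup G) : Set G)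
local notation "N(" R ")" => Subgroup.normalizer ((R : Subgroup G) : Set G)

variable {p : ℕ} [Fact p.Prime] {M : Ideal AlgInt}

/-- the centralizer of the trivial subgroup is the whole group -/
def botEquiv : C((⊥ : Subgroup G)) ≃* G where
  toFun c := c
  invFun g := ⟨g, by
    rw [Subgroup.mem_centralizer_iff]
    intro h hh
    have : h = 1 := Subgroup.mem_bot.1 hh
    rw [this, one_mul, mul_one]⟩
  left_inv _ := rfl
  right_inv _ := rfl
  map_mul' _ _ := rfl

/-- the trivial Brauer pair of a block -/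
theorem exists_isBrauerPairOf_bot (hMod : IsPModular p M) {B : Set (IrrCharacter G)}
    (hB : IsPBlock M B) :
    ∃ f : Set (IrrCharacter C((⊥ : Subgroup G))), IsBrauerPairOf p M B ⊥ f := by
  classical
  haveI : Finite (IrrCharacter G) := irr_finite
  haveI : Fintype (IrrCharacter G) := Fintype.ofFinite _
  haveI : Fintype C((⊥ : Subgroup G)) := Fintype.ofFinite _
  haveI : Finite (IrrCharacter C((⊥ : Subgroup G))) := irr_finite
  haveI : Fintype (IrrCharacter C((⊥ : Subgroup G))) := Fintype.ofFinite _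
  have hM : M.IsPrime := hMod.2.1.isPrime
  obtain ⟨χ₀, rfl⟩ := id hB
  refine ⟨blockOf M (irrComp botEquiv χ₀ : C((⊥ : Subgroup G)) → ℂ),
    ⟨IsPGroup.of_bot, ⟨_, rfl⟩⟩, hB, fun ξ hξ => ?_⟩
  have h1 : irrComp botEquiv.symm ξ ∈ blockOf M (χ₀ : G → ℂ) :=
    (mem_blockOf_irrComp_iff M botEquiv χ₀ ξ).1 hξ
  have h2 : brauerOmega (⊥ : Subgroup G) (blockCoeff (blockOf M (χ₀ : G → ℂ)))
      (ξ : C((⊥ : Subgroup G)) → ℂ)
      = omega (blockCoeff (blockOf M (χ₀ : G → ℂ)))
        (irrComp (botEquiv (G := G)).symm ξ : G → ℂ) := by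
    rw [brauerOmega_eq_omega_rs, ← omega_comp (botEquiv (G := G))]
    congr 1
  rw [h2, omega_blockCoeff, if_pos h1, sub_self]
  exact memLocalIdeal_zero hM

/-- a Brauer pair of `B` on a defect group of `B` is maximal -/
theorem isMaximal_of_defect (hMod : IsPModular p M) {B : Set (IrrCharacter G)} {D : Subgroup G}
    {e : Set (IrrCharacter C(D))} (hBe : IsBrauerPairOf p M B D e)
    (hD : IsDefectGroup p M B D) : IsMaximalBrauerPair p M B D e := by
  refine ⟨hBe, fun R g hRg hle => ?_⟩
  obtain ⟨P₂, e₂, hmax, hle2⟩ := exists_maximal_above hMod hRg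
  have hP₂ : IsDefectGroup p M B P₂ := Cfsg.Agent.S4659.result p M hMod B P₂ e₂ hmax
  have hDR : D ≤ R := subpairLE_le hMod hle hBe.1.2
  have hRP : R ≤ P₂ := subpairLE_le hMod hle2 hRg.1.2
  have hcard : Nat.card P₂ = Nat.card D := by
    rw [Cfsg.Agent.Lib.Helper22.IsDefectGroup.card_eq hMod hBe.2.1 hP₂,
      Cfsg.Agent.Lib.Helper22.IsDefectGroup.card_eq hMod hBe.2.1 hD]
  have hDP : D = P₂ := Subgroup.eq_of_le_of_card_ge (hDR.trans hRP) hcard.le
  exact le_antisymm (hDP ▸ hRP) hDR

/-- a block with some Brauer pair has a maximal Brauer pair on any prescribed defect group -/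
theorem exists_maximal_at_defect (hMod : IsPModular p M) {B : Set (IrrCharacter G)}
    {D : Subgroup G} (hD : IsDefectGroup p M B D) {Q : Subgroup G}
    {f : Set (IrrCharacter C(Q))} (hQf : IsBrauerPairOf p M B Q f) :
    ∃ e : Set (IrrCharacter C(D)), IsMaximalBrauerPair p M B D e := by
  obtain ⟨P₂, e₂, hmax, -⟩ := exists_maximal_above hMod hQf
  have hP₂ : IsDefectGroup p M B P₂ := Cfsg.Agent.S4659.result p M hMod B P₂ e₂ hmax
  obtain ⟨t, ht⟩ := Cfsg.Agent.Lib.Helper22.IsDefectGroup.exists_conj hMod hQf.2.1 hP₂ hD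
  subst ht
  exact ⟨conjBlock P₂ t e₂, isMaximal_of_defect hMod (isBrauerPairOf_conj t hmax.1) hD⟩

/-- every block has a maximal Brauer pair on any prescribed defect group -/
theorem exists_maximal_at_defect' (hMod : IsPModular p M) {B : Set (IrrCharacter G)}
    (hB : IsPBlock M B) {D : Subgroup G} (hD : IsDefectGroup p M B D) :
    ∃ e : Set (IrrCharacter C(D)), IsMaximalBrauerPair p M B D e := by
  obtain ⟨f, hf⟩ := exists_isBrauerPairOf_bot hMod hB
  exact exists_maximal_at_defect hMod hD hf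

end Cfsg.Agent.Lib.Helper81
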