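import Mathlib
import Cfsg.Prelude.Def_BrauerPairs
import Cfsg.Agent.Lib.Helper81.KerChain
import Cfsg.Agent.Lib.Helper81.KerMax

set_option autoImplicit false
set_option linter.unusedSectionVars false
set_option linter.style.haveILetI false

/-!
# The kernel of the Brauer correspondent and the kernel property of a maximal Brauer pair
-/

namespace Cfsg.Agent.Lib.Helper81

open Cfsg
open Cfsg.Agent.Lib.Helper21 Cfsg.Agent.Lib.Helper82 Cfsg.Agent.Lib.Helper83

universe u
variable {G : Type u} [Group G] [Fintype G]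

local notation "C(" R ")" => Subgroup.centralizer ((R : Subgroup G) : Set G)
local notation "N(" R ")" => Subgroup.normalizer ((R : Subgroup G) : Set G)

variable {p : ℕ} [Fact p.Prime] {M : Ideal AlgInt} {π : Set ℕ}

/-- extension by zero of the averaging idempotent of a subgroup of a subgroup -/
theorem ext0_unif (H : Subgroup G) (K₁ : Subgroup H) :
    ext0 H (unif K₁) = unif (K₁.map H.subtype) := by
  funext g
  have hcard : Nat.card (K₁.map H.subtype) = Nat.card K₁ :=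
    Subgroup.card_map_of_injective H.subtype_injective
  by_cases hg : g ∈ H
  · rw [ext0_of_mem H _ hg]
    by_cases hk : (⟨g, hg⟩ : H) ∈ K₁
    · rw [unif_of_mem hk, unif_of_mem (⟨_, hk, rfl⟩ : g ∈ K₁.map H.subtype), hcard]
    · rw [unif_of_not_mem hk, unif_of_not_mem]
      rintro ⟨y, hy, hyg⟩
      apply hk
      have : y = ⟨g, hg⟩ := Subtype.ext hyg
      rwa [← this]
  · rw [ext0_of_not_mem H _ hg, unif_of_not_mem]
    rintro ⟨y, -, hyg⟩
    apply hg
    rw [← hyg]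
    exact y.2

/-- **The kernel of the Brauer correspondent.** For a Brauer pair `(D, e)` of `B` on a defect
group `D` and the Brauer correspondent `B₁` of `B` in `N_G(D)`: `O_π'(N_G(D))` lies in the kernel
of `B₁` iff `O_π'(C_G(D))` lies in the kernel of `e`. -/
theorem kerP_iff_correspondent (hMod : IsPModular p M) (hpπ : p ∈ π)
    {B : Set (IrrCharacter G)} {D : Subgroup G} {e : Set (IrrCharacter C(D))}
    (hBe : IsBrauerPairOf p M B D e) (hD : IsDefectGroup p M B D)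
    {B₁ : Set (IrrCharacter N(D))} (hB₁ : IsInducedBlock M N(D) B₁ B)
    (hB₁D : IsDefectGroup p M B₁ (D.subgroupOf N(D))) :
    KerP π D e ↔ ∀ n : N(D), n ∈ piCore {q | q ∉ π} ↥N(D) → n ∈ blockKer B₁ := by
  classical
  haveI : Finite (IrrCharacter G) := irr_finite
  haveI : Fintype (IrrCharacter G) := Fintype.ofFinite _
  haveI : Fintype N(D) := Fintype.ofFinite _
  haveI : Finite (IrrCharacter N(D)) := irr_finite
  haveI : Fintype (IrrCharacter N(D)) := Fintype.ofFinite _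
  haveI : Fintype C(D) := Fintype.ofFinite _
  haveI : Finite (IrrCharacter C(D)) := irr_finite
  haveI : Fintype (IrrCharacter C(D)) := Fintype.ofFinite _
  have hM : M.IsPrime := hMod.2.1.isPrime
  have hp : p.Prime := Fact.out
  obtain ⟨⟨hDp, he⟩, hB, hbr⟩ := id hBe
  have hDN : D ≤ N(D) := Subgroup.le_normalizer
  have hCN : C(D) ≤ N(D) := Subgroup.centralizer_le_normalizer _
  -- the orbit sum block is the Brauer correspondent
  obtain ⟨b', hb', hb'c⟩ := exists_block_orbitSum hMod hDp hDN hCN le_rfl he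
  have hb'ind : IsInducedBlock M N(D) b' B := isInducedBlock_orbitBlock hMod hBe hb' hb'c
  have hb'D : IsDefectGroup p M b' (D.subgroupOf N(D)) :=
    isDefectGroup_orbitBlock_of_defect hMod hBe hD hb' hb'c
  have hb'eq : b' = B₁ := by
    obtain ⟨b, -, huniq⟩ := (Cfsg.Agent.S0920.result p M hMod D hDp).2 B hB hD
    rw [huniq b' ⟨hb', hb'D, hb'ind⟩, huniq B₁ ⟨hB₁.1, hB₁D, hB₁⟩]
  subst hb'eq
  -- the two subgroups
  set K₁ : Subgroup N(D) := piCore {q | q ∉ π} ↥N(D) with hK₁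
  set K : Subgroup G := piCoreOf {q | q ∉ π} N(D) with hK
  have hKdef : K = K₁.map (N(D)).subtype := rfl
  have hKp : ¬ p ∣ Nat.card K := not_dvd_card_pco hp hpπ N(D)
  have hK₁p : ¬ p ∣ Nat.card K₁ := by
    have : Nat.card K = Nat.card K₁ := Subgroup.card_map_of_injective (N(D)).subtype_injective
    rwa [← this]
  have hK₁n : K₁.Normal := piCore_normal _ _
  have hF : IsRClass M (unif K₁) := ⟨isClassFunction_unif K₁, unif_memLocalRing hMod hK₁p⟩
  have hNK : N(D) ≤ Subgroup.normalizer (K : Set G) := le_normalizer_pco _ N(D)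
  -- comparison of the two kernels
  have key : ∀ ξ ∈ e, ∀ ψ ∈ b',
      (∀ c : C(D), (c : G) ∈ K → (ξ : C(D) → ℂ) c = (ξ : C(D) → ℂ) 1)
        ↔ (∀ k ∈ K₁, (ψ : N(D) → ℂ) k = (ψ : N(D) → ℂ) 1) := by
    intro ξ hξ ψ hψ
    have h1 := omega_orbitBlock_congr hMod hDp hDN hCN le_rfl he hb' hb'c hψ hξ hF
    rw [ext0_unif, ← hKdef, ← brauerOmega_eq_omega_rs, omega_unif] at h1
    have h2 := brauerOmega_unif_congr hMod hDp (hDN.trans hNK) (hCN.trans hNK) hKp ξ
    have h3 := memLocalIdeal_sub hM h1 h2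
    have e1 : brauerOmega D (unif K) (ξ : C(D) → ℂ)
          - ind (∀ k ∈ K₁, (ψ : N(D) → ℂ) k = (ψ : N(D) → ℂ) 1)
        - (brauerOmega D (unif K) (ξ : C(D) → ℂ)
          - ind (∀ c : C(D), (c : G) ∈ K → (ξ : C(D) → ℂ) c = (ξ : C(D) → ℂ) 1))
        = ind (∀ c : C(D), (c : G) ∈ K → (ξ : C(D) → ℂ) c = (ξ : C(D) → ℂ) 1)
          - ind (∀ k ∈ K₁, (ψ : N(D) → ℂ) k = (ψ : N(D) → ℂ) 1) := by ring
    rw [e1] at h3
    exact iff_of_ind_sub hM h3
  -- `O_π'(N_G(D)) ∩ C_G(D) = O_π'(C_G(D))`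
  have hmem : ∀ c : C(D), (c : G) ∈ K ↔ (c : G) ∈ piCoreOf {q | q ∉ π} C(D) := by
    intro c
    constructor
    · intro hc
      exact inf_le_pco _ hCN ⟨hc, c.2⟩
    · intro hc
      exact le_pco _ ((pco_le _ C(D)).trans hCN) (normalizer_le_normalizer_pco_centralizer _ D)
        (pco_pi _ C(D)) hc
  obtain ⟨ξ₀, hξ₀⟩ := IsPBlock.nonempty hM he
  obtain ⟨ψ₀, hψ₀⟩ := IsPBlock.nonempty hM hb'
  constructor
  · intro h n hn ψ hψ
    exact (key ξ₀ hξ₀ ψ hψ).1 (fun c hc => h ξ₀ hξ₀ c ((hmem c).1 hc)) n hn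
  · intro h ξ hξ c hc
    exact (key ξ hξ ψ₀ hψ₀).2 (fun k hk => h k hk ψ₀ hψ₀) c ((hmem c).2 hc)

end Cfsg.Agent.Lib.Helper81
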