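import Mathlib
import Cfsg.Prelude.Def_BrauerPairs
import Cfsg.Agent.Lib.Helper81.KerCorr

set_option autoImplicit false
set_option linter.unusedSectionVars false
set_option linter.style.haveILetI false

/-!
# Descent of the kernel condition on the Brauer correspondent to local blocks
-/

namespace Cfsg.Agent.Lib.Helper81

open Cfsg
open Cfsg.Agent.Lib.Helper21 Cfsg.Agent.Lib.Helper82 Cfsg.Agent.Lib.Helper83

universe u
variable {G : Type u} [Group G] [Fintype G]

local notation "C(" R ")" => Subgroup.centralizer ((R : Subgroup G) : Set G)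
local notation "N(" R ")" => Subgroup.normalizer ((R : Subgroup G) : Set G)

variable {p : ℕ} [Fact p.Prime] {M : Ideal AlgInt} {π : Set ℕ}

/-- the kernel property on the index type -/
def KerPI (π : Set ℕ) (a : BrauerPairIdx G) : Prop := KerP π a.1 a.2

theorem kerP_of_conj (hM : M.IsPrime) (x : G) {Q : Subgroup G} {f : Set (IrrCharacter C(Q))}
    (hf : IsPBlock M f) (h : KerP π (cj x Q) (conjBlock Q x f)) : KerP π Q f := by
  have h1 : KerPI π (conjPair x⁻¹ (conjPair x (⟨Q, f⟩ : BrauerPairIdx G))) := kerP_conj x⁻¹ h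
  rw [conjPair_inv_conjPair hM x ⟨Q, f⟩ hf] at h1
  exact h1

/-- a Brauer pair of a block `B₀` of a subgroup `L` inducing `B`, on a subgroup whose centralizer
lies in `L`, is a Brauer pair of `B` -/
theorem isBrauerPairOf_up_of_induced (hMod : IsPModular p M) (L : Subgroup G)
    {B : Set (IrrCharacter G)} {B₀ : Set (IrrCharacter L)} (hB₀ : IsInducedBlock M L B₀ B)
    {D₀ : Subgroup L} {e₁ : Set (IrrCharacter (Subgroup.centralizer ((D₀ : Subgroup L) : Set L)))}
    (hBe₁ : IsBrauerPairOf p M B₀ D₀ e₁) (hc : C(upS L D₀) ≤ L) :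
    IsBrauerPairOf p M B (upS L D₀) (upBlock L D₀ e₁) := by
  classical
  haveI : Finite (IrrCharacter G) := irr_finite
  haveI : Fintype (IrrCharacter G) := Fintype.ofFinite _
  haveI : Fintype L := Fintype.ofFinite _
  haveI : Finite (IrrCharacter L) := irr_finite
  haveI : Fintype (IrrCharacter L) := Fintype.ofFinite _
  have hM : M.IsPrime := hMod.2.1.isPrime
  have hB : IsPBlock M B := hB₀.2.1
  obtain ⟨χ₀, hχ₀⟩ := id hB
  have hBR : IsRClass M (blockCoeff B) := hχ₀ ▸ blockCoeff_isRClass hM χ₀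
  have hFR : IsRClass M (fun l : L => blockCoeff B (l : G)) :=
    ⟨fun g t => hBR.1 (g : G) (t : G), fun g => hBR.2 g⟩
  obtain ⟨ψ, hψ⟩ := IsPBlock.nonempty hM hB₀.1
  obtain ⟨χ, hχ⟩ := IsPBlock.nonempty hM hB
  refine ⟨⟨hBe₁.1.1.map _, isPBlock_upBlock L D₀ hc hBe₁.1.2⟩, hB, fun ξ hξ => ?_⟩
  rw [← brauerOmega_up L D₀ hc (blockCoeff B) ξ]
  have hξ₁ : irrComp (centUp L D₀ hc) ξ ∈ e₁ := (mem_upBlock_iff L D₀ hc e₁ ξ).1 hξ
  have h1 := pair_omega hMod hBe₁ hFR hξ₁ hψ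
  have h2 := omega_restrict_sub_omega L hM hB₀ hψ hχ hBR
  rw [omega_blockCoeff, if_pos hχ] at h2
  have := memLocalIdeal_add hM h1 h2
  convert this using 1
  ring

/-- **Descent.** If `O_π'(N_G(D))` lies in the kernel of the Brauer correspondent of `B`, then
`O_π'(G₀)` lies in the kernel of every block `B₀` of a subgroup `G₀` that induces `B` and has a
defect group whose centralizer lies in `G₀`. -/
theorem kernel_descends (hMod : IsPModular p M) (hpπ : p ∈ π) {B : Set (IrrCharacter G)}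
    {D : Subgroup G} (hBD : IsDefectGroup p M B D)
    {B₁ : Set (IrrCharacter N(D))} (hB₁ : IsInducedBlock M N(D) B₁ B)
    (hB₁D : IsDefectGroup p M B₁ (D.subgroupOf N(D)))
    (hker : ∀ n : N(D), n ∈ piCore {q | q ∉ π} ↥N(D) → n ∈ blockKer B₁)
    (L : Subgroup G) {B₀ : Set (IrrCharacter L)} (hB₀ : IsInducedBlock M L B₀ B)
    {D₀ : Subgroup L} (hD₀ : IsDefectGroup p M B₀ D₀) (hc : C(upS L D₀) ≤ L) :
    ∀ x : L, x ∈ piCore {q | q ∉ π} ↥L → x ∈ blockKer B₀ := by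
  classical
  haveI : Fintype L := Fintype.ofFinite _
  have hM : M.IsPrime := hMod.2.1.isPrime
  have hp : p.Prime := Fact.out
  -- a maximal pair of `B₀` on `D₀`
  obtain ⟨e₁, hmax₁⟩ := exists_maximal_at_defect' hMod hB₀.1 hD₀
  have hBe₁ : IsBrauerPairOf p M B₀ D₀ e₁ := hmax₁.1
  have hup := isBrauerPairOf_up_of_induced hMod L hB₀ hBe₁ hc
  -- a maximal pair of `B` on `D`
  obtain ⟨e, hmax⟩ := exists_maximal_at_defect hMod hBD hup
  have hKerP : KerP π D e := (kerP_iff_correspondent hMod hpπ hmax.1 hBD hB₁ hB₁D).2 hker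
  obtain ⟨x, hx⟩ := exists_conj_subpairLE hMod hmax hup
  have h1 : KerP π (cj x (upS L D₀)) (conjBlock (upS L D₀) x (upBlock L D₀ e₁)) :=
    kerP_down hMod hpπ (a := ⟨cj x (upS L D₀), conjBlock (upS L D₀) x (upBlock L D₀ e₁)⟩)
      (b := ⟨D, e⟩) hx hKerP
  have h2 : KerP π (upS L D₀) (upBlock L D₀ e₁) := kerP_of_conj hM x hup.1.2 h1
  -- the kernel criterion in `L`
  obtain ⟨ξ₁, hξ₁⟩ := IsPBlock.nonempty hM hBe₁.1.2
  have hK₀p : ¬ p ∣ Nat.card (piCore {q | q ∉ π} ↥L) := by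
    intro hdvd
    exact Cfsg.Agent.Lib.Helper39.isPiGroup_piCore {q | q ∉ π} p hp hdvd hpπ
  intro x₀ hx₀ ψ hψ
  haveI : (piCore {q | q ∉ π} ↥L).Normal := piCore_normal _ _
  refine (ker_iff_of_pair hMod hBe₁ (piCore {q | q ∉ π} ↥L) hK₀p hξ₁ hψ).2 ?_ x₀ hx₀
  intro c hcK
  have hξ : irrComp (centUp L D₀ hc).symm ξ₁ ∈ upBlock L D₀ e₁ := mem_upBlock_of_mem L D₀ hc hξ₁
  have hmem : ((centUp L D₀ hc c : C(upS L D₀)) : G) ∈ piCoreOf {q | q ∉ π} C(upS L D₀) := by
    apply inf_le_pco _ hc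
    refine ⟨?_, (centUp L D₀ hc c).2⟩
    exact coe_mem_pco.2 hcK
  have h3 := h2 _ hξ (centUp L D₀ hc c) hmem
  rw [irrComp_apply, irrComp_apply, MulEquiv.symm_apply_apply, map_one] at h3
  exact h3

end Cfsg.Agent.Lib.Helper81
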