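import Mathlib
import Cfsg.Prelude.Def_BrauerPairs
import Cfsg.Agent.Lib.Helper81.KerDescend
import Cfsg.Agent.Lib.Helper81.BlockPart
import Cfsg.Agent.Lib.Helper22.BlockPartSum
import Cfsg.Agent.S0923

set_option autoImplicit false
set_option linter.unusedSectionVars false
set_option linter.style.haveILetI false

/-!
# Characters of a block whose Brauer correspondent has `O_π'` in its kernel are constant on
`π'`-cosets of `p`-elements
-/

namespace Cfsg.Agent.Lib.Helper81

open Cfsg
open Cfsg.Agent.Lib.Helper21 Cfsg.Agent.Lib.Helper82 Cfsg.Agent.Lib.Helper83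

universe u
variable {G : Type u} [Group G] [Fintype G]

local notation "C(" R ")" => Subgroup.centralizer ((R : Subgroup G) : Set G)
local notation "N(" R ")" => Subgroup.normalizer ((R : Subgroup G) : Set G)

variable {p : ℕ} [Fact p.Prime] {M : Ideal AlgInt} {π : Set ℕ}

/-- a normal `p`-subgroup lies in every Sylow `p`-subgroup -/
theorem normal_pGroup_le_sylow' {X : Type*} [Group X] {N : Subgroup X} [N.Normal]
    (hN : IsPGroup p N) (S : Sylow p X) : N ≤ (S : Subgroup X) := by
  have h1 : IsPGroup p ((S : Subgroup X) ⊔ N : Subgroup X) :=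
    IsPGroup.to_sup_of_normal_right S.2 hN
  have h2 := S.is_maximal' h1 le_sup_left
  rw [← h2]
  exact le_sup_right

/-- a central `p`-element lies in every defect group of every block -/
theorem central_pElement_mem_defectGroup {X : Type u} [Group X] [Finite X]
    {b : Set (IrrCharacter X)} {D₀ : Subgroup X} (hD₀ : IsDefectGroup p M b D₀) {y : X}
    (hyc : ∀ g : X, g * y = y * g) (hy : ∃ k : ℕ, orderOf y = p ^ k) : y ∈ D₀ := by
  obtain ⟨g, -, P, rfl⟩ := hD₀
  have hyg : y ∈ Subgroup.centralizer ({g} : Set X) := by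
    rw [Subgroup.mem_centralizer_singleton_iff]
    exact (hyc g).symm
  let y' : Subgroup.centralizer ({g} : Set X) := ⟨y, hyg⟩
  have hnorm : (Subgroup.zpowers y').Normal := by
    constructor
    rintro n ⟨k, rfl⟩ t
    have hcomm : t * y' = y' * t := Subtype.ext (hyc (t : X))
    refine ⟨k, ?_⟩
    show y' ^ k = t * y' ^ k * t⁻¹
    have : Commute t (y' ^ k) := (Commute.zpow_right hcomm k)
    rw [this.eq]; group
  have hpg : IsPGroup p (Subgroup.zpowers y') := by
    obtain ⟨k, hk⟩ := hy
    apply IsPGroup.of_card (n := k)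
    rw [Nat.card_zpowers, Subgroup.orderOf_mk, hk]
  haveI := hnorm
  have hle := normal_pGroup_le_sylow' hpg P
  exact ⟨y', hle (Subgroup.mem_zpowers y'), rfl⟩

/-- **Constancy on cosets.** -/
theorem char_const_on_coset (hMod : IsPModular p M) (hpπ : p ∈ π) {B : Set (IrrCharacter G)}
    (hB : IsPBlock M B) {D : Subgroup G} (hBD : IsDefectGroup p M B D)
    {B₁ : Set (IrrCharacter N(D))} (hB₁ : IsInducedBlock M N(D) B₁ B)
    (hB₁D : IsDefectGroup p M B₁ (D.subgroupOf N(D)))
    (hker : ∀ n : N(D), n ∈ piCore {q | q ∉ π} ↥N(D) → n ∈ blockKer B₁)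
    (y : G) (hy : ∃ k : ℕ, orderOf y = p ^ k)
    (hC : ∀ x : ↥(Subgroup.centralizer ({y} : Set G)),
      (∀ q : ℕ, q.Prime → q ∣ orderOf x → q ∉ π) →
        x ∈ piCore {q | q ∉ π} ↥(Subgroup.centralizer ({y} : Set G))) :
    ∀ χ ∈ B, ∀ x : G, x ∈ Subgroup.centralizer ({y} : Set G) →
      (∀ q : ℕ, q.Prime → q ∣ orderOf x → q ∉ π) →
        (χ : G → ℂ) (y * x) = (χ : G → ℂ) y := by
  classical
  intro χ hχ x hx hxπ
  have hM : M.IsPrime := hMod.2.1.isPrime
  have hp : p.Prime := Fact.out
  set L : Subgroup G := Subgroup.centralizer ({y} : Set G) with hL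
  haveI : Fintype L := Fintype.ofFinite _
  haveI : Finite (IrrCharacter L) := irr_finite
  haveI : Fintype (IrrCharacter L) := Fintype.ofFinite _
  haveI : Fintype (Set (IrrCharacter L)) := Fintype.ofFinite _
  let x' : L := ⟨x, hx⟩
  have hx'π : ∀ q : ℕ, q.Prime → q ∣ orderOf x' → q ∉ π := by
    intro q hq hdvd
    rw [Subgroup.orderOf_mk] at hdvd
    exact hxπ q hq hdvd
  have hx'K : x' ∈ piCore {q | q ∉ π} ↥L := hC x' hx'π
  have hx'reg : ¬ p ∣ orderOf x' := fun h => hx'π p hp h hpπ
  have hyL : y ∈ L := by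
    rw [hL, Subgroup.mem_centralizer_singleton_iff]
  have hcf : IsClassFunction L (fun c : L => (χ : G → ℂ) (y * (c : G))) := by
    intro c t
    have htx : (t : G) * y = y * (t : G) := Subgroup.mem_centralizer_singleton_iff.1 t.2
    have h1 := isClassFunction_irr χ (y * (c : G)) (t : G)
    have e : (t : G) * (y * (c : G)) * (t : G)⁻¹ = y * ((t : G) * (c : G) * (t : G)⁻¹) := by
      rw [← mul_assoc, htx]; group
    rw [e] at h1
    exact h1
  have h1 := Cfsg.Agent.Lib.Helper22.eq_sum_blockPart hM hcf x'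
  have h2 := Cfsg.Agent.Lib.Helper22.eq_sum_blockPart hM hcf 1
  have h3 : (∑ b : Set (IrrCharacter L), if IsPBlock M b then
        blockPart b (fun c : L => (χ : G → ℂ) (y * (c : G))) x' else 0)
      = ∑ b : Set (IrrCharacter L), if IsPBlock M b then
        blockPart b (fun c : L => (χ : G → ℂ) (y * (c : G))) 1 else 0 := by
    apply Finset.sum_congr rfl
    intro b _
    split_ifs with hb
    · by_cases hind : IsInducedBlock M L b B
      · obtain ⟨D₀, hD₀⟩ := exists_isDefectGroup' hMod hb
        have hyD : (⟨y, hyL⟩ : L) ∈ D₀ := by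
          apply central_pElement_mem_defectGroup hD₀
          · intro g
            apply Subtype.ext
            exact Subgroup.mem_centralizer_singleton_iff.1 g.2
          · obtain ⟨k, hk⟩ := hy
            exact ⟨k, by rw [Subgroup.orderOf_mk, hk]⟩
        have hc : C(upS L D₀) ≤ L := by
          intro c hc
          rw [hL, Subgroup.mem_centralizer_singleton_iff]
          exact ((Subgroup.mem_centralizer_iff.1 hc) y ⟨⟨y, hyL⟩, hyD, rfl⟩).symm
        have hk := kernel_descends hMod hpπ hBD hB₁ hB₁D hker L hind hD₀ hc x' hx'K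
        rw [blockPart_apply, blockPart_apply]
        apply finsum_mem_congr rfl
        intro ψ hψ
        rw [hk ψ hψ]
      · rw [Cfsg.Agent.S0923.result p M hMod y hy B hB χ hχ b hb hind x' hx'reg,
          Cfsg.Agent.S0923.result p M hMod y hy B hB χ hχ b hb hind 1 (by
            rw [orderOf_one]; exact hp.one_lt.ne' ∘ Nat.dvd_one.1)]
    · rfl
  have hgoal : (fun c : L => (χ : G → ℂ) (y * (c : G))) x'
      = (fun c : L => (χ : G → ℂ) (y * (c : G))) 1 := (h1.trans h3).trans h2.symm
  have e1 : (fun c : L => (χ : G → ℂ) (y * (c : G))) x' = (χ : G → ℂ) (y * x) := rfl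
  have e2 : (fun c : L => (χ : G → ℂ) (y * (c : G))) 1 = (χ : G → ℂ) y := by
    show (χ : G → ℂ) (y * ((1 : L) : G)) = _
    rw [Subgroup.coe_one, mul_one]
  rw [← e1, ← e2]
  exact hgoal

end Cfsg.Agent.Lib.Helper81
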