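import Mathlib
import Cfsg.Prelude.Def_BrauerPairs
import Cfsg.Agent.Lib.Helper81.BPSub
import Cfsg.Agent.Lib.Helper22.Covering
import Cfsg.Agent.Lib.Helper85.Clifford
import Cfsg.Agent.Lib.Helper22.BlockRegular
import Cfsg.Agent.Lib.Helper82.Fong
import Cfsg.Agent.S0965
import Cfsg.Agent.S0966

set_option autoImplicit false
set_option linter.unusedSectionVars false
set_option linter.style.haveILetI false

/-!
# Blocks of a group and of a normal subgroup of `p`-power index: abstract part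

`K` a finite group, `H` a normal subgroup.  Clifford form of central characters on functions
supported on `H`, behaviour of "lying over" under automorphisms, and the consequences of the
covering theory (`S0965`, `S0966`) that are used for nilpotent blocks.
-/

namespace Cfsg.Agent.Lib.Helper81

open Cfsg
open Cfsg.Agent.Lib.Helper21 Cfsg.Agent.Lib.Helper82 Cfsg.Agent.Lib.Helper83

universe u

section Abstract

variable {K : Type u} [Group K] [Fintype K] {H : Subgroup K} [Fintype H]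

/-- `ω` of an invariant function against a conjugate character -/
theorem omega_conjFun_of_inv (hH : H.Normal) (a : H → ℂ)
    (hinv : ∀ (k : K) (h : H), a ⟨k * h * k⁻¹, hH.conj_mem h h.2 k⟩ = a h) (θ : H → ℂ) (g : K) :
    omega a (Cfsg.Agent.Lib.Helper85.conjFun hH θ g) = omega a θ := by
  haveI := hH
  have h0 : a = fun h : H => a ((MulAut.conjNormal g : MulAut H) h) := by
    funext h
    exact (hinv g h).symm
  rw [Cfsg.Agent.Lib.Helper85.conjFun_eq_comp]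
  conv_lhs => rw [h0]
  exact omega_comp (MulAut.conjNormal g : MulAut H) a θ

/-- **Clifford form of the central character**: for `ξ ∈ Irr(K)` over `θ ∈ Irr(H)` and a
`K`-invariant function `a` on `H`, `ω_ξ(a) = ω_θ(a)`. -/
theorem omega_ext0_eq_of_over (hH : H.Normal) {ξ : K → ℂ} (hξ : IsIrrCharacter K ξ) {θ : H → ℂ}
    (hθ : IsIrrCharacter H θ) (hc : classInner (fun h : H => ξ h) θ ≠ 0) (a : H → ℂ)
    (hinv : ∀ (k : K) (h : H), a ⟨k * h * k⁻¹, hH.conj_mem h h.2 k⟩ = a h) :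
    omega (ext0 H a) ξ = omega a θ := by
  classical
  haveI : Finite (IrrCharacter H) := irr_finite
  haveI : Fintype (IrrCharacter H) := Fintype.ofFinite _
  have hA : IsCharacter H (fun h : H => ξ h) := isCharacter_restrict H (isCharacter_of_irr hξ)
  have h1 : ξ 1 ≠ 0 := IsIrrCharacter.apply_one_ne_zero hξ
  rw [omega, div_eq_iff h1, sum_ext0_mul]
  have hdec := char_eq_sum_irrMult hA
  have e0 : ∃ m : IrrCharacter H → ℂ,
      (∀ φ, m φ = classInner (fun h : H => ξ h) (φ : H → ℂ)) ∧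
      ∀ n : H, ξ n = ∑ φ : IrrCharacter H, m φ * (φ : H → ℂ) n := by
    refine ⟨fun φ => (irrMult (fun h : H => ξ h) φ : ℂ), fun φ => irrMult_cast hA φ, ?_⟩
    intro n
    have h := congrFun hdec n
    rw [Finset.sum_apply] at h
    exact h
  obtain ⟨m, hm, e1⟩ := e0
  have hL : ∑ n : H, a n * ξ n =
      ∑ n : H, ∑ φ : IrrCharacter H, a n * (m φ * (φ : H → ℂ) n) :=
    Finset.sum_congr rfl (fun n _ => by rw [e1 n, Finset.mul_sum])
  rw [hL, Finset.sum_comm]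
  have hterm : ∀ φ : IrrCharacter H, ∑ n : H, a n * (m φ * (φ : H → ℂ) n) =
      omega a θ * (m φ * (φ : H → ℂ) 1) := by
    intro φ
    by_cases h0 : m φ = 0
    · simp [h0]
    · have hφc : classInner (fun h : H => ξ h) (φ : H → ℂ) ≠ 0 := by rw [← hm]; exact h0
      have hex : ∃ g : K, (φ : H → ℂ) = Cfsg.Agent.Lib.Helper85.conjFun hH θ g := by
        by_contra hno
        push Not at hno
        exact hφc (Cfsg.Agent.Lib.Helper85.clifford_inner_eq_zero hH hξ hθ hc φ.2 hno)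
      obtain ⟨g, hg⟩ := hex
      have h1φ : (φ : H → ℂ) 1 ≠ 0 := IsIrrCharacter.apply_one_ne_zero φ.2
      have hω : omega a (φ : H → ℂ) = omega a θ := by
        rw [hg]
        exact omega_conjFun_of_inv hH a hinv θ g
      have : ∑ n : H, a n * (m φ * (φ : H → ℂ) n) =
          m φ * ∑ n : H, a n * (φ : H → ℂ) n := by
        rw [Finset.mul_sum]
        exact Finset.sum_congr rfl fun n _ => by ring
      rw [this, ← hω, omega, div_mul_eq_mul_div, mul_div_assoc]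
      field_simp
  simp_rw [hterm]
  rw [← Finset.mul_sum]
  congr 1
  have := e1 1
  exact this.symm

/-- the restriction to `H` of an automorphism of `K` preserving `H` -/
def resAut (σ : K ≃* K) (hσ : ∀ k, σ k ∈ H ↔ k ∈ H) : H ≃* H where
  toFun h := ⟨σ (h : K), (hσ h).2 h.2⟩
  invFun h := ⟨σ.symm (h : K),
    (hσ (σ.symm (h : K))).1 (by rw [MulEquiv.apply_symm_apply]; exact h.2)⟩
  left_inv h := Subtype.ext (σ.symm_apply_apply (h : K))
  right_inv h := Subtype.ext (σ.apply_symm_apply (h : K))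
  map_mul' a b := Subtype.ext (map_mul σ (a : K) (b : K))

@[simp] theorem resAut_coe (σ : K ≃* K) (hσ : ∀ k, σ k ∈ H ↔ k ∈ H) (h : H) :
    ((resAut σ hσ h : H) : K) = σ (h : K) := rfl

/-- lying over is preserved by automorphisms -/
theorem classInner_comp_resAut (σ : K ≃* K) (hσ : ∀ k, σ k ∈ H ↔ k ∈ H) (ξ : K → ℂ)
    (θ : H → ℂ) :
    classInner (fun h : H => ξ (σ (h : K))) (fun h : H => θ (resAut σ hσ h))
      = classInner (fun h : H => ξ h) θ := by
  rw [classInner_def, classInner_def]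
  congr 1
  exact Equiv.sum_comp (resAut σ hσ).toEquiv (fun h : H => ξ h * (starRingEnd ℂ) (θ h))

theorem over_irrComp (σ : K ≃* K) (hσ : ∀ k, σ k ∈ H ↔ k ∈ H) (ξ : IrrCharacter K)
    (θ : IrrCharacter H) (hc : classInner (fun h : H => (ξ : K → ℂ) h) (θ : H → ℂ) ≠ 0) :
    classInner (fun h : H => (irrComp σ ξ : K → ℂ) h) (irrComp (resAut σ hσ) θ : H → ℂ) ≠ 0 := by
  have := classInner_comp_resAut σ hσ (ξ : K → ℂ) (θ : H → ℂ)
  rw [← this] at hc
  exact hc

/-- **D1.** If `H` has `p`-power index, the block `e` of `K` covers the block `f₁` of `H`, and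
the automorphism `σ` of `K` maps `H` and `f₁` to themselves, then `σ` maps `e` to itself. -/
theorem irrComp_mem_of_cover {p : ℕ} [Fact p.Prime] {M : Ideal AlgInt} (hMod : IsPModular p M)
    [hH : H.Normal] (hidx : ∃ k : ℕ, H.index = p ^ k)
    {e : Set (IrrCharacter K)} (he : IsPBlock M e) {f₁ : Set (IrrCharacter H)}
    (hf₁ : IsPBlock M f₁)
    (hcov : ∃ χ ∈ e, ∃ θ ∈ f₁, classInner (fun h : H => (χ : K → ℂ) h) (θ : H → ℂ) ≠ 0)
    (σ : K ≃* K) (hσ : ∀ k, σ k ∈ H ↔ k ∈ H)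
    (hst : ∀ θ ∈ f₁, irrComp (resAut σ hσ) θ ∈ f₁) {ξ : IrrCharacter K} (hξ : ξ ∈ e) :
    irrComp σ ξ ∈ e := by
  have hM : M.IsPrime := hMod.2.1.isPrime
  obtain ⟨ξ₀, hξ₀, θ₀, hθ₀, hc⟩ := hcov
  have hc' := over_irrComp σ hσ ξ₀ θ₀ hc
  have huniq := Cfsg.Agent.S0966.result p M hMod H hidx f₁ hf₁
  have h1 : blockOf M (irrComp σ ξ₀ : K → ℂ) = e := by
    apply huniq.unique
    · exact ⟨⟨_, rfl⟩, irrComp σ ξ₀, mem_blockOf_self hM _,
        irrComp (resAut σ hσ) θ₀, hst θ₀ hθ₀, hc'⟩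
    · exact ⟨he, ξ₀, hξ₀, θ₀, hθ₀, hc⟩
  rw [← h1, mem_blockOf_iff]
  have hs : SameBlock M (ξ₀ : K → ℂ) (ξ : K → ℂ) := IsPBlock.sameBlock hM he hξ₀ hξ
  exact sameBlock_comp M σ hs

/-- **D2.** If the block `e` of `K` contains characters over `θ₁` and over `θ₂`, then `θ₂` lies
in a `K`-conjugate of the block of `θ₁`. -/
theorem mem_conjSet_of_cover {p : ℕ} [Fact p.Prime] {M : Ideal AlgInt} (hMod : IsPModular p M)
    [hH : H.Normal] {e : Set (IrrCharacter K)} (he : IsPBlock M e)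
    {ξ₁ ξ₂ : IrrCharacter K} (hξ₁ : ξ₁ ∈ e) (hξ₂ : ξ₂ ∈ e) {θ₁ θ₂ : IrrCharacter H}
    (h₁ : classInner (fun h : H => (ξ₁ : K → ℂ) h) (θ₁ : H → ℂ) ≠ 0)
    (h₂ : classInner (fun h : H => (ξ₂ : K → ℂ) h) (θ₂ : H → ℂ) ≠ 0) :
    θ₂ ∈ Cfsg.Agent.Lib.Helper22.conjSet hH (blockOf M (θ₁ : H → ℂ)) := by
  have hM : M.IsPrime := hMod.2.1.isPrime
  have hb₁ : IsPBlock M (blockOf M (θ₁ : H → ℂ)) := ⟨θ₁, rfl⟩
  have hb₂ : IsPBlock M (blockOf M (θ₂ : H → ℂ)) := ⟨θ₂, rfl⟩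
  have hθ₁ : θ₁ ∈ blockOf M (θ₁ : H → ℂ) := mem_blockOf_self hM _
  have hθ₂ : θ₂ ∈ blockOf M (θ₂ : H → ℂ) := mem_blockOf_self hM _
  have p1 := (Cfsg.Agent.S0965.result p M hMod H e he _ hb₁).1 ⟨ξ₁, hξ₁, θ₁, hθ₁, h₁⟩
  have p2 := (Cfsg.Agent.S0965.result p M hMod H e he _ hb₂).1 ⟨ξ₂, hξ₂, θ₂, hθ₂, h₂⟩
  apply Cfsg.Agent.Lib.Helper22.mem_conjSet_of_iCC hH hMod.2.1 hb₁ hθ₁ θ₂
  intro n
  have a1 := p1 ξ₁ hξ₁ θ₁ hθ₁ n
  have a2 := p2 ξ₁ hξ₁ θ₂ hθ₂ n
  have := memLocalIdeal_sub hM a1 a2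
  convert this using 1
  ring

end Abstract

end Cfsg.Agent.Lib.Helper81
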