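import Mathlib
import Cfsg.Prelude.Def_BrauerPairs
import Cfsg.Agent.Lib.Helper81.NilpExtA
import Cfsg.Agent.Lib.Helper81.BPStab
import Cfsg.Agent.Lib.Helper81.BPCentric

set_option autoImplicit false
set_option linter.unusedSectionVars false
set_option linter.style.haveILetI false

/-!
# Brauer pairs of a normal subgroup `N` of `p`-power index and of `G`: concrete part
-/

namespace Cfsg.Agent.Lib.Helper81

open Cfsg
open Cfsg.Agent.Lib.Helper21 Cfsg.Agent.Lib.Helper82 Cfsg.Agent.Lib.Helper83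

universe u

section Stab

variable {G : Type u} [Group G] [Fintype G] (K : Subgroup G) [Fintype K] [Fintype (IrrCharacter K)]

theorem irrComp_symm_mem_of_stab {e : Set (IrrCharacter K)} {u : G}
    (hst : StabilizesBlock K e u) (hu : u ∈ Subgroup.normalizer (K : Set G))
    {χ : IrrCharacter K} (hχ : χ ∈ e) : irrComp (conjEquivN K u hu).symm χ ∈ e := by
  obtain ⟨χ', hχ', hconj⟩ := hst.2 χ hχ
  have : χ' = irrComp (conjEquivN K u hu).symm χ := by
    apply Subtype.ext
    funext k'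
    rw [irrComp_apply]
    apply hconj ((conjEquivN K u hu).symm k') k'
    rw [conjEquivN_symm_apply]
    group
  rw [← this]
  exact hχ'

theorem stabilizesBlock_of_irrComp_symm_mem {M : Ideal AlgInt} (hM : M.IsPrime)
    {e : Set (IrrCharacter K)} (he : IsPBlock M e) {u : G}
    (hu : u ∈ Subgroup.normalizer (K : Set G)) {χ : IrrCharacter K} (hχ : χ ∈ e)
    (h : irrComp (conjEquivN K u hu).symm χ ∈ e) : StabilizesBlock K e u := by
  refine ⟨hu, fun χ₂ hχ₂ => ⟨irrComp (conjEquivN K u hu).symm χ₂, ?_, ?_⟩⟩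
  · have hs : SameBlock M (χ : K → ℂ) (χ₂ : K → ℂ) := IsPBlock.sameBlock hM he hχ hχ₂
    have hs' := sameBlock_comp M (conjEquivN K u hu).symm hs
    rw [IsPBlock.eq_blockOf hM he h, mem_blockOf_iff]
    exact hs'
  · intro k k' hk
    rw [irrComp_apply]
    have : (conjEquivN K u hu).symm k' = k := by
      apply Subtype.ext
      rw [conjEquivN_symm_apply, hk]
      group
    rw [this]

theorem stabilizesBlock_inv {M : Ideal AlgInt} (hM : M.IsPrime)
    {e : Set (IrrCharacter K)} (he : IsPBlock M e) {u : G}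
    (hst : StabilizesBlock K e u) : StabilizesBlock K e u⁻¹ := by
  classical
  rw [stabilizesBlock_iff K hM he] at hst ⊢
  refine ⟨Subgroup.inv_mem _ hst.1, fun g => ?_⟩
  have := hst.2 (u⁻¹ * g * u⁻¹⁻¹)
  rw [← this]
  congr 1
  group

theorem irrComp_mem_of_stab {M : Ideal AlgInt} (hM : M.IsPrime)
    {e : Set (IrrCharacter K)} (he : IsPBlock M e) {u : G}
    (hst : StabilizesBlock K e u) (hu : u ∈ Subgroup.normalizer (K : Set G))
    {χ : IrrCharacter K} (hχ : χ ∈ e) : irrComp (conjEquivN K u hu) χ ∈ e := by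
  have h1 := irrComp_symm_mem_of_stab K (stabilizesBlock_inv K hM he hst)
    (Subgroup.inv_mem _ hu) hχ
  have : irrComp (conjEquivN K u⁻¹ (Subgroup.inv_mem _ hu)).symm χ = irrComp (conjEquivN K u hu) χ := by
    apply Subtype.ext
    funext k
    rw [irrComp_apply, irrComp_apply]
    refine congrArg _ (Subtype.ext ?_)
    rw [conjEquivN_symm_apply, conjEquivN_apply]
    group
  rw [← this]
  exact h1

theorem stabilizesBlock_of_irrComp_mem {M : Ideal AlgInt} (hM : M.IsPrime)
    {e : Set (IrrCharacter K)} (he : IsPBlock M e) {u : G}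
    (hu : u ∈ Subgroup.normalizer (K : Set G)) {χ : IrrCharacter K} (hχ : χ ∈ e)
    (h : irrComp (conjEquivN K u hu) χ ∈ e) : StabilizesBlock K e u := by
  have hui : u⁻¹ ∈ Subgroup.normalizer (K : Set G) := Subgroup.inv_mem _ hu
  have : irrComp (conjEquivN K u⁻¹ hui).symm χ = irrComp (conjEquivN K u hu) χ := by
    apply Subtype.ext
    funext k
    rw [irrComp_apply, irrComp_apply]
    refine congrArg _ (Subtype.ext ?_)
    rw [conjEquivN_symm_apply, conjEquivN_apply]
    group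
  rw [← this] at h
  have h1 := stabilizesBlock_of_irrComp_symm_mem K hM he hui hχ h
  have h2 := stabilizesBlock_inv K hM he h1
  rwa [inv_inv] at h2

end Stab

section Concrete

variable {G : Type u} [Group G] [Fintype G] (N : Subgroup G) [hN : N.Normal]

local notation "C(" R ")" => Subgroup.centralizer ((R : Subgroup G) : Set G)
local notation "N(" R ")" => Subgroup.normalizer ((R : Subgroup G) : Set G)
local notation "CL(" R ")" => Subgroup.centralizer ((R : Subgroup N) : Set N)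

/-- `C_N(R)` as a subgroup of `C_G(R)` -/
abbrev cnH (R : Subgroup N) : Subgroup C(upS N R) := N.subgroupOf C(upS N R)

/-- the centralizer of `R` in `N` is `C_G(R) ∩ N` -/
def centN (R : Subgroup N) : CL(R) ≃* cnH N R where
  toFun c := ⟨centIncl N R c, by rw [Subgroup.mem_subgroupOf]; exact (c : N).2⟩
  invFun h := ⟨⟨((h : C(upS N R)) : G), Subgroup.mem_subgroupOf.1 h.2⟩,
    (coe_mem_centralizer_upS N).1 (h : C(upS N R)).2⟩
  left_inv _ := rfl
  right_inv _ := rfl
  map_mul' _ _ := rfl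

@[simp] theorem centN_coe (R : Subgroup N) (c : CL(R)) :
    (((centN N R c : cnH N R) : C(upS N R)) : G) = ((c : N) : G) := rfl

@[simp] theorem centN_symm_coe (R : Subgroup N) (h : cnH N R) :
    ((((centN N R).symm h : CL(R)) : N) : G) = ((h : C(upS N R)) : G) := rfl

theorem index_cnH {p : ℕ} [hp : Fact p.Prime] (hidx : ∃ k : ℕ, N.index = p ^ k) (R : Subgroup N) :
    ∃ k : ℕ, (cnH N R).index = p ^ k := by
  obtain ⟨k, hk⟩ := hidx
  have h1 : (cnH N R).index ∣ N.index := Subgroup.relIndex_dvd_index_of_normal N C(upS N R)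
  rw [hk] at h1
  obtain ⟨j, -, hj⟩ := (Nat.dvd_prime_pow hp.out).1 h1
  exact ⟨j, hj⟩

theorem mem_normalizer_of_coe {R : Subgroup N} {x : N} (hx : (x : G) ∈ N(upS N R)) :
    x ∈ Subgroup.normalizer (R : Set N) := by
  rw [Subgroup.mem_normalizer_iff] at hx ⊢
  intro h
  rw [← coe_mem_upS N, ← coe_mem_upS N (r := x * h * x⁻¹)]
  exact hx (h : G)

/-- **Lemma A.** The Brauer functional of `G` at `R` on a function supported on `N`, at a
character of `C_G(R)`, is the Brauer functional of `N` at a constituent on `C_N(R)`. -/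
theorem brauerOmega_eq_of_over (R : Subgroup N) {γ : G → ℂ} (hγ : IsClassFunction G γ)
    (hγN : ∀ g, g ∉ N → γ g = 0) [Fintype (cnH N R)]
    (ξ : IrrCharacter C(upS N R)) (θ₁ : IrrCharacter (cnH N R))
    (hc : classInner (fun h : cnH N R => (ξ : C(upS N R) → ℂ) h) (θ₁ : cnH N R → ℂ) ≠ 0) :
    brauerOmega (upS N R) γ (ξ : C(upS N R) → ℂ)
      = brauerOmega R (fun n : N => γ n) (irrComp (centN N R) θ₁ : CL(R) → ℂ) := by
  classical
  haveI : Fintype N := Fintype.ofFinite _
  haveI : Fintype C(upS N R) := Fintype.ofFinite _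
  haveI : Fintype CL(R) := Fintype.ofFinite _
  haveI : Finite (IrrCharacter G) := irr_finite
  haveI : Fintype (IrrCharacter G) := Fintype.ofFinite _
  haveI : Finite (IrrCharacter N) := irr_finite
  haveI : Fintype (IrrCharacter N) := Fintype.ofFinite _
  rw [brauerOmega_eq_omega_rs, brauerOmega_eq_omega_rs]
  set a : cnH N R → ℂ := fun h => γ ((h : C(upS N R)) : G) with ha
  have h1 : rs C(upS N R) γ = ext0 (cnH N R) a := by
    funext k
    by_cases hk : k ∈ cnH N R
    · rw [ext0_of_mem _ _ hk]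
      rfl
    · rw [ext0_of_not_mem _ _ hk]
      exact hγN _ (fun h => hk (Subgroup.mem_subgroupOf.2 h))
  have hinv : ∀ (k : C(upS N R)) (h : cnH N R),
      a ⟨k * h * k⁻¹, (inferInstance : (cnH N R).Normal).conj_mem h h.2 k⟩ = a h := by
    intro k h
    exact hγ ((h : C(upS N R)) : G) (k : G)
  rw [h1, omega_ext0_eq_of_over inferInstance ξ.2 θ₁.2 hc a hinv]
  rw [← omega_comp (centN N R) a (θ₁ : cnH N R → ℂ)]
  rfl

/-- conjugation by an element of `N_G(R)` as an automorphism of `C_G(R)` -/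
def sig (R : Subgroup N) (a : G) (ha : a ∈ N(upS N R)) : C(upS N R) ≃* C(upS N R) :=
  conjEquivN C(upS N R) a (normalizer_le_normalizer_centralizer (upS N R) ha)

@[simp] theorem sig_coe (R : Subgroup N) (a : G) (ha : a ∈ N(upS N R)) (k : C(upS N R)) :
    ((sig N R a ha k : C(upS N R)) : G) = a * k * a⁻¹ := rfl

@[simp] theorem sig_symm_coe (R : Subgroup N) (a : G) (ha : a ∈ N(upS N R)) (k : C(upS N R)) :
    (((sig N R a ha).symm k : C(upS N R)) : G) = a⁻¹ * k * a := rfl

theorem sig_mem_iff (R : Subgroup N) (a : G) (ha : a ∈ N(upS N R)) (k : C(upS N R)) :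
    sig N R a ha k ∈ cnH N R ↔ k ∈ cnH N R := by
  rw [Subgroup.mem_subgroupOf, Subgroup.mem_subgroupOf, sig_coe]
  constructor
  · intro h
    have := hN.conj_mem _ h a⁻¹
    simpa [mul_assoc] using this
  · intro h
    exact hN.conj_mem _ h a

theorem sig_symm_mem_iff (R : Subgroup N) (a : G) (ha : a ∈ N(upS N R)) (k : C(upS N R)) :
    (sig N R a ha).symm k ∈ cnH N R ↔ k ∈ cnH N R := by
  rw [← sig_mem_iff N R a ha ((sig N R a ha).symm k), MulEquiv.apply_symm_apply]

/-- conjugation by an element of `N_G(R)` as an automorphism of `C_N(R)` -/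
def sigH (R : Subgroup N) (a : G) (ha : a ∈ N(upS N R)) : cnH N R ≃* cnH N R :=
  resAut (sig N R a ha) (sig_mem_iff N R a ha)

@[simp] theorem sigH_coe (R : Subgroup N) (a : G) (ha : a ∈ N(upS N R)) (h : cnH N R) :
    (((sigH N R a ha h : cnH N R) : C(upS N R)) : G) = a * ((h : C(upS N R)) : G) * a⁻¹ := rfl

theorem sigH_mul (R : Subgroup N) (a b : G) (ha : a ∈ N(upS N R)) (hb : b ∈ N(upS N R))
    (hab : a * b ∈ N(upS N R)) (h : cnH N R) :
    sigH N R (a * b) hab h = sigH N R a ha (sigH N R b hb h) := by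
  apply Subtype.ext
  apply Subtype.ext
  simp only [sigH_coe]
  group

/-- the stabilizer in `N_G(R)` of a set of characters of `C_N(R)` -/
def StabH (R : Subgroup N) (f₁ : Set (IrrCharacter (cnH N R))) (a : G) : Prop :=
  ∃ ha : a ∈ N(upS N R), ∀ θ ∈ f₁, irrComp (sigH N R a ha) θ ∈ f₁

theorem stabH_one (R : Subgroup N) (f₁ : Set (IrrCharacter (cnH N R))) : StabH N R f₁ 1 := by
  refine ⟨Subgroup.one_mem _, fun θ hθ => ?_⟩
  have : irrComp (sigH N R 1 (Subgroup.one_mem _)) θ = θ := by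
    apply Subtype.ext
    funext h
    rw [irrComp_apply]
    refine congrArg _ (Subtype.ext (Subtype.ext ?_))
    rw [sigH_coe]
    simp
  rw [this]
  exact hθ

theorem stabH_mul (R : Subgroup N) (f₁ : Set (IrrCharacter (cnH N R))) {a b : G}
    (ha : StabH N R f₁ a) (hb : StabH N R f₁ b) : StabH N R f₁ (a * b) := by
  obtain ⟨ha, hsa⟩ := ha
  obtain ⟨hb, hsb⟩ := hb
  refine ⟨Subgroup.mul_mem _ ha hb, fun θ hθ => ?_⟩
  have : irrComp (sigH N R (a * b) (Subgroup.mul_mem _ ha hb)) θ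
      = irrComp (sigH N R b hb) (irrComp (sigH N R a ha) θ) := by
    apply Subtype.ext
    funext h
    rw [irrComp_apply, irrComp_apply, irrComp_apply, sigH_mul N R a b ha hb]
  rw [this]
  exact hsb _ (hsa θ hθ)

theorem stabH_pow (R : Subgroup N) (f₁ : Set (IrrCharacter (cnH N R))) {a : G}
    (ha : StabH N R f₁ a) (n : ℕ) : StabH N R f₁ (a ^ n) := by
  induction n with
  | zero => rw [pow_zero]; exact stabH_one N R f₁
  | succ n ih => rw [pow_succ]; exact stabH_mul N R f₁ ih ha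

theorem stabH_of_mem {M : Ideal AlgInt} (hM : M.IsPrime) (R : Subgroup N)
    (θ₁ : IrrCharacter (cnH N R)) {a : G} (ha : a ∈ N(upS N R))
    (h : irrComp (sigH N R a ha) θ₁ ∈ blockOf M (θ₁ : cnH N R → ℂ)) :
    StabH N R (blockOf M (θ₁ : cnH N R → ℂ)) a := by
  refine ⟨ha, fun θ hθ => ?_⟩
  rw [mem_blockOf_iff] at hθ h ⊢
  have h2 := sameBlock_comp M (sigH N R a ha) hθ
  exact sameBlock_trans hM h h2

/-- conjugation in `N` and in `G` agree on `C_N(R)` -/
theorem centN_conjEquivN (R : Subgroup N) {x : N} (hx : x ∈ Subgroup.normalizer (R : Set N))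
    (c : CL(R)) :
    centN N R (conjEquivN CL(R) x (normalizer_le_normalizer_centralizer R hx) c)
      = sigH N R (x : G) (coe_mem_normalizer_upS N hx) (centN N R c) := rfl

theorem irrComp_centN_sigH (R : Subgroup N) {x : N} (hx : x ∈ Subgroup.normalizer (R : Set N))
    (θ₁ : IrrCharacter (cnH N R)) :
    irrComp (centN N R) (irrComp (sigH N R (x : G) (coe_mem_normalizer_upS N hx)) θ₁)
      = irrComp (conjEquivN CL(R) x (normalizer_le_normalizer_centralizer R hx))
          (irrComp (centN N R) θ₁) := by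
  apply Subtype.ext
  funext c
  rfl

/-- membership in the transported block -/
theorem mem_blockOf_centN_symm_iff (M : Ideal AlgInt) (R : Subgroup N) (θ₀ : IrrCharacter CL(R))
    (θ₁ : IrrCharacter (cnH N R)) :
    θ₁ ∈ blockOf M (irrComp (centN N R).symm θ₀ : cnH N R → ℂ)
      ↔ irrComp (centN N R) θ₁ ∈ blockOf M (θ₀ : CL(R) → ℂ) := by
  rw [mem_blockOf_irrComp_iff]
  rfl

/-- **(S-a)** an element of `N` stabilizing the block `f` of `C_N(R)` stabilizes the
transported block -/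
theorem stabH_of_stabilizesBlock {M : Ideal AlgInt} (hM : M.IsPrime) (R : Subgroup N)
    (θ₀ : IrrCharacter CL(R)) {x : N} (hx : x ∈ Subgroup.normalizer (R : Set N))
    (hst : StabilizesBlock CL(R) (blockOf M (θ₀ : CL(R) → ℂ)) x) :
    StabH N R (blockOf M (irrComp (centN N R).symm θ₀ : cnH N R → ℂ)) (x : G) := by
  classical
  haveI : Fintype N := Fintype.ofFinite _
  haveI : Fintype CL(R) := Fintype.ofFinite _
  haveI : Finite (IrrCharacter CL(R)) := irr_finite
  haveI : Fintype (IrrCharacter CL(R)) := Fintype.ofFinite _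
  refine ⟨coe_mem_normalizer_upS N hx, fun θ₁ hθ₁ => ?_⟩
  rw [mem_blockOf_centN_symm_iff] at hθ₁ ⊢
  rw [irrComp_centN_sigH N R hx]
  exact irrComp_mem_of_stab CL(R) hM ⟨θ₀, rfl⟩ hst _ hθ₁

/-- **(S-b)** an element of `N ∩ N_G(R)` stabilizing the transported block stabilizes `f` -/
theorem stabilizesBlock_of_stabH {M : Ideal AlgInt} (hM : M.IsPrime) (R : Subgroup N)
    (θ₀ : IrrCharacter CL(R)) {x : N}
    (hst : StabH N R (blockOf M (irrComp (centN N R).symm θ₀ : cnH N R → ℂ)) (x : G)) :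
    StabilizesBlock CL(R) (blockOf M (θ₀ : CL(R) → ℂ)) x := by
  classical
  haveI : Fintype N := Fintype.ofFinite _
  haveI : Fintype CL(R) := Fintype.ofFinite _
  haveI : Finite (IrrCharacter CL(R)) := irr_finite
  haveI : Fintype (IrrCharacter CL(R)) := Fintype.ofFinite _
  obtain ⟨ha, hs⟩ := hst
  have hx : x ∈ Subgroup.normalizer (R : Set N) := mem_normalizer_of_coe N ha
  have h0 : irrComp (centN N R).symm θ₀ ∈ blockOf M (irrComp (centN N R).symm θ₀ : cnH N R → ℂ) :=
    mem_blockOf_self hM _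
  have h1 := hs _ h0
  rw [mem_blockOf_centN_symm_iff] at h1
  have h2 := irrComp_centN_sigH N R hx (irrComp (centN N R).symm θ₀)
  rw [irrComp_irrComp_symm] at h2
  have h3 : irrComp (conjEquivN CL(R) x (normalizer_le_normalizer_centralizer R hx)) θ₀
      ∈ blockOf M (θ₀ : CL(R) → ℂ) := by
    rw [← h2]
    exact h1
  exact stabilizesBlock_of_irrComp_mem CL(R) hM ⟨θ₀, rfl⟩
    (normalizer_le_normalizer_centralizer R hx) (mem_blockOf_self hM θ₀) h3

/-- **(B1)** if `N` has `p`-power index, an element stabilizing the block `f₁` of `C_N(R)`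
stabilizes the block of `C_G(R)` covering `f₁` -/
theorem stabilizesBlock_cover {p : ℕ} [Fact p.Prime] {M : Ideal AlgInt} (hMod : IsPModular p M)
    (hidx : ∃ k : ℕ, N.index = p ^ k) (R : Subgroup N) [Fintype (cnH N R)]
    {e : Set (IrrCharacter C(upS N R))} (he : IsPBlock M e)
    {f₁ : Set (IrrCharacter (cnH N R))} (hf₁ : IsPBlock M f₁)
    (hcov : ∃ χ ∈ e, ∃ θ ∈ f₁,
      classInner (fun h : cnH N R => (χ : C(upS N R) → ℂ) h) (θ : cnH N R → ℂ) ≠ 0)
    {a : G} (hst : StabH N R f₁ a) : StabilizesBlock C(upS N R) e a := by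
  classical
  have hM : M.IsPrime := hMod.2.1.isPrime
  haveI : Fintype C(upS N R) := Fintype.ofFinite _
  haveI : Finite (IrrCharacter C(upS N R)) := irr_finite
  haveI : Fintype (IrrCharacter C(upS N R)) := Fintype.ofFinite _
  obtain ⟨ha, hs⟩ := hst
  obtain ⟨ξ, hξ⟩ := IsPBlock.nonempty hM he
  have h1 : irrComp (sig N R a ha) ξ ∈ e :=
    irrComp_mem_of_cover hMod (index_cnH N hidx R) he hf₁ hcov (sig N R a ha)
      (sig_mem_iff N R a ha) hs hξ
  exact stabilizesBlock_of_irrComp_mem C(upS N R) hM he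
    (normalizer_le_normalizer_centralizer (upS N R) ha) hξ h1

/-- **(B2)** an element of `N_G(R)` stabilizing the block `e` of `C_G(R)` stabilizes, up to an
element of `C_G(R)`, any block of `C_N(R)` covered by `e` -/
theorem exists_stabH_down {p : ℕ} [Fact p.Prime] {M : Ideal AlgInt} (hMod : IsPModular p M)
    (R : Subgroup N) [Fintype (cnH N R)]
    {e : Set (IrrCharacter C(upS N R))} (he : IsPBlock M e)
    {ξ : IrrCharacter C(upS N R)} (hξ : ξ ∈ e) {θ₁ : IrrCharacter (cnH N R)}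
    (hc : classInner (fun h : cnH N R => (ξ : C(upS N R) → ℂ) h) (θ₁ : cnH N R → ℂ) ≠ 0)
    {x : G} (hx : x ∈ N(upS N R)) (hst : StabilizesBlock C(upS N R) e x) :
    ∃ y ∈ C(upS N R), StabH N R (blockOf M (θ₁ : cnH N R → ℂ)) (x * y) := by
  classical
  have hM : M.IsPrime := hMod.2.1.isPrime
  haveI : Fintype C(upS N R) := Fintype.ofFinite _
  haveI : Finite (IrrCharacter C(upS N R)) := irr_finite
  haveI : Fintype (IrrCharacter C(upS N R)) := Fintype.ofFinite _
  have hxC := normalizer_le_normalizer_centralizer (upS N R) hx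
  have hξ₂ : irrComp (sig N R x hx) ξ ∈ e := irrComp_mem_of_stab C(upS N R) hM he hst hxC hξ
  have hc₂ := over_irrComp (sig N R x hx) (sig_mem_iff N R x hx) ξ θ₁ hc
  have hmem := mem_conjSet_of_cover hMod he hξ hξ₂ hc hc₂
  obtain ⟨g, θ, hθ, hθ₂⟩ := hmem
  have hy : ((g⁻¹ : C(upS N R)) : G) ∈ C(upS N R) := (g⁻¹).2
  have ha : x * ((g⁻¹ : C(upS N R)) : G) ∈ N(upS N R) :=
    Subgroup.mul_mem _ hx (Subgroup.centralizer_le_normalizer _ hy)
  refine ⟨((g⁻¹ : C(upS N R)) : G), hy, stabH_of_mem N hM R θ₁ ha ?_⟩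
  have : irrComp (sigH N R (x * ((g⁻¹ : C(upS N R)) : G)) ha) θ₁ = θ := by
    apply Subtype.ext
    funext m
    rw [irrComp_apply]
    have hn : g⁻¹ * (m : C(upS N R)) * g⁻¹⁻¹ ∈ cnH N R :=
      (inferInstance : (cnH N R).Normal).conj_mem m m.2 g⁻¹
    have h1 := congrFun (congrArg Subtype.val hθ₂) ⟨g⁻¹ * (m : C(upS N R)) * g⁻¹⁻¹, hn⟩
    rw [Cfsg.Agent.Lib.Helper22.irrConj_apply] at h1
    have e1 : (⟨g * ((⟨g⁻¹ * (m : C(upS N R)) * g⁻¹⁻¹, hn⟩ : cnH N R) : C(upS N R)) * g⁻¹,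
        (inferInstance : (cnH N R).Normal).conj_mem _ hn g⟩ : cnH N R) = m := by
      apply Subtype.ext
      show g * (g⁻¹ * (m : C(upS N R)) * g⁻¹⁻¹) * g⁻¹ = m
      group
    rw [e1] at h1
    rw [← h1]
    show (θ₁ : cnH N R → ℂ) _ = (θ₁ : cnH N R → ℂ) (sigH N R x hx _)
    refine congrArg _ (Subtype.ext (Subtype.ext ?_))
    rw [sigH_coe, sigH_coe]
    show x * ((g⁻¹ : C(upS N R)) : G) * _ * (x * ((g⁻¹ : C(upS N R)) : G))⁻¹
      = x * (((g⁻¹ : C(upS N R)) : G) * _ * ((g⁻¹⁻¹ : C(upS N R)) : G)) * x⁻¹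
    simp only [Subgroup.coe_inv, mul_inv_rev, inv_inv]
    group
  rw [this]
  exact hθ

theorem isClassFunction_res {γ : G → ℂ} (hγ : IsClassFunction G γ) :
    IsClassFunction N (fun n : N => γ n) := by
  intro x g
  exact hγ (x : G) (g : G)

/-- **(P1)** Brauer pairs of `N` give Brauer pairs of `G` on covering blocks -/
theorem brauerOmega_up_of_cover {M : Ideal AlgInt} (hM : M.IsPrime) (R : Subgroup N)
    [Fintype (cnH N R)] {γ : G → ℂ} (hγ : IsClassFunction G γ)
    (hγN : ∀ g, g ∉ N → γ g = 0) (hγR : ∀ g, MemLocalRing M (γ g))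
    {e : Set (IrrCharacter C(upS N R))} (he : IsPBlock M e)
    {ξ₀ : IrrCharacter C(upS N R)} (hξ₀ : ξ₀ ∈ e) {θ₁ : IrrCharacter (cnH N R)}
    (hc : classInner (fun h : cnH N R => (ξ₀ : C(upS N R) → ℂ) h) (θ₁ : cnH N R → ℂ) ≠ 0)
    (h1 : MemLocalIdeal M
      (brauerOmega R (fun n : N => γ n) (irrComp (centN N R) θ₁ : CL(R) → ℂ) - 1))
    {ξ : IrrCharacter C(upS N R)} (hξ : ξ ∈ e) :
    MemLocalIdeal M (brauerOmega (upS N R) γ (ξ : C(upS N R) → ℂ) - 1) := by
  have h2 := brauerOmega_sub_of_mem_block hM (upS N R) he hγR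
    (conjInv_of_isClassFunction _ hγ) hξ₀ hξ
  rw [← brauerOmega_eq_of_over N R hγ hγN ξ₀ θ₁ hc] at h1
  have := memLocalIdeal_add hM h2 h1
  convert this using 1
  ring

/-- **(P2)** Brauer pairs of `G` on subgroups of `N` give Brauer pairs of `N` on covered
blocks -/
theorem brauerOmega_down_of_cover {M : Ideal AlgInt} (hM : M.IsPrime) (R : Subgroup N)
    [Fintype (cnH N R)] {γ : G → ℂ} (hγ : IsClassFunction G γ)
    (hγN : ∀ g, g ∉ N → γ g = 0) (hγR : ∀ g, MemLocalRing M (γ g))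
    {ξ₀ : IrrCharacter C(upS N R)} {θ₁ : IrrCharacter (cnH N R)}
    (hc : classInner (fun h : cnH N R => (ξ₀ : C(upS N R) → ℂ) h) (θ₁ : cnH N R → ℂ) ≠ 0)
    (h1 : MemLocalIdeal M (brauerOmega (upS N R) γ (ξ₀ : C(upS N R) → ℂ) - 1))
    {θ : IrrCharacter CL(R)}
    (hθ : θ ∈ blockOf M (irrComp (centN N R) θ₁ : CL(R) → ℂ)) :
    MemLocalIdeal M (brauerOmega R (fun n : N => γ n) (θ : CL(R) → ℂ) - 1) := by
  haveI : Fintype N := Fintype.ofFinite _
  have h2 := brauerOmega_sub_of_mem_block hM R (⟨_, rfl⟩ : IsPBlock M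
    (blockOf M (irrComp (centN N R) θ₁ : CL(R) → ℂ))) (β := fun n : N => γ n)
    (fun n => hγR n) (conjInv_of_isClassFunction _ (isClassFunction_res N hγ))
    (mem_blockOf_self hM _) hθ
  rw [brauerOmega_eq_of_over N R hγ hγN ξ₀ θ₁ hc] at h1
  have := memLocalIdeal_add hM h2 h1
  convert this using 1
  ring

end Concrete

end Cfsg.Agent.Lib.Helper81
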