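import Mathlib
import Cfsg.Prelude.Def_BrauerPairs
import Cfsg.Agent.Lib.Helper81.NilpExtB
import Cfsg.Agent.Lib.Helper81.BPPairOps
import Cfsg.Agent.Lib.Helper81.BPSylow
import Cfsg.Agent.S4658

set_option autoImplicit false
set_option linter.unusedSectionVars false
set_option linter.style.haveILetI false

/-!
# Nilpotent blocks and normal subgroups of `p`-power index

`N ⊴ G` of `p`-power index, `c` a `G`-stable block of `N`, `B` the block of `G` with the same
idempotent: `c` is nilpotent iff `B` is.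
-/

namespace Cfsg.Agent.Lib.Helper81

open Cfsg
open Cfsg.Agent.Lib.Helper21 Cfsg.Agent.Lib.Helper82 Cfsg.Agent.Lib.Helper83

universe u
variable {G : Type u} [Group G] [Fintype G] {p : ℕ} [Fact p.Prime] {M : Ideal AlgInt}
  (N : Subgroup G) [hN : N.Normal]

local notation "C(" R ")" => Subgroup.centralizer ((R : Subgroup G) : Set G)
local notation "N(" R ")" => Subgroup.normalizer ((R : Subgroup G) : Set G)
local notation "CL(" R ")" => Subgroup.centralizer ((R : Subgroup N) : Set N)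

/-- **`B` nilpotent implies `c` nilpotent.** -/
theorem nilpotent_down (hMod : IsPModular p M) (hidx : ∃ k : ℕ, N.index = p ^ k)
    {c : Set (IrrCharacter N)} (hc : IsPBlock M c) {B : Set (IrrCharacter G)}
    (hB : IsPBlock M B)
    (hBc : ∀ g : G, blockCoeff B g = subgroupBlockCoeff N c g)
    (hnil : IsNilpotentBlock p M B) : IsNilpotentBlock p M c := by
  classical
  have hM : M.IsPrime := hMod.2.1.isPrime
  haveI : Finite (IrrCharacter G) := irr_finite
  haveI : Fintype (IrrCharacter G) := Fintype.ofFinite _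
  haveI : Fintype N := Fintype.ofFinite _
  haveI : Finite (IrrCharacter N) := irr_finite
  haveI : Fintype (IrrCharacter N) := Fintype.ofFinite _
  refine ⟨hc, fun R f hRf x hxN hxst hxreg => ?_⟩
  obtain ⟨⟨hRp, hf⟩, -, hω⟩ := hRf
  haveI : Fintype (cnH N R) := Fintype.ofFinite _
  haveI : Fintype CL(R) := Fintype.ofFinite _
  haveI : Finite (IrrCharacter CL(R)) := irr_finite
  haveI : Fintype (IrrCharacter CL(R)) := Fintype.ofFinite _
  obtain ⟨θ₀, rfl⟩ := hf
  obtain ⟨ξ₀, hξ₀⟩ := Cfsg.Agent.Lib.Helper22.exists_irr_over (cnH N R)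
    (irrComp (centN N R).symm θ₀)
  have hγ : IsClassFunction G (blockCoeff B) := blockCoeff_isClassFunction B
  have hγN : ∀ g, g ∉ N → blockCoeff B g = 0 := by
    intro g hg
    rw [hBc, sbc_of_not_mem N c hg]
  have hγR : ∀ g, MemLocalRing M (blockCoeff B g) := by
    obtain ⟨ψ₀, hψ₀⟩ := id hB
    intro g
    rw [hψ₀]
    exact memLocalRing_blockCoeff_blockOf hM ψ₀ g
  have hres : (fun n : N => blockCoeff B n) = blockCoeff c := by
    funext n
    rw [hBc, sbc_of_mem N c n.2]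
  have hpair : IsBrauerPairOf p M B (upS N R) (blockOf M (ξ₀ : C(upS N R) → ℂ)) := by
    refine ⟨⟨hRp.map _, ⟨ξ₀, rfl⟩⟩, hB, fun ξ hξ => ?_⟩
    refine brauerOmega_up_of_cover N hM R hγ hγN hγR ⟨ξ₀, rfl⟩ (mem_blockOf_self hM ξ₀) hξ₀ ?_ hξ
    rw [hres, irrComp_irrComp_symm]
    exact hω θ₀ (mem_blockOf_self hM θ₀)
  have hst := stabH_of_stabilizesBlock N hM R θ₀ hxN hxst
  have hstab : StabilizesBlock C(upS N R) (blockOf M (ξ₀ : C(upS N R) → ℂ)) (x : G) :=
    stabilizesBlock_cover N hMod hidx R ⟨ξ₀, rfl⟩ ⟨_, rfl⟩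
      ⟨ξ₀, mem_blockOf_self hM ξ₀, _, mem_blockOf_self hM _, hξ₀⟩ hst
  have hreg : IsPRegular p (x : G) := by
    unfold IsPRegular at hxreg ⊢
    rwa [Subgroup.orderOf_coe]
  have := hnil.2 (upS N R) _ hpair (x : G) (coe_mem_normalizer_upS N hxN) hstab hreg
  exact (coe_mem_centralizer_upS N).1 this

/-- powers of `x * y` with `y` in a subgroup normalized by `x` -/
theorem exists_pow_mul_eq {C : Subgroup G} {x y : G} (hx : x ∈ Subgroup.normalizer (C : Set G))
    (hy : y ∈ C) (n : ℕ) : ∃ c ∈ C, (x * y) ^ n = x ^ n * c := by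
  induction n with
  | zero => exact ⟨1, C.one_mem, by simp⟩
  | succ n ih =>
    obtain ⟨c, hc, h⟩ := ih
    refine ⟨x⁻¹ * c * x * y, C.mul_mem ?_ hy, ?_⟩
    · have := (Subgroup.mem_normalizer_iff.1 (Subgroup.inv_mem _ hx) c).1 hc
      simpa using this
    · rw [pow_succ, h, pow_succ]
      group

/-- a `p`-regular element normalizing the `p`-group `Q` and centralizing both a subgroup `R`
and `Q` modulo `R` centralizes `Q` -/
theorem mem_centralizer_of_stable {Q R : Subgroup G} (hQ : IsPGroup p Q) {x : G}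
    (hxreg : IsPRegular p x) (hxN : x ∈ N(Q)) (hxR : x ∈ C(R))
    (hcomm : ∀ q ∈ Q, x * q * x⁻¹ * q⁻¹ ∈ R) : x ∈ C(Q) := by
  rw [Subgroup.mem_centralizer_iff]
  intro q hq
  set r : G := x * q * x⁻¹ * q⁻¹ with hr
  have hrR : r ∈ R := hcomm q hq
  have hxr : x * r = r * x := ((Subgroup.mem_centralizer_iff.1 hxR) r hrR).symm
  have hpow : ∀ n : ℕ, x ^ n * q * (x ^ n)⁻¹ = r ^ n * q := by
    intro n
    induction n with
    | zero => simp
    | succ n ih =>
      have hc : Commute x r := hxr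
      have h1 : x ^ (n + 1) * q * (x ^ (n + 1))⁻¹ = x * (x ^ n * q * (x ^ n)⁻¹) * x⁻¹ := by
        rw [pow_succ']
        group
      rw [h1, ih]
      have h2 : x * (r ^ n * q) * x⁻¹ = r ^ n * (x * q * x⁻¹) := by
        have hc' : Commute x (r ^ n) := hc.pow_right n
        calc x * (r ^ n * q) * x⁻¹ = (x * r ^ n) * q * x⁻¹ := by group
          _ = (r ^ n * x) * q * x⁻¹ := by rw [hc'.eq]
          _ = r ^ n * (x * q * x⁻¹) := by group
      rw [h2]
      have h3 : x * q * x⁻¹ = r * q := by rw [hr]; group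
      rw [h3, pow_succ]
      group
  have h1 := hpow (orderOf x)
  rw [pow_orderOf_eq_one] at h1
  have h2 : r ^ orderOf x = 1 := by
    have : r ^ orderOf x * q = 1 * q := by rw [← h1]; group
    exact mul_right_cancel this
  have hrQ : r ∈ Q :=
    Q.mul_mem ((Subgroup.mem_normalizer_iff.1 hxN q).1 hq) (Q.inv_mem hq)
  obtain ⟨k, hk⟩ := hQ ⟨r, hrQ⟩
  have hk' : r ^ (p ^ k) = 1 := by
    have := congrArg Subtype.val hk
    simpa using this
  have hcop : Nat.Coprime (orderOf x) (p ^ k) :=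
    Nat.Coprime.pow_right k
      (Nat.Coprime.symm ((Nat.Prime.coprime_iff_not_dvd (Fact.out : p.Prime)).2 hxreg))
  have hr1 : r = 1 := by
    have h3 : orderOf r ∣ orderOf x := orderOf_dvd_of_pow_eq_one h2
    have h4 : orderOf r ∣ p ^ k := orderOf_dvd_of_pow_eq_one hk'
    have h5 : orderOf r ∣ 1 := by
      have := Nat.dvd_gcd h3 h4
      rwa [hcop] at this
    exact orderOf_eq_one_iff.1 (Nat.dvd_one.1 h5)
  have : x * q * x⁻¹ * q⁻¹ = 1 := hr1
  have h6 : x * q = q * x := by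
    have := congrArg (fun t => t * q * x) this
    simpa [mul_assoc] using this
  exact h6.symm

/-- a `p`-regular element lies in a normal subgroup of `p`-power index -/
theorem mem_of_isPRegular (hidx : ∃ k : ℕ, N.index = p ^ k) {x : G} (hx : IsPRegular p x) :
    x ∈ N := by
  obtain ⟨k, hk⟩ := hidx
  have h1 : x ^ (p ^ k) ∈ N := hk ▸ Subgroup.pow_index_mem N x
  have h2 : x ^ orderOf x ∈ N := by rw [pow_orderOf_eq_one]; exact N.one_mem
  exact mem_of_pow_mem_of_coprime'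
    (Nat.Coprime.pow_left k ((Nat.Prime.coprime_iff_not_dvd (Fact.out : p.Prime)).2 hx)) h1 h2

/-- **`c` nilpotent implies `B` nilpotent.** -/
theorem nilpotent_up (hMod : IsPModular p M) (hidx : ∃ k : ℕ, N.index = p ^ k)
    {c : Set (IrrCharacter N)} (hc : IsPBlock M c) {B : Set (IrrCharacter G)}
    (hB : IsPBlock M B)
    (hBc : ∀ g : G, blockCoeff B g = subgroupBlockCoeff N c g)
    (hnil : IsNilpotentBlock p M c) : IsNilpotentBlock p M B := by
  classical
  have hM : M.IsPrime := hMod.2.1.isPrime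
  haveI : Finite (IrrCharacter G) := irr_finite
  haveI : Fintype (IrrCharacter G) := Fintype.ofFinite _
  haveI : Fintype N := Fintype.ofFinite _
  haveI : Finite (IrrCharacter N) := irr_finite
  haveI : Fintype (IrrCharacter N) := Fintype.ofFinite _
  refine ⟨hB, fun Q eQ hQ x hxN hxst hxreg => ?_⟩
  obtain ⟨hQpair, -, hQω⟩ := id hQ
  have hxNmem : x ∈ N := mem_of_isPRegular N hidx hxreg
  obtain ⟨R, hR⟩ : ∃ R : Subgroup N, upS N R = Q ⊓ N :=
    ⟨(Q ⊓ N).subgroupOf N, upS_subgroupOf N inf_le_right⟩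
  have hRQ : upS N R ≤ Q := hR ▸ inf_le_left
  have hRmem : ∀ g ∈ Q, g ∈ N → g ∈ upS N R := fun g hg hgN => hR ▸ ⟨hg, hgN⟩
  have hRp : IsPGroup p (upS N R) := hQpair.1.to_le hRQ
  haveI : Fintype (cnH N R) := Fintype.ofFinite _
  haveI : Fintype C(upS N R) := Fintype.ofFinite _
  haveI : Finite (IrrCharacter C(upS N R)) := irr_finite
  haveI : Fintype (IrrCharacter C(upS N R)) := Fintype.ofFinite _
  haveI : Fintype CL(R) := Fintype.ofFinite _
  haveI : Finite (IrrCharacter CL(R)) := irr_finite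
  haveI : Fintype (IrrCharacter CL(R)) := Fintype.ofFinite _
  -- `x` normalizes `Q ∩ N`
  have hxR : x ∈ N(upS N R) := by
    rw [Subgroup.mem_normalizer_iff]
    intro g
    rw [hR]
    constructor
    · rintro ⟨h1, h2⟩
      exact ⟨(Subgroup.mem_normalizer_iff.1 hxN g).1 h1, hN.conj_mem g h2 x⟩
    · rintro ⟨h1, h2⟩
      refine ⟨(Subgroup.mem_normalizer_iff.1 hxN g).2 h1, ?_⟩
      have := hN.conj_mem _ h2 x⁻¹
      simpa [mul_assoc] using this
  -- the pair on `Q ∩ N`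
  obtain ⟨e, ⟨he, hle⟩, -⟩ := existsUnique_subpair hMod hQpair hRQ
  have hpair : IsBrauerPairOf p M B (upS N R) e :=
    (Cfsg.Agent.S4658.result p M hMod Q (upS N R) eQ e hQpair ⟨hRp, he⟩ hle B hB).1 hQ
  -- `x` stabilizes it
  have hxe : StabilizesBlock C(upS N R) e x := by
    have h1 : Chain p M (conjPair x ⟨upS N R, e⟩) (conjPair x ⟨Q, eQ⟩) := chain_conj hMod x hle
    rw [conjPair_of_stab hM hQpair.2 hxN hxst] at h1
    have h3 : conjPair x (⟨upS N R, e⟩ : BrauerPairIdx G) = ⟨upS N R, e⟩ :=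
      pair_eq_of_chain hMod h1 hle (cj_eq_of_mem_normalizer hxR) (isPBlock_conjPair x he) he hQpair
    have h4 := congrArg (fun a : BrauerPairIdx G => subgroupBlockCoeff C(a.1) a.2) h3
    simp only [conjPair] at h4
    rw [sbc_conjBlock x (upS N R) he] at h4
    rw [stabilizesBlock_iff_conjF C(upS N R) hM he]
    exact ⟨normalizer_le_normalizer_centralizer (upS N R) hxR, h4⟩
  -- a covered block
  obtain ⟨ξ, hξ⟩ := IsPBlock.nonempty hM he
  obtain ⟨θ₁, hθ₁⟩ := Cfsg.Agent.Lib.Helper82.exists_constituent (cnH N R) ξ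
  have hγ : IsClassFunction G (blockCoeff B) := blockCoeff_isClassFunction B
  have hγN : ∀ g, g ∉ N → blockCoeff B g = 0 := by
    intro g hg
    rw [hBc, sbc_of_not_mem N c hg]
  have hγR : ∀ g, MemLocalRing M (blockCoeff B g) := by
    obtain ⟨ψ₀, hψ₀⟩ := id hB
    intro g
    rw [hψ₀]
    exact memLocalRing_blockCoeff_blockOf hM ψ₀ g
  have hres : (fun n : N => blockCoeff B n) = blockCoeff c := by
    funext n
    rw [hBc, sbc_of_mem N c n.2]
  set θ₀ : IrrCharacter CL(R) := irrComp (centN N R) θ₁ with hθ₀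
  have hθ₁' : irrComp (centN N R).symm θ₀ = θ₁ := irrComp_symm_irrComp _ _
  have hRp' : IsPGroup p R := by
    intro r
    obtain ⟨k, hk⟩ := hRp ⟨((r : N) : G), (coe_mem_upS N).2 r.2⟩
    refine ⟨k, ?_⟩
    apply Subtype.ext
    apply Subtype.ext
    have := congrArg Subtype.val hk
    simpa using this
  have hpairN : IsBrauerPairOf p M c R (blockOf M (θ₀ : CL(R) → ℂ)) := by
    refine ⟨⟨hRp', ⟨θ₀, rfl⟩⟩, hc, fun θ hθ => ?_⟩
    have := brauerOmega_down_of_cover N hM R hγ hγN hγR hθ₁ (hpair.2.2 ξ hξ) hθ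
    rwa [hres] at this
  -- the element `a = x * y`
  obtain ⟨y, hy, hsta⟩ := exists_stabH_down N hMod R he hξ hθ₁ hxR hxe
  rw [← hθ₁'] at hsta
  set a : G := x * y with ha
  set m : ℕ := (orderOf a).factorization p with hm
  have ha₂st := stabH_pow N R _ hsta (p ^ m)
  have ha₂reg : IsPRegular p (a ^ (p ^ m)) := by
    unfold IsPRegular
    have hpos : 0 < orderOf a := orderOf_pos a
    rw [orderOf_pow' a (pow_ne_zero m (Fact.out : p.Prime).ne_zero),
      Nat.gcd_eq_right (Nat.ordProj_dvd (orderOf a) p)]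
    exact Nat.not_dvd_ordCompl (Fact.out : p.Prime) hpos.ne'
  have ha₂N : a ^ (p ^ m) ∈ N := mem_of_isPRegular N hidx ha₂reg
  have hstN := stabilizesBlock_of_stabH N hM R θ₀ (x := ⟨a ^ (p ^ m), ha₂N⟩) ha₂st
  have ha₂R : (⟨a ^ (p ^ m), ha₂N⟩ : N) ∈ Subgroup.normalizer (R : Set N) :=
    mem_normalizer_of_coe N ha₂st.1
  have hreg' : IsPRegular p (⟨a ^ (p ^ m), ha₂N⟩ : N) := by
    unfold IsPRegular at ha₂reg ⊢
    rwa [← Subgroup.orderOf_coe]
  have hcent := hnil.2 R _ hpairN ⟨a ^ (p ^ m), ha₂N⟩ ha₂R hstN hreg'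
  have ha₂C : a ^ (p ^ m) ∈ C(upS N R) := (coe_mem_centralizer_upS N).2 hcent
  -- `x ^ (p ^ m) ∈ C_G(Q ∩ N)`
  obtain ⟨c', hc', hpow⟩ := exists_pow_mul_eq
    (normalizer_le_normalizer_centralizer (upS N R) hxR) hy (p ^ m)
  have hxpow : x ^ (p ^ m) ∈ C(upS N R) := by
    have : x ^ (p ^ m) = a ^ (p ^ m) * c'⁻¹ := by rw [hpow]; group
    rw [this]
    exact Subgroup.mul_mem _ ha₂C (Subgroup.inv_mem _ hc')
  have hxC : x ∈ C(upS N R) := by
    have h2 : x ^ orderOf x ∈ C(upS N R) := by rw [pow_orderOf_eq_one]; exact Subgroup.one_mem _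
    exact mem_of_pow_mem_of_coprime'
      (Nat.Coprime.pow_left m ((Nat.Prime.coprime_iff_not_dvd (Fact.out : p.Prime)).2 hxreg))
      hxpow h2
  -- `x` centralizes `Q`
  refine mem_centralizer_of_stable hQpair.1 hxreg hxN hxC (fun q hq => ?_)
  apply hRmem
  · exact Q.mul_mem ((Subgroup.mem_normalizer_iff.1 hxN q).1 hq) (Q.inv_mem hq)
  · have h1 : q * x⁻¹ * q⁻¹ ∈ N := hN.conj_mem _ (N.inv_mem hxNmem) q
    have : x * q * x⁻¹ * q⁻¹ = x * (q * x⁻¹ * q⁻¹) := by group
    rw [this]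
    exact N.mul_mem hxNmem h1

end Cfsg.Agent.Lib.Helper81
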