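import Mathlib
import Cfsg.Prelude.Def_BrauerPairs
import Cfsg.Agent.Lib.Helper81.KerCorr
import Cfsg.Agent.Lib.Helper81.NilpExtC
import Cfsg.Agent.Lib.Helper82.WeakOrth
import Cfsg.Agent.Lib.Helper80.IndDegree
import Cfsg.Agent.S0938

set_option autoImplicit false
set_option linter.unusedSectionVars false
set_option linter.style.haveILetI false

/-!
# From a block of `D₀ C_G(D₀)` to a Brauer pair, and the ascent of the kernel condition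
-/

namespace Cfsg.Agent.Lib.Helper81

open Cfsg
open Cfsg.Agent.Lib.Helper21 Cfsg.Agent.Lib.Helper82 Cfsg.Agent.Lib.Helper83

universe u
variable {G : Type u} [Group G] [Fintype G]

local notation "C(" R ")" => Subgroup.centralizer ((R : Subgroup G) : Set G)
local notation "N(" R ")" => Subgroup.normalizer ((R : Subgroup G) : Set G)

variable {p : ℕ} [Fact p.Prime] {M : Ideal AlgInt} {π : Set ℕ}

theorem sup_centralizer_le_normalizer (D₀ : Subgroup G) :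
    D₀ ⊔ C(D₀) ≤ N(D₀) :=
  sup_le Subgroup.le_normalizer (Subgroup.centralizer_le_normalizer _)

/-- the `p`-regular elements of `D₀ C_G(D₀)` lie in `C_G(D₀)` -/
theorem mem_centralizer_of_pRegular_of_mem_sup {D₀ : Subgroup G} (hD₀ : IsPGroup p D₀) {h : G}
    (hh : h ∈ D₀ ⊔ C(D₀)) (hreg : ¬ p ∣ orderOf h) : h ∈ C(D₀) := by
  have hp : p.Prime := Fact.out
  have hDN : D₀ ≤ Subgroup.normalizer ((C(D₀) : Subgroup G) : Set G) :=
    Subgroup.le_normalizer.trans (normalizer_le_normalizer_centralizer D₀)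
  have hset := Subgroup.coe_mul_of_left_le_normalizer_right D₀ C(D₀) hDN
  have hh' : h ∈ ((D₀ ⊔ C(D₀) : Subgroup G) : Set G) := hh
  rw [hset] at hh'
  obtain ⟨u, hu, c, hc, rfl⟩ := hh'
  have hreg' : ¬ p ∣ orderOf (u * c) := hreg
  show u * c ∈ C(D₀)
  obtain ⟨k, hk⟩ := hD₀ ⟨u, hu⟩
  have hk' : u ^ p ^ k = 1 := by
    have := congrArg (Subtype.val : D₀ → G) hk
    simpa using this
  obtain ⟨c', hc', hpow⟩ := exists_pow_mul_eq (hDN hu) hc (p ^ k)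
  rw [hk', one_mul] at hpow
  have hcop : (p ^ k).Coprime (orderOf (u * c)) :=
    Nat.Coprime.pow_left k ((Nat.Prime.coprime_iff_not_dvd hp).2 hreg')
  obtain ⟨m, hm⟩ := exists_pow_eq_self_of_coprime hcop
  rw [← hm, hpow]
  exact Subgroup.pow_mem _ hc' m

theorem classInner_comp_equiv' {H K : Type*} [Group H] [Group K] [Fintype H] [Fintype K]
    (e : H ≃* K) (φ ψ : K → ℂ) :
    classInner (fun h => φ (e h)) (fun h => ψ (e h)) = classInner φ ψ := by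
  unfold classInner
  rw [Nat.card_congr e.toEquiv]
  congr 1
  exact Fintype.sum_equiv e.toEquiv _ _ (fun _ => rfl)

/-- **Clifford form of the central character.** For `θ ∈ Irr(H)` over `ξ ∈ Irr(C)`, `C ⊴ H`, and
an `H`-invariant function `β` vanishing on `H ∖ C`. -/
theorem omega_rs_eq_omega_rs_of_over {H C : Subgroup G} [Fintype H] [Fintype C] (hCH : C ≤ H)
    (hHN : H ≤ Subgroup.normalizer (C : Set G)) {β : G → ℂ}
    (hβinv : ConjInv H β) (hβ0 : ∀ g ∈ H, g ∉ C → β g = 0)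
    (θ : IrrCharacter H) (ξ : IrrCharacter C)
    (hc : classInner (fun c : C => (θ : H → ℂ) ⟨c, hCH c.2⟩) (ξ : C → ℂ) ≠ 0) :
    omega (rs H β) (θ : H → ℂ) = omega (rs C β) (ξ : C → ℂ) := by
  classical
  haveI : Fintype (C.subgroupOf H) := Fintype.ofFinite _
  have hC'n : (C.subgroupOf H).Normal := Subgroup.normal_subgroupOf_of_le_normalizer hHN
  let φ : C.subgroupOf H ≃* C := Subgroup.subgroupOfEquivOfLe hCH
  let a : C.subgroupOf H → ℂ := fun c' => β ((c' : H) : G)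
  have hrs : rs H β = ext0 (C.subgroupOf H) a := by
    funext h
    rw [rs_apply]
    by_cases hh : h ∈ C.subgroupOf H
    · rw [ext0_of_mem (C.subgroupOf H) _ hh]
    · rw [ext0_of_not_mem (C.subgroupOf H) _ hh]
      exact hβ0 (h : G) h.2 (fun h' => hh (Subgroup.mem_subgroupOf.2 h'))
  have hinv : ∀ (k : H) (c' : C.subgroupOf H),
      a ⟨k * c' * k⁻¹, hC'n.conj_mem c' c'.2 k⟩ = a c' := by
    intro k c'
    exact hβinv (k : G) k.2 ((c' : H) : G)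
  have hc' : classInner (fun c' : C.subgroupOf H => (θ : H → ℂ) c')
      (irrComp φ ξ : C.subgroupOf H → ℂ) ≠ 0 := by
    have := classInner_comp_equiv' φ (fun c : C => (θ : H → ℂ) ⟨c, hCH c.2⟩) (ξ : C → ℂ)
    rw [← this] at hc
    exact hc
  rw [hrs, omega_ext0_eq_of_over hC'n θ.2 (irrComp φ ξ).2 hc' a hinv]
  exact omega_comp φ (rs C β) (ξ : C → ℂ)

/-- **Clifford form of the Brauer functional.** For `θ ∈ Irr(D₀ C_G(D₀))` over `ξ ∈ Irr(C_G(D₀))`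
and a `D₀ C_G(D₀)`-invariant function `β` vanishing on `D₀ C_G(D₀) ∖ C_G(D₀)`. -/
theorem omega_rs_sup_eq_brauerOmega {D₀ : Subgroup G} [Fintype C(D₀)]
    [Fintype ↥(D₀ ⊔ C(D₀))] {β : G → ℂ}
    (hβinv : ConjInv (D₀ ⊔ C(D₀)) β)
    (hβ0 : ∀ g ∈ D₀ ⊔ C(D₀), g ∉ C(D₀) → β g = 0)
    (θ : IrrCharacter ↥(D₀ ⊔ C(D₀))) (ξ : IrrCharacter C(D₀))
    (hc : classInner (fun c : C(D₀) => (θ : ↥(D₀ ⊔ C(D₀)) → ℂ) ⟨c, le_sup_right (a := D₀) c.2⟩)
      (ξ : C(D₀) → ℂ) ≠ 0) :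
    omega (rs (D₀ ⊔ C(D₀)) β) (θ : ↥(D₀ ⊔ C(D₀)) → ℂ) = brauerOmega D₀ β (ξ : C(D₀) → ℂ) := by
  haveI : Finite (IrrCharacter G) := irr_finite
  haveI : Fintype (IrrCharacter G) := Fintype.ofFinite _
  rw [brauerOmega_eq_omega_rs]
  exact omega_rs_eq_omega_rs_of_over le_sup_right
    ((sup_centralizer_le_normalizer D₀).trans (normalizer_le_normalizer_centralizer D₀))
    hβinv hβ0 θ ξ hc

/-- a block of `D₀ C_G(D₀)` inducing `B` gives a Brauer pair `(D₀, e₀)` of `B` -/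
theorem exists_pair_of_induced_sup (hMod : IsPModular p M) {D₀ : Subgroup G}
    [Fintype C(D₀)] [Fintype ↥(D₀ ⊔ C(D₀))]
    (hD₀ : IsPGroup p D₀) {B : Set (IrrCharacter G)}
    {b : Set (IrrCharacter ↥(D₀ ⊔ C(D₀)))} (hb : IsInducedBlock M (D₀ ⊔ C(D₀)) b B) :
    ∃ e₀ : Set (IrrCharacter C(D₀)), IsBrauerPairOf p M B D₀ e₀ ∧
      ∃ θ ∈ b, ∃ ξ ∈ e₀,
        classInner (fun c : C(D₀) => (θ : ↥(D₀ ⊔ C(D₀)) → ℂ) ⟨c, le_sup_right (a := D₀) c.2⟩)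
          (ξ : C(D₀) → ℂ) ≠ 0 := by
  classical
  haveI : Finite (IrrCharacter ↥(D₀ ⊔ C(D₀))) := irr_finite
  haveI : Fintype (IrrCharacter ↥(D₀ ⊔ C(D₀))) := Fintype.ofFinite _
  haveI : Finite (IrrCharacter G) := irr_finite
  haveI : Fintype (IrrCharacter G) := Fintype.ofFinite _
  have hM : M.IsPrime := hMod.2.1.isPrime
  have hB : IsPBlock M B := hb.2.1
  obtain ⟨θ, hθ⟩ := IsPBlock.nonempty hM hb.1
  obtain ⟨χ, hχ⟩ := IsPBlock.nonempty hM hB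
  obtain ⟨χ₀, hχ₀⟩ := id hB
  have hBR : IsRClass M (blockCoeff B) := hχ₀ ▸ blockCoeff_isRClass hM χ₀
  -- a constituent of the restriction of `θ`
  have hchar : IsCharacter C(D₀) (fun c : C(D₀) =>
      (θ : ↥(D₀ ⊔ C(D₀)) → ℂ) (Subgroup.inclusion (le_sup_right (a := D₀)) c)) :=
    isCharacter_comp_hom (Subgroup.inclusion le_sup_right) (isCharacter_of_irr θ.2)
  have h1 : (fun c : C(D₀) =>
      (θ : ↥(D₀ ⊔ C(D₀)) → ℂ) (Subgroup.inclusion (le_sup_right (a := D₀)) c)) 1 ≠ 0 := by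
    show (θ : ↥(D₀ ⊔ C(D₀)) → ℂ) (Subgroup.inclusion (le_sup_right (a := D₀)) 1) ≠ 0
    rw [map_one]
    exact IsIrrCharacter.apply_one_ne_zero θ.2
  obtain ⟨ξ, hξ⟩ := Cfsg.Agent.Lib.Helper22.exists_constituent hchar h1
  have hξ' : classInner (fun c : C(D₀) =>
      (θ : ↥(D₀ ⊔ C(D₀)) → ℂ) ⟨c, le_sup_right (a := D₀) c.2⟩) (ξ : C(D₀) → ℂ) ≠ 0 := hξ
  refine ⟨blockOf M (ξ : C(D₀) → ℂ), ⟨⟨hD₀, ⟨ξ, rfl⟩⟩, hB, ?_⟩,
    θ, hθ, ξ, mem_blockOf_self hM ξ, hξ'⟩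
  -- the Brauer functional at `ξ`
  have hinv : ConjInv (D₀ ⊔ C(D₀)) (blockCoeff B) := fun t _ g => hBR.1 g t
  have h0 : ∀ g ∈ D₀ ⊔ C(D₀), g ∉ C(D₀) → blockCoeff B g = 0 := by
    intro g hg hgC
    rw [hχ₀]
    apply blockCoeff_eq_zero_of_singular hMod χ₀ g
    by_contra hreg
    exact hgC (mem_centralizer_of_pRegular_of_mem_sup hD₀ hg hreg)
  have h2 := omega_rs_sup_eq_brauerOmega hinv h0 θ ξ hξ'
  have h3 := omega_restrict_sub_omega (D₀ ⊔ C(D₀)) hM hb hθ hχ hBR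
  rw [omega_blockCoeff, if_pos hχ] at h3
  have h4 : MemLocalIdeal M (brauerOmega D₀ (blockCoeff B) (ξ : C(D₀) → ℂ) - 1) := by
    rw [← h2]
    exact h3
  intro ξ₂ hξ₂
  have h5 := brauerOmega_sub_of_mem_block hM D₀ (g := blockOf M (ξ : C(D₀) → ℂ)) ⟨ξ, rfl⟩
    hBR.2 (fun t _ g => hBR.1 g t) (mem_blockOf_self hM ξ) hξ₂
  have := memLocalIdeal_add hM h5 h4
  convert this using 1
  ring

/-- **Ascent.** -/
theorem kernel_ascends (hMod : IsPModular p M) (hpπ : p ∈ π) {B : Set (IrrCharacter G)}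
    {D : Subgroup G} (hBD : IsDefectGroup p M B D)
    {B₁ : Set (IrrCharacter N(D))} (hB₁ : IsInducedBlock M N(D) B₁ B)
    (hB₁D : IsDefectGroup p M B₁ (D.subgroupOf N(D)))
    {D₀ : Subgroup G} (hD₀ : IsPGroup p D₀)
    {b : Set (IrrCharacter ↥(D₀ ⊔ C(D₀)))} (hb : IsInducedBlock M (D₀ ⊔ C(D₀)) b B)
    (hcompl : ∀ x : ↥C(D₀), (∀ q : ℕ, q.Prime → q ∣ orderOf x → q ∉ π) →
      x ∈ piCore {q | q ∉ π} ↥C(D₀))
    (hkerb : ∀ x : ↥C(D₀), x ∈ piCore {q | q ∉ π} ↥C(D₀) → ∀ θ ∈ b,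
      ∀ h : ↥(D₀ ⊔ C(D₀)), (h : G) = (x : G) →
        (θ : ↥(D₀ ⊔ C(D₀)) → ℂ) h = (θ : ↥(D₀ ⊔ C(D₀)) → ℂ) 1) :
    ∀ n : N(D), n ∈ piCore {q | q ∉ π} ↥N(D) → n ∈ blockKer B₁ := by
  classical
  haveI : Fintype C(D₀) := Fintype.ofFinite _
  haveI : Fintype ↥(D₀ ⊔ C(D₀)) := Fintype.ofFinite _
  have hM : M.IsPrime := hMod.2.1.isPrime
  have hp : p.Prime := Fact.out
  obtain ⟨e₀, hpair, θ, hθ, ξ, hξ, hc⟩ := exists_pair_of_induced_sup hMod hD₀ hb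
  -- the kernel property of `(D₀, e₀)`
  have hchar : IsCharacter C(D₀) (fun c : C(D₀) =>
      (θ : ↥(D₀ ⊔ C(D₀)) → ℂ) (Subgroup.inclusion (le_sup_right (a := D₀)) c)) :=
    isCharacter_comp_hom (Subgroup.inclusion le_sup_right) (isCharacter_of_irr θ.2)
  have hξker : ∀ c ∈ piCore {q | q ∉ π} ↥C(D₀), (ξ : C(D₀) → ℂ) c = (ξ : C(D₀) → ℂ) 1 := by
    intro c hcK
    apply Cfsg.Agent.Lib.Helper80.constituent_ker hchar ξ.2 hc
    show (θ : ↥(D₀ ⊔ C(D₀)) → ℂ) (Subgroup.inclusion (le_sup_right (a := D₀)) c)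
      = (θ : ↥(D₀ ⊔ C(D₀)) → ℂ) (Subgroup.inclusion (le_sup_right (a := D₀)) 1)
    rw [map_one]
    exact hkerb c hcK θ hθ _ rfl
  have hK₀p : ¬ p ∣ Nat.card (piCore {q | q ∉ π} ↥C(D₀)) := by
    intro hdvd
    exact Cfsg.Agent.Lib.Helper39.isPiGroup_piCore {q | q ∉ π} p hp hdvd hpπ
  obtain ⟨K, -, hKeq, -, -, hKmax⟩ := Cfsg.Agent.S0938.result p M hMod e₀ hpair.1.2 ξ hξ
  have hle : piCore {q | q ∉ π} ↥C(D₀) ≤ K :=
    hKmax _ (piCore_normal _ _) hK₀p hξker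
  have hKerP : KerP π D₀ e₀ := by
    intro ξ₂ hξ₂ c hcK
    have h1 : c ∈ (K : Set C(D₀)) := hle (coe_mem_pco.1 hcK)
    rw [hKeq] at h1
    exact h1 ξ₂ hξ₂
  have hHall : HallP π D₀ := by
    intro x hx hxπ
    have := hcompl ⟨x, hx⟩ (by rw [Subgroup.orderOf_mk]; exact hxπ)
    exact coe_mem_pco.2 this
  -- a maximal pair on `D`
  obtain ⟨e, hmax⟩ := exists_maximal_at_defect hMod hBD hpair
  obtain ⟨x, hx⟩ := exists_conj_subpairLE hMod hmax hpair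
  have h1 := kerP_up hMod hpπ (a := ⟨cj x D₀, conjBlock D₀ x e₀⟩) (b := ⟨D, e⟩) hx
    (kerP_conj x hKerP) (hallP_conj x hHall)
  exact (kerP_iff_correspondent hMod hpπ hmax.1 hBD hB₁ hB₁D).1 h1.1

end Cfsg.Agent.Lib.Helper81
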