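import Mathlib
import Cfsg.Agent.Lib.Helper12.FourGroup

set_option autoImplicit false
set_option linter.style.haveILetI false
set_option linter.unusedSectionVars false

/-!
# A subgroup of odd index over the centralizer acting on a Klein four-group

`T` normalizes the Klein four-subgroup `P`, contains `C_G(P)` with odd index `e`.  Then `T` acts
freely on the involutions of `P`, `e ∈ {1, 3}`, and for `e = 3` the action is transitive.
-/

namespace Cfsg.Agent.Lib.Helper81

universe u
variable {G : Type u} [Group G] [Finite G]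

local notation "C(" R ")" => Subgroup.centralizer ((R : Subgroup G) : Set G)
local notation "N(" R ")" => Subgroup.normalizer ((R : Subgroup G) : Set G)

/-- free action -/
theorem klein_free (P T : Subgroup G) (hV : IsKleinFour P) (hKT : C(P) ≤ T) (hTN : T ≤ N(P))
    (hodd : ¬ 2 ∣ (C(P)).relIndex T) :
    ∀ t ∈ T, ∀ u ∈ P, u ≠ 1 → t * u * t⁻¹ = u → t ∈ C(P) := by
  intro t ht u hu hu1 hfix
  by_contra htK
  obtain ⟨v, hvP, hv1, huv, hP4⟩ :=
    Cfsg.Agent.Lib.Helper12.exists_second_gen_of_kleinFour P hu hu1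
  have huu : u * u = 1 := Cfsg.Agent.Lib.Helper12.mul_self_of_mem_kleinFour P hu
  have hvv : v * v = 1 := Cfsg.Agent.Lib.Helper12.mul_self_of_mem_kleinFour P hvP
  -- an element commuting with `u` and `v` centralizes `P`
  have hcent : ∀ s : G, s * u = u * s → s * v = v * s → s ∈ C(P) := by
    intro s hsu hsv
    rw [Subgroup.mem_centralizer_iff]
    intro x hx
    rcases (hP4 x).1 hx with rfl | rfl | rfl | rfl
    · simp
    · exact hsu.symm
    · exact hsv.symm
    · rw [mul_assoc, ← hsv, ← mul_assoc, ← hsu, mul_assoc]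
  have htu : t * u = u * t := by
    calc t * u = t * u * t⁻¹ * t := by group
      _ = u * t := by rw [hfix]
  have htvP : t * v * t⁻¹ ∈ P := (Subgroup.mem_normalizer_iff.1 (hTN ht) v).1 hvP
  have hcase : t * v * t⁻¹ = v ∨ t * v * t⁻¹ = u * v := by
    rcases (hP4 _).1 htvP with h | h | h | h
    · exfalso
      apply hv1
      have : v = t⁻¹ * (t * v * t⁻¹) * t := by group
      rw [this, h]
      group
    · exfalso
      apply huv
      have : v = t⁻¹ * (t * v * t⁻¹) * t := by group
      rw [this, h]
      have : t⁻¹ * u * t = t⁻¹ * (u * t) := by group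
      rw [this, ← htu]
      group
    · exact Or.inl h
    · exact Or.inr h
  rcases hcase with h | h
  · apply htK
    apply hcent t htu
    calc t * v = t * v * t⁻¹ * t := by group
      _ = v * t := by rw [h]
  · -- `t ^ 2` centralizes `P`
    have ht2 : t * t ∈ C(P) := by
      apply hcent
      · rw [mul_assoc, htu, ← mul_assoc, htu, mul_assoc]
      · have h1 : t * v = u * v * t := by
          calc t * v = t * v * t⁻¹ * t := by group
            _ = u * v * t := by rw [h]
        calc t * t * v = t * (t * v) := by group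
          _ = t * (u * v * t) := by rw [h1]
          _ = (t * u) * v * t := by group
          _ = u * (t * v) * t := by rw [htu]; group
          _ = u * (u * v * t) * t := by rw [h1]
          _ = (u * u) * v * (t * t) := by group
          _ = v * (t * t) := by rw [huu, one_mul]
    haveI hn : ((C(P)).subgroupOf T).Normal := by
      refine (Subgroup.normal_subgroupOf_iff_le_normalizer hKT).2 (hTN.trans ?_)
      intro n hn
      rw [Subgroup.mem_normalizer_iff]
      intro c
      have key : ∀ m : G, m ∈ N(P) → ∀ c : G, c ∈ C(P) → m * c * m⁻¹ ∈ C(P) := by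
        intro m hm c hc
        rw [Subgroup.mem_centralizer_iff]
        intro x hx
        have hx' : m⁻¹ * x * m ∈ P := by
          have := (Subgroup.mem_normalizer_iff.1 (Subgroup.inv_mem _ hm) x).1 hx
          simpa using this
        have h1 := (Subgroup.mem_centralizer_iff.1 hc) _ hx'
        calc x * (m * c * m⁻¹) = m * ((m⁻¹ * x * m) * c) * m⁻¹ := by group
          _ = m * (c * (m⁻¹ * x * m)) * m⁻¹ := by rw [h1]
          _ = m * c * m⁻¹ * x := by group
      constructor
      · intro hc
        exact key n hn c hc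
      · intro hc
        have := key n⁻¹ (Subgroup.inv_mem _ hn) _ hc
        have h2 : n⁻¹ * (n * c * n⁻¹) * n⁻¹⁻¹ = c := by group
        rwa [h2] at this
    set q : T ⧸ (C(P)).subgroupOf T := ((⟨t, ht⟩ : T) : T ⧸ (C(P)).subgroupOf T) with hq
    have hq1 : q ≠ 1 := by
      intro h1
      apply htK
      have := (QuotientGroup.eq_one_iff (⟨t, ht⟩ : T)).1 h1
      exact Subgroup.mem_subgroupOf.1 this
    have hq2 : q ^ 2 = 1 := by
      rw [hq, ← QuotientGroup.mk_pow, QuotientGroup.eq_one_iff, Subgroup.mem_subgroupOf]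
      show ((⟨t, ht⟩ : T) ^ 2 : T).1 ∈ C(P)
      rw [pow_two]
      exact ht2
    have hord : orderOf q = 2 := orderOf_eq_prime hq2 hq1
    apply hodd
    have h3 : orderOf q ∣ Nat.card (T ⧸ (C(P)).subgroupOf T) := orderOf_dvd_natCard q
    rw [hord] at h3
    rw [Subgroup.relIndex, Subgroup.index_eq_card]
    exact h3

/-- the index is `1` or `3`, and for `3` the action is transitive -/
theorem klein_index (P T : Subgroup G) (hV : IsKleinFour P) (hKT : C(P) ≤ T) (hTN : T ≤ N(P))
    (hodd : ¬ 2 ∣ (C(P)).relIndex T) :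
    (C(P)).relIndex T = 1 ∨ ((C(P)).relIndex T = 3 ∧
      ∀ u ∈ P, u ≠ 1 → ∀ u' ∈ P, u' ≠ 1 → ∃ t ∈ T, t * u * t⁻¹ = u') := by
  classical
  have hfree := klein_free P T hV hKT hTN hodd
  obtain ⟨a, haP, ha1⟩ := Cfsg.Agent.Lib.Helper12.exists_ne_one_of_kleinFour P
  letI : MulAction T G := MulAction.compHom G ((MulAut.conj : G →* MulAut G).comp T.subtype)
  have hsmul : ∀ (t : T) (g : G), t • g = (t : G) * g * (t : G)⁻¹ := fun t g => rfl
  have hstab : MulAction.stabilizer T a = (C(P)).subgroupOf T := by
    ext t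
    rw [MulAction.mem_stabilizer_iff, hsmul, Subgroup.mem_subgroupOf]
    constructor
    · intro h
      exact hfree t t.2 a haP ha1 h
    · intro h
      have := (Subgroup.mem_centralizer_iff.1 h) a haP
      rw [← this]
      group
  have hidx : (C(P)).relIndex T = (MulAction.orbit T a).ncard := by
    rw [Subgroup.relIndex, ← hstab, MulAction.index_stabilizer]
  have hsub : MulAction.orbit T a ⊆ (P : Set G) \ {1} := by
    rintro _ ⟨t, rfl⟩
    show t • a ∈ _
    rw [hsmul]
    refine ⟨(Subgroup.mem_normalizer_iff.1 (hTN t.2) a).1 haP, ?_⟩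
    intro h
    apply ha1
    have h1 : (t : G) * a * (t : G)⁻¹ = 1 := h
    have : a = (t : G)⁻¹ * ((t : G) * a * (t : G)⁻¹) * (t : G) := by group
    rw [this, h1]
    group
  have hcard4 : (P : Set G).ncard = 4 := by
    rw [← Nat.card_coe_set_eq]
    exact hV.card_four
  have hcard3 : ((P : Set G) \ {1}).ncard = 3 := by
    rw [Set.ncard_sdiff_singleton_of_mem (P.one_mem), hcard4]
  have hfin : ((P : Set G) \ {1}).Finite := Set.toFinite _
  have hle : (C(P)).relIndex T ≤ 3 := by
    rw [hidx, ← hcard3]
    exact Set.ncard_le_ncard hsub hfin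
  have hpos : 0 < (C(P)).relIndex T := by
    rw [hidx]
    rw [Set.ncard_pos]
    exact MulAction.nonempty_orbit a
  have hcases : (C(P)).relIndex T = 1 ∨ (C(P)).relIndex T = 3 := by
    have h2 : (C(P)).relIndex T ≠ 2 := fun h => hodd (by rw [h])
    omega
  rcases hcases with h | h
  · exact Or.inl h
  · refine Or.inr ⟨h, ?_⟩
    have horb : MulAction.orbit T a = (P : Set G) \ {1} := by
      apply Set.eq_of_subset_of_ncard_le hsub _ hfin
      rw [hcard3, ← hidx, h]
    have hall : ∀ u ∈ P, u ≠ 1 → ∃ t ∈ T, t * a * t⁻¹ = u := by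
      intro u hu hu1
      have : u ∈ MulAction.orbit T a := by
        rw [horb]
        exact ⟨hu, hu1⟩
      obtain ⟨t, ht⟩ := this
      exact ⟨t, t.2, ht⟩
    intro u hu hu1 u' hu' hu1'
    obtain ⟨t₁, ht₁, h₁⟩ := hall u hu hu1
    obtain ⟨t₂, ht₂, h₂⟩ := hall u' hu' hu1'
    refine ⟨t₂ * t₁⁻¹, T.mul_mem ht₂ (T.inv_mem ht₁), ?_⟩
    rw [← h₁, ← h₂]
    group

end Cfsg.Agent.Lib.Helper81
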