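import Mathlib
import Cfsg.Prelude.Def_Blocks
import Cfsg.Prelude.Def_BlockRank
import Cfsg.Agent.Lib.Helper82.ContribInt
import Cfsg.Agent.Lib.Helper82.ContribExtra
import Cfsg.Agent.Lib.Helper82.MajorSubsection

set_option autoImplicit false
set_option linter.style.haveILetI false
set_option linter.unusedSectionVars false

/-!
# A lower bound for the number of characters in a `2`-block from a subsection of an involution

If `y ^ 2 = 1` and `b` is a block of `C_G(y)` of defect at least two inducing the `2`-block `B`, then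
`B` has at least four irreducible characters: the contributions `2 ^ d m(χ₁, χ)` of the subsection
`(y, b)` are rational integers, those of a character `χ₁` of height zero satisfy
`∑_χ t(χ) ^ 2 = 2 ^ d t(χ₁)` with `t(χ₁)` odd, and squares of odd integers are `1` modulo `4`.
-/

namespace Cfsg.Agent.Lib.Helper81

open Cfsg
open Cfsg.Agent.Lib.Helper21 Cfsg.Agent.Lib.Helper82 Cfsg.Agent.Lib.Helper83
open scoped ComplexConjugate

/-- arithmetic: integers whose squares sum to a multiple of four, one of them odd -/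
theorem four_le_card_of_sum_sq {ι : Type*} (s : Finset ι) (t : ι → ℤ) (m : ℤ)
    (hsum : ∑ i ∈ s, t i ^ 2 = 4 * m) (i₀ : ι) (hi₀ : i₀ ∈ s) (hodd : Odd (t i₀)) :
    4 ≤ s.card := by
  classical
  have hq : ∀ i, ∃ q : ℤ, t i ^ 2 = 4 * q + (if Odd (t i) then 1 else 0) := by
    intro i
    rcases Int.even_or_odd' (t i) with ⟨k, hk | hk⟩
    · refine ⟨k ^ 2, ?_⟩
      have hne : ¬ Odd (t i) := by
        rw [Int.not_odd_iff_even, hk]
        exact even_two_mul k
      rw [if_neg hne, hk]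
      ring
    · refine ⟨k ^ 2 + k, ?_⟩
      have hne : Odd (t i) := by
        rw [hk]
        exact odd_two_mul_add_one k
      rw [if_pos hne, hk]
      ring
  choose q hq using hq
  have h1 : ∑ i ∈ s, t i ^ 2 = 4 * ∑ i ∈ s, q i + ((s.filter (fun i => Odd (t i))).card : ℤ) := by
    rw [Finset.sum_congr rfl fun i _ => hq i, Finset.sum_add_distrib, ← Finset.mul_sum,
      Finset.sum_ite, Finset.sum_const_zero, add_zero, Finset.sum_const, nsmul_eq_mul, mul_one]
  have h2 : (4 : ℤ) ∣ ((s.filter (fun i => Odd (t i))).card : ℤ) := by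
    refine ⟨m - ∑ i ∈ s, q i, ?_⟩
    linarith
  have h3 : 4 ∣ (s.filter (fun i => Odd (t i))).card := by
    exact_mod_cast h2
  have h4 : 0 < (s.filter (fun i => Odd (t i))).card :=
    Finset.card_pos.2 ⟨i₀, Finset.mem_filter.2 ⟨hi₀, hodd⟩⟩
  exact le_trans (Nat.le_of_dvd h4 h3) (Finset.card_le_card (Finset.filter_subset _ _))

universe u
variable {G : Type u} [Group G] [Fintype G] {M : Ideal AlgInt}

local notation "C[" g "]" => Subgroup.centralizer (singleton g)

/-- **Lower bound.** A `2`-block induced from a block of defect at least two of the centralizer of an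
element of order at most two has at least four irreducible characters. -/
theorem four_le_card_block_of_involution_section (hM : IsPModular 2 M)
    {B : Set (IrrCharacter G)} (hB : IsPBlock M B) (y : G) (hy : y ^ 2 = 1)
    (b : Set (IrrCharacter C[y])) (hind : IsInducedBlock M C[y] b B)
    (hdef : 2 ≤ blockDefect 2 b) : 4 ≤ Nat.card B := by
  classical
  haveI : Fact (Nat.Prime 2) := ⟨Nat.prime_two⟩
  haveI : Finite (IrrCharacter G) := irr_finite
  haveI : Fintype (IrrCharacter G) := Fintype.ofFinite _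
  haveI : Fintype C[y] := Fintype.ofFinite _
  haveI : Finite (IrrCharacter C[y]) := irr_finite
  haveI : Fintype (IrrCharacter C[y]) := Fintype.ofFinite _
  have hMp : M.IsPrime := hM.2.1.isPrime
  obtain ⟨χ₀, rfl⟩ := hB
  obtain ⟨χ₁, hχ₁B, hχ₁0⟩ := exists_height_zero (p := 2) hMp χ₀
  set d := blockDefect 2 b with hd
  -- the signs
  have hμ : ∀ i, cenMu y i = 1 ∨ cenMu y i = -1 := by
    intro i
    have h1 := cenMu_pow_orderOf y i
    have h2 : cenMu y i ^ 2 = 1 := by
      obtain ⟨k, hk⟩ := orderOf_dvd_of_pow_eq_one hy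
      rw [hk, pow_mul, h1, one_pow]
    exact sq_eq_one_iff.1 h2
  set ε : IrrCharacter C[y] × IrrCharacter C[y] → ℤ :=
    fun i => if cenMu y i = 1 then 1 else -1 with hε
  have hεc : ∀ i, ((ε i : ℤ) : ℂ) = cenMu y i := by
    intro i
    rw [hε]
    simp only
    rcases hμ i with h | h
    · rw [if_pos h, h, Int.cast_one]
    · have hne : ¬ cenMu y i = 1 := by
        rw [h]
        norm_num
      rw [if_neg hne, h, Int.cast_neg, Int.cast_one]
  have hεodd : ∀ i, ∃ k : ℤ, ε i = 1 + 2 * k := by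
    intro i
    rw [hε]
    simp only
    split_ifs
    · exact ⟨0, by ring⟩
    · exact ⟨-1, by ring⟩
  -- the integral contributions of `χ₁`
  set t : IrrCharacter G → ℤ := fun χ' => ∑ i, contribCoeff 2 y b χ₁ χ' i * ε i with ht
  have htc : ∀ χ', ((t χ' : ℤ) : ℂ) =
      ((2 ^ d : ℕ) : ℂ) * contrib 2 b y (χ₁ : G → ℂ) (χ' : G → ℂ) := by
    intro χ'
    have h := contrib_pow_eq_sum_coeff 2 y b χ₁ χ' 1
    rw [pow_one] at h
    rw [h, ht]
    simp only
    rw [Int.cast_sum]
    refine Finset.sum_congr rfl fun i _ => ?_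
    rw [Int.cast_mul, hεc, pow_one]
  have h2d : ((2 ^ d : ℕ) : ℂ) ≠ 0 := by
    exact_mod_cast (pow_pos two_pos d).ne'
  have hcontrib : ∀ χ' : IrrCharacter G, contrib 2 b y (χ₁ : G → ℂ) (χ' : G → ℂ) =
      ((t χ' : ℤ) : ℂ) / ((2 ^ d : ℕ) : ℂ) := by
    intro χ'
    rw [htc, mul_div_cancel_left₀ _ h2d]
  have hconj : ∀ χ' : IrrCharacter G, conj (contrib 2 b y (χ₁ : G → ℂ) (χ' : G → ℂ)) =
      contrib 2 b y (χ₁ : G → ℂ) (χ' : G → ℂ) := by
    intro χ'
    rw [hcontrib, map_div₀, map_intCast, Complex.conj_natCast]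
  -- row idempotency
  have hx : ∃ k : ℕ, orderOf y = 2 ^ k := by
    have hdvd : orderOf y ∣ 2 ^ 1 := by
      rw [pow_one]
      exact orderOf_dvd_of_pow_eq_one hy
    obtain ⟨k, -, hk⟩ := (Nat.dvd_prime_pow Nat.prime_two).1 hdvd
    exact ⟨k, hk⟩
  have hrow := sum_contrib_mul_conj' hM hx C[y] rfl χ₀ b hind χ₁
  have hsq : ∑ χ' ∈ Finset.univ.filter (fun χ' => χ' ∈ blockOf M (χ₀ : G → ℂ)), t χ' ^ 2 =
      2 ^ d * t χ₁ := by
    have hC : ((∑ χ' ∈ Finset.univ.filter (fun χ' => χ' ∈ blockOf M (χ₀ : G → ℂ)), t χ' ^ 2 : ℤ)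
        : ℂ) = ((2 ^ d * t χ₁ : ℤ) : ℂ) := by
      rw [Int.cast_sum, Finset.sum_filter, Int.cast_mul, htc χ₁, ← hrow, Finset.mul_sum,
        Finset.mul_sum]
      refine Finset.sum_congr rfl fun χ' _ => ?_
      split_ifs
      · rw [hconj, Int.cast_pow, htc]
        push_cast
        ring
      · rw [mul_zero, mul_zero]
    exact_mod_cast hC
  -- parity
  have hodd : Odd (t χ₁) := by
    have hnd := not_dvd_sum_contribCoeff 2 hM y b (blockOf M (χ₀ : G → ℂ)) hind χ₁ χ₁ hχ₁B hχ₁B
      hχ₁0 hχ₁0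
    rw [← Int.not_even_iff_odd, even_iff_two_dvd]
    intro h
    apply hnd
    choose k hk using hεodd
    have h3 : t χ₁ = ∑ i, contribCoeff 2 y b χ₁ χ₁ i +
        2 * ∑ i, contribCoeff 2 y b χ₁ χ₁ i * k i := by
      rw [ht]
      simp only
      rw [Finset.mul_sum, ← Finset.sum_add_distrib]
      refine Finset.sum_congr rfl fun i _ => ?_
      rw [hk i]
      ring
    obtain ⟨c, hc⟩ := h
    refine ⟨c - ∑ i, contribCoeff 2 y b χ₁ χ₁ i * k i, ?_⟩
    push_cast
    linarith
  -- conclusion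
  have h4 : (2 : ℤ) ^ d = 4 * 2 ^ (d - 2) := by
    have : d = 2 + (d - 2) := by omega
    conv_lhs => rw [this, pow_add]
    norm_num
  have hfin := four_le_card_of_sum_sq (Finset.univ.filter (fun χ' => χ' ∈ blockOf M (χ₀ : G → ℂ)))
    t (2 ^ (d - 2) * t χ₁) (by rw [hsq, h4]; ring) χ₁
    (Finset.mem_filter.2 ⟨Finset.mem_univ _, hχ₁B⟩) hodd
  rw [Nat.card_eq_fintype_card, Fintype.card_subtype]
  exact hfin

end Cfsg.Agent.Lib.Helper81
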