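import Mathlib
import Cfsg.Prelude.Def_Blocks
import Cfsg.Prelude.Def_BlockRank
import Cfsg.Prelude.Def_BrauerPairs
import Cfsg.Prelude.Def_BlockFusion
import Cfsg.Agent.Lib.Helper81.BPFusion
import Cfsg.Agent.Lib.Helper81.BPUnique
import Cfsg.Agent.Lib.Helper81.KerMax
import Cfsg.Agent.Lib.Helper85.InducedPair
import Cfsg.Agent.Lib.Helper85.CentPair
import Cfsg.Agent.Lib.Helper22.DefectConj
import Cfsg.Agent.S4677
import Cfsg.Agent.S4686
import Cfsg.Agent.S4658

set_option autoImplicit false
set_option linter.style.haveILetI false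
set_option linter.unusedSectionVars false

/-!
# Nilpotent blocks with abelian defect groups: the subpairs below a maximal pair

* `conj_trivial_of_nilpotent`: a conjugation between two subpairs of the maximal pair `(D, e)` of a
  nilpotent block with abelian `D` is trivial on the subgroup.
* `subpair_data`: for `Q ≤ D` the block `f` of `C_G(Q)` below `(D, e)` induces `B`, has the defect of
  `B`, is nilpotent and has the abelian defect group `D`.
-/

namespace Cfsg.Agent.Lib.Helper81

open Cfsg
open Cfsg.Agent.Lib.Helper21 Cfsg.Agent.Lib.Helper82 Cfsg.Agent.Lib.Helper83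

universe u
variable {G : Type u} [Group G] [Fintype G] {p : ℕ} [Fact p.Prime] {M : Ideal AlgInt}

local notation "C(" R ")" => Subgroup.centralizer ((R : Subgroup G) : Set G)
local notation "N(" R ")" => Subgroup.normalizer ((R : Subgroup G) : Set G)

/-- **No fusion.** In a nilpotent block with abelian defect group `D` and maximal pair `(D, e)`, a
conjugation carrying a subpair of `(D, e)` to a subpair of `(D, e)` centralizes the subgroup. -/
theorem conj_trivial_of_nilpotent (hMod : IsPModular p M) {B : Set (IrrCharacter G)}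
    {D : Subgroup G} {e : Set (IrrCharacter C(D))} (hmax : IsMaximalBrauerPair p M B D e)
    (hab : ∀ x ∈ D, ∀ y ∈ D, x * y = y * x) (hnil : IsNilpotentBlock p M B)
    {Q : Subgroup G} {f : Set (IrrCharacter C(Q))} (hf : IsPBlock M f)
    (hle : SubpairLE p M Q f D e) (g : G)
    (hle' : SubpairLE p M (cj g Q) (conjBlock Q g f) D e) :
    ∀ u ∈ Q, g * u * g⁻¹ = u := by
  obtain ⟨F, hF, -⟩ := Cfsg.Agent.S4677.result p M hMod B D e hmax
  have hin := (Cfsg.Agent.S4686.result p M hMod B D e hmax F hF).1 hnil Q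
  have hQD : Q ≤ D := subpairLE_le hMod hle hf
  have hQD' : cj g Q ≤ D := subpairLE_le hMod hle' (isPBlock_conjBlock g Q hf)
  have hmem : conjHom Q g ∈ F.Hom Q := by
    rw [hF.2 Q (conjHom Q g)]
    exact ⟨hQD, g, fun u => rfl, hQD', f, hle, hle'⟩
  rw [hin] at hmem
  obtain ⟨-, d, hd, hdu⟩ := hmem
  intro u hu
  have h1 : g * u * g⁻¹ = d * u * d⁻¹ := hdu ⟨u, hu⟩
  rw [h1, hab d hd u (hQD hu), mul_inv_cancel_right]

/-- **The subpairs of the maximal pair of a nilpotent block with abelian defect group.** -/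
theorem subpair_data (hMod : IsPModular p M) {B : Set (IrrCharacter G)}
    {D : Subgroup G} {e : Set (IrrCharacter C(D))} (hmax : IsMaximalBrauerPair p M B D e)
    (hab : ∀ x ∈ D, ∀ y ∈ D, x * y = y * x)
    {Q : Subgroup G} {f : Set (IrrCharacter C(Q))} (hf : IsPBlock M f)
    (hle : SubpairLE p M Q f D e) :
    IsBrauerPairOf p M B Q f ∧ IsInducedBlock M C(Q) f B ∧
      IsDefectGroup p M f (D.subgroupOf C(Q)) ∧ blockDefect p f = blockDefect p B := by
  classical
  have hp : p.Prime := Fact.out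
  obtain ⟨⟨hDp, he⟩, hB, -⟩ := id hmax.1
  have hQD : Q ≤ D := subpairLE_le hMod hle hf
  have hQp : IsPGroup p Q := hDp.to_le hQD
  have hDC : D ≤ C(Q) := by
    intro u hu
    rw [Subgroup.mem_centralizer_iff]
    intro q hq
    exact hab q (hQD hq) u hu
  have hQC : Q ≤ C(Q) := hQD.trans hDC
  have hBQ : IsBrauerPairOf p M B Q f :=
    (Cfsg.Agent.S4658.result p M hMod D Q e f ⟨hDp, he⟩ ⟨hQp, hf⟩ hle B hB).1 hmax.1
  have hind : IsInducedBlock M C(Q) f B :=
    Cfsg.Agent.Lib.Helper85.InducedPair.isInducedBlock_of_isBrauerPairOf hMod hQC hBQ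
  have hdef : IsDefectGroup p M f (D.subgroupOf C(Q)) :=
    Cfsg.Agent.Lib.Helper85.AbelianDefect.isDefectGroup_subH hMod hmax hle hf ⟨hDp, he⟩ hle hDC
      le_rfl
  refine ⟨hBQ, hind, hdef, ?_⟩
  haveI : Fintype C(Q) := Fintype.ofFinite _
  have h1 := Cfsg.Agent.Lib.Helper22.IsDefectGroup.card_eq hMod hf hdef
  have hD : IsDefectGroup p M B D := Cfsg.Agent.S4659.result p M hMod B D e hmax
  have h2 := Cfsg.Agent.Lib.Helper22.IsDefectGroup.card_eq hMod hB hD
  rw [Cfsg.Agent.Lib.Helper85.AbelianDefect.card_subH hDC, h2] at h1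
  exact (Nat.pow_right_injective hp.two_le h1).symm

end Cfsg.Agent.Lib.Helper81
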