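import Mathlib
import Cfsg.Prelude.Def_Blocks
import Cfsg.Prelude.Def_BlockRank
import Cfsg.Prelude.Def_BrauerPairs
import Cfsg.Agent.Lib.Helper81.BPDefect
import Cfsg.Agent.Lib.Helper81.BPConj
import Cfsg.Agent.Lib.Helper22.BlockRankTransport
import Cfsg.Agent.Lib.Helper82.CharBasic

set_option autoImplicit false
set_option linter.style.haveILetI false
set_option linter.unusedSectionVars false

/-!
# Transport of blocks of subgroups along a conjugation `H' = x H x⁻¹`

For subgroups `H`, `H'` of `G` with `y ∈ H' ↔ x⁻¹ y x ∈ H` the blocks of `H` are carried to blocks of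
`H'`; the transported block has the same `p`-regular rank, induces the same block of `G`, and its
idempotent (read on `G`) is the `x`-conjugate of the idempotent of the original block.
-/

namespace Cfsg.Agent.Lib.Helper81

open Cfsg
open Cfsg.Agent.Lib.Helper21 Cfsg.Agent.Lib.Helper82 Cfsg.Agent.Lib.Helper83

universe u

section Rank

variable {X : Type u} [Group X] [Fintype X] {p : ℕ} [Fact p.Prime] {M : Ideal AlgInt}

/-- a block has positive `p`-regular rank -/
theorem blockRank_pos' (hM : M.IsPrime) {b : Set (IrrCharacter X)} (hb : IsPBlock M b) :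
    0 < blockRank p b := by
  classical
  obtain ⟨χ, hχ⟩ := IsPBlock.nonempty hM hb
  unfold blockRank
  rw [Module.finrank_pos_iff_exists_ne_zero]
  refine ⟨⟨pRegularPart p (χ : X → ℂ), Submodule.subset_span ⟨χ, hχ, rfl⟩⟩, ?_⟩
  intro h
  have h1 : pRegularPart p (χ : X → ℂ) = 0 := congrArg Subtype.val h
  have h2 := congrFun h1 1
  have hreg : ¬ p ∣ orderOf (1 : X) := by
    rw [orderOf_one]
    exact (Fact.out : p.Prime).one_lt.ne' ∘ Nat.dvd_one.1
  rw [pRegularPart_of_regular _ hreg] at h2
  exact IsIrrCharacter.apply_one_ne_zero χ.2 h2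

end Rank

section Conj

variable {G : Type u} [Group G] [Fintype G] {M : Ideal AlgInt}

/-- transport of a set of irreducible characters of `H` to `H' = x H x⁻¹` -/
def cjB (x : G) {H H' : Subgroup G} (hH' : ∀ y, y ∈ H' ↔ x⁻¹ * y * x ∈ H)
    (b : Set (IrrCharacter H)) : Set (IrrCharacter H') :=
  Cfsg.Agent.Lib.Helper22.blockComap (conjEquivSub x hH') b

variable (x : G) {H H' : Subgroup G} (hH' : ∀ y, y ∈ H' ↔ x⁻¹ * y * x ∈ H)

theorem isPBlock_cjB {b : Set (IrrCharacter H)} (hb : IsPBlock M b) :
    IsPBlock M (cjB x hH' b) :=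
  Cfsg.Agent.Lib.Helper22.isPBlock_blockComap _ hb

theorem blockRank_cjB (p : ℕ) (b : Set (IrrCharacter H)) :
    blockRank p (cjB x hH' b) = blockRank p b :=
  Cfsg.Agent.Lib.Helper22.blockRank_blockComap p _ b

theorem cjB_blockOf (θ : IrrCharacter H) :
    cjB x hH' (blockOf M (θ : H → ℂ)) =
      blockOf M (irrComp (conjEquivSub x hH') θ : H' → ℂ) := by
  unfold cjB
  rw [Cfsg.Agent.Lib.Helper22.blockComap_blockOf]
  rfl

/-- the idempotent of the transported block is the conjugate idempotent -/
theorem sbc_cjB {b : Set (IrrCharacter H)} (hb : IsPBlock M b) :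
    subgroupBlockCoeff H' (cjB x hH' b) = conjF x (subgroupBlockCoeff H b) := by
  classical
  haveI : Fintype H := Fintype.ofFinite _
  haveI : Finite (IrrCharacter H) := irr_finite
  haveI : Fintype (IrrCharacter H) := Fintype.ofFinite _
  haveI : Fintype H' := Fintype.ofFinite _
  haveI : Finite (IrrCharacter H') := irr_finite
  haveI : Fintype (IrrCharacter H') := Fintype.ofFinite _
  obtain ⟨θ, rfl⟩ := hb
  rw [cjB_blockOf]
  funext g
  simp only [conjF]
  by_cases hg : g ∈ H'
  · rw [sbc_of_mem _ _ hg, sbc_of_mem _ _ ((hH' g).1 hg),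
      blockCoeff_blockOf_irrComp M (conjEquivSub x hH') θ ⟨g, hg⟩]
    rfl
  · rw [sbc_of_not_mem _ _ hg, sbc_of_not_mem _ _ (fun h => hg ((hH' g).2 h))]

/-- the transported block has the same defect -/
theorem blockDefect_cjB (p : ℕ) (b : Set (IrrCharacter H)) :
    blockDefect p (cjB x hH' b) = blockDefect p b := by
  unfold blockDefect
  have hcard : Nat.card H' = Nat.card H := Nat.card_congr (conjEquivSub x hH').toEquiv
  have himg : (fun χ : IrrCharacter H' => (charDegree (χ : H' → ℂ)).factorization p) ''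
      (cjB x hH' b) =
      (fun χ : IrrCharacter H => (charDegree (χ : H → ℂ)).factorization p) '' b := by
    ext n
    constructor
    · rintro ⟨ψ, hψ, rfl⟩
      refine ⟨Cfsg.Agent.Lib.Helper22.irrComap (conjEquivSub x hH').symm ψ, hψ, ?_⟩
      show (charDegree (Cfsg.Agent.Lib.Helper22.irrComap (conjEquivSub x hH').symm ψ :
        H → ℂ)).factorization p = (charDegree (ψ : H' → ℂ)).factorization p
      unfold charDegree
      rw [Cfsg.Agent.Lib.Helper22.irrComap_apply, map_one]
    · rintro ⟨θ, hθ, rfl⟩
      refine ⟨Cfsg.Agent.Lib.Helper22.irrComap (conjEquivSub x hH') θ,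
        Cfsg.Agent.Lib.Helper22.irrComap_mem_blockComap _ hθ, ?_⟩
      show (charDegree (Cfsg.Agent.Lib.Helper22.irrComap (conjEquivSub x hH') θ :
        H' → ℂ)).factorization p = (charDegree (θ : H → ℂ)).factorization p
      unfold charDegree
      rw [Cfsg.Agent.Lib.Helper22.irrComap_apply, map_one]
  rw [hcard, himg]

/-- the induced central character is unchanged by the transport -/
theorem inducedCentralChar_cj (ξ : H → ℂ) (g : G) :
    inducedCentralChar H' (fun t => ξ (conjEquivSub x hH' t)) g = inducedCentralChar H ξ g := by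
  unfold inducedCentralChar
  refine finsum_mem_eq_of_bijOn (conjEquivSub x hH') ?_ ?_
  · refine ⟨?_, (conjEquivSub x hH').injective.injOn, ?_⟩
    · intro t ht
      have ht' : IsConj g (t : G) := ht
      show IsConj g ((conjEquivSub x hH' t : H) : G)
      rw [conjEquivSub_apply]
      refine ht'.trans ?_
      rw [isConj_iff]
      exact ⟨x⁻¹, by group⟩
    · intro h hh
      have hh' : IsConj g (h : G) := hh
      refine ⟨(conjEquivSub x hH').symm h, ?_, (conjEquivSub x hH').apply_symm_apply h⟩
      show IsConj g (((conjEquivSub x hH').symm h : H') : G)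
      have : (((conjEquivSub x hH').symm h : H') : G) = x * (h : G) * x⁻¹ := rfl
      rw [this]
      refine hh'.trans ?_
      rw [isConj_iff]
      exact ⟨x, rfl⟩
  · intro t _
    show ξ (conjEquivSub x hH' t) / ξ (conjEquivSub x hH' 1) = _
    rw [map_one]

/-- the transported block induces the same block of `G` -/
theorem isInducedBlock_cjB {b : Set (IrrCharacter H)} {B : Set (IrrCharacter G)}
    (hind : IsInducedBlock M H b B) : IsInducedBlock M H' (cjB x hH' b) B := by
  refine ⟨isPBlock_cjB x hH' hind.1, hind.2.1, fun ξ' hξ' χ hχ g => ?_⟩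
  have hmem : Cfsg.Agent.Lib.Helper22.irrComap (conjEquivSub x hH').symm ξ' ∈ b := hξ'
  have h := hind.2.2 _ hmem χ hχ g
  rw [← inducedCentralChar_cj x hH'] at h
  have hfun : (fun t : H' => (Cfsg.Agent.Lib.Helper22.irrComap (conjEquivSub x hH').symm ξ' :
      H → ℂ) (conjEquivSub x hH' t)) = (ξ' : H' → ℂ) := by
    funext t
    rw [Cfsg.Agent.Lib.Helper22.irrComap_apply, MulEquiv.symm_apply_apply]
  rw [hfun] at h
  exact h

end Conj

end Cfsg.Agent.Lib.Helper81
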