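import Mathlib
import Cfsg.Prelude.Def_Blocks
import Cfsg.Prelude.Def_BlockRank
import Cfsg.Prelude.Def_BrauerPairs
import Cfsg.Agent.Lib.Helper81.NilAbTransport
import Cfsg.Agent.Lib.Helper81.NilAbFusion

set_option autoImplicit false
set_option linter.style.haveILetI false
set_option linter.unusedSectionVars false

/-!
# Nilpotent blocks with abelian defect groups: counting the subsections

For a nilpotent block `B` with abelian defect group `D` and maximal pair `(D, e)`, the elements of `D`
conjugate to a given `x` give pairwise different blocks of `C_G(x)` inducing `B`.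
-/

namespace Cfsg.Agent.Lib.Helper81

open Cfsg
open Cfsg.Agent.Lib.Helper21 Cfsg.Agent.Lib.Helper82 Cfsg.Agent.Lib.Helper83

universe u
variable {G : Type u} [Group G] [Fintype G] {p : ℕ} [Fact p.Prime] {M : Ideal AlgInt}

local notation "C(" R ")" => Subgroup.centralizer ((R : Subgroup G) : Set G)
local notation "N(" R ")" => Subgroup.normalizer ((R : Subgroup G) : Set G)
local notation "C[" g "]" => Subgroup.centralizer (singleton g)

theorem mem_centralizer_zpowers_iff {u z : G} :
    z ∈ C(Subgroup.zpowers u) ↔ u * z = z * u := by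
  rw [Subgroup.mem_centralizer_iff]
  constructor
  · intro h
    exact h u (Subgroup.mem_zpowers u)
  · intro h w hw
    obtain ⟨k, rfl⟩ := Subgroup.mem_zpowers_iff.1 hw
    exact ((Commute.zpow_left (show Commute u z from h) k)).eq

theorem conj_cent_iff {g u x : G} (hg : g * u * g⁻¹ = x) (y : G) :
    y ∈ (C[x] : Subgroup G) ↔ g⁻¹ * y * g ∈ C(Subgroup.zpowers u) := by
  rw [mem_centralizer_zpowers_iff, Subgroup.mem_centralizer_iff]
  subst hg
  constructor
  · intro h
    have h1 := h _ (Set.mem_singleton _)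
    calc u * (g⁻¹ * y * g) = g⁻¹ * (g * u * g⁻¹ * y) * g := by group
      _ = g⁻¹ * (y * (g * u * g⁻¹)) * g := by rw [h1]
      _ = g⁻¹ * y * g * u := by group
  · intro h w hw
    rw [Set.mem_singleton_iff.1 hw]
    calc g * u * g⁻¹ * y = g * (u * (g⁻¹ * y * g)) * g⁻¹ := by group
      _ = g * (g⁻¹ * y * g * u) * g⁻¹ := by rw [h]
      _ = y * (g * u * g⁻¹) := by group

/-- **Counting.** The elements of `D` conjugate to `x` give different blocks of `C_G(x)` inducing
`B`, each of positive rank. -/
theorem card_le_finsum_blockRank (hMod : IsPModular p M) {B : Set (IrrCharacter G)}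
    {D : Subgroup G} {e : Set (IrrCharacter C(D))} (hmax : IsMaximalBrauerPair p M B D e)
    (hab : ∀ x ∈ D, ∀ y ∈ D, x * y = y * x) (hnil : IsNilpotentBlock p M B) (x : G)
    (s : Finset D) (hs : ∀ u ∈ s, IsConj ((u : D) : G) x) :
    s.card ≤ ∑ᶠ b ∈ {b : Set (IrrCharacter ↥(C[x] : Subgroup G)) |
      IsInducedBlock M (C[x] : Subgroup G) b B}, blockRank p b := by
  classical
  have hM : M.IsPrime := hMod.2.1.isPrime
  obtain ⟨⟨hDp, he⟩, hB, -⟩ := id hmax.1
  haveI : Fintype ↥(C[x] : Subgroup G) := Fintype.ofFinite _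
  haveI : Finite (IrrCharacter ↥(C[x] : Subgroup G)) := irr_finite
  have hex : ∀ u : D, ∃ f : Set (IrrCharacter C(Subgroup.zpowers (u : G))),
      IsPBlock M f ∧ SubpairLE p M (Subgroup.zpowers (u : G)) f D e := fun u =>
    (existsUnique_subpair hMod ⟨hDp, he⟩ (Subgroup.zpowers_le.2 u.2)).exists
  choose fu hfu hfule using hex
  have hcj : ∀ u : D, IsConj ((u : D) : G) x → ∃ g : G, g * (u : G) * g⁻¹ = x :=
    fun u h => _root_.isConj_iff.1 h
  set S : Set (Set (IrrCharacter ↥(C[x] : Subgroup G))) :=
    {b | IsInducedBlock M (C[x] : Subgroup G) b B} with hS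
  let β : D → Set (IrrCharacter ↥(C[x] : Subgroup G)) := fun u =>
    if h : IsConj ((u : D) : G) x then
      cjB (Classical.choose (hcj u h)) (conj_cent_iff (Classical.choose_spec (hcj u h))) (fu u)
    else ∅
  have hβ : ∀ u : D, ∀ h : IsConj ((u : D) : G) x, β u =
      cjB (Classical.choose (hcj u h)) (conj_cent_iff (Classical.choose_spec (hcj u h)))
        (fu u) := by
    intro u h
    show (if h : IsConj ((u : D) : G) x then
      cjB (Classical.choose (hcj u h)) (conj_cent_iff (Classical.choose_spec (hcj u h))) (fu u)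
      else ∅) = _
    rw [dif_pos h]
  have hβS : ∀ u ∈ s, β u ∈ S := by
    intro u hu
    rw [hβ u (hs u hu)]
    exact isInducedBlock_cjB _ _ (subpair_data hMod hmax hab (hfu u) (hfule u)).2.1
  have hpos : ∀ b ∈ S, 1 ≤ blockRank p b := fun b hb => blockRank_pos' hM hb.1
  have hinj : Set.InjOn β (s : Set D) := by
    intro u hu v hv huv
    have hu' := hs u hu
    have hv' := hs v hv
    set gu := Classical.choose (hcj u hu') with hgu
    set gv := Classical.choose (hcj v hv') with hgv
    have hgu' : gu * (u : G) * gu⁻¹ = x := Classical.choose_spec (hcj u hu')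
    have hgv' : gv * (v : G) * gv⁻¹ = x := Classical.choose_spec (hcj v hv')
    have h1 : conjF gu (subgroupBlockCoeff C(Subgroup.zpowers (u : G)) (fu u)) =
        conjF gv (subgroupBlockCoeff C(Subgroup.zpowers (v : G)) (fu v)) := by
      rw [← sbc_cjB gu (conj_cent_iff hgu') (hfu u), ← sbc_cjB gv (conj_cent_iff hgv') (hfu v),
        ← hβ u hu', ← hβ v hv', huv]
    set h := gv⁻¹ * gu with hh
    have h2 : conjF h (subgroupBlockCoeff C(Subgroup.zpowers (u : G)) (fu u)) =
        subgroupBlockCoeff C(Subgroup.zpowers (v : G)) (fu v) := by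
      rw [hh, conjF_mul, h1, conjF_inv_conjF]
    have hconj : h * (u : G) * h⁻¹ = (v : G) := by
      have : h * (u : G) * h⁻¹ = gv⁻¹ * (gu * (u : G) * gu⁻¹) * gv := by rw [hh]; group
      rw [this, hgu', ← hgv']
      group
    have hcjQ : cj h (Subgroup.zpowers (u : G)) = Subgroup.zpowers (v : G) := by
      show (Subgroup.zpowers (u : G)).map (MulAut.conj h).toMonoidHom = _
      rw [MonoidHom.map_zpowers]
      congr 1
    have hpair : (⟨cj h (Subgroup.zpowers (u : G)),
        conjBlock (Subgroup.zpowers (u : G)) h (fu u)⟩ : BrauerPairIdx G) =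
        ⟨Subgroup.zpowers (v : G), fu v⟩ := by
      apply pair_eq_of_sbc_eq hM hcjQ (isPBlock_conjBlock h _ (hfu u)) (hfu v)
      rw [sbc_conjBlock h _ (hfu u), h2]
    have hle' : SubpairLE p M (cj h (Subgroup.zpowers (u : G)))
        (conjBlock (Subgroup.zpowers (u : G)) h (fu u)) D e := by
      have h3 := hfule v
      unfold SubpairLE at h3 ⊢
      rw [hpair]
      exact h3
    have h4 := conj_trivial_of_nilpotent hMod hmax hab hnil (hfu u) (hfule u) h hle' (u : G)
      (Subgroup.mem_zpowers _)
    apply Subtype.ext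
    rw [← hconj, h4]
  have hfin : S.Finite := Set.toFinite S
  rw [finsum_mem_eq_finite_toFinset_sum _ hfin]
  calc s.card = (s.image β).card := (Finset.card_image_of_injOn hinj).symm
    _ = ∑ b ∈ s.image β, 1 := by simp
    _ ≤ ∑ b ∈ s.image β, blockRank p b := by
        refine Finset.sum_le_sum fun b hb => ?_
        obtain ⟨u, hu, rfl⟩ := Finset.mem_image.1 hb
        exact hpos _ (hβS u hu)
    _ ≤ ∑ b ∈ hfin.toFinset, blockRank p b := by
        refine Finset.sum_le_sum_of_subset ?_
        intro b hb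
        obtain ⟨u, hu, rfl⟩ := Finset.mem_image.1 hb
        exact (Set.Finite.mem_toFinset hfin).2 (hβS u hu)

end Cfsg.Agent.Lib.Helper81
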