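import Mathlib
import Cfsg.Prelude.Def_Blocks
import Cfsg.Prelude.Def_BlockRank
import Cfsg.Prelude.Def_BrauerPairs
import Cfsg.Agent.Lib.Helper81.NilAbTransport
import Cfsg.Agent.Lib.Helper81.NilAbFusion
import Cfsg.Agent.Lib.Helper81.NilAbCount

set_option autoImplicit false
set_option linter.style.haveILetI false
set_option linter.unusedSectionVars false

/-!
# Subsections and Brauer pairs

Every subsection `(x, b)` of a block `B` is conjugate to one `(u, f_u)` with `u` in a fixed defect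
group `P`, where `(⟨u⟩, f_u) ≤ (P, e)` for a fixed maximal pair `(P, e)`.  The stabilizer of `(P, e)`
permutes the pairs `(⟨u⟩, f_u)`.  Consequently a transitivity assumption on the stabilizer gives the
uniqueness of the block of `C_G(x)` inducing `B`.
-/

namespace Cfsg.Agent.Lib.Helper81

open Cfsg
open Cfsg.Agent.Lib.Helper21 Cfsg.Agent.Lib.Helper82 Cfsg.Agent.Lib.Helper83

universe u
variable {G : Type u} [Group G] [Fintype G] {p : ℕ} [Fact p.Prime] {M : Ideal AlgInt}

local notation "C(" R ")" => Subgroup.centralizer ((R : Subgroup G) : Set G)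
local notation "N(" R ")" => Subgroup.normalizer ((R : Subgroup G) : Set G)
local notation "C[" g "]" => Subgroup.centralizer (singleton g)

theorem cent_conj_iff {g u x : G} (hg : g * u * g⁻¹ = x) (y : G) :
    y ∈ C(Subgroup.zpowers x) ↔ g⁻¹ * y * g ∈ (C[u] : Subgroup G) := by
  rw [mem_centralizer_zpowers_iff, Subgroup.mem_centralizer_iff]
  subst hg
  constructor
  · intro h w hw
    rw [Set.mem_singleton_iff.1 hw]
    calc u * (g⁻¹ * y * g) = g⁻¹ * (g * u * g⁻¹ * y) * g := by group
      _ = g⁻¹ * (y * (g * u * g⁻¹)) * g := by rw [h]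
      _ = g⁻¹ * y * g * u := by group
  · intro h
    have h1 := h _ (Set.mem_singleton _)
    calc g * u * g⁻¹ * y = g * (u * (g⁻¹ * y * g)) * g⁻¹ := by group
      _ = g * (g⁻¹ * y * g * u) * g⁻¹ := by rw [h1]
      _ = y * (g * u * g⁻¹) := by group

/-- blocks of a subgroup with the same idempotent are equal -/
theorem eq_of_sbc_eq (hM : M.IsPrime) {H : Subgroup G} {b b' : Set (IrrCharacter H)}
    (hb : IsPBlock M b) (hb' : IsPBlock M b')
    (h : subgroupBlockCoeff H b = subgroupBlockCoeff H b') : b = b' := by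
  haveI : Fintype H := Fintype.ofFinite _
  haveI : Finite (IrrCharacter H) := irr_finite
  haveI : Fintype (IrrCharacter H) := Fintype.ofFinite _
  apply eq_of_blockCoeff_eq hM hb hb'
  intro z
  have h1 := sbc_of_mem H b z.2
  have h2 := sbc_of_mem H b' z.2
  rw [h] at h1
  exact h1.symm.trans h2

/-- the idempotent of the pair on a subgroup below `(P, e)` only depends on the subgroup -/
theorem sbc_eq_of_subpairLE (hMod : IsPModular p M) {P : Subgroup G}
    {e : Set (IrrCharacter C(P))} (hPe : IsBrauerPair p M P e) {Q Q' : Subgroup G}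
    (hQQ' : Q' = Q) {f : Set (IrrCharacter C(Q))} {f' : Set (IrrCharacter C(Q'))}
    (hf : IsPBlock M f) (hf' : IsPBlock M f') (hle : SubpairLE p M Q f P e)
    (hle' : SubpairLE p M Q' f' P e) :
    subgroupBlockCoeff C(Q') f' = subgroupBlockCoeff C(Q) f := by
  subst hQQ'
  have hQP : Q' ≤ P := subpairLE_le hMod hle hf
  rw [(existsUnique_subpair hMod hPe hQP).unique ⟨hf', hle'⟩ ⟨hf, hle⟩]

theorem cj_zpowers (g x : G) : cj g (Subgroup.zpowers x) = Subgroup.zpowers (g * x * g⁻¹) := by
  show (Subgroup.zpowers x).map (MulAut.conj g).toMonoidHom = _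
  rw [MonoidHom.map_zpowers]
  congr 1

/-- **Subsections come from the defect group.** -/
theorem exists_of_isInducedBlock_centralizer (hMod : IsPModular p M)
    {B : Set (IrrCharacter G)} {P : Subgroup G} {e : Set (IrrCharacter C(P))}
    (hmax : IsMaximalBrauerPair p M B P e) {x : G} (hx : IsPGroup p (Subgroup.zpowers x))
    {b : Set (IrrCharacter ↥(C[x] : Subgroup G))}
    (hind : IsInducedBlock M (C[x] : Subgroup G) b B) :
    ∃ (u g : G) (hg : g * u * g⁻¹ = x) (f : Set (IrrCharacter C(Subgroup.zpowers u))),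
      u ∈ P ∧ IsPBlock M f ∧ SubpairLE p M (Subgroup.zpowers u) f P e ∧
        b = cjB g (conj_cent_iff hg) f := by
  classical
  have hM : M.IsPrime := hMod.2.1.isPrime
  obtain ⟨⟨hPp, he⟩, hB, -⟩ := id hmax.1
  have hb : IsPBlock M b := hind.1
  have h1 : (1 : G) * x * (1 : G)⁻¹ = x := by simp
  set b' : Set (IrrCharacter C(Subgroup.zpowers x)) := cjB 1 (cent_conj_iff h1) b with hb'def
  have hb' : IsPBlock M b' := isPBlock_cjB 1 _ hb
  have hind' : IsInducedBlock M C(Subgroup.zpowers x) b' B := isInducedBlock_cjB 1 _ hind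
  have hsbc' : subgroupBlockCoeff C(Subgroup.zpowers x) b' =
      subgroupBlockCoeff (C[x] : Subgroup G) b := by
    rw [hb'def, sbc_cjB 1 _ hb, conjF_one]
  have hBP : IsBrauerPairOf p M B (Subgroup.zpowers x) b' :=
    Cfsg.Agent.Lib.Helper85.InducedPair.isBrauerPairOf_of_isInducedBlock hMod hx hind'
  obtain ⟨g, hg⟩ := exists_conj_subpairLE hMod hmax hBP
  have hcb : IsPBlock M (conjBlock (Subgroup.zpowers x) g b') := isPBlock_conjBlock g _ hb'
  have hQP : cj g (Subgroup.zpowers x) ≤ P := subpairLE_le hMod hg hcb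
  set u : G := g * x * g⁻¹ with hu
  have hcj : cj g (Subgroup.zpowers x) = Subgroup.zpowers u := cj_zpowers g x
  have huP : u ∈ P := hQP (by rw [hcj]; exact Subgroup.mem_zpowers u)
  obtain ⟨f, hf, hle⟩ := (existsUnique_subpair hMod ⟨hPp, he⟩ (Subgroup.zpowers_le.2 huP)).exists
  have hs := sbc_eq_of_subpairLE hMod ⟨hPp, he⟩ hcj hf hcb hle hg
  rw [sbc_conjBlock g _ hb', hsbc'] at hs
  have hg' : g⁻¹ * u * g⁻¹⁻¹ = x := by rw [hu]; group
  refine ⟨u, g⁻¹, hg', f, huP, hf, hle, ?_⟩
  apply eq_of_sbc_eq hM hb (isPBlock_cjB _ _ hf)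
  rw [sbc_cjB _ _ hf, ← hs, conjF_inv_conjF]

/-- **The stabilizer of the maximal pair permutes the pairs below it.** -/
theorem sbc_conj_of_stabilizer (hMod : IsPModular p M) {P : Subgroup G}
    {e : Set (IrrCharacter C(P))} (hPe : IsBrauerPair p M P e) {t : G} (htN : t ∈ N(P))
    (hte : StabilizesBlock C(P) e t) {u v : G} (hv : t * u * t⁻¹ = v)
    {f : Set (IrrCharacter C(Subgroup.zpowers u))} (hf : IsPBlock M f)
    (hle : SubpairLE p M (Subgroup.zpowers u) f P e)
    {f' : Set (IrrCharacter C(Subgroup.zpowers v))} (hf' : IsPBlock M f')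
    (hle' : SubpairLE p M (Subgroup.zpowers v) f' P e) :
    subgroupBlockCoeff C(Subgroup.zpowers v) f' =
      conjF t (subgroupBlockCoeff C(Subgroup.zpowers u) f) := by
  classical
  have hM : M.IsPrime := hMod.2.1.isPrime
  haveI : Fintype C(P) := Fintype.ofFinite _
  haveI : Finite (IrrCharacter C(P)) := irr_finite
  haveI : Fintype (IrrCharacter C(P)) := Fintype.ofFinite _
  have he : IsPBlock M e := hPe.2
  have htε := ((stabilizesBlock_iff_conjF C(P) hM he t).1 hte).2
  have h := subpairLE_conj hMod t hle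
  have h1 : (⟨cj t P, conjBlock P t e⟩ : BrauerPairIdx G) = ⟨P, e⟩ := by
    apply pair_eq_of_sbc_eq hM (cj_eq_of_mem_normalizer htN) (isPBlock_conjBlock t P he) he
    rw [sbc_conjBlock t P he, htε]
  have hle'' : SubpairLE p M (cj t (Subgroup.zpowers u)) (conjBlock (Subgroup.zpowers u) t f) P e := by
    unfold SubpairLE at h ⊢
    rw [h1] at h
    exact h
  have hcj : cj t (Subgroup.zpowers u) = Subgroup.zpowers v := by rw [cj_zpowers, hv]
  have hs := sbc_eq_of_subpairLE hMod hPe hcj hf' (isPBlock_conjBlock t _ hf) hle' hle''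
  rw [sbc_conjBlock t _ hf] at hs
  exact hs.symm

/-- **Uniqueness of the subsection over `x`**, when the stabilizer `T` of the maximal pair is
transitive on the elements of `P` conjugate to `x`. -/
theorem subsection_unique (hMod : IsPModular p M)
    {B : Set (IrrCharacter G)} {P : Subgroup G} {e : Set (IrrCharacter C(P))}
    (hmax : IsMaximalBrauerPair p M B P e) {T : Subgroup G}
    (hT : ∀ g : G, g ∈ T ↔ (g ∈ N(P) ∧ StabilizesBlock C(P) e g))
    {x : G} (hx : IsPGroup p (Subgroup.zpowers x))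
    (htrans : ∀ u ∈ P, ∀ u' ∈ P, IsConj u x → IsConj u' x → ∃ t ∈ T, t * u * t⁻¹ = u')
    {b b' : Set (IrrCharacter ↥(C[x] : Subgroup G))}
    (hind : IsInducedBlock M (C[x] : Subgroup G) b B)
    (hind' : IsInducedBlock M (C[x] : Subgroup G) b' B) : b = b' := by
  classical
  have hM : M.IsPrime := hMod.2.1.isPrime
  obtain ⟨⟨hPp, he⟩, hB, -⟩ := id hmax.1
  obtain ⟨u, g, hg, f, huP, hf, hle, hbf⟩ := exists_of_isInducedBlock_centralizer hMod hmax hx hind
  obtain ⟨u', g', hg', f', hu'P, hf', hle', hbf'⟩ :=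
    exists_of_isInducedBlock_centralizer hMod hmax hx hind'
  obtain ⟨t, htT, htu⟩ := htrans u huP u' hu'P (_root_.isConj_iff.2 ⟨g, hg⟩)
    (_root_.isConj_iff.2 ⟨g', hg'⟩)
  obtain ⟨htN, hte⟩ := (hT t).1 htT
  have hs := sbc_conj_of_stabilizer hMod ⟨hPp, he⟩ htN hte htu hf hle hf' hle'
  have hsb : subgroupBlockCoeff (C[x] : Subgroup G) b =
      conjF g (subgroupBlockCoeff C(Subgroup.zpowers u) f) := by
    rw [hbf, sbc_cjB _ _ hf]
  have hsb' : subgroupBlockCoeff (C[x] : Subgroup G) b' =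
      conjF g' (subgroupBlockCoeff C(Subgroup.zpowers u') f') := by
    rw [hbf', sbc_cjB _ _ hf']
  set h : G := g' * t * g⁻¹ with hh
  have hhx : h * x * h⁻¹ = x := by
    rw [hh, ← hg]
    have : g' * t * g⁻¹ * (g * u * g⁻¹) * (g' * t * g⁻¹)⁻¹ = g' * (t * u * t⁻¹) * g'⁻¹ := by group
    rw [this, htu, hg', hg]
  have hhC : h⁻¹ ∈ (C[x] : Subgroup G) := by
    apply Subgroup.inv_mem
    rw [Subgroup.mem_centralizer_iff]
    intro w hw
    rw [Set.mem_singleton_iff.1 hw]
    calc x * h = (h * x * h⁻¹) * h := by rw [hhx]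
      _ = h * x := by group
  have h2 : subgroupBlockCoeff (C[x] : Subgroup G) b' =
      conjF h (subgroupBlockCoeff (C[x] : Subgroup G) b) := by
    rw [hsb', hs, hsb, hh, conjF_mul, conjF_mul, conjF_inv_conjF]
  apply eq_of_sbc_eq hM hind.1 hind'.1
  rw [h2]
  funext z
  haveI : Fintype ↥(C[x] : Subgroup G) := Fintype.ofFinite _
  haveI : Finite (IrrCharacter ↥(C[x] : Subgroup G)) := irr_finite
  haveI : Fintype (IrrCharacter ↥(C[x] : Subgroup G)) := Fintype.ofFinite _
  have h3 := sbc_conjInv_self (C[x] : Subgroup G) b h⁻¹ hhC z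
  rw [inv_inv] at h3
  exact h3.symm

end Cfsg.Agent.Lib.Helper81
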