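import Mathlib
import Cfsg.Prelude.Def_Blocks
import Cfsg.Prelude.Def_BlockRank
import Cfsg.Agent.Lib.Helper82.SecRoot
import Cfsg.Agent.Lib.Helper82.ContribExtra

set_option autoImplicit false
set_option linter.style.haveILetI false
set_option linter.unusedSectionVars false

/-!
# Brauer's bound `k(B) ≤ p^d · l(b)` for a major subsection `(y, b)`

Consequence of the lower bound `Helper82.card_units_mul_pow_le_sum_contrib` for the Galois orbit of
a major subsection and of the trace formula `Helper82.sum_contrib_self'`.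
-/

namespace Cfsg.Agent.Lib.Helper81

open Cfsg
open Cfsg.Agent.Lib.Helper21 Cfsg.Agent.Lib.Helper82 Cfsg.Agent.Lib.Helper83

universe u
variable {G : Type u} [Group G] [Fintype G] {p : ℕ} [Fact p.Prime] {M : Ideal AlgInt}

local notation "C[" g "]" => Subgroup.centralizer (singleton g)

/-- **Brauer.** If `(y, e)` is a major subsection of the block `B` of defect `d`
(`e` a block of `C_G(y)` inducing `B` with the same defect), then `k(B) ≤ p^d · l(e)`. -/
theorem card_block_le_of_major (hM : IsPModular p M) (y : G) (m : ℕ)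
    (hy : y ^ (p ^ m) = 1) {e : Set (IrrCharacter C[y])} {B : Set (IrrCharacter G)}
    (hind : IsInducedBlock M C[y] e B)
    (hdef : blockDefect p e = blockDefect p B) :
    Nat.card B ≤ p ^ blockDefect p B * blockRank p e := by
  classical
  have hp : p.Prime := hM.1
  have hMp : M.IsPrime := hM.2.1.isPrime
  haveI : Fintype C[y] := Fintype.ofFinite _
  haveI : Finite (IrrCharacter G) := irr_finite
  haveI : Fintype (IrrCharacter G) := Fintype.ofFinite _
  haveI : NeZero (p ^ m) := ⟨pow_ne_zero _ hp.ne_zero⟩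
  obtain ⟨ψ₀, hψ₀⟩ := hind.1
  obtain ⟨χ₀, hχ₀⟩ := hind.2.1
  subst hψ₀
  subst hχ₀
  set B := blockOf M (χ₀ : G → ℂ) with hB
  set e := blockOf M (ψ₀ : C[y] → ℂ) with he
  set d := blockDefect p B with hd
  have hord : orderOf y ∣ p ^ m := orderOf_dvd_of_pow_eq_one hy
  have hcop : ∀ j : (ZMod (p ^ m))ˣ, Nat.Coprime (j : ZMod (p ^ m)).val (orderOf y) := by
    intro j
    exact Nat.Coprime.coprime_dvd_right hord (ZMod.val_coe_unit_coprime j)
  have hCj : ∀ j : (ZMod (p ^ m))ˣ, C[y] = C[y ^ (j : ZMod (p ^ m)).val] := fun j =>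
    (centralizer_pow_eq_of_coprime y _ (hcop j)).symm
  have hxj : ∀ j : (ZMod (p ^ m))ˣ, ∃ k : ℕ, orderOf (y ^ (j : ZMod (p ^ m)).val) = p ^ k := by
    intro j
    have h1 : orderOf (y ^ (j : ZMod (p ^ m)).val) ∣ p ^ m :=
      (orderOf_pow_dvd _).trans hord
    obtain ⟨k, -, hk⟩ := (Nat.dvd_prime_pow hp).1 h1
    exact ⟨k, hk⟩
  -- the trace formula, real parts
  have htr : ∀ j : (ZMod (p ^ m))ˣ,
      ∑ χ : IrrCharacter G, (if χ ∈ B then
        (contrib p e (y ^ (j : ZMod (p ^ m)).val) (χ : G → ℂ) (χ : G → ℂ)).re else 0) =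
        (blockRank p e : ℝ) := by
    intro j
    have h := sum_contrib_self' hM (hxj j) C[y] (hCj j) χ₀ e hind
    have h2 := congrArg Complex.re h
    rw [Complex.re_sum, Complex.natCast_re] at h2
    rw [← h2]
    refine Finset.sum_congr rfl fun χ _ => ?_
    split_ifs <;> simp
  -- the lower bounds
  have hlow : ∀ χ : IrrCharacter G, χ ∈ B →
      (Fintype.card (ZMod (p ^ m))ˣ : ℝ) ≤
        (p : ℝ) ^ d * ∑ j : (ZMod (p ^ m))ˣ,
          (contrib p e (y ^ (j : ZMod (p ^ m)).val) (χ : G → ℂ) (χ : G → ℂ)).re := by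
    intro χ hχ
    have h := card_units_mul_pow_le_sum_contrib hM y m hy ψ₀ χ₀ hind hdef χ hχ
    refine le_trans ?_ h
    have h1 : (1 : ℝ) ≤ (p : ℝ) ^ blockHeight p (blockOf M (χ₀ : G → ℂ)) (χ : G → ℂ) := by
      apply one_le_pow₀
      exact_mod_cast hp.one_lt.le
    have h0 : (0 : ℝ) ≤ (Fintype.card (ZMod (p ^ m))ˣ : ℝ) := Nat.cast_nonneg _
    nlinarith
  have hφpos : (0 : ℝ) < (Fintype.card (ZMod (p ^ m))ˣ : ℝ) := by
    exact_mod_cast Fintype.card_pos
  -- sum over the block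
  have hsum : (Nat.card B : ℝ) * (Fintype.card (ZMod (p ^ m))ˣ : ℝ) ≤
      (p : ℝ) ^ d * ((Fintype.card (ZMod (p ^ m))ˣ : ℝ) * (blockRank p e : ℝ)) := by
    have hcard : (Nat.card B : ℝ) = ∑ χ : IrrCharacter G, (if χ ∈ B then (1 : ℝ) else 0) := by
      rw [Finset.sum_ite, Finset.sum_const_zero, add_zero, Finset.sum_const, nsmul_eq_mul, mul_one]
      congr 1
      rw [Nat.card_eq_fintype_card, Fintype.card_subtype]
    rw [hcard, Finset.sum_mul]
    calc ∑ χ : IrrCharacter G, (if χ ∈ B then (1 : ℝ) else 0) *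
            (Fintype.card (ZMod (p ^ m))ˣ : ℝ)
        ≤ ∑ χ : IrrCharacter G, (if χ ∈ B then
            (p : ℝ) ^ d * ∑ j : (ZMod (p ^ m))ˣ,
              (contrib p e (y ^ (j : ZMod (p ^ m)).val) (χ : G → ℂ) (χ : G → ℂ)).re else 0) := by
          refine Finset.sum_le_sum fun χ _ => ?_
          split_ifs with hχ
          · rw [one_mul]
            exact hlow χ hχ
          · rw [zero_mul]
      _ = (p : ℝ) ^ d * ∑ j : (ZMod (p ^ m))ˣ, ∑ χ : IrrCharacter G, (if χ ∈ B then
              (contrib p e (y ^ (j : ZMod (p ^ m)).val) (χ : G → ℂ) (χ : G → ℂ)).re else 0) := by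
          rw [Finset.sum_comm, Finset.mul_sum]
          refine Finset.sum_congr rfl fun χ _ => ?_
          split_ifs with hχ
          · rfl
          · rw [Finset.sum_const_zero, mul_zero]
      _ = (p : ℝ) ^ d * ((Fintype.card (ZMod (p ^ m))ˣ : ℝ) * (blockRank p e : ℝ)) := by
          congr 1
          rw [Finset.sum_congr rfl fun j _ => htr j, Finset.sum_const, nsmul_eq_mul]
          rfl
  have hfin : (Nat.card B : ℝ) ≤ (p : ℝ) ^ d * (blockRank p e : ℝ) := by
    have h2 : (Nat.card B : ℝ) * (Fintype.card (ZMod (p ^ m))ˣ : ℝ) ≤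
        ((p : ℝ) ^ d * (blockRank p e : ℝ)) * (Fintype.card (ZMod (p ^ m))ˣ : ℝ) := by
      calc _ ≤ _ := hsum
        _ = _ := by ring
    exact le_of_mul_le_mul_right h2 hφpos
  exact_mod_cast hfin

end Cfsg.Agent.Lib.Helper81
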