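import Mathlib
import Cfsg.Prelude.Def_Blocks
import Cfsg.Prelude.Def_BlockRank
import Cfsg.Prelude.Def_BrauerPairs
import Cfsg.Agent.Lib.Helper81.NilAbTransport
import Cfsg.Agent.Lib.Helper81.NilAbFusion
import Cfsg.Agent.Lib.Helper81.NilAbCount
import Cfsg.Agent.Lib.Helper81.NilAbBound
import Cfsg.Agent.S4511
import Cfsg.Agent.S0968

set_option autoImplicit false
set_option linter.style.haveILetI false
set_option linter.unusedSectionVars false

/-!
# Nilpotent blocks with abelian defect groups have one Brauer character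

`blockRank_eq_one_of_nilpotent_abelian`: a nilpotent block `B` with abelian defect group `D` has
`l(B) = 1` and `k(B) = |D|`.  Induction on the group order: Brauer's count of `k(B)` by subsections
(S4511), no fusion of subsections (nilpotency), Brauer's bound `k(B) ≤ p^d l(b)` for a major
subsection, and the case of a central defect group (S0968).
-/

namespace Cfsg.Agent.Lib.Helper81

open Cfsg
open Cfsg.Agent.Lib.Helper21 Cfsg.Agent.Lib.Helper82 Cfsg.Agent.Lib.Helper83

universe u

section Prep

variable {G : Type u} [Group G] [Fintype G] {p : ℕ} [Fact p.Prime] {M : Ideal AlgInt}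

local notation "C(" R ")" => Subgroup.centralizer ((R : Subgroup G) : Set G)
local notation "C[" g "]" => Subgroup.centralizer (singleton g)

/-- the trivial Brauer pair of a block, with its rank -/
theorem exists_bot_pair (hMod : IsPModular p M) {B : Set (IrrCharacter G)}
    (hB : IsPBlock M B) :
    ∃ f : Set (IrrCharacter C((⊥ : Subgroup G))), IsBrauerPairOf p M B ⊥ f ∧
      blockRank p f = blockRank p B := by
  classical
  haveI : Finite (IrrCharacter G) := irr_finite
  haveI : Fintype (IrrCharacter G) := Fintype.ofFinite _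
  haveI : Fintype C((⊥ : Subgroup G)) := Fintype.ofFinite _
  haveI : Finite (IrrCharacter C((⊥ : Subgroup G))) := irr_finite
  haveI : Fintype (IrrCharacter C((⊥ : Subgroup G))) := Fintype.ofFinite _
  have hM : M.IsPrime := hMod.2.1.isPrime
  obtain ⟨χ₀, rfl⟩ := id hB
  refine ⟨blockOf M (irrComp botEquiv χ₀ : C((⊥ : Subgroup G)) → ℂ),
    ⟨⟨IsPGroup.of_bot, ⟨_, rfl⟩⟩, hB, fun ξ hξ => ?_⟩, ?_⟩
  · have h1 : irrComp botEquiv.symm ξ ∈ blockOf M (χ₀ : G → ℂ) :=
      (mem_blockOf_irrComp_iff M botEquiv χ₀ ξ).1 hξ
    have h2 : brauerOmega (⊥ : Subgroup G) (blockCoeff (blockOf M (χ₀ : G → ℂ)))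
        (ξ : C((⊥ : Subgroup G)) → ℂ)
        = omega (blockCoeff (blockOf M (χ₀ : G → ℂ)))
          (irrComp (botEquiv (G := G)).symm ξ : G → ℂ) := by
      rw [brauerOmega_eq_omega_rs, ← omega_comp (botEquiv (G := G))]
      congr 1
    rw [h2, omega_blockCoeff, if_pos h1, sub_self]
    exact memLocalIdeal_zero hM
  · have h3 : blockOf M (irrComp botEquiv χ₀ : C((⊥ : Subgroup G)) → ℂ) =
        Cfsg.Agent.Lib.Helper22.blockComap (botEquiv (G := G)) (blockOf M (χ₀ : G → ℂ)) := by
      rw [Cfsg.Agent.Lib.Helper22.blockComap_blockOf]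
      rfl
    rw [h3, Cfsg.Agent.Lib.Helper22.blockRank_blockComap]

/-- representatives of the classes of `p`-elements -/
theorem exists_pElement_reps (G : Type u) [Group G] [Fintype G] (p : ℕ) :
    ∃ X : Finset G, (∀ x ∈ X, ∃ k : ℕ, orderOf x = p ^ k) ∧
      ∀ g : G, (∃ k : ℕ, orderOf g = p ^ k) → ∃! x, x ∈ X ∧ IsConj g x := by
  classical
  have hfin : ({x : G | (∃ k : ℕ, orderOf x = p ^ k) ∧
      x = Quotient.out (ConjClasses.mk x)}).Finite := Set.toFinite _
  refine ⟨hfin.toFinset, ?_, ?_⟩
  · intro x hx
    exact ((Set.Finite.mem_toFinset hfin).1 hx).1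
  · intro g hg
    have hout : IsConj g (Quotient.out (ConjClasses.mk g)) := by
      rw [← ConjClasses.mk_eq_mk_iff_isConj]
      exact (Quotient.out_eq (ConjClasses.mk g)).symm
    refine ⟨Quotient.out (ConjClasses.mk g), ⟨?_, hout⟩, ?_⟩
    · refine (Set.Finite.mem_toFinset hfin).2 ⟨?_, ?_⟩
      · obtain ⟨k, hk⟩ := hg
        obtain ⟨c, hc⟩ := _root_.isConj_iff.1 hout
        refine ⟨k, ?_⟩
        rw [← hc, ← hk]
        exact (MulAut.conj c).orderOf_eq g
      · have h1 : ConjClasses.mk (Quotient.out (ConjClasses.mk g)) = ConjClasses.mk g :=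
          Quotient.out_eq (ConjClasses.mk g)
        rw [h1]
    · rintro y ⟨hy, hgy⟩
      have hy2 := ((Set.Finite.mem_toFinset hfin).1 hy).2
      rw [hy2, ConjClasses.mk_eq_mk_iff_isConj.2 hgy]

theorem card_conjClasses_of_comm (D : Subgroup G) (hab : ∀ x ∈ D, ∀ y ∈ D, x * y = y * x) :
    Nat.card (ConjClasses D) = Nat.card D := by
  refine (Nat.card_congr (Equiv.ofBijective (ConjClasses.mk : D → ConjClasses D)
    ⟨?_, ConjClasses.mk_surjective⟩)).symm
  intro a b h
  obtain ⟨c, hc⟩ := _root_.isConj_iff.1 (ConjClasses.mk_eq_mk_iff_isConj.1 h)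
  have hca : c * a = a * c := Subtype.ext (hab c c.2 a a.2)
  rw [← hc, hca, mul_inv_cancel_right]

end Prep

section Main

variable {p : ℕ} [Fact p.Prime] {M : Ideal AlgInt}

theorem nilAb_aux (hMod : IsPModular p M) : ∀ n : ℕ, ∀ (G : Type u) [Group G] [Fintype G],
    Nat.card G = n → ∀ (B : Set (IrrCharacter G)) (D : Subgroup G), IsDefectGroup p M B D →
      (∀ x ∈ D, ∀ y ∈ D, x * y = y * x) → IsNilpotentBlock p M B →
      blockRank p B = 1 ∧ Nat.card B = Nat.card D := by
  intro n
  induction n using Nat.strong_induction_on with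
  | _ n ih =>
  intro G _ _ hcard B D hD hab hnil
  classical
  have hp : p.Prime := Fact.out
  have hM : M.IsPrime := hMod.2.1.isPrime
  have hB : IsPBlock M B := hnil.1
  obtain ⟨e, hmax⟩ := exists_maximal_at_defect' hMod hB hD
  have hDp : IsPGroup p D := hmax.1.1.1
  have he : IsPBlock M e := hmax.1.1.2
  have hcardD : Nat.card D = p ^ blockDefect p B :=
    Cfsg.Agent.Lib.Helper22.IsDefectGroup.card_eq hMod hB hD
  haveI : Fintype D := Fintype.ofFinite _
  -- the upper bound
  have hupper : Nat.card B ≤ Nat.card D := by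
    by_cases hcen : (D : Set G) ⊆ Subgroup.center G
    · have hC : Subgroup.centralizer (D : Set G) = ⊤ :=
        Subgroup.centralizer_eq_top_iff_subset.2 hcen
      have hG : D ⊔ Subgroup.centralizer (D : Set G) = ⊤ := by rw [hC, sup_top_eq]
      have h := (Cfsg.Agent.S0968.result p M hMod D hDp hG B hB hD).2.2
      rw [h, card_conjClasses_of_comm D hab]
    · obtain ⟨u, hu, hucen⟩ := Set.not_subset.1 hcen
      have huD : u ∈ D := hu
      obtain ⟨f, hf, hle⟩ :=
        (existsUnique_subpair hMod ⟨hDp, he⟩ (Subgroup.zpowers_le.2 huD)).exists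
      obtain ⟨hBQ, hind, hdefg, hdef⟩ := subpair_data hMod hmax hab hf hle
      have hnilf : IsNilpotentBlock p M f :=
        Cfsg.Agent.Lib.Helper85.CentPair.isNilpotentBlock_centralizer hMod hnil hBQ
      have hne : Subgroup.centralizer ((Subgroup.zpowers u : Subgroup G) : Set G) ≠ ⊤ := by
        intro htop
        apply hucen
        exact Subgroup.centralizer_eq_top_iff_subset.1 htop (Subgroup.mem_zpowers u)
      have hlt : Nat.card (Subgroup.centralizer ((Subgroup.zpowers u : Subgroup G) : Set G)) < n := by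
        rw [← hcard]
        exact lt_of_le_of_ne (Subgroup.card_le_card_group _)
          (fun h => hne ((Subgroup.card_eq_iff_eq_top _).1 h))
      haveI : Fintype (Subgroup.centralizer ((Subgroup.zpowers u : Subgroup G) : Set G)) :=
        Fintype.ofFinite _
      have habf : ∀ x ∈ D.subgroupOf (Subgroup.centralizer ((Subgroup.zpowers u : Subgroup G) : Set G)),
          ∀ y ∈ D.subgroupOf (Subgroup.centralizer ((Subgroup.zpowers u : Subgroup G) : Set G)),
          x * y = y * x := by
        intro x hx y hy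
        apply Subtype.ext
        exact hab _ (Subgroup.mem_subgroupOf.1 hx) _ (Subgroup.mem_subgroupOf.1 hy)
      have hrank := (ih _ hlt _ rfl f _ hdefg habf hnilf).1
      have hH' := conj_cent_iff (g := (1 : G)) (u := u) (x := u) (by simp)
      have hind' := isInducedBlock_cjB 1 hH' hind
      have hdef' : blockDefect p (cjB 1 hH' f) = blockDefect p B := by
        rw [blockDefect_cjB, hdef]
      obtain ⟨m, hm⟩ := hDp ⟨u, huD⟩
      have hy : u ^ (p ^ m) = 1 := by simpa using congrArg Subtype.val hm
      have h := card_block_le_of_major hMod u m hy hind' hdef'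
      rw [blockRank_cjB, hrank, mul_one, ← hcardD] at h
      exact h
  -- the lower bound
  have hlower : blockRank p B + (Nat.card D - 1) ≤ Nat.card B := by
    obtain ⟨X, hX, hXrep⟩ := exists_pElement_reps G p
    have hcount := Cfsg.Agent.S4511.result p M hMod B hB X hX hXrep
    have h1X : (1 : G) ∈ X := by
      obtain ⟨x, ⟨hxX, hx1⟩, -⟩ := hXrep 1 ⟨0, by simp⟩
      rw [isConj_one_right.1 hx1] at hxX
      exact hxX
    rw [hcount, ← Finset.add_sum_erase X _ h1X]
    apply add_le_add
    · -- the subsection `(1, B)`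
      obtain ⟨f₀, hf₀, hr₀⟩ := exists_bot_pair hMod hB
      have hind₀ : IsInducedBlock M (Subgroup.centralizer (((⊥ : Subgroup G) : Subgroup G) : Set G))
          f₀ B :=
        Cfsg.Agent.Lib.Helper85.InducedPair.isInducedBlock_of_isBrauerPairOf hMod bot_le hf₀
      have hH₀ : ∀ y : G, y ∈ Subgroup.centralizer ({(1 : G)} : Set G) ↔
          (1 : G)⁻¹ * y * 1 ∈ Subgroup.centralizer (((⊥ : Subgroup G) : Subgroup G) : Set G) := by
        intro y
        constructor
        · intro _
          rw [Subgroup.mem_centralizer_iff]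
          intro h hh
          rw [Subgroup.mem_bot.1 hh]
          simp
        · intro _
          rw [Subgroup.mem_centralizer_iff]
          intro h hh
          rw [Set.mem_singleton_iff.1 hh]
          simp
      have hind₁ := isInducedBlock_cjB 1 hH₀ hind₀
      haveI : Fintype ↥(Subgroup.centralizer ({(1 : G)} : Set G)) := Fintype.ofFinite _
      haveI : Finite (IrrCharacter ↥(Subgroup.centralizer ({(1 : G)} : Set G))) := irr_finite
      have hfin : ({b : Set (IrrCharacter ↥(Subgroup.centralizer ({(1 : G)} : Set G))) |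
          IsInducedBlock M (Subgroup.centralizer ({(1 : G)} : Set G)) b B}).Finite :=
        Set.toFinite _
      rw [finsum_mem_eq_finite_toFinset_sum _ hfin, ← hr₀, ← blockRank_cjB 1 hH₀ p f₀]
      exact Finset.single_le_sum (f := fun b => blockRank p b) (fun _ _ => Nat.zero_le _)
        ((Set.Finite.mem_toFinset hfin).2 hind₁)
    · -- the other subsections
      have hpel : ∀ u : D, ∃ k : ℕ, orderOf ((u : D) : G) = p ^ k := by
        intro u
        obtain ⟨k, hk⟩ := (IsPGroup.iff_orderOf.1 hDp) u
        exact ⟨k, by rw [← hk, Subgroup.orderOf_coe]⟩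
      have hrepex : ∀ u : D, ∃ x : G, x ∈ X ∧ IsConj ((u : D) : G) x := fun u =>
        (hXrep _ (hpel u)).exists
      choose rep hrepX hrepc using hrepex
      set s : Finset D := Finset.univ.erase (1 : D) with hs
      have hscard : s.card = Nat.card D - 1 := by
        rw [hs, Finset.card_erase_of_mem (Finset.mem_univ _), Finset.card_univ,
          Nat.card_eq_fintype_card]
      have hmaps : ∀ u ∈ s, rep u ∈ X.erase 1 := by
        intro u hu
        refine Finset.mem_erase.2 ⟨?_, hrepX u⟩
        intro h1
        have h2 := hrepc u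
        rw [h1, isConj_one_left] at h2
        exact (Finset.mem_erase.1 hu).1 (Subtype.ext h2)
      rw [← hscard, Finset.card_eq_sum_card_fiberwise hmaps]
      refine Finset.sum_le_sum fun x _ => ?_
      apply card_le_finsum_blockRank hMod hmax hab hnil x
      intro u hu
      rw [← (Finset.mem_filter.1 hu).2]
      exact hrepc u
  have hposr : 0 < blockRank p B := blockRank_pos' hM hB
  have hDpos : 0 < Nat.card D := Nat.card_pos
  constructor <;> omega

/-- **Nilpotent blocks with abelian defect groups.** `l(B) = 1` and `k(B) = |D|`. -/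
theorem blockRank_eq_one_of_nilpotent_abelian {G : Type u} [Group G] [Fintype G]
    (hMod : IsPModular p M) {B : Set (IrrCharacter G)} {D : Subgroup G}
    (hD : IsDefectGroup p M B D) (hab : ∀ x ∈ D, ∀ y ∈ D, x * y = y * x)
    (hnil : IsNilpotentBlock p M B) : blockRank p B = 1 ∧ Nat.card B = Nat.card D :=
  nilAb_aux hMod _ G rfl B D hD hab hnil

end Main

end Cfsg.Agent.Lib.Helper81
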