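import Mathlib
import Cfsg.Prelude.Def_Blocks
import Cfsg.Prelude.Def_BlockRank
import Cfsg.Prelude.Def_BrauerPairs
import Cfsg.Agent.Lib.Helper81.NilAbMain
import Cfsg.Agent.Lib.Helper81.KleinAct
import Cfsg.Agent.Lib.Helper81.KleinLower
import Cfsg.Agent.Lib.Helper81.KleinSub
import Cfsg.Agent.Lib.Helper85.InducedPair
import Cfsg.Agent.Lib.Helper85.AbelianDefect

set_option autoImplicit false
set_option linter.style.haveILetI false
set_option linter.unusedSectionVars false

/-!
# Blocks with a Klein four defect group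

Brauer's theorem: the inertial index `e` of a `2`-block `B` with a Klein four defect group is `1` or
`3`, `k(B) = 4` and `l(B) = e`.
-/

namespace Cfsg.Agent.Lib.Helper81

open Cfsg
open Cfsg.Agent.Lib.Helper21 Cfsg.Agent.Lib.Helper82 Cfsg.Agent.Lib.Helper83

universe u

section General

variable {G : Type u} [Group G] [Fintype G] {p : ℕ} [Fact p.Prime] {M : Ideal AlgInt}

local notation "C(" R ")" => Subgroup.centralizer ((R : Subgroup G) : Set G)
local notation "N(" R ")" => Subgroup.normalizer ((R : Subgroup G) : Set G)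
local notation "C[" g "]" => Subgroup.centralizer (singleton g)

/-- the trivial subsection -/
theorem exists_one_section (hMod : IsPModular p M) {B : Set (IrrCharacter G)}
    (hB : IsPBlock M B) :
    ∃ b₁ : Set (IrrCharacter ↥(C[(1 : G)] : Subgroup G)),
      IsInducedBlock M (C[(1 : G)] : Subgroup G) b₁ B ∧ blockRank p b₁ = blockRank p B := by
  obtain ⟨f₀, hf₀, hr₀⟩ := exists_bot_pair hMod hB
  have hind₀ : IsInducedBlock M (Subgroup.centralizer (((⊥ : Subgroup G) : Subgroup G) : Set G))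
      f₀ B :=
    Cfsg.Agent.Lib.Helper85.InducedPair.isInducedBlock_of_isBrauerPairOf hMod bot_le hf₀
  have hH₀ : ∀ y : G, y ∈ Subgroup.centralizer ({(1 : G)} : Set G) ↔
      (1 : G)⁻¹ * y * 1 ∈ Subgroup.centralizer (((⊥ : Subgroup G) : Subgroup G) : Set G) := by
    intro y
    constructor
    · intro _
      rw [Subgroup.mem_centralizer_iff]
      intro h hh
      rw [Subgroup.mem_bot.1 hh]
      simp
    · intro _
      rw [Subgroup.mem_centralizer_iff]
      intro h hh
      rw [Set.mem_singleton_iff.1 hh]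
      simp
  exact ⟨cjB 1 hH₀ f₀, isInducedBlock_cjB 1 hH₀ hind₀, by rw [blockRank_cjB, hr₀]⟩

/-- the sum over a one element set of subsections -/
theorem finsum_section_of_unique {B : Set (IrrCharacter G)} {x : G}
    (b₀ : Set (IrrCharacter ↥(C[x] : Subgroup G)))
    (hb₀ : IsInducedBlock M (C[x] : Subgroup G) b₀ B)
    (huniq : ∀ b, IsInducedBlock M (C[x] : Subgroup G) b B → b = b₀) :
    ∑ᶠ b ∈ {b : Set (IrrCharacter ↥(C[x] : Subgroup G)) |
      IsInducedBlock M (C[x] : Subgroup G) b B}, blockRank p b = blockRank p b₀ := by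
  have hS : {b : Set (IrrCharacter ↥(C[x] : Subgroup G)) |
      IsInducedBlock M (C[x] : Subgroup G) b B} = {b₀} :=
    Set.eq_singleton_iff_unique_mem.2 ⟨hb₀, fun b hb => huniq b hb⟩
  rw [hS, finsum_mem_singleton]

/-- below a maximal pair with abelian `P` on which the stabilizer acts freely, the pairs on the
nontrivial cyclic subgroups belong to blocks of rank one -/
theorem exists_local_rank_one (hMod : IsPModular p M) {B : Set (IrrCharacter G)}
    {P : Subgroup G} {c : Set (IrrCharacter C(P))} (hmax : IsMaximalBrauerPair p M B P c)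
    (hab : ∀ x ∈ P, ∀ y ∈ P, x * y = y * x)
    (hfree : ∀ g : G, g ∈ N(P) → StabilizesBlock C(P) c g → ∀ u ∈ P, u ≠ 1 →
      g * u * g⁻¹ = u → g ∈ C(P))
    {u : G} (hu : u ∈ P) (hu1 : u ≠ 1) :
    ∃ f : Set (IrrCharacter C(Subgroup.zpowers u)), IsPBlock M f ∧
      SubpairLE p M (Subgroup.zpowers u) f P c ∧ IsInducedBlock M C(Subgroup.zpowers u) f B ∧
      blockDefect p f = blockDefect p B ∧ blockRank p f = 1 := by
  classical
  obtain ⟨⟨hPp, hcb⟩, hB, -⟩ := id hmax.1
  have hQP : Subgroup.zpowers u ≤ P := Subgroup.zpowers_le.2 hu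
  have hPC : P ≤ C(Subgroup.zpowers u) := by
    intro v hv
    rw [Subgroup.mem_centralizer_iff]
    intro w hw
    exact hab w (hQP hw) v hv
  obtain ⟨f, hf, hle⟩ := (existsUnique_subpair hMod ⟨hPp, hcb⟩ hQP).exists
  obtain ⟨hBQ, hind, hdefg, hdef⟩ := subpair_data hMod hmax hab hf hle
  haveI : Fintype C(Subgroup.zpowers u) := Fintype.ofFinite _
  have hBf := Cfsg.Agent.Lib.Helper85.AbelianDefect.isBrauerPairOf_tb hMod hQP hPC ⟨hPp, hcb⟩ hf hle
  have hnil : IsNilpotentBlock p M f := by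
    rw [Cfsg.Agent.Lib.Helper85.InducedPair.nilpotent_iff_of_pair hMod hmax hab hQP hPC hBf]
    intro g hgQ hgN hgc
    refine hfree g hgN hgc u hu hu1 ?_
    have hcomm : u * g = g * u := mem_centralizer_zpowers_iff.1 hgQ
    rw [← hcomm]
    group
  have habf : ∀ x ∈ P.subgroupOf C(Subgroup.zpowers u),
      ∀ y ∈ P.subgroupOf C(Subgroup.zpowers u), x * y = y * x := by
    intro x hx y hy
    apply Subtype.ext
    exact hab _ (Subgroup.mem_subgroupOf.1 hx) _ (Subgroup.mem_subgroupOf.1 hy)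
  exact ⟨f, hf, hle, hind, hdef, (blockRank_eq_one_of_nilpotent_abelian hMod hdefg habf hnil).1⟩

end General

section Klein

variable {G : Type u} [Group G] [Fintype G] {M : Ideal AlgInt}

local notation "C(" R ")" => Subgroup.centralizer ((R : Subgroup G) : Set G)
local notation "N(" R ")" => Subgroup.normalizer ((R : Subgroup G) : Set G)
local notation "C[" g "]" => Subgroup.centralizer (singleton g)

/-- **Brauer's theorem on blocks with a Klein four defect group.** -/
theorem klein_four_main (hM : IsPModular 2 M) (B : Set (IrrCharacter G)) (hB : IsPBlock M B)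
    (P : Subgroup G) (hPD : IsDefectGroup 2 M B P) (hV : IsKleinFour P)
    (c : Set (IrrCharacter C(P))) (hc : IsInducedBlock M C(P) c B) (T : Subgroup G)
    (hT : ∀ g : G, g ∈ T ↔ (g ∈ N(P) ∧ StabilizesBlock C(P) c g)) :
    ((C(P)).relIndex T = 1 ∨ (C(P)).relIndex T = 3) ∧ Nat.card B = 4 ∧
      blockRank 2 B = (C(P)).relIndex T := by
  classical
  haveI : Fact (Nat.Prime 2) := ⟨Nat.prime_two⟩
  haveI := hV
  have hMp : M.IsPrime := hM.2.1.isPrime
  have hPp : IsPGroup 2 P := isPGroup_of_isDefectGroup' hPD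
  have hBe : IsBrauerPairOf 2 M B P c :=
    Cfsg.Agent.Lib.Helper85.InducedPair.isBrauerPairOf_of_isInducedBlock hM hPp hc
  have hmax : IsMaximalBrauerPair 2 M B P c :=
    Cfsg.Agent.Lib.Helper85.InducedPair.isMaximal_of_isDefectGroup hM hBe hPD
  have hab : ∀ x ∈ P, ∀ y ∈ P, x * y = y * x := fun x hx y hy =>
    Cfsg.Agent.Lib.Helper12.comm_of_mem_kleinFour P hx hy
  have hcb : IsPBlock M c := hc.1
  have hCT : C(P) ≤ T := centralizer_le_stabilizer hMp hcb hT
  have hTN : T ≤ N(P) := fun g hg => ((hT g).1 hg).1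
  have hodd : ¬ 2 ∣ (C(P)).relIndex T :=
    Cfsg.Agent.Lib.Helper85.AbelianDefect.not_dvd_index_centralizer hM hmax hab hT
  have hfreeT := klein_free P T hV hCT hTN hodd
  have hfree : ∀ g : G, g ∈ N(P) → StabilizesBlock C(P) c g → ∀ u ∈ P, u ≠ 1 →
      g * u * g⁻¹ = u → g ∈ C(P) := fun g hgN hgc u hu hu1 hgu =>
    hfreeT g ((hT g).2 ⟨hgN, hgc⟩) u hu hu1 hgu
  have hcardP : Nat.card P = 4 := IsKleinFour.card_four
  have hdefB : blockDefect 2 B = 2 := by
    have h := Cfsg.Agent.Lib.Helper22.IsDefectGroup.card_eq hM hB hPD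
    rw [hcardP] at h
    have h2 : 2 ^ blockDefect 2 B = 2 ^ 2 := by rw [← h]; norm_num
    exact Nat.pow_right_injective (le_refl 2) h2
  -- a nontrivial element and its subsection
  obtain ⟨u₀, hu₀P, hu₀1⟩ := Cfsg.Agent.Lib.Helper12.exists_ne_one_of_kleinFour P
  obtain ⟨f₀, hf₀, hle₀, hind₀, hdef₀, hrank₀⟩ := exists_local_rank_one hM hmax hab hfree hu₀P hu₀1
  have h1u : (1 : G) * u₀ * (1 : G)⁻¹ = u₀ := by simp
  have hindb₀ := isInducedBlock_cjB 1 (conj_cent_iff h1u) hind₀
  have hdefb₀ : blockDefect 2 (cjB 1 (conj_cent_iff h1u) f₀) = blockDefect 2 B := by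
    rw [blockDefect_cjB, hdef₀]
  have hrankb₀ : blockRank 2 (cjB 1 (conj_cent_iff h1u) f₀) = 1 := by
    rw [blockRank_cjB, hrank₀]
  have hu₀sq : u₀ ^ 2 = 1 := by
    rw [pow_two]
    exact Cfsg.Agent.Lib.Helper12.mul_self_of_mem_kleinFour P hu₀P
  have hk4 : Nat.card B = 4 := by
    apply le_antisymm
    · have h := card_block_le_of_major hM u₀ 1 (by rw [pow_one]; exact hu₀sq) hindb₀ hdefb₀
      rw [hrankb₀, hdefB] at h
      exact h
    · exact four_le_card_block_of_involution_section hM hB u₀ hu₀sq _ hindb₀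
        (by rw [hdefb₀, hdefB])
  rcases klein_index P T hV hCT hTN hodd with h1 | ⟨h3, htrans⟩
  · -- the nilpotent case
    refine ⟨Or.inl h1, hk4, ?_⟩
    rw [h1]
    have hTC : T ≤ C(P) := Subgroup.relIndex_eq_one.1 h1
    have hnil : IsNilpotentBlock 2 M B :=
      (Cfsg.Agent.Lib.Helper85.AbelianDefect.nilpotent_iff hM hmax hab).2
        (fun x hxN hxe => hTC ((hT x).2 ⟨hxN, hxe⟩))
    exact (blockRank_eq_one_of_nilpotent_abelian hM hPD hab hnil).1
  · -- inertial index three
    refine ⟨Or.inr h3, hk4, ?_⟩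
    rw [h3]
    obtain ⟨X, hX, hXrep⟩ := exists_pElement_reps G 2
    have hcount := Cfsg.Agent.S4511.result 2 M hM B hB X hX hXrep
    have h1X : (1 : G) ∈ X := by
      obtain ⟨x, ⟨hxX, hx1⟩, -⟩ := hXrep 1 ⟨0, by simp⟩
      rw [isConj_one_right.1 hx1] at hxX
      exact hxX
    have hu₀ord : ∃ k : ℕ, orderOf u₀ = 2 ^ k := ⟨1, by
      rw [pow_one]
      exact orderOf_eq_prime hu₀sq hu₀1⟩
    obtain ⟨x₀, ⟨hx₀X, hx₀c⟩, hx₀u⟩ := hXrep u₀ hu₀ord
    have hx₀1 : x₀ ≠ 1 := by
      intro h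
      rw [h, isConj_one_left] at hx₀c
      exact hu₀1 hx₀c
    have hpg : ∀ x ∈ X, IsPGroup 2 (Subgroup.zpowers x) := by
      intro x hx
      obtain ⟨k, hk⟩ := hX x hx
      exact IsPGroup.of_card (n := k) (by rw [Nat.card_zpowers, hk])
    have h1T : (1 : G) ∈ T := T.one_mem
    -- the trivial subsection
    have hF1 : ∑ᶠ b ∈ {b : Set (IrrCharacter ↥(C[(1 : G)] : Subgroup G)) |
        IsInducedBlock M (C[(1 : G)] : Subgroup G) b B}, blockRank 2 b = blockRank 2 B := by
      obtain ⟨b₁, hb₁, hr₁⟩ := exists_one_section hM hB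
      rw [← hr₁]
      apply finsum_section_of_unique b₁ hb₁
      intro b hb
      refine subsection_unique hM hmax hT (hpg 1 h1X) ?_ hb hb₁
      intro u _ u' _ hu hu'
      rw [isConj_one_left] at hu hu'
      exact ⟨1, h1T, by rw [hu, hu']; simp⟩
    -- the subsection of `x₀`
    have htrans' : ∀ x : G, x ≠ 1 → ∀ u ∈ P, ∀ u' ∈ P, IsConj u x → IsConj u' x →
        ∃ t ∈ T, t * u * t⁻¹ = u' := by
      intro x hx1 u hu u' hu' hux hu'x
      have hne : ∀ v : G, IsConj v x → v ≠ 1 := by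
        intro v hvx hv1
        rw [hv1, isConj_one_right] at hvx
        exact hx1 hvx
      exact htrans u hu (hne u hux) u' hu' (hne u' hu'x)
    have hFx₀ : ∑ᶠ b ∈ {b : Set (IrrCharacter ↥(C[x₀] : Subgroup G)) |
        IsInducedBlock M (C[x₀] : Subgroup G) b B}, blockRank 2 b = 1 := by
      obtain ⟨g, hg⟩ := _root_.isConj_iff.1 hx₀c
      have hb₀ := isInducedBlock_cjB g (conj_cent_iff hg) hind₀
      rw [← hrank₀, ← blockRank_cjB g (conj_cent_iff hg) 2 f₀]
      apply finsum_section_of_unique _ hb₀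
      intro b hb
      exact subsection_unique hM hmax hT (hpg x₀ hx₀X) (htrans' x₀ hx₀1) hb hb₀
    -- the other subsections
    have hrest : ∑ x ∈ (X.erase 1).erase x₀,
        ∑ᶠ b ∈ {b : Set (IrrCharacter ↥(C[x] : Subgroup G)) |
          IsInducedBlock M (C[x] : Subgroup G) b B}, blockRank 2 b = 0 := by
      refine Finset.sum_eq_zero fun x hx => ?_
      obtain ⟨hxx₀, hx'⟩ := Finset.mem_erase.1 hx
      obtain ⟨hx1, hxX⟩ := Finset.mem_erase.1 hx'
      have hS : {b : Set (IrrCharacter ↥(C[x] : Subgroup G)) |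
          IsInducedBlock M (C[x] : Subgroup G) b B} = ∅ := by
        rw [Set.eq_empty_iff_forall_notMem]
        intro b hb
        obtain ⟨u, g, hg, f, huP, -, -, -⟩ :=
          exists_of_isInducedBlock_centralizer hM hmax (hpg x hxX) hb
        have hu1 : u ≠ 1 := by
          intro h
          apply hx1
          rw [← hg, h]
          simp
        obtain ⟨t, -, ht⟩ := htrans u₀ hu₀P hu₀1 u huP hu1
        apply hxx₀
        apply hx₀u x ⟨hxX, ?_⟩
        rw [_root_.isConj_iff]
        refine ⟨g * t, ?_⟩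
        rw [← hg, ← ht]
        group
      rw [hS, finsum_mem_empty]
    rw [hk4, ← Finset.add_sum_erase X _ h1X,
      ← Finset.add_sum_erase (X.erase 1) _ (Finset.mem_erase.2 ⟨hx₀1, hx₀X⟩), hF1, hFx₀, hrest]
      at hcount
    omega

end Klein

end Cfsg.Agent.Lib.Helper81
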