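import Mathlib
import Cfsg.Prelude.Def_Blocks
import Cfsg.Agent.S0923
import Cfsg.Agent.Lib.Helper82.DefectZero
import Cfsg.Agent.Lib.Helper82.WeakOrth
import Cfsg.Agent.Lib.Helper82.BlockBasic
import Cfsg.Agent.Lib.Helper82.CharSchur
import Cfsg.Agent.Lib.Helper82.LocalRing
import Cfsg.Agent.Lib.Helper21.BrouePuig
import Cfsg.Agent.Lib.Helper21.RegularPart
import Cfsg.Agent.Lib.Helper04.Basis
import Cfsg.Agent.Lib.Helper05.CharDecomp
import Cfsg.Agent.Lib.Helper81.SecondMain
import Cfsg.Agent.Lib.Helper81.BlockPart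

/-!
# Knörr: a character vanishing on all elements of order `p` has `p`-defect zero

Let `T = {x | x ^ p = 1}`.  If `χ` vanishes on the elements of order `p` then the central
character of `χ` takes the value `1` on the sum of `T`.  If `χ` is not of defect zero, it does
not vanish at some `p`-singular `g = u s`; by the second main theorem some block `b` of
`H = C_G(u)` induces the block of `χ`, and the induced block congruence gives
`1 ≡ ∑_{h ∈ H, h ^ p = 1} ξ(h)/ξ(1)` for `ξ ∈ b`.  A power `z` of `u` of order `p` is central in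
`H`; choosing `ξ ∈ b` with `ξ(z) ≠ ξ(1)` (weak block orthogonality), translation by `z` shows the
right side is `0`.
-/

set_option autoImplicit false

namespace Cfsg.Agent.Lib.Helper81.KnorrVanish

open Cfsg
open scoped ComplexConjugate

universe u

/-- translation by a central element of order dividing `p` on which `ξ` is not trivial kills the
sum of `ξ` over the solutions of `h ^ p = 1` -/
theorem sum_pow_eq_one_eq_zero {H : Type u} [Group H] [Fintype H] [DecidableEq H] (p : ℕ)
    (ξ : IrrCharacter H) {z : H} (hz : z ∈ Subgroup.center H) (hzp : z ^ p = 1)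
    (hne : (ξ : H → ℂ) z ≠ (ξ : H → ℂ) 1) :
    ∑ h : H, (if h ^ p = 1 then (ξ : H → ℂ) h else 0) = 0 := by
  set ω : ℂ := (ξ : H → ℂ) z / (ξ : H → ℂ) 1 with hω
  set S : ℂ := ∑ h : H, (if h ^ p = 1 then (ξ : H → ℂ) h else 0) with hS
  have h1 : S = ∑ h : H, (if (z * h) ^ p = 1 then (ξ : H → ℂ) (z * h) else 0) := by
    rw [hS]
    exact (Fintype.sum_equiv (Equiv.mulLeft z) _ _ (fun h => rfl)).symm
  have h2 : ∀ h : H, (if (z * h) ^ p = 1 then (ξ : H → ℂ) (z * h) else 0)
      = ω * (if h ^ p = 1 then (ξ : H → ℂ) h else 0) := by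
    intro h
    have hc : Commute z h := (Subgroup.mem_center_iff.mp hz h).symm
    have hp : (z * h) ^ p = h ^ p := by rw [hc.mul_pow, hzp, one_mul]
    rw [hp, Cfsg.Agent.Lib.Helper21.irr_central_mul ξ hz h]
    split_ifs <;> simp [hω]
  have h3 : S = ω * S := by
    conv_lhs => rw [h1]
    rw [hS, Finset.mul_sum]
    exact Finset.sum_congr rfl (fun h _ => h2 h)
  have hξ1 : (ξ : H → ℂ) 1 ≠ 0 := by
    obtain ⟨d, hd, hd1⟩ := Cfsg.Agent.Lib.Helper05.exists_pos_degree ξ.2
    rw [hd1]; exact_mod_cast hd.ne'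
  have hω1 : ω ≠ 1 := by
    intro h
    apply hne
    rw [hω, div_eq_one_iff_eq hξ1] at h
    exact h
  have h4 : (1 - ω) * S = 0 := by linear_combination h3
  rcases mul_eq_zero.mp h4 with h | h
  · exact absurd (sub_eq_zero.mp h).symm hω1
  · exact h

/-- in every block there is a character not trivial on a given `p`-singular element -/
theorem exists_mem_blockOf_apply_ne {H : Type u} [Group H] [Fintype H] {p : ℕ} {M : Ideal AlgInt}
    (hMp : IsPModular p M) (ψ₀ : IrrCharacter H) (z : H) (hz : p ∣ orderOf z) :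
    ∃ ξ ∈ blockOf M (ψ₀ : H → ℂ), (ξ : H → ℂ) z ≠ (ξ : H → ℂ) 1 := by
  classical
  by_contra hcon
  push Not at hcon
  have hMprime : M.IsPrime := hMp.2.1.isPrime
  have : Finite (IrrCharacter H) := Cfsg.Agent.Lib.Helper05.finite_irrCharacter
  have h0 := Cfsg.Agent.Lib.Helper82.sum_block_mul_eq_zero hMp ψ₀ (1 : H) z
    (by rw [orderOf_one]; exact fun h => hMp.1.one_lt.ne' (Nat.dvd_one.mp h)) hz
  have hfin : (blockOf M (ψ₀ : H → ℂ)).Finite := Set.toFinite _
  rw [finsum_mem_eq_finite_toFinset_sum _ hfin] at h0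
  have hmem : ψ₀ ∈ hfin.toFinset := by
    rw [Set.Finite.mem_toFinset]
    exact Cfsg.Agent.Lib.Helper82.mem_blockOf_self hMprime ψ₀
  have hterm : ∀ ξ ∈ hfin.toFinset, ∃ d : ℕ, 0 < d ∧
      (ξ : H → ℂ) 1 * (ξ : H → ℂ) z = ((d * d : ℕ) : ℂ) := by
    intro ξ hξ
    rw [Set.Finite.mem_toFinset] at hξ
    obtain ⟨d, hd, hd1⟩ := Cfsg.Agent.Lib.Helper05.exists_pos_degree ξ.2
    refine ⟨d, hd, ?_⟩
    rw [hcon ξ hξ, hd1]; push_cast; ring
  choose! d hdpos hd using hterm
  rw [Finset.sum_congr rfl hd] at h0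
  have h1 : ((∑ ξ ∈ hfin.toFinset, d ξ * d ξ : ℕ) : ℂ) = 0 := by
    rw [← h0]; push_cast; rfl
  have h2 : (∑ ξ ∈ hfin.toFinset, d ξ * d ξ : ℕ) = 0 := by exact_mod_cast h1
  have h3 := (Finset.sum_eq_zero_iff.mp h2) ψ₀ hmem
  have := hdpos ψ₀ hmem
  rcases Nat.mul_eq_zero.mp h3 with h | h <;> omega

/-- if all block parts of a class function vanish at a point, the function vanishes there -/
theorem eq_zero_of_blockPart_eq_zero {C : Type u} [Group C] [Fintype C] {M : Ideal AlgInt}
    (hM : M.IsPrime) {ϑ : C → ℂ} (hϑ : IsClassFunction C ϑ) (y : C)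
    (h : ∀ ψ₀ : IrrCharacter C, blockPart (blockOf M (ψ₀ : C → ℂ)) ϑ y = 0) : ϑ y = 0 := by
  classical
  have : Finite (IrrCharacter C) := Cfsg.Agent.Lib.Helper05.finite_irrCharacter
  let _ : Fintype (IrrCharacter C) := Fintype.ofFinite _
  have hexp := Cfsg.Agent.Lib.Helper04.classFunction_expansion ϑ hϑ
  have hy : ϑ y = ∑ ψ : IrrCharacter C, classInner ϑ (ψ : C → ℂ) * (ψ : C → ℂ) y := by
    conv_lhs => rw [hexp]
    simp [Finset.sum_apply]
  rw [hy]
  rw [← Finset.sum_fiberwise_of_maps_to (s := Finset.univ)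
    (t := Finset.univ.image (fun ψ : IrrCharacter C => blockOf M (ψ : C → ℂ)))
    (g := fun ψ : IrrCharacter C => blockOf M (ψ : C → ℂ))
    (fun ψ _ => Finset.mem_image_of_mem _ (Finset.mem_univ ψ))]
  apply Finset.sum_eq_zero
  intro B hB
  obtain ⟨ψ₁, -, rfl⟩ := Finset.mem_image.mp hB
  have h1 := h ψ₁
  rw [Cfsg.Agent.Lib.Helper81.blockPart_apply] at h1
  have hfin : (blockOf M (ψ₁ : C → ℂ)).Finite := Set.toFinite _
  rw [finsum_mem_eq_finite_toFinset_sum _ hfin] at h1
  rw [← h1]
  apply Finset.sum_congr _ (fun _ _ => rfl)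
  ext ψ
  simp only [Finset.mem_filter, Finset.mem_univ, true_and, Set.Finite.mem_toFinset]
  constructor
  · intro hψ
    rw [← hψ]
    exact Cfsg.Agent.Lib.Helper82.mem_blockOf_self hM ψ
  · intro hψ
    exact Cfsg.Agent.Lib.Helper82.blockOf_eq_of_mem hM hψ

/-- **Knörr.** An irreducible character vanishing on all elements of order `p` has
`p`-defect zero. -/
theorem defect_zero_of_vanish {G : Type u} [Group G] [Finite G] (p : ℕ) [Fact p.Prime]
    (χ : IrrCharacter G) (hvan : ∀ g : G, orderOf g = p → (χ : G → ℂ) g = 0) :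
    (charDegree (χ : G → ℂ)).factorization p = (Nat.card G).factorization p := by
  classical
  have hp : p.Prime := Fact.out
  obtain ⟨M, hMp⟩ := Cfsg.Agent.Lib.Helper82.exists_isPModular p hp
  have hMprime : M.IsPrime := hMp.2.1.isPrime
  let _ : Fintype G := Fintype.ofFinite G
  by_contra hne
  -- Step A: `χ` does not vanish at some `p`-singular element
  have hA : ∃ g : G, p ∣ orderOf g ∧ (χ : G → ℂ) g ≠ 0 := by
    by_contra hcon
    push Not at hcon
    apply hne
    have P : Sylow p G := default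
    have h1 : Nat.card P ∣ charDegree (χ : G → ℂ) :=
      Cfsg.Agent.Lib.Helper82.card_sylow_dvd_charDegree
        (Cfsg.Agent.Lib.Helper82.IsIrrCharacter.isCharacter χ.2) hcon P
    have h2 : charDegree (χ : G → ℂ) ∣ Nat.card G :=
      Cfsg.Agent.Lib.Helper82.IsIrrCharacter.charDegree_dvd_card χ.2
    have h3 : Nat.card P = p ^ (Nat.card G).factorization p := Sylow.card_eq_multiplicity P
    have hn0 : Nat.card G ≠ 0 := Nat.card_pos.ne'
    have hd0 : charDegree (χ : G → ℂ) ≠ 0 := fun h => hn0 (by rw [h] at h2; exact Nat.eq_zero_of_zero_dvd h2)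
    rw [h3] at h1
    have h4 : (Nat.card G).factorization p ≤ (charDegree (χ : G → ℂ)).factorization p :=
      (hp.pow_dvd_iff_le_factorization hd0).mp h1
    have h5 : (charDegree (χ : G → ℂ)).factorization p ≤ (Nat.card G).factorization p :=
      (Nat.factorization_le_iff_dvd hd0 hn0).mpr h2 p
    omega
  obtain ⟨g, hpg, hχg⟩ := hA
  obtain ⟨u, s, hus, hcomm, ⟨k, hk⟩, hs⟩ :=
    Cfsg.Agent.Lib.Helper81.exists_isPPart p hp g (orderOf_pos g)
  have hk0 : k ≠ 0 := by
    rintro rfl
    rw [pow_zero, orderOf_eq_one_iff] at hk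
    rw [hk, one_mul] at hus
    rw [hus] at hs
    exact hs hpg
  -- the centralizer of `u`
  set C : Subgroup G := Subgroup.centralizer ({u} : Set G) with hC
  have hmemC : ∀ c : G, c ∈ C ↔ u * c = c * u := fun c =>
    Subgroup.mem_centralizer_singleton_iff.trans eq_comm
  have huC : u ∈ C := (hmemC u).mpr rfl
  have hsC : s ∈ C := (hmemC s).mpr hcomm.eq
  let _ : Fintype C := Fintype.ofFinite _
  set ϑ : C → ℂ := fun c => (χ : G → ℂ) (u * (c : G)) with hϑdef
  have hχcf : IsClassFunction G (χ : G → ℂ) :=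
    Cfsg.Agent.Lib.Helper04.isClassFunction_of_isIrrCharacter χ.2
  have hϑ : IsClassFunction C ϑ := by
    intro c h
    simp only [hϑdef]
    have hh : u * (h : G) = (h : G) * u := (hmemC h).mp h.2
    have : u * ((h * c * h⁻¹ : C) : G) = (h : G) * (u * (c : G)) * (h : G)⁻¹ := by
      push_cast
      rw [← mul_assoc, ← mul_assoc, hh]
      group
    rw [this, hχcf]
  -- some block part does not vanish at `s`
  have hex : ∃ ψ₀ : IrrCharacter C, blockPart (blockOf M (ψ₀ : C → ℂ)) ϑ ⟨s, hsC⟩ ≠ 0 := by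
    by_contra hcon
    push Not at hcon
    have := eq_zero_of_blockPart_eq_zero hMprime hϑ ⟨s, hsC⟩ hcon
    simp only [hϑdef] at this
    rw [hus] at this
    exact hχg this
  obtain ⟨ψ₀, hψ₀⟩ := hex
  have hs' : ¬ p ∣ orderOf (⟨s, hsC⟩ : C) := by
    rw [← Subgroup.orderOf_coe]; exact hs
  have hind : IsInducedBlock M C (blockOf M (ψ₀ : C → ℂ)) (blockOf M (χ : G → ℂ)) := by
    by_contra hnot
    exact hψ₀ (Cfsg.Agent.S0923.result p M hMp u ⟨k, hk⟩ (blockOf M (χ : G → ℂ)) ⟨χ, rfl⟩ χ
      (Cfsg.Agent.Lib.Helper82.mem_blockOf_self hMprime χ) (blockOf M (ψ₀ : C → ℂ)) ⟨ψ₀, rfl⟩ hnot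
      ⟨s, hsC⟩ hs')
  -- the central element of order `p`
  set uC : C := ⟨u, huC⟩ with huCdef
  have huCcenter : uC ∈ Subgroup.center C := by
    rw [Subgroup.mem_center_iff]
    intro c
    apply Subtype.ext
    push_cast
    exact ((hmemC c).mp c.2).symm
  set z : C := uC ^ (p ^ (k - 1)) with hzdef
  have hzcenter : z ∈ Subgroup.center C := Subgroup.pow_mem _ huCcenter _
  have hzp : z ^ p = 1 := by
    rw [hzdef, ← pow_mul, ← pow_succ, Nat.sub_add_cancel (Nat.pos_of_ne_zero hk0)]
    apply Subtype.ext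
    push_cast
    rw [← hk]; exact pow_orderOf_eq_one u
  have hz1 : z ≠ 1 := by
    intro h
    have h1 : u ^ (p ^ (k - 1)) = 1 := by
      have := congrArg (Subtype.val) h
      simpa [hzdef, huCdef] using this
    have h2 := orderOf_dvd_of_pow_eq_one h1
    rw [hk] at h2
    have h3 := (Nat.pow_dvd_pow_iff_le_right hp.one_lt).mp h2
    omega
  have hzo : p ∣ orderOf z := by
    have := orderOf_dvd_of_pow_eq_one hzp
    rcases (Nat.dvd_prime hp).mp this with h | h
    · exact absurd (orderOf_eq_one_iff.mp h) hz1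
    · rw [h]
  obtain ⟨ξ, hξb, hξz⟩ := exists_mem_blockOf_apply_ne hMp ψ₀ z hzo
  have hsum0 := sum_pow_eq_one_eq_zero p ξ hzcenter hzp hξz
  -- the class function `1_T`
  set f : G → ℂ := fun g => if g ^ p = 1 then 1 else 0 with hfdef
  have hf : IsClassFunction G f := by
    intro a h
    simp only [hfdef]
    have : (h * a * h⁻¹) ^ p = 1 ↔ a ^ p = 1 := by
      rw [conj_pow]
      constructor
      · intro h1
        have := congrArg (fun x => h⁻¹ * x * h) h1
        simpa [mul_assoc] using this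
      · intro h1; rw [h1]; simp
    simp only [this]
  have hfR : ∀ a, MemLocalRing M (f a) := by
    intro a
    simp only [hfdef]
    split_ifs
    · exact Cfsg.Agent.Lib.Helper82.memLocalRing_one hMprime
    · exact Cfsg.Agent.Lib.Helper82.memLocalRing_zero hMprime
  have hcong := Cfsg.Agent.Lib.Helper21.omega_restrict_sub_memLocalIdeal C hMprime hind hξb
    (Cfsg.Agent.Lib.Helper82.mem_blockOf_self hMprime χ) hf hfR
  have hω1 : Cfsg.Agent.Lib.Helper21.omega (fun h : C => f (h : G)) (ξ : C → ℂ) = 0 := by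
    unfold Cfsg.Agent.Lib.Helper21.omega
    have : ∑ h : C, f (h : G) * (ξ : C → ℂ) h
        = ∑ h : C, (if h ^ p = 1 then (ξ : C → ℂ) h else 0) := by
      apply Finset.sum_congr rfl
      intro h _
      simp only [hfdef]
      have : (h : G) ^ p = 1 ↔ h ^ p = 1 := by
        rw [← Subgroup.coe_pow, OneMemClass.coe_eq_one]
      simp only [this]
      split_ifs <;> simp
    rw [this, hsum0, zero_div]
  have hχ1 : (χ : G → ℂ) 1 ≠ 0 := by
    obtain ⟨d, hd, hd1⟩ := Cfsg.Agent.Lib.Helper05.exists_pos_degree χ.2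
    rw [hd1]; exact_mod_cast hd.ne'
  have hω2 : Cfsg.Agent.Lib.Helper21.omega f (χ : G → ℂ) = 1 := by
    unfold Cfsg.Agent.Lib.Helper21.omega
    have : ∑ a : G, f a * (χ : G → ℂ) a = (χ : G → ℂ) 1 := by
      rw [Finset.sum_eq_single (1 : G)]
      · simp [hfdef]
      · intro a _ ha
        simp only [hfdef]
        split_ifs with h
        · have ho : orderOf a = p := orderOf_eq_prime h ha
          rw [hvan a ho, mul_zero]
        · rw [zero_mul]
      · intro h; exact absurd (Finset.mem_univ _) h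
    rw [this, div_self hχ1]
  rw [hω1, hω2, zero_sub] at hcong
  have := Cfsg.Agent.Lib.Helper82.memLocalIdeal_neg hcong
  rw [neg_neg] at this
  exact Cfsg.Agent.Lib.Helper82.not_memLocalIdeal_one hMprime this

end Cfsg.Agent.Lib.Helper81.KnorrVanish
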