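import Mathlib
import Cfsg.Agent.Lib.Helper05.N3Defs

/-!
# K-N3-A2 (keystone 400404, S4004 pack): two primes in the class `m` and one in the class `n`
are impossible (Frobenius at `pq`, `pt`, `qt`, `pqt`).
-/

set_option autoImplicit false

namespace Cfsg.Agent.Lib.Helper81.N3

open Cfsg.Agent.Lib.Helper05.N3 Cfsg.Agent.Lib.Helper22.Nse

theorem sum_div_coprime_mul {a b : ℕ} (hab : a.Coprime b) (F : ℕ → ℕ) :
    ∑ d ∈ (a * b).divisors, F d = ∑ x ∈ a.divisors, ∑ y ∈ b.divisors, F (x * y) := by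
  have hinj : ∀ x ∈ a.divisors ×ˢ b.divisors, ∀ y ∈ a.divisors ×ˢ b.divisors,
      x.1 * x.2 = y.1 * y.2 → x = y := fun x hx y hy h =>
    hab.mul_injOn_divisors (Finset.mem_coe.mpr hx) (Finset.mem_coe.mpr hy) h
  rw [Nat.divisors_mul, Finset.mul_def, Finset.sum_image hinj, Finset.sum_product]

theorem sum_div_three {p q t : ℕ} (hp : p.Prime) (hq : q.Prime) (ht : t.Prime) (hpq : p ≠ q)
    (hpt : p ≠ t) (hqt : q ≠ t) (F : ℕ → ℕ) :
    ∑ d ∈ (p * q * t).divisors, F d =
      F 1 + F t + (F p + F (p * t)) + (F q + F (q * t)) + (F (p * q) + F (p * q * t)) := by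
  have hcop : (p * q).Coprime t :=
    Nat.Coprime.mul_left ((Nat.coprime_primes hp ht).mpr hpt) ((Nat.coprime_primes hq ht).mpr hqt)
  rw [sum_div_coprime_mul hcop, Cfsg.Agent.S3995.sum_div_mul_primes hp hq hpq]
  simp only [Cfsg.Agent.S3995.sum_div_prime t ht, one_mul, mul_one]

theorem val_cases {N : ℕ} {S : ℕ → ℕ} {m n : ℕ} (C : Ctx N S m n) (x : ℕ) (hx : 2 < x) :
    S x = 0 ∨ S x = m ∨ S x = n := by
  by_cases h0 : S x = 0
  · exact Or.inl h0
  · right
    have h1 := C.H.mem x h0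
    simp only [Finset.mem_insert, Finset.mem_singleton] at h1
    rcases h1 with h1 | h1 | h1
    · exfalso
      have h2 := C.H.phi x
      rw [h1, Nat.dvd_one] at h2
      have h3 := Nat.totient_even hx
      rw [h2] at h3
      exact absurd h3 (by decide)
    · exact Or.inl h1
    · exact Or.inr h1

theorem three_le_of_dvd {N : ℕ} {S : ℕ → ℕ} {m n : ℕ} (C : Ctx N S m n) {p : ℕ} (hp : p.Prime)
    (hpN : p ∣ N) : 3 ≤ p := by
  have h2 := hp.two_le
  have hodd := Nat.odd_iff.mp C.odd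
  by_contra h
  have hp2 : p = 2 := by omega
  rw [hp2] at hpN
  omega

theorem frob_prime {N : ℕ} {S : ℕ → ℕ} {m n : ℕ} (C : Ctx N S m n) {p : ℕ} (hp : p.Prime)
    (hpN : p ∣ N) : p ∣ 1 + S p := by
  have h := C.H.frob p hpN
  rw [Cfsg.Agent.S3995.sum_div_prime p hp, C.H.one] at h
  exact h

theorem neg_one_ne_one_zmod {p : ℕ} (hp3 : 3 ≤ p) : (-1 : ZMod p) ≠ 1 := by
  intro h
  have h2 : ((2 : ℕ) : ZMod p) = 0 := by
    push_cast
    linear_combination (-1 : ZMod p) * h
  have h3 : p ∣ 2 := (CharP.cast_eq_zero_iff (ZMod p) p 2).mp h2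
  have h4 := Nat.le_of_dvd (by norm_num) h3
  omega

theorem two_ne_zero_zmod {p : ℕ} (hp3 : 3 ≤ p) : (2 : ZMod p) ≠ 0 := by
  intro h
  have h2 : ((2 : ℕ) : ZMod p) = 0 := by
    push_cast
    exact h
  have h3 : p ∣ 2 := (CharP.cast_eq_zero_iff (ZMod p) p 2).mp h2
  have h4 := Nat.le_of_dvd (by norm_num) h3
  omega

/-- two primes with the same value `m`: `S (p q) = n` and `n ≡ 1` modulo both. -/
theorem step_same {N : ℕ} {S : ℕ → ℕ} {m n : ℕ} (C : Ctx N S m n) {p q : ℕ} (hp : p.Prime)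
    (hq : q.Prime) (hpq : p ≠ q) (hpN : p ∣ N) (hqN : q ∣ N) (h1 : S p = m) (h2 : S q = m) :
    S (p * q) = n ∧ (n : ZMod p) = 1 ∧ (n : ZMod q) = 1 := by
  haveI : Fact p.Prime := ⟨hp⟩
  haveI : Fact q.Prime := ⟨hq⟩
  have hp3 := three_le_of_dvd C hp hpN
  have hq3 := three_le_of_dvd C hq hqN
  have fp := frob_prime C hp hpN
  have fq := frob_prime C hq hqN
  rw [h1] at fp
  rw [h2] at fq
  have mp : (m : ZMod p) = -1 := by
    have h := (CharP.cast_eq_zero_iff (ZMod p) p (1 + m)).mpr fp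
    push_cast at h
    linear_combination h
  have mq : (m : ZMod q) = -1 := by
    have h := (CharP.cast_eq_zero_iff (ZMod q) q (1 + m)).mpr fq
    push_cast at h
    linear_combination h
  have hpqN : p * q ∣ N :=
    Nat.Coprime.mul_dvd_of_dvd_of_dvd ((Nat.coprime_primes hp hq).mpr hpq) hpN hqN
  have fpq := C.H.frob (p * q) hpqN
  rw [Cfsg.Agent.S3995.sum_div_mul_primes hp hq hpq, C.H.one, h1, h2] at fpq
  have e1 : ((S (p * q) : ℕ) : ZMod p) = 1 := by
    have h := (CharP.cast_eq_zero_iff (ZMod p) p _).mpr ((dvd_mul_right p q).trans fpq)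
    push_cast at h
    linear_combination h - 2 * mp
  have e2 : ((S (p * q) : ℕ) : ZMod q) = 1 := by
    have h := (CharP.cast_eq_zero_iff (ZMod q) q _).mpr ((dvd_mul_left q p).trans fpq)
    push_cast at h
    linear_combination h - 2 * mq
  have hx : 2 < p * q := by nlinarith
  rcases val_cases C (p * q) hx with h | h | h
  · exfalso
    rw [h] at e1
    simp at e1
  · exfalso
    rw [h, mp] at e1
    exact neg_one_ne_one_zmod hp3 e1
  · refine ⟨h, ?_, ?_⟩
    · rw [h] at e1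
      exact e1
    · rw [h] at e2
      exact e2

/-- a prime `p` of value `m` with `n ≡ 1 (mod p)` and a prime `t` of value `n`:
`S (p t) = m` and `t ∣ m`. -/
theorem step_mixed {N : ℕ} {S : ℕ → ℕ} {m n : ℕ} (C : Ctx N S m n) {p t : ℕ} (hp : p.Prime)
    (ht : t.Prime) (hpt : p ≠ t) (hpN : p ∣ N) (htN : t ∣ N) (h1 : S p = m) (h3 : S t = n)
    (np : (n : ZMod p) = 1) :
    S (p * t) = m ∧ (m : ZMod t) = 0 := by
  haveI : Fact p.Prime := ⟨hp⟩
  haveI : Fact t.Prime := ⟨ht⟩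
  have hp3 := three_le_of_dvd C hp hpN
  have ht3 := three_le_of_dvd C ht htN
  have fp := frob_prime C hp hpN
  have ft := frob_prime C ht htN
  rw [h1] at fp
  rw [h3] at ft
  have mp : (m : ZMod p) = -1 := by
    have h := (CharP.cast_eq_zero_iff (ZMod p) p (1 + m)).mpr fp
    push_cast at h
    linear_combination h
  have nt : (n : ZMod t) = -1 := by
    have h := (CharP.cast_eq_zero_iff (ZMod t) t (1 + n)).mpr ft
    push_cast at h
    linear_combination h
  have hptN : p * t ∣ N :=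
    Nat.Coprime.mul_dvd_of_dvd_of_dvd ((Nat.coprime_primes hp ht).mpr hpt) hpN htN
  have fpt := C.H.frob (p * t) hptN
  rw [Cfsg.Agent.S3995.sum_div_mul_primes hp ht hpt, C.H.one, h1, h3] at fpt
  have e1 : ((S (p * t) : ℕ) : ZMod p) = -1 := by
    have h := (CharP.cast_eq_zero_iff (ZMod p) p _).mpr ((dvd_mul_right p t).trans fpt)
    push_cast at h
    linear_combination h - mp - np
  have hx : 2 < p * t := by nlinarith
  rcases val_cases C (p * t) hx with h | h | h
  · exfalso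
    rw [h] at e1
    simp at e1
  · refine ⟨h, ?_⟩
    have h' := (CharP.cast_eq_zero_iff (ZMod t) t _).mpr ((dvd_mul_left t p).trans fpt)
    rw [h] at h'
    push_cast at h'
    have h2 : (2 : ZMod t) * (m : ZMod t) = 0 := by linear_combination h' - nt
    exact (mul_eq_zero.mp h2).resolve_left (two_ne_zero_zmod ht3)
  · exfalso
    rw [h, np] at e1
    exact neg_one_ne_one_zmod hp3 e1.symm

/-- 400404 A2. -/
theorem no_mixed {N : ℕ} {S : ℕ → ℕ} {m n : ℕ} (C : Ctx N S m n) {p q t : ℕ} (hp : p.Prime) (hq : q.Prime)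
    (ht : t.Prime) (hpq : p ≠ q) (hpt : p ≠ t) (hqt : q ≠ t) (hpN : p ∣ N) (hqN : q ∣ N) (htN : t ∣ N)
    (h1 : S p = m) (h2 : S q = m) (h3 : S t = n) : False := by
  haveI : Fact t.Prime := ⟨ht⟩
  have hp3 := three_le_of_dvd C hp hpN
  have ht3 := three_le_of_dvd C ht htN
  obtain ⟨spq, np, nq⟩ := step_same C hp hq hpq hpN hqN h1 h2
  obtain ⟨spt, mt⟩ := step_mixed C hp ht hpt hpN htN h1 h3 np
  obtain ⟨sqt, -⟩ := step_mixed C hq ht hqt hqN htN h2 h3 nq
  have ft := frob_prime C ht htN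
  rw [h3] at ft
  have nt : (n : ZMod t) = -1 := by
    have h := (CharP.cast_eq_zero_iff (ZMod t) t (1 + n)).mpr ft
    push_cast at h
    linear_combination h
  have hpqN : p * q ∣ N :=
    Nat.Coprime.mul_dvd_of_dvd_of_dvd ((Nat.coprime_primes hp hq).mpr hpq) hpN hqN
  have hcop : (p * q).Coprime t :=
    Nat.Coprime.mul_left ((Nat.coprime_primes hp ht).mpr hpt) ((Nat.coprime_primes hq ht).mpr hqt)
  have hpqtN : p * q * t ∣ N := Nat.Coprime.mul_dvd_of_dvd_of_dvd hcop hpqN htN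
  have f3 := C.H.frob (p * q * t) hpqtN
  rw [sum_div_three hp hq ht hpq hpt hqt, C.H.one, h1, h2, h3, spq, spt, sqt] at f3
  have e1 : ((S (p * q * t) : ℕ) : ZMod t) = 1 := by
    have h := (CharP.cast_eq_zero_iff (ZMod t) t _).mpr ((dvd_mul_left t (p * q)).trans f3)
    push_cast at h
    linear_combination h - 4 * mt - 2 * nt
  have hx : 2 < p * q * t := by nlinarith [Nat.mul_le_mul hp3 (three_le_of_dvd C hq hqN)]
  rcases val_cases C (p * q * t) hx with h | h | h
  · rw [h] at e1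
    simp at e1
  · rw [h, mt] at e1
    simp at e1
  · rw [h, nt] at e1
    exact neg_one_ne_one_zmod ht3 e1

end Cfsg.Agent.Lib.Helper81.N3
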