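import Mathlib
import Cfsg.Prelude.Def_GeometricClasses

/-!
# K-O10m-Y7 (keystone 585007, row S5850, architect helper91)

`q` even: from one matrix `u` with `u² + u = c₀` and `B (u x) x = Q x` (and `Q` of minus type) the algebra
`K = {a + b u}` is a quadratic field of unitary type, normalised by every `g` with `g u g⁻¹ ∈ {u, u + 1}`.
-/

set_option autoImplicit false

namespace Cfsg.Agent.Lib.Helper81.O10m

open Cfsg Cfsg.Geo
open scoped Matrix Kronecker MatrixGroups

section basics

variable {F : Type*} [Field F] {n : ℕ}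

local notation "V" => (Fin n → F)
local notation "Mat" => Matrix (Fin n) (Fin n) F

theorem Q_zero {Q : V → F} (hQ : IsNondegenerateQuadraticForm Q) : Q 0 = 0 := by
  have h := hQ.smul 0 0
  simpa using h

theorem Q_add (Q : V → F) (x y : V) : Q (x + y) = QuadraticMap.polar Q x y + Q x + Q y := by
  unfold QuadraticMap.polar
  ring

/-- a totally singular subspace has at most half the dimension -/
theorem two_mul_finrank_le_of_totallySingular {Q : V → F} (hQ : IsNondegenerateQuadraticForm Q)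
    (U : Submodule F V) (hU : IsTotallySingularQuad Q U) : 2 * Module.finrank F U ≤ n := by
  let B : LinearMap.BilinForm F V :=
    LinearMap.mk₂ F (QuadraticMap.polar Q) hQ.polar_bilinear.add_left
      (fun c x w => by rw [hQ.polar_bilinear.smul_left]; rfl)
      hQ.polar_bilinear.add_right (fun c x w => by rw [hQ.polar_bilinear.smul_right]; rfl)
  have hB : ∀ x y, B x y = QuadraticMap.polar Q x y := fun x y => rfl
  have hN : B.Nondegenerate := by
    constructor
    · intro x hx
      by_contra hx0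
      obtain ⟨-, y, hxy⟩ := hQ.nondegenerate x hx0
      exact hxy (hx y)
    · intro y hy
      by_contra hy0
      obtain ⟨⟨x, hxy⟩, -⟩ := hQ.nondegenerate y hy0
      exact hxy (hy x)
  have hle : U ≤ B.orthogonal U := by
    intro x hx
    rw [LinearMap.BilinForm.mem_orthogonal_iff]
    intro w hw
    show B w x = 0
    rw [hB]
    unfold QuadraticMap.polar
    rw [hU _ (U.add_mem hw hx), hU w hw, hU x hx]
    ring
  have h1 := Submodule.finrank_mono hle
  have h2 := LinearMap.BilinForm.finrank_orthogonal hN U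
  rw [Module.finrank_fin_fun] at h2
  have h3 : Module.finrank F U ≤ n := by
    have := Submodule.finrank_le U
    rwa [Module.finrank_fin_fun] at this
  omega

end basics

section main

variable {F : Type*} [Field F] {n : ℕ}

local notation "V" => (Fin n → F)
local notation "Mat" => Matrix (Fin n) (Fin n) F

theorem mat_add_self (h2 : (2 : F) = 0) (m : Mat) : m + m = 0 := by
  rw [← two_smul F m, h2, zero_smul]

theorem vec_add_self (h2 : (2 : F) = 0) (v : V) : v + v = 0 := by
  rw [← two_smul F v, h2, zero_smul]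

theorem fld_add_self (h2 : (2 : F) = 0) (a : F) : a + a = 0 := by
  rw [← two_mul, h2, zero_mul]

theorem polar_self (h2 : (2 : F) = 0) {Q : V → F} (hQ : IsNondegenerateQuadraticForm Q) (x : V) :
    QuadraticMap.polar Q x x = 0 := by
  unfold QuadraticMap.polar
  rw [vec_add_self h2, Q_zero hQ]
  have := fld_add_self h2 (Q x)
  linear_combination -this

theorem sq_eq (h2 : (2 : F) = 0) {u : Mat} {c₀ : F} (hu2 : u * u + u = c₀ • (1 : Mat)) :
    u * u = c₀ • (1 : Mat) + u := by
  have h1 : u * u = c₀ • (1 : Mat) - u := eq_sub_of_add_eq hu2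
  have h3 : -u = u := neg_eq_of_add_eq_zero_left (mat_add_self h2 u)
  rw [h1, sub_eq_add_neg, h3]

theorem mul_formula (h2 : (2 : F) = 0) {u : Mat} {c₀ : F} (hu2 : u * u + u = c₀ • (1 : Mat))
    (a b a' b' : F) :
    (a • (1 : Mat) + b • u) * (a' • (1 : Mat) + b' • u) =
      (a * a' + b * b' * c₀) • (1 : Mat) + (a * b' + a' * b + b * b') • u := by
  have hexp : (a • (1 : Mat) + b • u) * (a' • (1 : Mat) + b' • u) =
      (a * a') • (1 : Mat) + (a * b') • u + (b * a') • u + (b * b') • (u * u) := by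
    simp only [add_mul, mul_add, smul_mul_assoc, mul_smul_comm, one_mul, mul_one]
    module
  rw [hexp, sq_eq h2 hu2]
  module

/-- the algebra `{a + b u}` -/
def quadAlg (h2 : (2 : F) = 0) (u : Mat) (c₀ : F) (hu2 : u * u + u = c₀ • (1 : Mat)) :
    Subalgebra F Mat where
  carrier := {k | ∃ a b : F, k = a • (1 : Mat) + b • u}
  mul_mem' := by
    rintro _ _ ⟨a, b, rfl⟩ ⟨a', b', rfl⟩
    exact ⟨_, _, mul_formula h2 hu2 a b a' b'⟩
  add_mem' := by
    rintro _ _ ⟨a, b, rfl⟩ ⟨a', b', rfl⟩
    exact ⟨a + a', b + b', by module⟩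
  algebraMap_mem' := fun r => ⟨r, 0, by
    rw [zero_smul, add_zero, Algebra.algebraMap_eq_smul_one]⟩

theorem mem_quadAlg (h2 : (2 : F) = 0) (u : Mat) (c₀ : F) (hu2 : u * u + u = c₀ • (1 : Mat))
    (k : Mat) : k ∈ quadAlg h2 u c₀ hu2 ↔ ∃ a b : F, k = a • (1 : Mat) + b • u := Iff.rfl

theorem lin_mulVec (u : Mat) (a b : F) (x : V) :
    (a • (1 : Mat) + b • u) *ᵥ x = a • x + b • (u *ᵥ x) := by
  rw [Matrix.add_mulVec, Matrix.smul_mulVec, Matrix.smul_mulVec, Matrix.one_mulVec]

/-- a root of `t² + t = c₀` makes `Q` of plus type -/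
theorem plus_of_root (h2 : (2 : F) = 0) (Q : V → F) (hQ : IsNondegenerateQuadraticForm Q)
    (u : Mat) (c₀ : F) (hu2 : u * u + u = c₀ • (1 : Mat))
    (hpol : ∀ x : V, QuadraticMap.polar Q (u *ᵥ x) x = Q x) (t : F) (ht : t * t + t = c₀) :
    IsPlusTypeOn Q ⊤ := by
  have hB := hQ.polar_bilinear
  have hxx : ∀ x : V, QuadraticMap.polar Q x x = 0 := polar_self h2 hQ
  -- the two eigenspaces
  have hTS : ∀ s : F, IsTotallySingularQuad Q (LinearMap.ker (Matrix.mulVecLin (u + s • (1 : Mat)))) := by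
    intro s x hx
    rw [LinearMap.mem_ker, Matrix.mulVecLin_apply, Matrix.add_mulVec, Matrix.smul_mulVec,
      Matrix.one_mulVec] at hx
    have hux : u *ᵥ x = s • x := by
      have h1 : u *ᵥ x = -(s • x) := eq_neg_of_add_eq_zero_left hx
      have h3 : -(s • x) = s • x := neg_eq_of_add_eq_zero_left (vec_add_self h2 (s • x))
      rw [h1, h3]
    rw [← hpol x, hux, hB.smul_left, hxx, mul_zero]
  set A : Mat := u + t • (1 : Mat) with hA
  set A' : Mat := u + (t + 1) • (1 : Mat) with hA'
  have hAA' : A * A' = 0 := by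
    have h1 : A = t • (1 : Mat) + (1 : F) • u := by rw [hA, one_smul, add_comm]
    have h1' : A' = (t + 1) • (1 : Mat) + (1 : F) • u := by rw [hA', one_smul, add_comm]
    rw [h1, h1', mul_formula h2 hu2]
    have e1 : t * (t + 1) + 1 * 1 * c₀ = 0 := by
      rw [← ht]
      have := fld_add_self h2 (t * t + t)
      linear_combination this
    have e2 : t * 1 + (t + 1) * 1 + 1 * 1 = 0 := by
      have := fld_add_self h2 (t + 1)
      linear_combination this
    rw [e1, e2, zero_smul, zero_smul, add_zero]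
  have hA'A : A' * A = 0 := by
    have h1 : A = t • (1 : Mat) + (1 : F) • u := by rw [hA, one_smul, add_comm]
    have h1' : A' = (t + 1) • (1 : Mat) + (1 : F) • u := by rw [hA', one_smul, add_comm]
    rw [h1, h1', mul_formula h2 hu2]
    have e1 : (t + 1) * t + 1 * 1 * c₀ = 0 := by
      rw [← ht]
      have := fld_add_self h2 (t * t + t)
      linear_combination this
    have e2 : (t + 1) * 1 + t * 1 + 1 * 1 = 0 := by
      have := fld_add_self h2 (t + 1)
      linear_combination this
    rw [e1, e2, zero_smul, zero_smul, add_zero]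
  have hsum : A + A' = 1 := by
    rw [hA, hA']
    have : u + t • (1 : Mat) + (u + (t + 1) • (1 : Mat)) =
        (u + u) + ((t + t) • (1 : Mat)) + 1 := by
      rw [add_smul, add_smul, one_smul]
      abel
    rw [this, mat_add_self h2, fld_add_self h2, zero_smul, zero_add, zero_add]
  set U := LinearMap.ker (Matrix.mulVecLin A) with hU
  set U' := LinearMap.ker (Matrix.mulVecLin A') with hU'
  have hsup : U ⊔ U' = ⊤ := by
    rw [eq_top_iff]
    intro x _
    have hx : x = A' *ᵥ x + A *ᵥ x := by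
      rw [← Matrix.add_mulVec, add_comm, hsum, Matrix.one_mulVec]
    rw [hx]
    apply Submodule.add_mem_sup
    · rw [hU, LinearMap.mem_ker, Matrix.mulVecLin_apply, Matrix.mulVec_mulVec, hAA',
        Matrix.zero_mulVec]
    · rw [hU', LinearMap.mem_ker, Matrix.mulVecLin_apply, Matrix.mulVec_mulVec, hA'A,
        Matrix.zero_mulVec]
  have hd1 := two_mul_finrank_le_of_totallySingular hQ U (hTS t)
  have hd2 := two_mul_finrank_le_of_totallySingular hQ U' (hTS (t + 1))
  have hd3 := Submodule.finrank_sup_add_finrank_inf_eq U U'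
  rw [hsup, finrank_top, Module.finrank_fin_fun] at hd3
  refine ⟨U, le_top, hTS t, ?_⟩
  rw [finrank_top, Module.finrank_fin_fun]
  omega

variable [Fintype F]

/-- K-O10m-Y7 (585007) (`q` even). -/
theorem unitaryField_of_artinSchreier (h2 : (2 : F) = 0) (Q : V → F) (hQ : IsNondegenerateQuadraticForm Q)
    (hminus : ¬ IsPlusTypeOn Q ⊤) (u : Mat) (c₀ : F) (hu2 : u * u + u = c₀ • (1 : Mat))
    (hpol : ∀ x : V, QuadraticMap.polar Q (u *ᵥ x) x = Q x) :
    ∃ K : Subalgebra F Mat, IsFieldSubalgebra 2 K ∧ IsAdjointClosedFor (QuadraticMap.polar Q) K ∧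
      ¬ IsSelfAdjointFor (QuadraticMap.polar Q) K ∧
      (∀ k ∈ K, ∃ c : F, ∀ v : V, Q (k *ᵥ v) = c * Q v) ∧
      (∀ g : GL (Fin n) F, ((g : Mat) * u * ((g⁻¹ : GL (Fin n) F) : Mat) = u ∨
          (g : Mat) * u * ((g⁻¹ : GL (Fin n) F) : Mat) = u + 1) → g ∈ subalgebraNormalizer K) := by
  classical
  have hB := hQ.polar_bilinear
  have hxx : ∀ x : V, QuadraticMap.polar Q x x = 0 := polar_self h2 hQ
  -- a nonsingular vector
  have hx₀ : ∃ x₀ : V, Q x₀ ≠ 0 := by
    by_contra hcon
    have hall : ∀ x : V, Q x = 0 := by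
      intro x
      by_contra hx
      exact hcon ⟨x, hx⟩
    apply hminus
    have hpol0 : ∀ x y : V, QuadraticMap.polar Q x y = 0 := by
      intro x y
      unfold QuadraticMap.polar
      rw [hall, hall, hall]
      ring
    have hV : ∀ v : V, v = 0 := by
      intro v
      by_contra hv
      obtain ⟨⟨x, hx⟩, -⟩ := hQ.nondegenerate v hv
      exact hx (hpol0 x v)
    refine ⟨⊥, bot_le, fun w hw => by rw [(Submodule.mem_bot F).1 hw]; exact Q_zero hQ, ?_⟩
    rw [finrank_bot, mul_zero, finrank_top]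
    have : Subsingleton V := ⟨fun a b => by rw [hV a, hV b]⟩
    exact (Module.finrank_zero_of_subsingleton).symm
  obtain ⟨x₀, hx₀⟩ := hx₀
  have hx₀0 : x₀ ≠ 0 := by
    intro h
    rw [h] at hx₀
    exact hx₀ (Q_zero hQ)
  -- polarisation
  have key : ∀ x y : V, QuadraticMap.polar Q (u *ᵥ x) y =
      QuadraticMap.polar Q x y + QuadraticMap.polar Q x (u *ᵥ y) := by
    intro x y
    have h := hpol (x + y)
    rw [Matrix.mulVec_add, hB.add_left, hB.add_right, hB.add_right, hpol x, hpol y,
      Q_add Q x y, QuadraticMap.polar_comm Q (u *ᵥ y) x] at h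
    linear_combination h - QuadraticMap.polar Q x (u *ᵥ y) * h2
  -- `Q (u v) = c₀ Q v`
  have hQu : ∀ v : V, Q (u *ᵥ v) = c₀ * Q v := by
    intro v
    have h := hpol (u *ᵥ v)
    rw [Matrix.mulVec_mulVec, sq_eq h2 hu2, Matrix.add_mulVec, Matrix.smul_mulVec, Matrix.one_mulVec,
      hB.add_left, hB.smul_left, hxx, add_zero, QuadraticMap.polar_comm Q v (u *ᵥ v), hpol v] at h
    exact h.symm
  -- the norm form has no nontrivial zero
  have hnorm : ∀ a b : F, a * a + a * b + c₀ * b * b = 0 → a = 0 ∧ b = 0 := by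
    intro a b hab
    by_cases hb : b = 0
    · rw [hb] at hab
      have : a * a = 0 := by linear_combination hab
      exact ⟨(mul_self_eq_zero.1 this), hb⟩
    · exfalso
      apply hminus
      apply plus_of_root h2 Q hQ u c₀ hu2 hpol (a * b⁻¹)
      have hbb : b * b ≠ 0 := mul_ne_zero hb hb
      have h1 : (a * b⁻¹ * (a * b⁻¹) + a * b⁻¹ + c₀) * (b * b) = 0 := by
        have : (a * b⁻¹ * (a * b⁻¹) + a * b⁻¹ + c₀) * (b * b) =
            a * a * (b * b⁻¹) * (b * b⁻¹) + a * b * (b * b⁻¹) + c₀ * b * b := by ring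
        rw [this, mul_inv_cancel₀ hb, mul_one, mul_one, mul_one]
        exact hab
      have h3 : a * b⁻¹ * (a * b⁻¹) + a * b⁻¹ + c₀ = 0 := by
        rcases mul_eq_zero.1 h1 with h | h
        · exact h
        · exact absurd h hbb
      have h4 := fld_add_self h2 c₀
      linear_combination h3 - h4
  -- `1, u` are independent
  have hindep : ∀ a b : F, a • (1 : Mat) + b • u = 0 → a = 0 ∧ b = 0 := by
    intro a b hab
    have h1 : a • x₀ + b • (u *ᵥ x₀) = 0 := by
      rw [← lin_mulVec, hab, Matrix.zero_mulVec]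
    have h3 : QuadraticMap.polar Q (a • x₀ + b • (u *ᵥ x₀)) x₀ = b * Q x₀ := by
      rw [hB.add_left, hB.smul_left, hB.smul_left, hxx, hpol, mul_zero, zero_add]
    rw [h1] at h3
    have h0 : QuadraticMap.polar Q 0 x₀ = 0 := by
      have := hB.smul_left 0 0 x₀
      simpa using this
    rw [h0] at h3
    have hb : b = 0 := by
      rcases mul_eq_zero.1 h3.symm with h | h
      · exact h
      · exact absurd h hx₀
    rw [hb, zero_smul, add_zero] at h1
    rcases smul_eq_zero.1 h1 with h | h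
    · exact ⟨h, hb⟩
    · exact absurd h hx₀0
  refine ⟨quadAlg h2 u c₀ hu2, ⟨?_, ?_, ?_⟩, ?_, ?_, ?_, ?_⟩
  · -- commutative
    rintro _ ⟨a, b, rfl⟩ _ ⟨a', b', rfl⟩
    rw [mul_formula h2 hu2, mul_formula h2 hu2]
    congr 2 <;> ring
  · -- inverses
    rintro _ ⟨a, b, rfl⟩ hne
    have hN : a * a + a * b + c₀ * b * b ≠ 0 := by
      intro h
      obtain ⟨ha, hb⟩ := hnorm a b h
      apply hne
      rw [ha, hb, zero_smul, zero_smul, add_zero]
    refine ⟨((a * a + a * b + c₀ * b * b)⁻¹ * (a + b)) • (1 : Mat) +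
      ((a * a + a * b + c₀ * b * b)⁻¹ * b) • u, ⟨_, _, rfl⟩, ?_⟩
    rw [mul_formula h2 hu2]
    have e1 : a * ((a * a + a * b + c₀ * b * b)⁻¹ * (a + b)) +
        b * ((a * a + a * b + c₀ * b * b)⁻¹ * b) * c₀ = 1 := by
      have : a * ((a * a + a * b + c₀ * b * b)⁻¹ * (a + b)) +
          b * ((a * a + a * b + c₀ * b * b)⁻¹ * b) * c₀ =
          (a * a + a * b + c₀ * b * b)⁻¹ * (a * a + a * b + c₀ * b * b) := by ring
      rw [this, inv_mul_cancel₀ hN]
    have e2 : a * ((a * a + a * b + c₀ * b * b)⁻¹ * b) +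
        (a * a + a * b + c₀ * b * b)⁻¹ * (a + b) * b +
        b * ((a * a + a * b + c₀ * b * b)⁻¹ * b) = 0 := by
      have h5 := fld_add_self h2 ((a * a + a * b + c₀ * b * b)⁻¹ * (a * b + b * b))
      linear_combination h5
    rw [e1, e2, one_smul, zero_smul, add_zero]
  · -- dimension
    let f : (F × F) →ₗ[F] Mat :=
      { toFun := fun p => p.1 • (1 : Mat) + p.2 • u
        map_add' := fun p p' => by
          show (p.1 + p'.1) • (1 : Mat) + (p.2 + p'.2) • u = _
          module
        map_smul' := fun c p => by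
          show (c * p.1) • (1 : Mat) + (c * p.2) • u = c • (p.1 • (1 : Mat) + p.2 • u)
          module }
    have hf : Function.Injective f := by
      rw [← LinearMap.ker_eq_bot, LinearMap.ker_eq_bot']
      intro p hp
      obtain ⟨h1, h3⟩ := hindep p.1 p.2 hp
      exact Prod.ext h1 h3
    have hrange : LinearMap.range f = Subalgebra.toSubmodule (quadAlg h2 u c₀ hu2) := by
      ext k
      constructor
      · rintro ⟨p, rfl⟩
        exact ⟨p.1, p.2, rfl⟩
      · rintro ⟨a, b, rfl⟩
        exact ⟨(a, b), rfl⟩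
    have h1 := LinearMap.finrank_range_of_inj hf
    rw [hrange, Module.finrank_prod, Module.finrank_self] at h1
    exact h1
  · -- adjoint closed
    rintro _ ⟨a, b, rfl⟩
    refine ⟨(a + b) • (1 : Mat) + b • u, ⟨_, _, rfl⟩, ?_⟩
    intro x y
    rw [lin_mulVec, lin_mulVec, hB.add_left, hB.smul_left, hB.smul_left, hB.add_right, hB.smul_right,
      hB.smul_right, key x y]
    ring
  · -- not self-adjoint
    intro hsa
    have hu : u ∈ quadAlg h2 u c₀ hu2 := ⟨0, 1, by rw [zero_smul, zero_add, one_smul]⟩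
    obtain ⟨⟨y, hy⟩, -⟩ := hQ.nondegenerate x₀ hx₀0
    apply hy
    have h1 := hsa u hu y x₀
    rw [key y x₀] at h1
    linear_combination h1
  · -- similarities
    rintro _ ⟨a, b, rfl⟩
    refine ⟨a * a + a * b + c₀ * b * b, ?_⟩
    intro v
    rw [lin_mulVec, Q_add Q (a • v) (b • (u *ᵥ v)), hQ.smul, hQ.smul, hQu, hB.smul_left, hB.smul_right,
      QuadraticMap.polar_comm Q v (u *ᵥ v), hpol v]
    ring
  · -- the normaliser
    have hinto : ∀ g : GL (Fin n) F, ((g : Mat) * u * ((g⁻¹ : GL (Fin n) F) : Mat) = u ∨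
        (g : Mat) * u * ((g⁻¹ : GL (Fin n) F) : Mat) = u + 1) →
        ∀ k ∈ quadAlg h2 u c₀ hu2,
          (g : Mat) * k * ((g⁻¹ : GL (Fin n) F) : Mat) ∈ quadAlg h2 u c₀ hu2 := by
      intro g hg
      rintro _ ⟨a, b, rfl⟩
      have hgg : (g : Mat) * ((g⁻¹ : GL (Fin n) F) : Mat) = 1 := by
        rw [← Units.val_mul, mul_inv_cancel, Units.val_one]
      have hconj : (g : Mat) * (a • (1 : Mat) + b • u) * ((g⁻¹ : GL (Fin n) F) : Mat) =
          a • (1 : Mat) + b • ((g : Mat) * u * ((g⁻¹ : GL (Fin n) F) : Mat)) := by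
        rw [mul_add, add_mul, mul_smul_comm, smul_mul_assoc, mul_one, hgg, mul_smul_comm,
          smul_mul_assoc]
      rw [hconj]
      rcases hg with h | h
      · rw [h]
        exact ⟨a, b, rfl⟩
      · rw [h]
        exact ⟨a + b, b, by module⟩
    have hinv : ∀ g : GL (Fin n) F, ((g : Mat) * u * ((g⁻¹ : GL (Fin n) F) : Mat) = u ∨
        (g : Mat) * u * ((g⁻¹ : GL (Fin n) F) : Mat) = u + 1) →
        (((g⁻¹ : GL (Fin n) F) : Mat) * u * (((g⁻¹)⁻¹ : GL (Fin n) F) : Mat) = u ∨
        ((g⁻¹ : GL (Fin n) F) : Mat) * u * (((g⁻¹)⁻¹ : GL (Fin n) F) : Mat) = u + 1) := by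
      intro g hg
      rw [inv_inv]
      have hgg' : ((g⁻¹ : GL (Fin n) F) : Mat) * (g : Mat) = 1 := by
        rw [← Units.val_mul, inv_mul_cancel, Units.val_one]
      have hback : ∀ w : Mat, (g : Mat) * u * ((g⁻¹ : GL (Fin n) F) : Mat) = w →
          ((g⁻¹ : GL (Fin n) F) : Mat) * w * (g : Mat) = u := by
        intro w hw
        rw [← hw]
        calc ((g⁻¹ : GL (Fin n) F) : Mat) * ((g : Mat) * u * ((g⁻¹ : GL (Fin n) F) : Mat)) * (g : Mat)
            = (((g⁻¹ : GL (Fin n) F) : Mat) * (g : Mat)) * u *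
                (((g⁻¹ : GL (Fin n) F) : Mat) * (g : Mat)) := by
              simp only [mul_assoc]
          _ = u := by rw [hgg', one_mul, mul_one]
      rcases hg with h | h
      · left
        exact hback u h
      · right
        have h1 := hback (u + 1) h
        rw [mul_add, add_mul, mul_one, hgg'] at h1
        -- h1 : g⁻¹ u g + 1 = u
        have h3 : ((g⁻¹ : GL (Fin n) F) : Mat) * u * (g : Mat) = u - 1 := eq_sub_of_add_eq h1
        have h4 : -(1 : Mat) = 1 := neg_eq_of_add_eq_zero_left (mat_add_self h2 1)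
        rw [h3, sub_eq_add_neg, h4]
    intro g hg
    show ∀ k : Mat, k ∈ quadAlg h2 u c₀ hu2 ↔
      (g : Mat) * k * ((g⁻¹ : GL (Fin n) F) : Mat) ∈ quadAlg h2 u c₀ hu2
    intro k
    constructor
    · exact hinto g hg k
    · intro hk
      have h1 := hinto g⁻¹ (hinv g hg) _ hk
      rw [inv_inv] at h1
      have hgg' : ((g⁻¹ : GL (Fin n) F) : Mat) * (g : Mat) = 1 := by
        rw [← Units.val_mul, inv_mul_cancel, Units.val_one]
      have h3 : ((g⁻¹ : GL (Fin n) F) : Mat) * ((g : Mat) * k * ((g⁻¹ : GL (Fin n) F) : Mat)) * (g : Mat)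
          = k := by
        calc ((g⁻¹ : GL (Fin n) F) : Mat) * ((g : Mat) * k * ((g⁻¹ : GL (Fin n) F) : Mat)) * (g : Mat)
            = (((g⁻¹ : GL (Fin n) F) : Mat) * (g : Mat)) * k *
                (((g⁻¹ : GL (Fin n) F) : Mat) * (g : Mat)) := by
              simp only [mul_assoc]
          _ = k := by rw [hgg', one_mul, mul_one]
      rw [h3] at h1
      exact h1

end main

end Cfsg.Agent.Lib.Helper81.O10m
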