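import Mathlib
import Cfsg.Agent.Lib.Helper38.OhP.Defs

/-!
# K-OEl pack (S5988 + S5990, architect helper49), sub-leaf K0a (keystone 598827): `card_ap_of_nonsing`

For `u ∈ O` with `Q u ≠ 0`, count the `w ∈ O` whose affine line `w + F u` has no singular vector:
with `R w` the set of roots `s` of `Q (w + s u)`, `|R w| ≤ 2`, `∑_w |R w| = q Z`, `#{w | |R w| = 1} = q Z_u`.
-/

set_option autoImplicit false
set_option linter.unusedSectionVars false
set_option linter.unusedVariables false
set_option linter.style.haveILetI false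

namespace Cfsg.Agent.Lib.Helper81.OEl

open Module Cfsg.Agent.Lib.Helper98.Elus Cfsg.Agent.Lib.Helper98.Sy Cfsg.Agent.Lib.Helper38.OhP

universe u
variable {F : Type u} [Field F] {V : Type u} [AddCommGroup V] [Module F V]

theorem k0a_q_add_smul (Q : QuadraticForm F V) (a b : V) (c : F) :
    Q (a + c • b) = Q a + c * c * Q b + c * pB Q a b := by
  have h1 : Q (a + c • b) = Q a + Q (c • b) + pB Q a (c • b) := by
    rw [pB_apply]; ring
  rw [h1, QuadraticMap.map_smul, map_smul, smul_eq_mul, smul_eq_mul]

/-- the quadratic polynomial `s ↦ Q (w + s u)` around a root `s₀` -/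
theorem k0a_root (Q : QuadraticForm F V) (u w : V) (s₀ : F) (h0 : Q (w + s₀ • u) = 0) (s : F) :
    Q (w + s • u) = (s - s₀) * ((s - s₀) * Q u + pB Q (w + s₀ • u) u) := by
  have h1 : w + s • u = (w + s₀ • u) + (s - s₀) • u := by
    rw [sub_smul]; abel
  rw [h1, k0a_q_add_smul, h0]
  ring

/-- SUB-LEAF K0a (598827). -/
theorem card_ap_of_nonsing [Fintype F] [FiniteDimensional F V] (Q : QuadraticForm F V)
    (O : Submodule F V) (u : V) (hu : u ∈ O) (hQu : Q u ≠ 0) :
    2 * Nat.card {w : V // w ∈ O ∧ ∀ s t : F, Q (s • u + t • w) = 0 → s = 0 ∧ t = 0} +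
      Fintype.card F * (Nat.card {z : V // z ∈ O ∧ Q z = 0} +
        Nat.card {z : V // z ∈ O ∧ Q z = 0 ∧ pB Q z u = 0}) = 2 * Nat.card O := by
  classical
  haveI : Finite V := Module.finite_of_finite F
  haveI : Fintype V := Fintype.ofFinite V
  -- the roots
  set R : V → Finset F := fun w => Finset.univ.filter (fun s => Q (w + s • u) = 0) with hRdef
  have hmemR : ∀ w s, s ∈ R w ↔ Q (w + s • u) = 0 := by
    intro w s
    simp [hRdef]
  -- the second root
  have hsecond : ∀ w s₀, s₀ ∈ R w → s₀ - pB Q (w + s₀ • u) u / Q u ∈ R w := by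
    intro w s₀ h0
    rw [hmemR] at h0 ⊢
    rw [k0a_root Q u w s₀ h0]
    field_simp
    ring
  have hsub : ∀ w s₀, s₀ ∈ R w → R w ⊆ {s₀, s₀ - pB Q (w + s₀ • u) u / Q u} := by
    intro w s₀ h0 s hs
    rw [hmemR] at h0 hs
    rw [k0a_root Q u w s₀ h0] at hs
    rw [Finset.mem_insert, Finset.mem_singleton]
    rcases mul_eq_zero.mp hs with h | h
    · left
      exact sub_eq_zero.mp h
    · right
      field_simp
      linear_combination h
  have hR_le : ∀ w, (R w).card ≤ 2 := by
    intro w
    rcases Finset.eq_empty_or_nonempty (R w) with h | ⟨s₀, h0⟩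
    · rw [h]; simp
    · exact (Finset.card_le_card (hsub w s₀ h0)).trans Finset.card_le_two
  have hR_one : ∀ w s₀, s₀ ∈ R w → ((R w).card = 1 ↔ pB Q (w + s₀ • u) u = 0) := by
    intro w s₀ h0
    constructor
    · intro hc
      obtain ⟨a, ha⟩ := Finset.card_eq_one.mp hc
      have h1 : s₀ = a := by
        have := h0; rw [ha, Finset.mem_singleton] at this; exact this
      have h2 : s₀ - pB Q (w + s₀ • u) u / Q u = a := by
        have := hsecond w s₀ h0; rw [ha, Finset.mem_singleton] at this; exact this
      have h3 : pB Q (w + s₀ • u) u / Q u = 0 := by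
        have : s₀ - pB Q (w + s₀ • u) u / Q u = s₀ := by rw [h2, h1]
        linear_combination -this
      rcases div_eq_zero_iff.mp h3 with h | h
      · exact h
      · exact absurd h hQu
    · intro hβ
      have h1 := hsub w s₀ h0
      rw [hβ, zero_div, sub_zero, Finset.pair_eq_singleton] at h1
      have h2 : R w = {s₀} := by
        apply Finset.Subset.antisymm h1
        rw [Finset.singleton_subset_iff]
        exact h0
      rw [h2, Finset.card_singleton]
  -- the finsets
  set Os : Finset V := Finset.univ.filter (fun w => w ∈ O) with hOs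
  have hmemOs : ∀ w, w ∈ Os ↔ w ∈ O := by
    intro w
    simp [hOs]
  set Zs : Finset V := Os.filter (fun z => Q z = 0) with hZs
  set Zu : Finset V := Os.filter (fun z => Q z = 0 ∧ pB Q z u = 0) with hZu
  -- (ii) the total number of roots
  have hsum : ∑ w ∈ Os, (R w).card = Fintype.card F * Zs.card := by
    have h1 : ∀ w ∈ Os, (R w).card = ∑ s : F, if Q (w + s • u) = 0 then 1 else 0 := by
      intro w _
      rw [hRdef, Finset.card_filter]
    rw [Finset.sum_congr rfl h1, Finset.sum_comm]
    have h2 : ∀ s : F, (∑ w ∈ Os, if Q (w + s • u) = 0 then 1 else 0) = Zs.card := by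
      intro s
      rw [← Finset.card_filter]
      apply Finset.card_nbij' (fun w => w + s • u) (fun z => z - s • u)
      · intro w hw
        rw [Finset.mem_coe, Finset.mem_filter] at hw
        rw [Finset.mem_coe, hZs, Finset.mem_filter, hmemOs]
        exact ⟨O.add_mem ((hmemOs w).mp hw.1) (O.smul_mem s hu), hw.2⟩
      · intro z hz
        rw [Finset.mem_coe, hZs, Finset.mem_filter, hmemOs] at hz
        rw [Finset.mem_coe, Finset.mem_filter, hmemOs]
        refine ⟨O.sub_mem hz.1 (O.smul_mem s hu), ?_⟩
        rw [sub_add_cancel]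
        exact hz.2
      · intro w _
        simp
      · intro z _
        simp
    rw [Finset.sum_congr rfl (fun s _ => h2 s), Finset.sum_const, Finset.card_univ, smul_eq_mul]
  -- (iii) the lines with exactly one root
  have hone : (Os.filter (fun w => (R w).card = 1)).card = Fintype.card F * Zu.card := by
    have h1 : (Zu ×ˢ (Finset.univ : Finset F)).card = Zu.card * Fintype.card F := by
      rw [Finset.card_product, Finset.card_univ]
    rw [mul_comm, ← h1]
    symm
    apply Finset.card_bij (fun (p : V × F) _ => p.1 - p.2 • u)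
    · rintro ⟨z, s⟩ hp
      rw [Finset.mem_product, hZu, Finset.mem_filter, hmemOs] at hp
      obtain ⟨⟨hzO, hQz, hβ⟩, -⟩ := hp
      rw [Finset.mem_filter, hmemOs]
      refine ⟨O.sub_mem hzO (O.smul_mem s hu), ?_⟩
      have hs : s ∈ R (z - s • u) := by
        rw [hmemR, sub_add_cancel]; exact hQz
      rw [hR_one _ s hs, sub_add_cancel]
      exact hβ
    · rintro ⟨z₁, s₁⟩ hp₁ ⟨z₂, s₂⟩ hp₂ heq
      rw [Finset.mem_product, hZu, Finset.mem_filter, hmemOs] at hp₁ hp₂
      obtain ⟨⟨hzO₁, hQz₁, hβ₁⟩, -⟩ := hp₁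
      obtain ⟨⟨hzO₂, hQz₂, hβ₂⟩, -⟩ := hp₂
      have heq' : z₁ - s₁ • u = z₂ - s₂ • u := heq
      have hs₁ : s₁ ∈ R (z₁ - s₁ • u) := by
        rw [hmemR, sub_add_cancel]; exact hQz₁
      have hs₂ : s₂ ∈ R (z₁ - s₁ • u) := by
        rw [heq', hmemR, sub_add_cancel]; exact hQz₂
      have hc : (R (z₁ - s₁ • u)).card = 1 := by
        rw [hR_one _ s₁ hs₁, sub_add_cancel]; exact hβ₁
      obtain ⟨a, ha⟩ := Finset.card_eq_one.mp hc
      rw [ha, Finset.mem_singleton] at hs₁ hs₂
      have hss : s₁ = s₂ := by rw [hs₁, hs₂]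
      subst hss
      have hzz : z₁ = z₂ := by
        have := congrArg (fun v => v + s₁ • u) heq'
        simpa using this
      rw [hzz]
    · intro w hw
      rw [Finset.mem_filter, hmemOs] at hw
      obtain ⟨hwO, hc⟩ := hw
      obtain ⟨a, ha⟩ := Finset.card_eq_one.mp hc
      have h0 : a ∈ R w := by rw [ha]; exact Finset.mem_singleton_self a
      refine ⟨(w + a • u, a), ?_, ?_⟩
      · rw [Finset.mem_product, hZu, Finset.mem_filter, hmemOs]
        exact ⟨⟨O.add_mem hwO (O.smul_mem a hu), (hmemR w a).mp h0, (hR_one w a h0).mp hc⟩,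
          Finset.mem_univ _⟩
      · simp
  -- (iv) no root
  have hAP : ∀ w : V, (∀ s t : F, Q (s • u + t • w) = 0 → s = 0 ∧ t = 0) ↔ R w = ∅ := by
    intro w
    constructor
    · intro h
      rw [Finset.eq_empty_iff_forall_notMem]
      intro s hs
      rw [hmemR] at hs
      have h1 := h s 1 (by rw [one_smul, add_comm]; exact hs)
      exact one_ne_zero h1.2
    · intro h s t hst
      have ht : t = 0 := by
        by_contra ht
        have h1 : s / t ∈ R w := by
          rw [hmemR]
          have h2 : s • u + t • w = t • (w + (s / t) • u) := by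
            rw [smul_add, smul_smul, mul_div_cancel₀ s ht, add_comm]
          rw [h2, QuadraticMap.map_smul, smul_eq_mul] at hst
          rcases mul_eq_zero.mp hst with h3 | h3
          · exact absurd (mul_self_eq_zero.mp h3) ht
          · exact h3
        rw [h] at h1
        exact absurd h1 (Finset.notMem_empty _)
      refine ⟨?_, ht⟩
      rw [ht, zero_smul, add_zero, QuadraticMap.map_smul, smul_eq_mul] at hst
      rcases mul_eq_zero.mp hst with h3 | h3
      · exact mul_self_eq_zero.mp h3
      · exact absurd h3 hQu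
  -- pointwise identity and its sum
  have hpt : ∀ w : V, 2 * (if R w = ∅ then 1 else 0) + (R w).card +
      (if (R w).card = 1 then 1 else 0) = 2 := by
    intro w
    have h1 := hR_le w
    by_cases h0 : R w = ∅
    · rw [h0]; simp
    · have h2 : (R w).card ≠ 0 := fun h => h0 (Finset.card_eq_zero.mp h)
      rw [if_neg h0]
      by_cases h3 : (R w).card = 1
      · rw [if_pos h3, h3]
      · rw [if_neg h3]
        omega
  have htotal : 2 * (Os.filter (fun w => R w = ∅)).card + ∑ w ∈ Os, (R w).card +
      (Os.filter (fun w => (R w).card = 1)).card = 2 * Os.card := by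
    rw [Finset.card_filter, Finset.card_filter, Finset.mul_sum, ← Finset.sum_add_distrib,
      ← Finset.sum_add_distrib, Finset.sum_congr rfl (fun w _ => hpt w), Finset.sum_const,
      smul_eq_mul, mul_comm]
  -- back to `Nat.card`
  have hc1 : Nat.card {w : V // w ∈ O ∧ ∀ s t : F, Q (s • u + t • w) = 0 → s = 0 ∧ t = 0} =
      (Os.filter (fun w => R w = ∅)).card := by
    rw [Nat.card_eq_fintype_card, Fintype.card_subtype, hOs, Finset.filter_filter]
    congr 1
    apply Finset.filter_congr
    intro w _
    rw [hAP w]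
  have hc2 : Nat.card {z : V // z ∈ O ∧ Q z = 0} = Zs.card := by
    rw [Nat.card_eq_fintype_card, Fintype.card_subtype, hZs, hOs, Finset.filter_filter]
  have hc3 : Nat.card {z : V // z ∈ O ∧ Q z = 0 ∧ pB Q z u = 0} = Zu.card := by
    rw [Nat.card_eq_fintype_card, Fintype.card_subtype, hZu, hOs, Finset.filter_filter]
  have hc4 : Nat.card O = Os.card := by
    rw [Nat.card_eq_fintype_card, hOs]
    exact Fintype.card_subtype _
  rw [hc1, hc2, hc3, hc4, ← htotal, hsum, hone]
  ring

end Cfsg.Agent.Lib.Helper81.OEl
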