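import Mathlib
import Cfsg.Agent.Lib.Helper98.Oh0
import Cfsg.Agent.Lib.Helper05.OsElB

/-!
# K-OTs TWO sub-pack (S5973 + S5987, sub-architect helper50), leaf TB1 (keystone 597331)

`y * y = -1`, `-1` a square: the eigenspaces `ker (y ∓ ι)` are totally isotropic of dimension `d`; every subspace
of an eigenspace is invariant.
-/

set_option autoImplicit false
set_option linter.unusedSimpArgs false
set_option linter.unusedSectionVars false
set_option linter.unusedVariables false

namespace Cfsg.Agent.Lib.Helper81.OTs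

open Module Cfsg.Agent.Lib.Helper98.Elus Cfsg.Agent.Lib.Helper98.Sy Cfsg.Agent.Lib.Helper98.Oh

universe u
variable {F : Type u} [Field F] {V : Type u} [AddCommGroup V] [Module F V]

/-- subspaces of every smaller dimension -/
theorem exists_sub_finrank_tb1 [FiniteDimensional F V] (U : Submodule F V) (m : ℕ)
    (hm : m ≤ finrank F U) : ∃ Z : Submodule F V, Z ≤ U ∧ finrank F Z = m := by
  let b := Module.finBasis F U
  let s : Fin m → V := fun a => (b (Fin.castLE hm a) : V)
  have hli : LinearIndependent F s :=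
    (b.linearIndependent.comp _ (Fin.castLE_injective hm)).map' U.subtype (Submodule.ker_subtype U)
  refine ⟨Submodule.span F (Set.range s), ?_, ?_⟩
  · apply Submodule.span_le.mpr
    rintro _ ⟨a, rfl⟩
    exact Submodule.coe_mem _
  · rw [finrank_span_eq_card hli, Fintype.card_fin]

theorem mem_eigen_iff_tb1 (x : V →ₗ[F] V) (c : F) (w : V) :
    w ∈ LinearMap.ker (x - c • (1 : V →ₗ[F] V)) ↔ x w = c • w := by
  rw [LinearMap.mem_ker, LinearMap.sub_apply, LinearMap.smul_apply, Module.End.one_apply, sub_eq_zero]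

/-- the eigenspace of an isometry for an eigenvalue `c` with `c * c ≠ 1` is totally isotropic -/
theorem ort_eigen {B : LinearMap.BilinForm F V} (x : V →ₗ[F] V) (hiso : Iso B x) (c : F)
    (hc : c * c ≠ 1) :
    Ort B (LinearMap.ker (x - c • (1 : V →ₗ[F] V))) (LinearMap.ker (x - c • (1 : V →ₗ[F] V))) := by
  intro u hu v hv
  have hxu : x u = c • u := (mem_eigen_iff_tb1 x c u).mp hu
  have hxv : x v = c • v := (mem_eigen_iff_tb1 x c v).mp hv
  have h1 := hiso u v
  rw [hxu, hxv] at h1
  have h1' : c * (c * B u v) = B u v := by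
    have h3 : B (c • u) (c • v) = c * (c * B u v) := by
      simp only [map_smul, LinearMap.smul_apply, smul_eq_mul]
    rw [← h3]
    exact h1
  have h2 : (c * c - 1) * B u v = 0 := by
    rw [sub_mul, one_mul, mul_assoc, h1', sub_self]
  rcases mul_eq_zero.mp h2 with h | h
  · exact absurd (sub_eq_zero.mp h) hc
  · exact h

/-- every subspace of an eigenspace is invariant -/
theorem inv_of_le_eigen_tb1 (x : V →ₗ[F] V) (c : F) (W : Submodule F V)
    (hW : W ≤ LinearMap.ker (x - c • (1 : V →ₗ[F] V))) : Inv x W := by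
  intro w hw
  rw [(mem_eigen_iff_tb1 x c w).mp (hW hw)]
  exact W.smul_mem c hw

/-- LEAF TB1 (597331). -/
theorem exists_fixed_ts_sq_neg_one_of_isSquare [FiniteDimensional F V] {B : LinearMap.BilinForm F V}
    (hS : ∀ x y, B x y = B y x) (h2 : (2 : F) ≠ 0) (hV : NonDeg B ⊤) (y : V →ₗ[F] V)
    (hy : y * y = -1) (hiso : Iso B y) (hm1 : IsSquare (-1 : F)) (d m : ℕ) (hd : finrank F V = 2 * d)
    (hmd : m ≤ d) :
    ∃ W : Submodule F V, Inv y W ∧ Ort B W W ∧ finrank F W = m := by
  obtain ⟨ι, hι'⟩ := hm1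
  have hι : ι * ι = -1 := hι'.symm
  have hne : (-1 : F) ≠ 1 := by
    intro h
    apply h2
    have h3 : (1 : F) + 1 = 0 := by
      nth_rewrite 1 [← h]
      exact neg_add_cancel 1
    rw [← h3]; norm_num
  have hι0 : ι ≠ 0 := by
    rintro rfl
    rw [mul_zero] at hι
    exact (neg_ne_zero.mpr one_ne_zero) hι.symm
  have h2ι : (2 : F) * ι ≠ 0 := mul_ne_zero h2 hι0
  have hc1 : ι * ι ≠ 1 := by rw [hι]; exact hne
  have hc2 : (-ι) * (-ι) ≠ 1 := by rw [neg_mul_neg, hι]; exact hne
  have hts1 := ort_eigen (B := B) y hiso ι hc1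
  have hts2 := ort_eigen (B := B) y hiso (-ι) hc2
  have hxx : ∀ v : V, y (y v) = -v := by
    intro v
    have h3 := congrArg (fun g : V →ₗ[F] V => g v) hy
    simpa using h3
  set E1 : Submodule F V := LinearMap.ker (y - ι • (1 : V →ₗ[F] V)) with hE1
  set E2 : Submodule F V := LinearMap.ker (y - (-ι) • (1 : V →ₗ[F] V)) with hE2
  have hinf : E1 ⊓ E2 = ⊥ := by
    rw [eq_bot_iff]
    intro w hw
    obtain ⟨hw1, hw2⟩ := Submodule.mem_inf.mp hw
    have e1 : y w = ι • w := (mem_eigen_iff_tb1 y ι w).mp hw1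
    have e2 : y w = (-ι) • w := (mem_eigen_iff_tb1 y (-ι) w).mp hw2
    have e3 : ((2 : F) * ι) • w = 0 := by
      have : ι • w - (-ι) • w = 0 := by rw [← e1, ← e2, sub_self]
      rw [← sub_smul] at this
      have h4 : ι - -ι = 2 * ι := by ring
      rwa [h4] at this
    rcases smul_eq_zero.mp e3 with h | h
    · exact absurd h h2ι
    · rw [Submodule.mem_bot]; exact h
  have hsup : E1 ⊔ E2 = ⊤ := by
    rw [eq_top_iff]
    intro v _
    have ha : y v + ι • v ∈ E1 := by
      rw [hE1, mem_eigen_iff_tb1, map_add, map_smul, hxx, smul_add, smul_smul, hι]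
      simp only [neg_smul, one_smul]
      abel
    have hb : y v - ι • v ∈ E2 := by
      rw [hE2, mem_eigen_iff_tb1, map_sub, map_smul, hxx, smul_sub, smul_smul, neg_mul, hι]
      simp only [neg_smul, one_smul, neg_neg]
      abel
    have hv : v = ((2 : F) * ι)⁻¹ • (y v + ι • v) + (-((2 : F) * ι)⁻¹) • (y v - ι • v) := by
      have h4 : ((2 : F) * ι)⁻¹ • (y v + ι • v) + (-((2 : F) * ι)⁻¹) • (y v - ι • v) =
          ((2 : F) * ι)⁻¹ • (((2 : F) * ι) • v) := by
        rw [neg_smul, ← sub_eq_add_neg, ← smul_sub]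
        congr 1
        rw [mul_smul, two_smul]
        abel
      rw [h4, smul_smul, inv_mul_cancel₀ h2ι, one_smul]
    rw [hv]
    exact Submodule.add_mem _ (Submodule.mem_sup_left (E1.smul_mem _ ha))
      (Submodule.mem_sup_right (E2.smul_mem _ hb))
  have hR : B.IsRefl := by
    intro u v h
    rw [hS]; exact h
  have hle1 : 2 * finrank F E1 ≤ 2 * d := by
    have h3 := Cfsg.Agent.Lib.Helper05.OsEl.two_mul_finrank_le hR hV ⊤ E1 hV le_top hts1
    rwa [finrank_top, hd] at h3
  have hle2 : 2 * finrank F E2 ≤ 2 * d := by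
    have h3 := Cfsg.Agent.Lib.Helper05.OsEl.two_mul_finrank_le hR hV ⊤ E2 hV le_top hts2
    rwa [finrank_top, hd] at h3
  have hsum : finrank F E1 + finrank F E2 = 2 * d := by
    have h3 := Submodule.finrank_sup_add_finrank_inf_eq E1 E2
    rw [hsup, hinf, finrank_top, finrank_bot, hd] at h3
    omega
  have hd1 : finrank F E1 = d := by omega
  obtain ⟨W, hWle, hWd⟩ := exists_sub_finrank_tb1 E1 m (by rw [hd1]; exact hmd)
  refine ⟨W, inv_of_le_eigen_tb1 y ι W hWle, ?_, hWd⟩
  intro u hu v hv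
  exact hts1 u (hWle hu) v (hWle hv)

end Cfsg.Agent.Lib.Helper81.OTs
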