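import Mathlib
import Cfsg.Prelude.Def_Blocks
import Cfsg.Agent.Lib.Helper21.OsimaApps

set_option autoImplicit false
set_option linter.unusedSectionVars false

namespace Cfsg.Agent.Lib.Helper81

open Cfsg
open Cfsg.Agent.Lib.Helper21 Cfsg.Agent.Lib.Helper82 Cfsg.Agent.Lib.Helper83

universe u
variable {G : Type u} [Group G] [Fintype G]

section Abstract

variable [Fintype (IrrCharacter G)] {M : Ideal AlgInt} (hM : M.IsPrime)

include hM in
/-- Abstract form of the construction of block idempotents: a subring of vectors indexed by the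
irreducible characters which contains the local-integer constants and enough central character
vectors to separate the block of `χ₀` from the other characters contains the indicator vector of
that block. -/
theorem indicator_mem_of_subring (S : Subring (IrrCharacter G → ℂ))
    (hconst : ∀ c : ℂ, MemLocalRing M c → (fun _ : IrrCharacter G => c) ∈ S)
    (χ₀ : IrrCharacter G)
    (hsep : ∀ ψ : IrrCharacter G, ψ ∉ blockOf M (χ₀ : G → ℂ) →
      ∃ g : G, (fun χ : IrrCharacter G => centralChar (χ : G → ℂ) g) ∈ S ∧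
        ¬ MemLocalIdeal M (centralChar (χ₀ : G → ℂ) g - centralChar (ψ : G → ℂ) g))
    [DecidablePred (· ∈ blockOf M (χ₀ : G → ℂ))] :
    (fun χ : IrrCharacter G => if χ ∈ blockOf M (χ₀ : G → ℂ) then (1 : ℂ) else 0) ∈ S := by
  classical
  -- the separating element
  let sep : IrrCharacter G → G := fun ψ =>
    if h : ψ ∉ blockOf M (χ₀ : G → ℂ) then Classical.choose (hsep ψ h) else 1
  have hsep' : ∀ ψ : IrrCharacter G, ψ ∉ blockOf M (χ₀ : G → ℂ) →
      (fun χ : IrrCharacter G => centralChar (χ : G → ℂ) (sep ψ)) ∈ S ∧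
      ¬ MemLocalIdeal M (centralChar (χ₀ : G → ℂ) (sep ψ) - centralChar (ψ : G → ℂ) (sep ψ)) := by
    intro ψ hψ
    simp only [sep, dif_pos hψ]
    exact Classical.choose_spec (hsep ψ hψ)
  let a : IrrCharacter G → (IrrCharacter G → ℂ) := fun ψ =>
    (fun χ : IrrCharacter G => centralChar (χ : G → ℂ) (sep ψ)) -
      (fun _ : IrrCharacter G => centralChar (ψ : G → ℂ) (sep ψ))
  have ha : ∀ ψ, ψ ∉ blockOf M (χ₀ : G → ℂ) → a ψ ∈ S := fun ψ hψ =>
    Subring.sub_mem _ (hsep' ψ hψ).1 (hconst _ (memLocalRing_centralChar hM ψ (sep ψ)))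
  set w : IrrCharacter G → ℂ :=
    ∏ ψ ∈ Finset.univ.filter (fun ψ => ψ ∉ blockOf M (χ₀ : G → ℂ)), a ψ with hw_def
  have hw : w ∈ S := Subring.prod_mem _ (fun ψ hψ => ha ψ (Finset.mem_filter.mp hψ).2)
  have hw0 : ∀ ψ : IrrCharacter G, ψ ∉ blockOf M (χ₀ : G → ℂ) → w ψ = 0 := by
    intro ψ hψ
    rw [hw_def, Finset.prod_apply]
    apply Finset.prod_eq_zero (i := ψ) (by simp [hψ])
    simp [a]
  have hwu : ∀ χ : IrrCharacter G, χ ∈ blockOf M (χ₀ : G → ℂ) →
      MemLocalRing M (w χ) ∧ ¬ MemLocalIdeal M (w χ) := by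
    intro χ hχ
    rw [hw_def, Finset.prod_apply]
    apply unit_prod hM
    intro ψ hψ
    rw [Finset.mem_filter] at hψ
    have hR : MemLocalRing M (a ψ χ) := by
      simp only [a, Pi.sub_apply]
      exact memLocalRing_sub hM (memLocalRing_centralChar hM χ _) (memLocalRing_centralChar hM ψ _)
    refine ⟨hR, fun hcon => ?_⟩
    apply (hsep' ψ hψ.2).2
    rw [mem_blockOf_iff] at hχ
    have h1 := hχ (sep ψ)
    have : centralChar (χ₀ : G → ℂ) (sep ψ) - centralChar (ψ : G → ℂ) (sep ψ)
        = (centralChar (χ₀ : G → ℂ) (sep ψ) - centralChar (χ : G → ℂ) (sep ψ)) + a ψ χ := by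
      simp only [a, Pi.sub_apply]; ring
    rw [this]
    exact memLocalIdeal_add hM h1 hcon
  -- Lagrange interpolation
  let fac : IrrCharacter G → (IrrCharacter G → ℂ) := fun χ =>
    (w - fun _ => w χ) * fun _ => (-(w χ))⁻¹
  have hfac : ∀ χ ∈ Finset.univ.filter (fun χ => χ ∈ blockOf M (χ₀ : G → ℂ)), fac χ ∈ S := by
    intro χ hχ
    rw [Finset.mem_filter] at hχ
    obtain ⟨h1, h2⟩ := hwu χ hχ.2
    apply Subring.mul_mem
    · exact Subring.sub_mem _ hw (hconst _ h1)
    · apply hconst
      apply memLocalRing_inv (memLocalRing_neg h1)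
      intro hcon
      apply h2
      have := memLocalIdeal_neg hcon
      rwa [neg_neg] at this
  have hE : (1 - ∏ χ ∈ Finset.univ.filter (fun χ => χ ∈ blockOf M (χ₀ : G → ℂ)), fac χ) ∈ S :=
    Subring.sub_mem _ (Subring.one_mem _) (Subring.prod_mem _ hfac)
  convert hE using 1
  ext ψ
  rw [Pi.sub_apply, Pi.one_apply, Finset.prod_apply]
  by_cases hψ : ψ ∈ blockOf M (χ₀ : G → ℂ)
  · rw [if_pos hψ]
    have : ∏ χ ∈ Finset.univ.filter (fun χ => χ ∈ blockOf M (χ₀ : G → ℂ)), fac χ ψ = 0 := by
      apply Finset.prod_eq_zero (i := ψ) (by simp [hψ])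
      simp [fac]
    rw [this, sub_zero]
  · rw [if_neg hψ]
    have : ∏ χ ∈ Finset.univ.filter (fun χ => χ ∈ blockOf M (χ₀ : G → ℂ)), fac χ ψ = 1 := by
      apply Finset.prod_eq_one
      intro χ hχ
      rw [Finset.mem_filter] at hχ
      obtain ⟨h1, h2⟩ := hwu χ hχ.2
      have hne : w χ ≠ 0 := by
        intro h0
        apply h2
        rw [h0]; exact memLocalIdeal_zero hM
      simp only [fac, Pi.mul_apply, Pi.sub_apply, hw0 ψ hψ, zero_sub]
      field_simp
    rw [this, sub_self]

end Abstract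

section Support

variable (M : Ideal AlgInt) (hM : M.IsPrime) (C : Subgroup G)

/-- The vectors `(Ω f χ)_χ` realised by class functions `f` with values in the local ring and
support in the subgroup `C`. -/
def realizableOn : Subring (IrrCharacter G → ℂ) where
  carrier := {v | ∃ f : G → ℂ, IsClassFunction G f ∧ (∀ g, MemLocalRing M (f g)) ∧
    (∀ g, g ∉ C → f g = 0) ∧ ∀ χ : IrrCharacter G, v χ = omega f (χ : G → ℂ)}
  mul_mem' := by
    rintro v w ⟨f, hf1, hf2, hf4, hf3⟩ ⟨h, hh1, hh2, hh4, hh3⟩
    refine ⟨conv f h, conv_isClassFunction hf1 hh1, conv_memLocalRing M hM hf2 hh2, ?_, fun χ => ?_⟩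
    · intro z hz
      simp only [conv]
      apply Finset.sum_eq_zero
      intro x _
      by_cases hx : x ∈ C
      · have : x⁻¹ * z ∉ C := fun h1 => hz (by
          have := C.mul_mem hx h1
          simpa using this)
        rw [hh4 _ this, mul_zero]
      · rw [hf4 _ hx, zero_mul]
    · rw [Pi.mul_apply, hf3, hh3, omega_conv χ.2 f h hh1]
  one_mem' := by
    classical
    refine ⟨fun g => if g = 1 then 1 else 0, isClassFunction_delta 1, fun g => ?_, fun g hg => ?_,
      fun χ => ?_⟩
    · by_cases hg : g = 1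
      · simp only [hg, if_true]; exact memLocalRing_one hM
      · simp only [hg, if_false]; exact memLocalRing_zero hM
    · have : g ≠ 1 := fun h => hg (h ▸ C.one_mem)
      simp [this]
    · rw [omega_delta 1 _ (IsIrrCharacter.apply_one_ne_zero χ.2)]; rfl
  add_mem' := by
    rintro v w ⟨f, hf1, hf2, hf4, hf3⟩ ⟨h, hh1, hh2, hh4, hh3⟩
    refine ⟨f + h, fun g x => ?_, fun g => memLocalRing_add hM (hf2 g) (hh2 g), fun g hg => ?_,
      fun χ => ?_⟩
    · simp only [Pi.add_apply, hf1 g x, hh1 g x]
    · simp [hf4 g hg, hh4 g hg]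
    · rw [Pi.add_apply, hf3, hh3, omega_add]
  zero_mem' := by
    refine ⟨0, fun g x => rfl, fun g => memLocalRing_zero hM, fun g _ => rfl, fun χ => ?_⟩
    rw [omega_zero]; rfl
  neg_mem' := by
    rintro v ⟨f, hf1, hf2, hf4, hf3⟩
    refine ⟨-f, fun g x => ?_, fun g => memLocalRing_neg (hf2 g), fun g hg => ?_, fun χ => ?_⟩
    · simp only [Pi.neg_apply, hf1 g x]
    · simp [hf4 g hg]
    · have : (-f) = (-1 : ℂ) • f := by ext; simp
      rw [Pi.neg_apply, hf3, this, omega_smul]; ring

theorem const_mem_realizableOn {c : ℂ} (hc : MemLocalRing M c) :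
    (fun _ : IrrCharacter G => c) ∈ realizableOn M hM C := by
  classical
  refine ⟨fun g => if g = 1 then c else 0, isClassFunction_delta c, fun g => ?_, fun g hg => ?_,
    fun χ => ?_⟩
  · by_cases hg : g = 1
    · simp only [hg, if_true]; exact hc
    · simp only [hg, if_false]; exact memLocalRing_zero hM
  · have : g ≠ 1 := fun h => hg (h ▸ C.one_mem)
    simp [this]
  · rw [omega_delta c _ (IsIrrCharacter.apply_one_ne_zero χ.2)]

theorem centralChar_mem_realizableOn [C.Normal] (g : G) (hg : g ∈ C) :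
    (fun χ : IrrCharacter G => centralChar (χ : G → ℂ) g) ∈ realizableOn M hM C := by
  classical
  refine ⟨fun x => if IsConj g x then 1 else 0, isClassFunction_indicator g, fun x => ?_,
    fun x hx => ?_, fun χ => ?_⟩
  · by_cases hx : IsConj g x
    · simp only [hx, if_true]; exact memLocalRing_one hM
    · simp only [hx, if_false]; exact memLocalRing_zero hM
  · have : ¬ IsConj g x := by
      intro h
      obtain ⟨c, rfl⟩ := isConj_iff.mp h
      exact hx (Subgroup.Normal.conj_mem inferInstance g hg c)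
    exact if_neg this
  · rw [omega_indicator (IsCharacter.isClassFunction (IsIrrCharacter.isCharacter χ.2))]

end Support

section Main

variable [Fintype (IrrCharacter G)] {M : Ideal AlgInt} (hM : M.IsPrime)

include hM in
/-- **Osima's theorem with support.**  Let `C` be a normal subgroup such that the central
characters of all irreducible characters vanish modulo the local ideal outside `C`.  Then every
block idempotent is supported on `C`. -/
theorem blockCoeff_blockOf_eq_zero_of_not_mem (C : Subgroup G) [C.Normal]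
    (hC : ∀ g : G, g ∉ C → ∀ χ : IrrCharacter G, MemLocalIdeal M (centralChar (χ : G → ℂ) g))
    (χ₀ : IrrCharacter G) (g : G) (hg : g ∉ C) :
    blockCoeff (blockOf M (χ₀ : G → ℂ)) g = 0 := by
  classical
  obtain ⟨f, hf1, _, hf4, hf3⟩ := indicator_mem_of_subring hM (realizableOn M hM C)
    (fun c hc => const_mem_realizableOn M hM C hc) χ₀ (by
      intro ψ hψ
      rw [mem_blockOf_iff] at hψ
      obtain ⟨x, hx⟩ := not_forall.1 hψ
      refine ⟨x, centralChar_mem_realizableOn M hM C x ?_, hx⟩
      by_contra hxC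
      exact hx (memLocalIdeal_sub hM (hC x hxC χ₀) (hC x hxC ψ)))
  rw [blockCoeff_eq_of_omega _ hf1 (fun χ => (hf3 χ).symm) g]
  exact hf4 g hg

end Main

end Cfsg.Agent.Lib.Helper81
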