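import Mathlib

/-!
# K-RU leaf C (keystone 228003, S2280 pack, architect helper73): the induction `mset_induction`
-/

set_option autoImplicit false

namespace Cfsg.Agent.Lib.Helper81.RU

open Matrix

theorem mset_induction {m : ℕ} {F : Type*} [Field F] (M : Set (Fin (m + 3) → F))
    (A C : Matrix (Fin (m + 3)) (Fin (m + 3)) F) (μ : Fin (m + 3) → F) (l κ : F)
    (hl : ∀ x : F, x ≠ 0 → ∃ k : ℕ, x = l ^ (k + 1))
    (hκ : κ * μ 0 = l ∨ κ * μ 0 = -l) (hκ0 : κ ≠ 0) (hμ : ∀ j, μ j ≠ 0)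
    (h0 : (0 : Fin (m + 3) → F) ∈ M) (hadd : ∀ v w, v ∈ M → w ∈ M → v + w ∈ M)
    (hneg : ∀ v, v ∈ M → -v ∈ M)
    (hA : ∀ v, v ∈ M → A *ᵥ v ∈ M)
    (hC : ∀ v, v ∈ M → (C *ᵥ v) (Fin.last (m + 2)) = 0 → κ • (C *ᵥ v) ∈ M)
    (hz : l • (Pi.single 0 1 : Fin (m + 3) → F) ∈ M)
    (hA0 : A *ᵥ (Pi.single 0 1 : Fin (m + 3) → F) = Pi.single 0 1)
    (hA1 : A *ᵥ (Pi.single 1 1 : Fin (m + 3) → F) = Pi.single 1 1 + Pi.single 0 1)
    (hCj : ∀ (j : Fin (m + 3)) (hj : j.val + 1 < m + 3),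
      C *ᵥ (Pi.single j 1 : Fin (m + 3) → F) = Pi.single j 1 + μ j • Pi.single ⟨j.val + 1, hj⟩ 1) :
    ∀ v : Fin (m + 3) → F, v (Fin.last (m + 2)) = 0 → v ∈ M := by
  have hsub : ∀ v w, v ∈ M → w ∈ M → v - w ∈ M := fun v w hv hw => by
    rw [sub_eq_add_neg]
    exact hadd v (-w) hv (hneg w hw)
  -- the key step for an index `j` with `j + 1` not the last index
  have hstep : ∀ (j : Fin (m + 3)) (hj : j.val + 1 < m + 3), j.val + 1 < m + 2 → ∀ t : F,
      t • (Pi.single j 1 : Fin (m + 3) → F) ∈ M →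
      κ • (t • (Pi.single j 1 : Fin (m + 3) → F) +
        (t * μ j) • (Pi.single ⟨j.val + 1, hj⟩ 1 : Fin (m + 3) → F)) ∈ M := by
    intro j hj' hj t ht
    have e : C *ᵥ (t • (Pi.single j 1 : Fin (m + 3) → F)) =
        t • (Pi.single j 1 : Fin (m + 3) → F) +
          (t * μ j) • (Pi.single ⟨j.val + 1, hj'⟩ 1 : Fin (m + 3) → F) := by
      rw [Matrix.mulVec_smul, hCj j hj', smul_add, smul_smul]
    have hlast : (C *ᵥ (t • (Pi.single j 1 : Fin (m + 3) → F))) (Fin.last (m + 2)) = 0 := by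
      rw [e]
      have h1 : Fin.last (m + 2) ≠ j := by
        intro h
        have := congrArg Fin.val h
        simp only [Fin.val_last] at this
        omega
      have h2 : Fin.last (m + 2) ≠ (⟨j.val + 1, hj'⟩ : Fin (m + 3)) := by
        intro h
        have := congrArg Fin.val h
        simp only [Fin.val_last] at this
        omega
      simp only [Pi.add_apply, Pi.smul_apply, Pi.single_eq_of_ne h1, Pi.single_eq_of_ne h2,
        smul_zero, add_zero]
    have h3 := hC _ ht hlast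
    rw [e] at h3
    exact h3
  -- multiples of `e_0`
  have hmul0 : ∀ t : F, t • (Pi.single 0 1 : Fin (m + 3) → F) ∈ M →
      (l * t) • (Pi.single 0 1 : Fin (m + 3) → F) ∈ M := by
    intro t ht
    have hv0 : (0 : Fin (m + 3)).val = 0 := rfl
    have h1 := hstep 0 (by rw [hv0]; omega) (by rw [hv0]; omega) t ht
    have e1 : (⟨(0 : Fin (m + 3)).val + 1, by rw [hv0]; omega⟩ : Fin (m + 3)) = 1 := by
      apply Fin.ext
      simp
    rw [e1] at h1
    have h2 := hA _ h1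
    have e2 : A *ᵥ (κ • (t • (Pi.single 0 1 : Fin (m + 3) → F) +
        (t * μ 0) • (Pi.single 1 1 : Fin (m + 3) → F))) -
        κ • (t • (Pi.single 0 1 : Fin (m + 3) → F) +
        (t * μ 0) • (Pi.single 1 1 : Fin (m + 3) → F)) =
        (κ * μ 0 * t) • (Pi.single 0 1 : Fin (m + 3) → F) := by
      rw [Matrix.mulVec_smul, Matrix.mulVec_add, Matrix.mulVec_smul, Matrix.mulVec_smul, hA0, hA1]
      module
    have h3 := hsub _ _ h2 h1
    rw [e2] at h3
    rcases hκ with h | h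
    · rw [h] at h3
      exact h3
    · rw [h] at h3
      have h4 := hneg _ h3
      rwa [← neg_smul, neg_mul, neg_neg] at h4
  have hpow : ∀ k : ℕ, (l ^ (k + 1)) • (Pi.single 0 1 : Fin (m + 3) → F) ∈ M := by
    intro k
    induction k with
    | zero => simpa using hz
    | succ k ih =>
      have h := hmul0 _ ih
      rwa [← pow_succ'] at h
  have hP0 : ∀ t : F, t • (Pi.single 0 1 : Fin (m + 3) → F) ∈ M := by
    intro t
    by_cases ht : t = 0
    · rw [ht, zero_smul]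
      exact h0
    · obtain ⟨k, hk⟩ := hl t ht
      rw [hk]
      exact hpow k
  -- induction on the index
  have hP : ∀ (k : ℕ) (hk : k < m + 3), k < m + 2 → ∀ t : F,
      t • (Pi.single ⟨k, hk⟩ 1 : Fin (m + 3) → F) ∈ M := by
    intro k
    induction k with
    | zero =>
      intro hk _ t
      exact hP0 t
    | succ k ih =>
      intro hk hk2 t
      have hk' : k < m + 3 := by omega
      have hk2' : k < m + 2 := by omega
      have hne : κ * μ ⟨k, hk'⟩ ≠ 0 := mul_ne_zero hκ0 (hμ _)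
      have h1 := hstep ⟨k, hk'⟩ hk hk2 (t / (κ * μ ⟨k, hk'⟩)) (ih hk' hk2' _)
      have h2 := hsub _ _ h1 (ih hk' hk2' (κ * (t / (κ * μ ⟨k, hk'⟩))))
      have e : κ • ((t / (κ * μ ⟨k, hk'⟩)) • (Pi.single ⟨k, hk'⟩ 1 : Fin (m + 3) → F) +
          (t / (κ * μ ⟨k, hk'⟩) * μ ⟨k, hk'⟩) •
            (Pi.single ⟨k + 1, hk⟩ 1 : Fin (m + 3) → F)) -
          (κ * (t / (κ * μ ⟨k, hk'⟩))) • (Pi.single ⟨k, hk'⟩ 1 : Fin (m + 3) → F) =
          t • (Pi.single ⟨k + 1, hk⟩ 1 : Fin (m + 3) → F) := by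
        have e' : κ * (t / (κ * μ ⟨k, hk'⟩) * μ ⟨k, hk'⟩) = t := by
          have hμk : μ ⟨k, hk'⟩ ≠ 0 := hμ _
          field_simp
        rw [smul_add, smul_smul, smul_smul, add_sub_cancel_left, e']
      rw [e] at h2
      exact h2
  -- conclusion
  intro v hv
  have hsum : v = ∑ j : Fin (m + 3), v j • (Pi.single j 1 : Fin (m + 3) → F) := by
    funext i
    simp [Finset.sum_apply, Pi.single_apply]
  rw [hsum]
  apply Finset.sum_induction _ (· ∈ M) hadd h0
  intro j _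
  by_cases hj : j = Fin.last (m + 2)
  · rw [hj, hv, zero_smul]
    exact h0
  · have hlt : j.val < m + 2 := by
      have h1 := j.isLt
      have h2 : j.val ≠ m + 2 := fun h => hj (Fin.ext (by rw [h, Fin.val_last]))
      omega
    exact hP j.val j.isLt hlt (v j)

end Cfsg.Agent.Lib.Helper81.RU
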