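import Mathlib
import Cfsg.Prelude.Def_Spor_Ru
import Cfsg.Agent.Lib.Helper17.RuDefs
import Cfsg.Agent.Lib.Helper17.RuBasic

/-!
Keystone 162803 (K-Ru-R3, pack of helper17 for S1628): the binary code `spanU mod 2`.
The `2^19` codewords are handled bit-sliced: for every coordinate `j < 56` one big number whose
`a`-th bit is the `j`-th coordinate of the codeword with index `a`; the weights are accumulated
in a bit-sliced 6-bit counter, so the kernel only performs a few thousand big-number operations.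
-/

set_option autoImplicit false

namespace Cfsg.Agent.Lib.Helper81.RuL

open Cfsg.Spor Cfsg.Agent.Lib.Helper17.RuL

/-! ### forcing evaluation -/

/-- evaluate `n` before calling the continuation (for the kernel) -/
def force (n : ℕ) (k : ℕ → Bool) : Bool :=
  match n with
  | 0 => k 0
  | m + 1 => k (m + 1)

theorem force_eq (n : ℕ) (k : ℕ → Bool) : force n k = k n := by
  cases n <;> rfl

/-! ### concatenation of bit patterns -/

/-- concatenation of two `s`-bit patterns -/
def cat (s X Y : ℕ) : ℕ := X ||| (Y <<< s)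

theorem cat_lt {s X Y : ℕ} (hX : X < 2 ^ s) (hY : Y < 2 ^ s) : cat s X Y < 2 ^ (s + s) := by
  unfold cat
  apply Nat.or_lt_two_pow
  · calc X < 2 ^ s := hX
      _ ≤ 2 ^ (s + s) := Nat.pow_le_pow_right (by norm_num) (by omega)
  · rw [Nat.shiftLeft_eq, pow_add]
    exact Nat.mul_lt_mul_of_pos_right hY (by positivity)

theorem testBit_cat_lo {s X Y a : ℕ} (ha : a < s) : (cat s X Y).testBit a = X.testBit a := by
  unfold cat
  rw [Nat.testBit_or, Nat.testBit_shiftLeft]
  have : ¬ a ≥ s := by omega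
  simp [this]

theorem testBit_cat_hi {s X Y : ℕ} (hX : X < 2 ^ s) (a : ℕ) :
    (cat s X Y).testBit (s + a) = Y.testBit a := by
  unfold cat
  rw [Nat.testBit_or, Nat.testBit_shiftLeft]
  have h1 : X.testBit (s + a) = false := by
    apply Nat.testBit_lt_two_pow
    calc X < 2 ^ s := hX
      _ ≤ 2 ^ (s + a) := Nat.pow_le_pow_right (by norm_num) (by omega)
  have h2 : s + a ≥ s := by omega
  simp [h1, h2]

theorem cat_ones (s : ℕ) : cat s (2 ^ s - 1) (2 ^ s - 1) = 2 ^ (s + s) - 1 := by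
  apply Nat.eq_of_testBit_eq
  intro i
  rw [Nat.testBit_two_pow_sub_one]
  by_cases hi : i < s
  · rw [testBit_cat_lo hi, Nat.testBit_two_pow_sub_one]
    simp [hi]; omega
  · obtain ⟨a, rfl⟩ : ∃ a, i = s + a := ⟨i - s, by omega⟩
    rw [testBit_cat_hi (Nat.sub_lt (by positivity) (by norm_num)), Nat.testBit_two_pow_sub_one]
    by_cases ha : a < s
    · simp [ha]
    · simp [ha]

/-! ### codewords -/

/-- the codeword with index `a`: the generator at list position `p` is selected by the bit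
`length - 1 - p` of `a` -/
def cw : List ℕ → ℕ → ℕ
  | [], _ => 0
  | g :: gs, a => (if a.testBit gs.length then g else 0) ^^^ cw gs a

theorem cw_congr (gs : List ℕ) (a b : ℕ) (h : ∀ k < gs.length, a.testBit k = b.testBit k) :
    cw gs a = cw gs b := by
  induction gs with
  | nil => rfl
  | cons g gs ih =>
    simp only [cw]
    rw [h gs.length (by simp), ih (fun k hk => h k (by simp; omega))]

theorem cw_lo (g : ℕ) (gs : List ℕ) {a : ℕ} (ha : a < 2 ^ gs.length) :
    cw (g :: gs) a = cw gs a := by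
  simp only [cw]
  rw [Nat.testBit_lt_two_pow ha]
  simp

theorem cw_hi (g : ℕ) (gs : List ℕ) {a : ℕ} (ha : a < 2 ^ gs.length) :
    cw (g :: gs) (2 ^ gs.length + a) = g ^^^ cw gs a := by
  simp only [cw]
  have h1 : (2 ^ gs.length + a).testBit gs.length = true := by
    rw [Nat.testBit_two_pow_add_eq, Nat.testBit_lt_two_pow ha]; rfl
  rw [h1]
  simp only [if_true]
  congr 1
  apply cw_congr
  intro k hk
  have := Nat.testBit_two_pow_mul_add 1 ha k
  rw [mul_one] at this
  rw [this, if_pos hk]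

theorem cw_zero (gs : List ℕ) : cw gs 0 = 0 := by
  induction gs with
  | nil => rfl
  | cons g gs ih => simp [cw, ih]

theorem xor4 (p q u v : ℕ) : (p ^^^ q) ^^^ (u ^^^ v) = (p ^^^ u) ^^^ (q ^^^ v) := by
  ac_rfl

theorem cw_xor (gs : List ℕ) (a b : ℕ) : cw gs (a ^^^ b) = cw gs a ^^^ cw gs b := by
  induction gs with
  | nil => simp [cw]
  | cons g gs ih =>
    simp only [cw, ih, Nat.testBit_xor]
    rw [xor4]
    congr 1
    cases a.testBit gs.length <;> cases b.testBit gs.length <;> simp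

/-! ### bit planes -/

/-- the `j`-th bit plane of all codewords (continuation passing: plane, all-ones pattern, size) -/
def planeK (j : ℕ) : List ℕ → (ℕ → ℕ → ℕ → Bool) → Bool
  | [], k => k 0 1 1
  | g :: gs, k => planeK j gs fun X one s =>
      force (cat s X (if g.testBit j then X ^^^ one else X)) fun X' =>
      force (cat s one one) fun one' => force (s + s) fun s' => k X' one' s'

theorem planeK_spec (j : ℕ) (gs : List ℕ) (k : ℕ → ℕ → ℕ → Bool) (h : planeK j gs k = true) :
    ∃ X : ℕ, X < 2 ^ (2 ^ gs.length) ∧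
      (∀ a < 2 ^ gs.length, X.testBit a = (cw gs a).testBit j) ∧
      k X (2 ^ (2 ^ gs.length) - 1) (2 ^ gs.length) = true := by
  induction gs generalizing k with
  | nil =>
    refine ⟨0, by norm_num, ?_, by simpa [planeK] using h⟩
    intro a ha
    simp [cw]
  | cons g gs ih =>
    simp only [planeK] at h
    obtain ⟨X, hX, hXb, hk⟩ := ih _ h
    rw [force_eq, force_eq, force_eq] at hk
    set n := gs.length with hn
    set s := 2 ^ n with hs
    have hone : 2 ^ s - 1 < 2 ^ s := Nat.sub_lt (by positivity) (by norm_num)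
    have hss : s + s = 2 ^ (g :: gs).length := by
      rw [List.length_cons, pow_succ, ← hn, ← hs]; ring
    have hY : (if g.testBit j then X ^^^ (2 ^ s - 1) else X) < 2 ^ s := by
      split_ifs
      · exact Nat.xor_lt_two_pow hX hone
      · exact hX
    refine ⟨cat s X (if g.testBit j then X ^^^ (2 ^ s - 1) else X), ?_, ?_, ?_⟩
    · rw [← hss]; exact cat_lt hX hY
    · intro a ha
      rw [← hss] at ha
      by_cases hlo : a < s
      · rw [testBit_cat_lo hlo, hXb a hlo, cw_lo g gs hlo]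
      · obtain ⟨b, rfl⟩ : ∃ b, a = s + b := ⟨a - s, by omega⟩
        have hb : b < s := by omega
        rw [testBit_cat_hi hX, cw_hi g gs hb, Nat.testBit_xor]
        by_cases hg : g.testBit j = true
        · rw [if_pos hg, Nat.testBit_xor, hXb b hb, Nat.testBit_two_pow_sub_one, hg]
          simp [hb]
        · rw [if_neg hg, hXb b hb]
          simp only [Bool.not_eq_true] at hg
          rw [hg]; simp
    · rw [← hss, ← cat_ones]
      exact hk

/-! ### the bit-sliced counter -/

/-- the value of a 6-bit number -/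
def valB (c0 c1 c2 c3 c4 c5 : Bool) : ℕ :=
  c0.toNat + 2 * c1.toNat + 4 * c2.toNat + 8 * c3.toNat + 16 * c4.toNat + 32 * c5.toNat

theorem valB_add : ∀ c0 c1 c2 c3 c4 c5 b : Bool,
    valB (xor c0 b) (xor c1 (c0 && b)) (xor c2 (c1 && (c0 && b)))
      (xor c3 (c2 && (c1 && (c0 && b)))) (xor c4 (c3 && (c2 && (c1 && (c0 && b)))))
      (xor c5 (c4 && (c3 && (c2 && (c1 && (c0 && b)))))) =
      (valB c0 c1 c2 c3 c4 c5 + b.toNat) % 64 := by decide

theorem le_valB : ∀ c0 c1 c2 c3 c4 c5 : Bool, (c4 || c5) = true → 16 ≤ valB c0 c1 c2 c3 c4 c5 := by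
  decide

/-- add the bit plane `b` to the counter planes -/
def addK (b c0 c1 c2 c3 c4 c5 : ℕ) (k : ℕ → ℕ → ℕ → ℕ → ℕ → ℕ → Bool) : Bool :=
  force (c0 ^^^ b) fun d0 => force (c0 &&& b) fun k0 =>
  force (c1 ^^^ k0) fun d1 => force (c1 &&& k0) fun k1 =>
  force (c2 ^^^ k1) fun d2 => force (c2 &&& k1) fun k2 =>
  force (c3 ^^^ k2) fun d3 => force (c3 &&& k2) fun k3 =>
  force (c4 ^^^ k3) fun d4 => force (c4 &&& k3) fun k4 =>
  force (c5 ^^^ k4) fun d5 => k d0 d1 d2 d3 d4 d5

theorem addK_eq (b c0 c1 c2 c3 c4 c5 : ℕ) (k : ℕ → ℕ → ℕ → ℕ → ℕ → ℕ → Bool) :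
    addK b c0 c1 c2 c3 c4 c5 k =
      k (c0 ^^^ b) (c1 ^^^ (c0 &&& b)) (c2 ^^^ (c1 &&& (c0 &&& b)))
        (c3 ^^^ (c2 &&& (c1 &&& (c0 &&& b)))) (c4 ^^^ (c3 &&& (c2 &&& (c1 &&& (c0 &&& b)))))
        (c5 ^^^ (c4 &&& (c3 &&& (c2 &&& (c1 &&& (c0 &&& b)))))) := by
  simp only [addK, force_eq]

/-- the number of set bits among the first `j` bits -/
def wt : ℕ → ℕ → ℕ
  | 0, _ => 0
  | j + 1, M => wt j M + (M.testBit j).toNat

theorem wt_le (j M : ℕ) : wt j M ≤ j := by
  induction j with
  | zero => simp [wt]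
  | succ j ih =>
    simp only [wt]
    have : (M.testBit j).toNat ≤ 1 := Bool.toNat_le _
    omega

/-- the counter after the first `j` coordinates -/
def cntK (gs : List ℕ) : ℕ → (ℕ → ℕ → ℕ → ℕ → ℕ → ℕ → Bool) → Bool
  | 0, k => k 0 0 0 0 0 0
  | j + 1, k => cntK gs j fun c0 c1 c2 c3 c4 c5 =>
      planeK j gs fun b _ _ => addK b c0 c1 c2 c3 c4 c5 k

theorem cntK_spec (gs : List ℕ) (j : ℕ) (k : ℕ → ℕ → ℕ → ℕ → ℕ → ℕ → Bool)
    (h : cntK gs j k = true) :
    ∃ c0 c1 c2 c3 c4 c5 : ℕ,
      (∀ a < 2 ^ gs.length, valB (c0.testBit a) (c1.testBit a) (c2.testBit a) (c3.testBit a)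
        (c4.testBit a) (c5.testBit a) = wt j (cw gs a) % 64) ∧
      k c0 c1 c2 c3 c4 c5 = true := by
  induction j generalizing k with
  | zero =>
    refine ⟨0, 0, 0, 0, 0, 0, ?_, by simpa [cntK] using h⟩
    intro a _
    simp [valB, wt]
  | succ j ih =>
    simp only [cntK] at h
    obtain ⟨c0, c1, c2, c3, c4, c5, hval, hk⟩ := ih _ h
    obtain ⟨b, _, hb, hk2⟩ := planeK_spec j gs _ hk
    rw [addK_eq] at hk2
    refine ⟨_, _, _, _, _, _, ?_, hk2⟩
    intro a ha
    simp only [Nat.testBit_xor, Nat.testBit_and]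
    rw [valB_add, hval a ha, hb a ha]
    simp only [wt]
    rw [Nat.add_mod, Nat.mod_mod, ← Nat.add_mod]

/-! ### the final check -/

/-- the final check: every index `a` has weight at least 16 or is listed in `E` -/
def finalK (gs : List ℕ) (E : ℕ) : Bool :=
  cntK gs 56 fun _ _ _ _ c4 c5 => planeK 0 gs fun _ one _ => Nat.beq (c4 ||| c5 ||| E) one

theorem finalK_spec (gs : List ℕ) (E : ℕ) (h : finalK gs E = true) (a : ℕ)
    (ha : a < 2 ^ gs.length) : 16 ≤ wt 56 (cw gs a) ∨ E.testBit a = true := by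
  unfold finalK at h
  obtain ⟨c0, c1, c2, c3, c4, c5, hval, hk⟩ := cntK_spec gs 56 _ h
  obtain ⟨_, _, _, hk2⟩ := planeK_spec 0 gs _ hk
  have heq : c4 ||| c5 ||| E = 2 ^ (2 ^ gs.length) - 1 := Nat.eq_of_beq_eq_true hk2
  have hbit : (c4 ||| c5 ||| E).testBit a = true := by
    rw [heq, Nat.testBit_two_pow_sub_one]
    simpa using ha
  rw [Nat.testBit_or, Nat.testBit_or] at hbit
  by_cases hE : E.testBit a = true
  · exact Or.inr hE
  · left
    have h45 : (c4.testBit a || c5.testBit a) = true := by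
      simp only [Bool.not_eq_true] at hE
      rw [hE, Bool.or_false] at hbit
      exact hbit
    have h1 := le_valB (c0.testBit a) (c1.testBit a) (c2.testBit a) (c3.testBit a) _ _ h45
    rw [hval a ha] at h1
    exact le_trans h1 (Nat.mod_le _ _)

/-! ### the data -/

/-- the parity masks of the 19 odd basis vectors `uB 0 … uB 18` (bit `8n + 2t + e`) -/
def gens : List ℕ := [63494237109389441, 48111420199428226, 22640603993483396, 36360002450538632,
  10232348377915536, 3069382341707936, 50804937564678336, 14450237094494208, 71793274167273728,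
  169585911294464, 14372380511095808, 14541496559599616, 72000790578917376, 67723576910348288,
  24371388204318720, 25068427039997952, 72056494526300160, 280379743272960, 71777214277877760]

/-- the indices of the eight codewords of weight less than 16 -/
def excMask : ℕ :=
  (1 <<< 0) ||| (1 <<< 2176) ||| (1 <<< 2178) ||| (1 <<< 2180) ||| (1 <<< 2181) ||| (1 <<< 2236) |||
    (1 <<< 3904) ||| (1 <<< 522368)

set_option maxRecDepth 100000 in
theorem final_check : finalK gens excMask = true := by decide +kernel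

theorem exc_cases (a : ℕ) (h : excMask.testBit a = true) :
    a = 0 ∨ a = 2176 ∨ a = 2178 ∨ a = 2180 ∨ a = 2181 ∨ a = 2236 ∨ a = 3904 ∨ a = 522368 := by
  unfold excMask at h
  simp only [Nat.testBit_or, Nat.one_shiftLeft, Nat.testBit_two_pow, Bool.or_eq_true,
    decide_eq_true_eq] at h
  omega

theorem cw_exc : cw gens 0 = 0 ∧ cw gens 2176 = 0xFF <<< (8 * 5) ∧ cw gens 2178 = 0xFF <<< (8 * 3) ∧
    cw gens 2180 = 0xFF <<< (8 * 6) ∧ cw gens 2181 = 0xFF <<< (8 * 4) ∧
    cw gens 2236 = 0xFF <<< (8 * 2) ∧ cw gens 3904 = 0xFF <<< (8 * 1) ∧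
    cw gens 522368 = 0xFF <<< (8 * 0) := by decide +kernel

/-- the code generated by the 19 masks: weight 0, at least 16, or one of the seven blocks -/
theorem core (a : ℕ) (ha : a < 2 ^ 19) :
    cw gens a = 0 ∨ 16 ≤ wt 56 (cw gens a) ∨ ∃ n : Fin 7, cw gens a = 0xFF <<< (8 * n.val) := by
  rcases finalK_spec gens excMask final_check a ha with h | h
  · exact Or.inr (Or.inl h)
  · obtain ⟨h0, h1, h2, h3, h4, h5, h6, h7⟩ := cw_exc
    rcases exc_cases a h with rfl | rfl | rfl | rfl | rfl | rfl | rfl | rfl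
    · exact Or.inl h0
    · exact Or.inr (Or.inr ⟨5, h1⟩)
    · exact Or.inr (Or.inr ⟨3, h2⟩)
    · exact Or.inr (Or.inr ⟨6, h3⟩)
    · exact Or.inr (Or.inr ⟨4, h4⟩)
    · exact Or.inr (Or.inr ⟨2, h5⟩)
    · exact Or.inr (Or.inr ⟨1, h6⟩)
    · exact Or.inr (Or.inr ⟨0, h7⟩)

/-! ### the bridge to `oddSet` -/

/-- the position of a real coordinate in the lists of `uTab` -/
def idx (pe : RuIdx × Fin 2) : ℕ := 8 * pe.1.1.val + 2 * pe.1.2.val + pe.2.val

theorem crd_vecOfList (l : List ℤ) (pe : RuIdx × Fin 2) :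
    crd (vecOfList l) pe = l.getD (idx pe) 0 := by
  obtain ⟨p, e⟩ := pe
  fin_cases e
  · simp [crd, vecOfList, idx]
  · simp [crd, vecOfList, idx]

/-- the index of the codeword of a basis vector -/
def aOf (k : ℕ) : ℕ := if k < 19 then 2 ^ (18 - k) else 0

set_option maxRecDepth 100000 in
theorem gens_check : ∀ k : Fin 56, ∀ i : Fin 56,
    decide ((uTab.getD k.val []).getD i.val 0 % 2 = 1) = (cw gens (aOf k.val)).testBit i.val := by
  decide +kernel

theorem idx_lt (pe : RuIdx × Fin 2) : idx pe < 56 := by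
  unfold idx
  have h1 := pe.1.1.isLt
  have h2 := pe.1.2.isLt
  have h3 := pe.2.isLt
  omega

theorem aOf_lt (k : ℕ) : aOf k < 2 ^ 19 := by
  unfold aOf
  split_ifs
  · exact Nat.pow_lt_pow_right (by norm_num) (by omega)
  · positivity

/-- the parity pattern of `x` is a codeword -/
def Good (x : RuVec) : Prop :=
  ∃ a < 2 ^ 19, ∀ pe : RuIdx × Fin 2, crd x pe % 2 = 1 ↔ (cw gens a).testBit (idx pe) = true

theorem good_uB (k : Fin 56) : Good (uB k) := by
  refine ⟨aOf k.val, aOf_lt _, fun pe => ?_⟩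
  have h := gens_check k ⟨idx pe, idx_lt pe⟩
  unfold uB
  rw [crd_vecOfList]
  simp only at h
  rw [← h]
  simp

theorem crd_add (x y : RuVec) (pe : RuIdx × Fin 2) : crd (x + y) pe = crd x pe + crd y pe := by
  unfold crd
  split_ifs <;> simp

theorem crd_neg (x : RuVec) (pe : RuIdx × Fin 2) : crd (-x) pe = - crd x pe := by
  unfold crd
  split_ifs <;> simp

theorem crd_zero (pe : RuIdx × Fin 2) : crd (0 : RuVec) pe = 0 := by
  unfold crd
  split_ifs <;> simp

theorem good_of_mem {x : RuVec} (hx : x ∈ spanU) : Good x := by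
  unfold spanU at hx
  rw [Submodule.span_int_eq_addSubgroupClosure] at hx
  induction hx using AddSubgroup.closure_induction with
  | mem x hx =>
    obtain ⟨k, rfl⟩ := hx
    exact good_uB k
  | zero =>
    refine ⟨0, by positivity, fun pe => ?_⟩
    rw [crd_zero, cw_zero]
    simp
  | add x y _ _ hx hy =>
    obtain ⟨a, ha, hxa⟩ := hx
    obtain ⟨b, hb, hyb⟩ := hy
    refine ⟨a ^^^ b, Nat.xor_lt_two_pow ha hb, fun pe => ?_⟩
    rw [crd_add, cw_xor, Nat.testBit_xor]
    have h1 := hxa pe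
    have h2 := hyb pe
    cases hA : (cw gens a).testBit (idx pe) <;> cases hB : (cw gens b).testBit (idx pe) <;>
      simp only [hA, hB] at h1 h2 ⊢ <;> simp at h1 h2 ⊢ <;> omega
  | neg x _ hx =>
    obtain ⟨a, ha, hxa⟩ := hx
    refine ⟨a, ha, fun pe => ?_⟩
    rw [crd_neg, ← hxa pe]
    omega

/-! ### weights and cardinalities -/

theorem wt_eq_sum (j M : ℕ) : wt j M = ∑ i ∈ Finset.range j, (M.testBit i).toNat := by
  induction j with
  | zero => simp [wt]
  | succ j ih => rw [wt, ih, Finset.sum_range_succ]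

/-- the real coordinates, numbered -/
def idxEquiv : RuIdx × Fin 2 ≃ Fin 56 :=
  (finProdFinEquiv.prodCongr (Equiv.refl (Fin 2))).trans finProdFinEquiv

theorem idxEquiv_val (pe : RuIdx × Fin 2) : (idxEquiv pe).val = idx pe := by
  simp [idxEquiv, idx, finProdFinEquiv]
  omega

theorem sum_idx (f : ℕ → ℕ) :
    ∑ pe : RuIdx × Fin 2, f (idx pe) = ∑ i ∈ Finset.range 56, f i := by
  rw [← Fin.sum_univ_eq_sum_range]
  exact Fintype.sum_equiv idxEquiv _ _ (fun pe => by rw [idxEquiv_val])

theorem card_oddSet_eq {x : RuVec} {M : ℕ}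
    (h : ∀ pe : RuIdx × Fin 2, crd x pe % 2 = 1 ↔ M.testBit (idx pe) = true) :
    (oddSet x).card = wt 56 M := by
  unfold oddSet
  rw [Finset.card_filter, wt_eq_sum, ← sum_idx]
  refine Finset.sum_congr rfl fun pe _ => ?_
  by_cases hb : M.testBit (idx pe) = true
  · rw [if_pos ((h pe).2 hb), hb]; rfl
  · rw [if_neg (fun hc => hb ((h pe).1 hc))]
    simp only [Bool.not_eq_true] at hb
    rw [hb]; rfl

theorem block_bits : ∀ n : Fin 7, ∀ pe : RuIdx × Fin 2,
    (0xFF <<< (8 * n.val)).testBit (idx pe) = decide (pe.1.1 = n) := by decide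

/-- **Keystone 162803 (K-Ru-R3).** -/
theorem oddSet_cases {x : RuVec} (hx : x ∈ spanU) :
    oddSet x = ∅ ∨ 16 ≤ (oddSet x).card ∨ ∃ n : Fin 7, oddSet x = block n := by
  obtain ⟨a, ha, hbits⟩ := good_of_mem hx
  rcases core a ha with h0 | h16 | ⟨n, hn⟩
  · left
    unfold oddSet
    rw [Finset.filter_eq_empty_iff]
    intro pe _
    rw [hbits pe, h0]
    simp
  · right; left
    rw [card_oddSet_eq hbits]
    exact h16
  · right; right
    refine ⟨n, ?_⟩
    ext pe
    unfold oddSet block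
    rw [Finset.mem_filter, Finset.mem_filter, hbits pe, hn, block_bits]
    simp

end Cfsg.Agent.Lib.Helper81.RuL
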