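import Mathlib
import Cfsg.Prelude.Def_JordanBlocks
import Cfsg.Agent.Lib.Helper73.UCDefs
import Cfsg.Agent.Lib.Helper73.SPCDefs

/-!
# Keystone 267604 (K-SPC-B1a, S2676 pack): the Cayley transform `N ↦ N (1 + N/2)⁻¹` turns invariant
alternating forms of `1 + N` into forms with skew-adjoint `N (1 + N/2)⁻¹`
-/

set_option autoImplicit false

namespace Cfsg.Agent.Lib.Helper81.SPC

open Matrix Cfsg.Agent.Lib.Helper73.UC Cfsg.Agent.Lib.Helper73.SPC

variable {F : Type*} [Field F]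

/-- the core equivalence, with an abstract two-sided inverse `Q` of `P = 1 + c • N`, `c + c = 1` -/
theorem b1a_core {ι : Type*} [Fintype ι] [DecidableEq ι] {c : F} (hc : c + c = 1)
    (N Q B : Matrix ι ι F) (hPQ : (1 + c • N) * Q = 1) (hQP : Q * (1 + c • N) = 1) :
    (1 + N)ᵀ * B * (1 + N) = B ↔ (N * Q)ᵀ * B = -(B * (N * Q)) := by
  set P : Matrix ι ι F := 1 + c • N with hP
  have hPT : Pᵀ = 1 + c • Nᵀ := by
    rw [hP, Matrix.transpose_add, Matrix.transpose_one, Matrix.transpose_smul]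
  have hQPT : Pᵀ * Qᵀ = 1 := by rw [← Matrix.transpose_mul, hQP, Matrix.transpose_one]
  have hPQT : Qᵀ * Pᵀ = 1 := by rw [← Matrix.transpose_mul, hPQ, Matrix.transpose_one]
  -- the invariance condition is `Nᵀ B P + Pᵀ B N = 0`
  have hE : (1 + N)ᵀ * B * (1 + N) = B ↔ Nᵀ * B * P + Pᵀ * B * N = 0 := by
    have hl : (1 + N)ᵀ * B * (1 + N) - B = Nᵀ * B + B * N + Nᵀ * B * N := by
      rw [Matrix.transpose_add, Matrix.transpose_one]
      simp only [Matrix.add_mul, Matrix.mul_add, Matrix.one_mul, Matrix.mul_one]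
      abel
    have hr : Nᵀ * B * P + Pᵀ * B * N = Nᵀ * B + B * N + (c + c) • (Nᵀ * B * N) := by
      rw [hPT, hP]
      simp only [Matrix.add_mul, Matrix.mul_add, Matrix.one_mul, Matrix.mul_one, Matrix.smul_mul,
        Matrix.mul_smul]
      module
    have hid : (1 + N)ᵀ * B * (1 + N) - B = Nᵀ * B * P + Pᵀ * B * N := by
      rw [hl, hr, hc, one_smul]
    rw [← hid, sub_eq_zero]
  rw [hE]
  constructor
  · intro h
    have h1 : Nᵀ * B * P = -(Pᵀ * B * N) := eq_neg_of_add_eq_zero_left h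
    calc (N * Q)ᵀ * B = Qᵀ * Nᵀ * B * (P * Q) := by
            rw [hPQ, Matrix.mul_one, Matrix.transpose_mul]
      _ = Qᵀ * (Nᵀ * B * P) * Q := by simp only [Matrix.mul_assoc]
      _ = -((Qᵀ * Pᵀ) * B * N * Q) := by
            rw [h1]
            simp only [Matrix.mul_neg, Matrix.neg_mul, Matrix.mul_assoc]
      _ = -(B * (N * Q)) := by rw [hPQT, Matrix.one_mul, Matrix.mul_assoc]
  · intro h
    have h1 : Nᵀ * B * P = -(Pᵀ * B * N) := by
      calc Nᵀ * B * P = (Pᵀ * Qᵀ) * Nᵀ * B * P := by rw [hQPT, Matrix.one_mul]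
        _ = Pᵀ * ((N * Q)ᵀ * B) * P := by
              rw [Matrix.transpose_mul]
              simp only [Matrix.mul_assoc]
        _ = -(Pᵀ * B * N * (Q * P)) := by
              rw [h]
              simp only [Matrix.mul_neg, Matrix.neg_mul, Matrix.mul_assoc]
        _ = -(Pᵀ * B * N) := by rw [hQP, Matrix.mul_one]
    rw [h1, neg_add_cancel]

/-- **LEAF B1a (267604)** -/
theorem altInv_one_add_eq_altSkew {ι : Type*} [Fintype ι] [DecidableEq ι] (h2 : (2 : F) ≠ 0)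
    (N : Matrix ι ι F) (hN : IsNilpotent N) :
    AltInv (1 + N) = AltSkew (N * (1 + (2 : F)⁻¹ • N)⁻¹) := by
  have hc : (2 : F)⁻¹ + (2 : F)⁻¹ = 1 := by
    field_simp
    norm_num
  have hnil : IsNilpotent ((2 : F)⁻¹ • N) := by
    obtain ⟨n, hn⟩ := hN
    exact ⟨n, by rw [smul_pow, hn, smul_zero]⟩
  have hunit : IsUnit (1 + (2 : F)⁻¹ • N) := hnil.isUnit_one_add
  have hdet : IsUnit (1 + (2 : F)⁻¹ • N).det := (Matrix.isUnit_iff_isUnit_det _).mp hunit
  have hPQ : (1 + (2 : F)⁻¹ • N) * (1 + (2 : F)⁻¹ • N)⁻¹ = 1 := Matrix.mul_nonsing_inv _ hdet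
  have hQP : (1 + (2 : F)⁻¹ • N)⁻¹ * (1 + (2 : F)⁻¹ • N) = 1 := Matrix.nonsing_inv_mul _ hdet
  ext B
  unfold AltInv AltSkew
  simp only [Set.mem_ofPred_eq]
  rw [b1a_core hc N _ B hPQ hQP]

end Cfsg.Agent.Lib.Helper81.SPC
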