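import Mathlib

/-!
# Keystone 267619 (K-SPC-C10, S2676 pack): polynomial square roots of unipotent matrices, char ≠ 2
-/

set_option autoImplicit false

namespace Cfsg.Agent.Lib.Helper81.SPC

open Polynomial

variable {F : Type*} [Field F]

/-- Hensel lifting at the polynomial level: `P² ≡ X mod (X - 1)^(s+1)` is solvable for every `s`. -/
theorem c10_exists_poly (h2 : (2 : F) ≠ 0) (s : ℕ) :
    ∃ P Q : F[X], P * P - X = (X - 1) ^ (s + 1) * Q := by
  induction s with
  | zero =>
    refine ⟨1, -1, ?_⟩
    ring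
  | succ s ih =>
    obtain ⟨P, Q, hPQ⟩ := ih
    -- the value of `P` at `1` squares to `1`
    have ha : P.eval 1 * P.eval 1 = 1 := by
      have := congrArg (Polynomial.eval (1 : F)) hPQ
      simp only [eval_sub, eval_mul, eval_X, eval_pow, eval_one, sub_self, ne_eq,
        Nat.add_eq_zero_iff, one_ne_zero, and_false, not_false_eq_true, zero_pow, zero_mul] at this
      linear_combination this
    set a : F := P.eval 1 with ha_def
    set c : F := -(a / 2) with hc_def
    have hroot : (1 + 2 * C c * P).IsRoot 1 := by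
      rw [IsRoot.def]
      simp only [eval_add, eval_one, eval_mul, eval_C, eval_ofNat]
      rw [← ha_def, hc_def]
      field_simp
      linear_combination (-1 : F) * ha
    obtain ⟨R, hR⟩ := (Polynomial.dvd_iff_isRoot (p := 1 + 2 * C c * P) (a := (1 : F))).mpr hroot
    rw [C_1] at hR
    refine ⟨P + C c * (X - 1) ^ (s + 1) * Q, Q * R + C c * C c * (X - 1) ^ s * Q * Q, ?_⟩
    linear_combination hPQ + (X - 1) ^ (s + 1) * Q * hR

/-- **LEAF C10 (267619)** -/
theorem exists_poly_sqrt {ι : Type*} [Fintype ι] [DecidableEq ι] (h2 : (2 : F) ≠ 0)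
    (h : Matrix ι ι F) (hn : IsNilpotent (h - 1)) :
    ∃ P : Polynomial F, Polynomial.aeval h P * Polynomial.aeval h P = h := by
  obtain ⟨n, hn⟩ := hn
  have hn' : (h - 1) ^ (n + 1) = 0 := by rw [pow_succ, hn, zero_mul]
  obtain ⟨P, Q, hPQ⟩ := c10_exists_poly h2 n
  refine ⟨P, ?_⟩
  have := congrArg (Polynomial.aeval h) hPQ
  simp only [map_sub, map_mul, aeval_X, map_pow, map_one] at this
  rw [hn', zero_mul] at this
  exact sub_eq_zero.mp this

end Cfsg.Agent.Lib.Helper81.SPC
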