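import Cfsg.Agent.Lib.Helper81.StSUF3Le

/-!
# K-StSU leaf F3Lo (keystone 254611): the rank one identity for the last simple root, `n` odd
(the `SU_3` computation)
-/

set_option autoImplicit false
set_option linter.unusedSectionVars false
set_option linter.unusedVariables false
set_option linter.unusedSimpArgs false

namespace Cfsg.Agent.Lib.Helper81.StSU

open Cfsg Cfsg.Agent.Lib.Helper49.StSU Matrix

variable {n : ℕ} {F : Type*} [Field F] {q : ℕ}

/-- `1 + t E_{j0,jm} + s E_{jm,j2} + u E_{j0,j2}` -/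
def uMat (j0 jm j2 : Fin n) (t s u : F) : Matrix (Fin n) (Fin n) F :=
  1 + Matrix.single j0 jm t + Matrix.single jm j2 s + Matrix.single j0 j2 u

theorem uMat_apply (j0 jm j2 : Fin n) (t s u : F) (a b : Fin n) :
    uMat j0 jm j2 t s u a b = (if a = b then 1 else 0) + (if j0 = a ∧ jm = b then t else 0) +
      (if jm = a ∧ j2 = b then s else 0) + (if j0 = a ∧ j2 = b then u else 0) := by
  simp only [uMat, Matrix.add_apply, Matrix.one_apply, Matrix.single_apply]

theorem uMat_zero (j0 jm j2 : Fin n) : uMat j0 jm j2 (0 : F) 0 0 = 1 := by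
  ext a b
  rw [uMat_apply, Matrix.one_apply]
  simp

theorem uMat_mulVec (j0 jm j2 : Fin n) (t s u : F) (w : Fin n → F) :
    uMat j0 jm j2 t s u *ᵥ w =
      w + Pi.single j0 (t * w jm) + Pi.single jm (s * w j2) + Pi.single j0 (u * w j2) := by
  unfold uMat
  rw [Matrix.add_mulVec, Matrix.add_mulVec, Matrix.add_mulVec, Matrix.one_mulVec,
    Matrix.single_mulVec, Matrix.single_mulVec, Matrix.single_mulVec]
  rfl

theorem uMat_eq_mul (j0 jm j2 : Fin n) (h0m : j0 ≠ jm) (h02 : j0 ≠ j2) (t s u : F) :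
    uMat j0 jm j2 t s u =
      transvection j0 jm t * transvection jm j2 s * transvection j0 j2 (u - t * s) := by
  unfold uMat transvection
  simp only [Matrix.add_mul, Matrix.mul_add, Matrix.one_mul, Matrix.mul_one,
    Matrix.single_mul_single_same, Matrix.single_mul_single_of_ne _ _ _ _ h0m.symm,
    Matrix.single_mul_single_of_ne _ _ _ _ h02.symm, add_zero]
  have e : Matrix.single j0 j2 u =
      Matrix.single j0 j2 (t * s) + Matrix.single j0 j2 (u - t * s) := by
    rw [← Matrix.single_add]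
    congr 1
    ring
  rw [e]
  abel

theorem det_uMat (j0 jm j2 : Fin n) (h0m : j0 ≠ jm) (hm2 : jm ≠ j2) (h02 : j0 ≠ j2)
    (t s u : F) : (uMat j0 jm j2 t s u).det = 1 := by
  rw [uMat_eq_mul j0 jm j2 h0m h02, Matrix.det_mul, Matrix.det_mul,
    det_transvection_of_ne _ _ h0m, det_transvection_of_ne _ _ hm2, det_transvection_of_ne _ _ h02,
    mul_one, mul_one]

/-- the value of the form after `uMat` -/
theorem hJ_uMat (ok : Ok n F q) (j0 jm j2 : Fin n) (hr0 : Fin.rev j0 = j2)
    (hrm : Fin.rev jm = jm) (h0m : j0 ≠ jm) (hm2 : jm ≠ j2) (h02 : j0 ≠ j2) (t s u : F)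
    (w v : Fin n → F) :
    hJ n F q (uMat j0 jm j2 t s u *ᵥ w) (uMat j0 jm j2 t s u *ᵥ v) =
      hJ n F q w v + w j2 * (v jm) ^ q * (t ^ q + s) + w jm * (v j2) ^ q * (s ^ q + t) +
        w j2 * (v j2) ^ q * (u ^ q + u + s * s ^ q) := by
  rw [uMat_mulVec, uMat_mulVec]
  simp only [hJ_add_left, hJ_add_right ok, hJ_single_left, hJ_single_right ok, hr0, hrm,
    Pi.add_apply, Pi.single_eq_same, Pi.single_eq_of_ne h02.symm, Pi.single_eq_of_ne hm2.symm,
    Pi.single_eq_of_ne h0m.symm, add_zero, mul_pow]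
  ring

/-- the unitriangular group element with parameters `(t, u)`, `u + u^q + t t^q = 0` -/
def uElt (ok : Ok n F q) (j0 jm j2 : Fin n) (hr0 : Fin.rev j0 = j2) (hrm : Fin.rev jm = jm)
    (h0m : j0 ≠ jm) (hm2 : jm ≠ j2) (h02 : j0 ≠ j2) (t u : F)
    (hrel : u + u ^ q + t * t ^ q = 0) : GJ n F q :=
  ⟨⟨uMat j0 jm j2 t (-(t ^ q)) u, det_uMat j0 jm j2 h0m hm2 h02 _ _ _⟩, by
    intro w v
    show hJ n F q (uMat j0 jm j2 t (-(t ^ q)) u *ᵥ w) (uMat j0 jm j2 t (-(t ^ q)) u *ᵥ v) =
      hJ n F q w v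
    have e1 : (-(t ^ q)) ^ q = -t := by rw [neg_frob ok, ok.frob_frob]
    rw [hJ_uMat ok j0 jm j2 hr0 hrm h0m hm2 h02, e1]
    linear_combination (w j2 * (v j2) ^ q) * hrel⟩

theorem mat_uElt (ok : Ok n F q) (j0 jm j2 : Fin n) (hr0 : Fin.rev j0 = j2)
    (hrm : Fin.rev jm = jm) (h0m : j0 ≠ jm) (hm2 : jm ≠ j2) (h02 : j0 ≠ j2) (t u : F)
    (hrel : u + u ^ q + t * t ^ q = 0) :
    mat (uElt ok j0 jm j2 hr0 hrm h0m hm2 h02 t u hrel) = uMat j0 jm j2 t (-(t ^ q)) u := rfl

theorem sOddMat_apply (i0 im i2 : Fin n) (v0 : i0.val = n / 2 - 1) (vm : im.val = n / 2)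
    (v2 : i2.val = n / 2 + 1) (x y : Fin n) :
    sOddMat n F x y = if (x = i0 ∧ y = i2) ∨ (x = i2 ∧ y = i0) then 1
      else if x = im ∧ y = im then -1
      else if x = y ∧ x ≠ i0 ∧ x ≠ im ∧ x ≠ i2 then 1 else 0 := by
  unfold sOddMat
  simp only [Fin.ext_iff, v0, vm, v2, ne_eq]

theorem sOddMat_mulVec (i0 im i2 : Fin n) (v0 : i0.val = n / 2 - 1) (vm : im.val = n / 2)
    (v2 : i2.val = n / 2 + 1) (h0m : i0 ≠ im) (hm2 : im ≠ i2) (h02 : i0 ≠ i2)
    (z : Fin n → F) (a : Fin n) :
    (sOddMat n F *ᵥ z) a = if a = i0 then z i2 else if a = im then -z im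
      else if a = i2 then z i0 else z a := by
  rw [Matrix.mulVec, dotProduct]
  simp only [sOddMat_apply i0 im i2 v0 vm v2]
  by_cases h0 : a = i0
  · rw [h0]
    simp [h0m, h02]
  · by_cases hm : a = im
    · rw [hm]
      simp [hm2, h0m.symm]
    · by_cases h2 : a = i2
      · rw [h2]
        simp [h02.symm, hm2.symm]
      · simp [h0, hm, h2]

/-- LEAF F3Lo (254611): rank one identity, last simple root, `n` odd -/
theorem rank_one_long_odd (ok : Ok n F q) (hn : 2 ≤ n) (ho : n % 2 = 1) (x : GJ n F q)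
    (hx : x ∈ XL n F q) (hx1 : x ≠ 1) :
    ∃ x' ∈ XL n F q, ∃ h ∈ Tsub n F q, ∃ y ∈ YL n F q,
      sLast n F q * x = x' * h * y := by
  -- the three middle indices
  obtain ⟨i0, v0⟩ : ∃ i0 : Fin n, i0.val = n / 2 - 1 := ⟨⟨n / 2 - 1, by omega⟩, rfl⟩
  obtain ⟨im, vm⟩ : ∃ im : Fin n, im.val = n / 2 := ⟨⟨n / 2, by omega⟩, rfl⟩
  obtain ⟨i2, v2⟩ : ∃ i2 : Fin n, i2.val = n / 2 + 1 := ⟨⟨n / 2 + 1, by omega⟩, rfl⟩
  have hr0 : Fin.rev i0 = i2 := by
    apply Fin.ext
    rw [Fin.val_rev, v0, v2]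
    omega
  have hrm : Fin.rev im = im := by
    apply Fin.ext
    rw [Fin.val_rev, vm]
    omega
  have hr2 : Fin.rev i2 = i0 := by rw [← hr0, Fin.rev_rev]
  have h0m : i0 ≠ im := by
    intro h
    have := congrArg Fin.val h
    rw [v0, vm] at this
    omega
  have hm2 : im ≠ i2 := by
    intro h
    have := congrArg Fin.val h
    rw [vm, v2] at this
    omega
  have h02 : i0 ≠ i2 := by
    intro h
    have := congrArg Fin.val h
    rw [v0, v2] at this
    omega
  -- the matrix of `x`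
  have hout : ∀ a b : Fin n, ¬(a = i0 ∧ b = im) → ¬(a = im ∧ b = i2) → ¬(a = i0 ∧ b = i2) →
      mat x a b = (1 : Matrix (Fin n) (Fin n) F) a b := by
    intro a b h1 h2 h3
    apply hx
    intro hA
    have e0 : a = i0 ↔ a.val = n / 2 - 1 := by rw [Fin.ext_iff, v0]
    have em : a = im ↔ a.val = n / 2 := by rw [Fin.ext_iff, vm]
    have fm : b = im ↔ b.val = n / 2 := by rw [Fin.ext_iff, vm]
    have f2 : b = i2 ↔ b.val = n / 2 + 1 := by rw [Fin.ext_iff, v2]
    rw [e0, fm] at h1
    rw [em, f2] at h2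
    rw [e0, f2] at h3
    omega
  obtain ⟨t, s, u, hXmat⟩ : ∃ t s u : F, mat x = uMat i0 im i2 t s u := by
    refine ⟨mat x i0 im, mat x im i2, mat x i0 i2, ?_⟩
    ext a b
    rw [uMat_apply]
    by_cases c1 : a = i0 ∧ b = im
    · rw [c1.1, c1.2]
      simp [h0m, hm2, h02, h0m.symm, hm2.symm, h02.symm]
    · by_cases c2 : a = im ∧ b = i2
      · rw [c2.1, c2.2]
        simp [h0m, hm2, h02, h0m.symm, hm2.symm, h02.symm]
      · by_cases c3 : a = i0 ∧ b = i2
        · rw [c3.1, c3.2]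
          simp [h0m, hm2, h02, h0m.symm, hm2.symm, h02.symm]
        · have c1' : ¬(i0 = a ∧ im = b) := fun h => c1 ⟨h.1.symm, h.2.symm⟩
          have c2' : ¬(im = a ∧ i2 = b) := fun h => c2 ⟨h.1.symm, h.2.symm⟩
          have c3' : ¬(i0 = a ∧ i2 = b) := fun h => c3 ⟨h.1.symm, h.2.symm⟩
          rw [hout a b c1 c2 c3, Matrix.one_apply, if_neg c1', if_neg c2', if_neg c3', add_zero,
            add_zero, add_zero]
  -- unitarity of `x`
  have hextra : ∀ w v : Fin n → F, w i2 * (v im) ^ q * (t ^ q + s) +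
      w im * (v i2) ^ q * (s ^ q + t) + w i2 * (v i2) ^ q * (u ^ q + u + s * s ^ q) = 0 := by
    intro w v
    have h1 := hJ_mat x w v
    rw [hXmat, hJ_uMat ok i0 im i2 hr0 hrm h0m hm2 h02] at h1
    linear_combination h1
  have hs : s = -(t ^ q) := by
    have h := hextra (Pi.single i2 1) (Pi.single im 1)
    simp only [Pi.single_eq_same, Pi.single_eq_of_ne hm2, Pi.single_eq_of_ne hm2.symm, one_pow,
      zero_frob ok, mul_zero, zero_mul, mul_one, one_mul, add_zero] at h
    exact eq_neg_of_add_eq_zero_right h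
  have hrel : u + u ^ q + t * t ^ q = 0 := by
    have h := hextra (Pi.single i2 1) (Pi.single i2 1)
    simp only [Pi.single_eq_same, Pi.single_eq_of_ne hm2, Pi.single_eq_of_ne hm2.symm, one_pow,
      zero_frob ok, mul_zero, zero_mul, mul_one, one_mul, add_zero, zero_add] at h
    rw [hs, neg_frob ok, ok.frob_frob] at h
    linear_combination h
  have hu0 : u ≠ 0 := by
    intro h0
    apply hx1
    apply mat_injective
    have ht : t = 0 := by
      rw [h0, zero_frob ok, zero_add, zero_add] at hrel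
      rcases mul_eq_zero.mp hrel with h | h
      · exact h
      · have := ok.frob_frob t
        rw [h, zero_frob ok] at this
        exact this.symm
    rw [hXmat, hs, ht, h0, zero_frob ok, neg_zero, uMat_zero, mat_one]
  have huq0 : u ^ q ≠ 0 := by
    intro h
    apply hu0
    have := ok.frob_frob u
    rw [h, zero_frob ok] at this
    exact this.symm
  subst hs
  -- parameters of the factors
  have e1 : (-t / u ^ q) ^ q = -(t ^ q) / u := by
    rw [div_pow, neg_frob ok, ok.frob_frob]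
  have e2 : (t / u) ^ q = t ^ q / u ^ q := by rw [div_pow]
  have e3 : (u⁻¹) ^ q = (u ^ q)⁻¹ := by rw [inv_pow]
  have hrel1 : u⁻¹ + (u⁻¹) ^ q + (-t / u ^ q) * (-t / u ^ q) ^ q = 0 := by
    rw [e1, e3]
    field_simp
    linear_combination hrel
  have hrel2 : u⁻¹ + (u⁻¹) ^ q + (t / u) * (t / u) ^ q = 0 := by
    rw [e2, e3]
    field_simp
    linear_combination hrel
  -- the matrix of `sLast`
  have hS : mat (sLast n F q) = sOddMat n F := by
    rw [ok.last hn]
    unfold sLastMat
    rw [if_neg (by omega)]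
  set x' : GJ n F q := uElt ok i0 im i2 hr0 hrm h0m hm2 h02 (-t / u ^ q) u⁻¹ hrel1 with hx'
  set y : GJ n F q := uElt ok i2 im i0 hr2 hrm hm2.symm h0m.symm h02.symm (t / u) u⁻¹ hrel2 with hy
  have hx'mat : mat x' = uMat i0 im i2 (-t / u ^ q) (t ^ q / u) u⁻¹ := by
    rw [hx', mat_uElt, e1]
    congr 1
    ring
  have hymat : mat y = uMat i2 im i0 (t / u) (-(t ^ q / u ^ q)) u⁻¹ := by
    rw [hy, mat_uElt, e2]
  -- the diagonal part
  let d : Fin n → F := fun c => if c = i0 then (u ^ q)⁻¹ else if c = im then u ^ q / u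
    else if c = i2 then u else 1
  have hD : mat (sLast n F q) * mat x = mat x' * Matrix.diagonal d * mat y := by
    rw [Matrix.ext_iff_mulVec]
    intro w
    rw [← Matrix.mulVec_mulVec, ← Matrix.mulVec_mulVec, ← Matrix.mulVec_mulVec, hS, hXmat,
      hx'mat, hymat]
    funext a
    rw [sOddMat_mulVec i0 im i2 v0 vm v2 h0m hm2 h02]
    simp only [uMat_mulVec, Pi.add_apply, Matrix.mulVec_diagonal, d]
    by_cases a0 : a = i0
    · rw [a0]
      simp only [if_true, Pi.single_eq_same, Pi.single_eq_of_ne h0m, Pi.single_eq_of_ne h0m.symm,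
        Pi.single_eq_of_ne h02, Pi.single_eq_of_ne h02.symm, Pi.single_eq_of_ne hm2,
        Pi.single_eq_of_ne hm2.symm, if_neg h0m.symm, if_neg h02.symm, if_neg hm2,
        if_neg hm2.symm, if_neg h0m, if_neg h02, add_zero, zero_add]
      field_simp
      linear_combination (-(w i0)) * hrel
    · by_cases am : a = im
      · rw [am]
        simp only [if_true, Pi.single_eq_same, Pi.single_eq_of_ne h0m, Pi.single_eq_of_ne h0m.symm,
          Pi.single_eq_of_ne h02, Pi.single_eq_of_ne h02.symm, Pi.single_eq_of_ne hm2,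
          Pi.single_eq_of_ne hm2.symm, if_neg h0m.symm, if_neg h02.symm, if_neg hm2,
          if_neg hm2.symm, if_neg h0m, if_neg h02, add_zero, zero_add]
        field_simp
        linear_combination (-(w im)) * hrel
      · by_cases a2 : a = i2
        · rw [a2]
          simp only [if_true, Pi.single_eq_same, Pi.single_eq_of_ne h0m,
            Pi.single_eq_of_ne h0m.symm, Pi.single_eq_of_ne h02, Pi.single_eq_of_ne h02.symm,
            Pi.single_eq_of_ne hm2, Pi.single_eq_of_ne hm2.symm, if_neg h0m.symm,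
            if_neg h02.symm, if_neg hm2, if_neg hm2.symm, if_neg h0m, if_neg h02, add_zero,
            zero_add]
          field_simp
          ring
        · simp only [if_neg a0, if_neg am, if_neg a2, Pi.single_eq_of_ne a0,
            Pi.single_eq_of_ne am, Pi.single_eq_of_ne a2, add_zero, one_mul]
  refine ⟨x', ?_, x'⁻¹ * (sLast n F q * x) * y⁻¹, ?_, y, ?_, by group⟩
  · -- `x' ∈ XL`
    intro a b hA
    have c1 : ¬(i0 = a ∧ im = b) := by
      intro h
      apply hA
      rw [← h.1, ← h.2, v0, vm]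
      omega
    have c2 : ¬(im = a ∧ i2 = b) := by
      intro h
      apply hA
      rw [← h.1, ← h.2, vm, v2]
      omega
    have c3 : ¬(i0 = a ∧ i2 = b) := by
      intro h
      apply hA
      rw [← h.1, ← h.2, v0, v2]
      omega
    rw [hx'mat, uMat_apply, Matrix.one_apply, if_neg c1, if_neg c2, if_neg c3, add_zero, add_zero,
      add_zero]
  · -- `h ∈ T`
    rw [mem_Tsub_iff]
    intro a b hab
    have hmat : mat (x'⁻¹ * (sLast n F q * x) * y⁻¹) = Matrix.diagonal d := by
      rw [mat_mul, mat_mul, mat_mul, hD]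
      calc mat x'⁻¹ * (mat x' * Matrix.diagonal d * mat y) * mat y⁻¹
          = (mat x'⁻¹ * mat x') * Matrix.diagonal d * (mat y * mat y⁻¹) := by
            simp only [Matrix.mul_assoc]
        _ = Matrix.diagonal d := by
            rw [mat_inv_mul, mat_mul_inv, Matrix.one_mul, Matrix.mul_one]
    rw [hmat, Matrix.diagonal_apply_ne _ hab]
  · -- `y ∈ YL`
    intro a b hA
    have c1 : ¬(i2 = a ∧ im = b) := by
      intro h
      apply hA
      rw [← h.1, ← h.2, v2, vm]
      omega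
    have c2 : ¬(im = a ∧ i0 = b) := by
      intro h
      apply hA
      rw [← h.1, ← h.2, vm, v0]
      omega
    have c3 : ¬(i2 = a ∧ i0 = b) := by
      intro h
      apply hA
      rw [← h.1, ← h.2, v2, v0]
      omega
    rw [hymat, uMat_apply, Matrix.one_apply, if_neg c1, if_neg c2, if_neg c3, add_zero, add_zero,
      add_zero]

end Cfsg.Agent.Lib.Helper81.StSU
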