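import Mathlib
import Cfsg.Prelude.Def_Transfer
import Cfsg.Agent.Lib.Helper40.T1904Defs
import Cfsg.Agent.Lib.Helper03.PGroupNormal

/-!
# S1904, keystone K6a (`xs_card`): the extraspecial case, structure and order bound
-/

set_option autoImplicit false

namespace Cfsg.Agent.Lib.Helper81.T1904

open Cfsg.Agent.Lib.Helper40.T1904
open scoped commutatorElement

universe u_1

variable {X : Type u_1} [Group X]

/-- A homomorphism into a group of order two has a kernel of index at most two. -/
theorem card_le_two_mul_ker {H : Type*} [Group H] [Finite H] {C : Type*} [Group C] [Finite C]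
    (hC : Nat.card C = 2) (f : H →* C) : Nat.card H ≤ 2 * Nat.card f.ker := by
  have h1 := Subgroup.card_mul_index f.ker
  rw [Subgroup.index_ker] at h1
  have h2 : Nat.card f.range ≤ 2 := hC ▸ Subgroup.card_le_card_group f.range
  calc Nat.card H = Nat.card f.ker * Nat.card f.range := h1.symm
    _ ≤ Nat.card f.ker * 2 := Nat.mul_le_mul_left _ h2
    _ = 2 * Nat.card f.ker := Nat.mul_comm _ _

/-- Commutators with a fixed element are multiplicative in the second variable when central. -/
theorem comm_mul_of_central {m x y : X} (hc : ⁅m, y⁆ ∈ Subgroup.center X) :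
    ⁅m, x * y⁆ = ⁅m, x⁆ * ⁅m, y⁆ := by
  have hc' := Subgroup.mem_center_iff.mp hc
  have h1 : ⁅m, x * y⁆ = m * x * m⁻¹ * ⁅m, y⁆ * x⁻¹ := by
    simp only [commutatorElement_def]; group
  rw [h1, mul_assoc, ← hc' x⁻¹, ← mul_assoc, commutatorElement_def m x]

/-- `|H| ≤ 2 |K|` whenever `K` contains the centralizer of `m` in `H`. -/
theorem card_le_two_mul_of_cent [Finite X] (hea : EAmodZ X)
    (hZ : Nat.card (Subgroup.center X) = 2) (H K : Subgroup X) (m : X)
    (hK : ∀ x ∈ H, x * m = m * x → x ∈ K) : Nat.card H ≤ 2 * Nat.card K := by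
  let f : H →* Subgroup.center X :=
    MonoidHom.mk' (fun x => ⟨⁅m, (x : X)⁆, hea.2 m x⟩) (by
      intro a b
      apply Subtype.ext
      simp only [Subgroup.coe_mul]
      exact comm_mul_of_central (hea.2 m b))
  have h1 := card_le_two_mul_ker hZ f
  have hmem : ∀ k : f.ker, ((k : H) : X) ∈ K := by
    intro k
    have h2 := k.2
    rw [MonoidHom.mem_ker] at h2
    have h3 : ⁅m, ((k : H) : X)⁆ = 1 := congrArg Subtype.val h2
    rw [commutatorElement_eq_one_iff_mul_comm] at h3
    exact hK _ (k : H).2 h3.symm
  have h2 : Nat.card f.ker ≤ Nat.card K := by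
    apply Nat.card_le_card_of_injective (fun k : f.ker => (⟨((k : H) : X), hmem k⟩ : K))
    intro a b hab
    have : ((a : H) : X) = ((b : H) : X) := by
      have h3 := congrArg Subtype.val hab
      exact h3
    exact Subtype.ext (Subtype.ext this)
  omega

/-- An abelian subgroup has at most twice as many elements as elements of square one. -/
theorem card_le_two_mul_sq [Finite X] (hea : EAmodZ X)
    (hZ : Nat.card (Subgroup.center X) = 2) (N : Subgroup X) (hN : Ab N) :
    Nat.card N ≤ 2 * Nat.card {t : X // t ∈ N ∧ t * t = 1} := by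
  let f : N →* Subgroup.center X :=
    MonoidHom.mk' (fun n => ⟨(n : X) * n, hea.1 n⟩) (by
      intro a b
      apply Subtype.ext
      simp only [Subgroup.coe_mul]
      have hab : (a : X) * b = b * a := hN a a.2 b b.2
      calc (a : X) * b * (a * b) = a * (b * a) * b := by simp only [mul_assoc]
        _ = a * (a * b) * b := by rw [← hab]
        _ = (a : X) * a * (b * b) := by simp only [mul_assoc])
  have h1 := card_le_two_mul_ker hZ f
  have hmem : ∀ k : f.ker, ((k : N) : X) ∈ N ∧ ((k : N) : X) * ((k : N) : X) = 1 := by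
    intro k
    have h2 := k.2
    rw [MonoidHom.mem_ker] at h2
    exact ⟨(k : N).2, congrArg Subtype.val h2⟩
  have h2 : Nat.card f.ker ≤ Nat.card {t : X // t ∈ N ∧ t * t = 1} := by
    apply Nat.card_le_card_of_injective
      (fun k : f.ker => (⟨((k : N) : X), hmem k⟩ : {t : X // t ∈ N ∧ t * t = 1}))
    intro a b hab
    have : ((a : N) : X) = ((b : N) : X) := by
      have h3 := congrArg Subtype.val hab
      exact h3
    exact Subtype.ext (Subtype.ext this)
  omega

/-- A subgroup containing the centre is normal (commutators are central). -/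
theorem normal_of_center_le (hea : EAmodZ X) (N : Subgroup X)
    (hZN : Subgroup.center X ≤ N) : N.Normal :=
  ⟨fun n hn g => by
    have h1 : g * n * g⁻¹ = ⁅g, n⁆ * n := by simp [commutatorElement_def]
    rw [h1]
    exact N.mul_mem (hZN (hea.2 g n)) hn⟩

/-- Abelian subgroups containing the centre have order at most eight. -/
theorem card_le_eight [Finite X] {A : Subgroup (MulAut X)} (h : Ctx X A) (hea : EAmodZ X)
    (hZ : Nat.card (Subgroup.center X) = 2) (N : Subgroup X)
    (hZN : Subgroup.center X ≤ N) (hN : Ab N) : Nat.card N ≤ 8 := by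
  have h1 := card_le_two_mul_sq hea hZ N hN
  have h2 := h.hR N (normal_of_center_le hea N hZN) hN
  omega

/-- A proper inclusion of finite subgroups at least doubles the order. -/
theorem two_mul_card_le_of_lt [Finite X] {H K : Subgroup X} (hle : H ≤ K) (x : X)
    (hxK : x ∈ K) (hxH : x ∉ H) : 2 * Nat.card H ≤ Nat.card K := by
  obtain ⟨r, hr⟩ := Subgroup.card_dvd_of_le hle
  have hKpos : 0 < Nat.card K := Nat.card_pos
  have hHpos : 0 < Nat.card H := Nat.card_pos
  rcases r with _ | _ | r
  · simp at hr; omega
  · exfalso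
    have h1 : H = K := Subgroup.eq_of_le_of_card_ge hle (by omega)
    exact hxH (h1 ▸ hxK)
  · rw [hr]; nlinarith

/-- The closure of a pairwise commuting set is abelian. -/
theorem ab_closure {S : Set X} (hS : ∀ a ∈ S, ∀ b ∈ S, a * b = b * a) :
    Ab (Subgroup.closure S) := by
  intro a ha b hb
  have h1 := (Subgroup.isMulCommutative_closure hS).is_comm.comm ⟨a, ha⟩ ⟨b, hb⟩
  exact congrArg Subtype.val h1

/-- An abelian subgroup containing the centre is generated by the centre and two elements. -/
theorem exists_two_gens [Finite X] {A : Subgroup (MulAut X)} (h : Ctx X A) (hea : EAmodZ X)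
    (hZ : Nat.card (Subgroup.center X) = 2) (M : Subgroup X)
    (hZM : Subgroup.center X ≤ M) (hM : Ab M) :
    ∃ m1 ∈ M, ∃ m2 ∈ M,
      M ≤ Subgroup.closure ((Subgroup.center X : Set X) ∪ {m1, m2}) := by
  by_contra hno
  have hstep : ∀ m1 ∈ M, ∀ m2 ∈ M,
      ∃ m ∈ M, m ∉ Subgroup.closure ((Subgroup.center X : Set X) ∪ {m1, m2}) := by
    intro m1 h1 m2 h2
    by_contra hc
    apply hno
    refine ⟨m1, h1, m2, h2, fun m hm => ?_⟩
    by_contra hm'
    exact hc ⟨m, hm, hm'⟩
  have hsub : ∀ a b : X, a ∈ M → b ∈ M →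
      Subgroup.closure ((Subgroup.center X : Set X) ∪ {a, b}) ≤ M := by
    intro a b ha hb
    rw [Subgroup.closure_le]
    rintro g (hg | hg)
    · exact hZM hg
    · rcases hg with rfl | hg
      · exact ha
      · rw [Set.mem_singleton_iff] at hg; rw [hg]; exact hb
  have hK0 : 2 ≤ Nat.card (Subgroup.closure ((Subgroup.center X : Set X) ∪ {1, 1})) := by
    have h1 : Subgroup.center X ≤ Subgroup.closure ((Subgroup.center X : Set X) ∪ {1, 1}) :=
      fun z hz => Subgroup.subset_closure (Or.inl hz)
    have h2 := Subgroup.card_le_of_le h1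
    omega
  obtain ⟨m1, hm1M, hm1⟩ := hstep 1 M.one_mem 1 M.one_mem
  have hK01 : Subgroup.closure ((Subgroup.center X : Set X) ∪ {1, 1}) ≤
      Subgroup.closure ((Subgroup.center X : Set X) ∪ {m1, 1}) := by
    rw [Subgroup.closure_le]
    rintro g (hg | hg)
    · exact Subgroup.subset_closure (Or.inl hg)
    · have : g = 1 := by rcases hg with rfl | hg
                         · rfl
                         · exact hg
      rw [this]; exact Subgroup.one_mem _
  have hK1 := two_mul_card_le_of_lt hK01 m1
    (Subgroup.subset_closure (Or.inr (Set.mem_insert _ _))) hm1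
  obtain ⟨m2, hm2M, hm2⟩ := hstep m1 hm1M 1 M.one_mem
  have hK12 : Subgroup.closure ((Subgroup.center X : Set X) ∪ {m1, 1}) ≤
      Subgroup.closure ((Subgroup.center X : Set X) ∪ {m1, m2}) := by
    rw [Subgroup.closure_le]
    rintro g (hg | hg)
    · exact Subgroup.subset_closure (Or.inl hg)
    · rcases hg with rfl | hg
      · exact Subgroup.subset_closure (Or.inr (Set.mem_insert _ _))
      · rw [Set.mem_singleton_iff] at hg; rw [hg]; exact Subgroup.one_mem _
  have hK2 := two_mul_card_le_of_lt hK12 m2
    (Subgroup.subset_closure (Or.inr (Set.mem_insert_of_mem _ (Set.mem_singleton _)))) hm2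
  obtain ⟨m3, hm3M, hm3⟩ := hstep m1 hm1M m2 hm2M
  have hK3 := two_mul_card_le_of_lt (hsub m1 m2 hm1M hm2M) m3 hm3M hm3
  have h8 := card_le_eight h hea hZ M hZM hM
  omega

/-- K6a.  The extraspecial case: structure and order bound. -/
theorem xs_card [Finite X] {A : Subgroup (MulAut X)} (h : Ctx X A)
    (hna : ¬ IsMulCommutative X) (hea : EAmodZ X) (hZ : Nat.card (Subgroup.center X) = 2) :
    Cfsg.IsExtraspecial 2 X ∧ (Nat.card X = 8 ∨ Nat.card X = 16 ∨ Nat.card X = 32) := by
  have hp2 : Fact (Nat.Prime 2) := ⟨Nat.prime_two⟩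
  -- the derived subgroup is the centre
  have hcomle : commutator X ≤ Subgroup.center X := by
    rw [commutator_def, Subgroup.commutator_le]
    intro a _ b _
    exact hea.2 a b
  have hcomne : commutator X ≠ ⊥ := by
    intro hbot
    apply hna
    refine ⟨⟨fun a b => ?_⟩⟩
    have h1 : ⁅a, b⁆ ∈ commutator X := by
      rw [commutator_def]
      exact Subgroup.commutator_mem_commutator (Subgroup.mem_top a) (Subgroup.mem_top b)
    rw [hbot, Subgroup.mem_bot, commutatorElement_eq_one_iff_mul_comm] at h1
    exact h1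
  have hcom : commutator X = Subgroup.center X := by
    apply Subgroup.eq_of_le_of_card_ge hcomle
    rw [hZ]
    exact (Subgroup.one_lt_card_iff_ne_bot _).mpr hcomne
  -- the Frattini subgroup is the centre
  have hfrat : frattini X = Subgroup.center X := by
    apply le_antisymm
    · apply Cfsg.Agent.Lib.Helper03.frattini_le_of_elementary_abelian_quotient (p := 2)
        (Subgroup.center X)
      · intro x; rw [pow_two]; exact hea.1 x
      · exact hcomle
    · rw [← hcom]
      exact Cfsg.Agent.Lib.Helper03.commutator_le_frattini_of_isPGroup h.h2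
  refine ⟨⟨⟨h.h2, hfrat, hcom⟩, hZ⟩, ?_⟩
  -- the order bound
  have hZab : Ab (Subgroup.center X) := fun a ha b _ => (Subgroup.mem_center_iff.mp ha b).symm
  obtain ⟨M, hZM, hMmax⟩ := Finite.exists_le_maximal
    (p := fun B : Subgroup X => Ab B) (a := Subgroup.center X) hZab
  have hMab : Ab M := hMmax.prop
  have hself : ∀ x : X, (∀ m ∈ M, x * m = m * x) → x ∈ M := by
    intro x hx
    have hNab : Ab (Subgroup.closure ((M : Set X) ∪ {x})) := by
      apply ab_closure
      rintro a (ha | ha) b (hb | hb)
      · exact hMab a ha b hb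
      · rw [Set.mem_singleton_iff] at hb; rw [hb]; exact (hx a ha).symm
      · rw [Set.mem_singleton_iff] at ha; rw [ha]; exact hx b hb
      · rw [Set.mem_singleton_iff] at ha hb; rw [ha, hb]
    have hMN : M ≤ Subgroup.closure ((M : Set X) ∪ {x}) :=
      fun m hm => Subgroup.subset_closure (Or.inl hm)
    exact hMmax.le_of_ge hNab hMN (Subgroup.subset_closure (Or.inr rfl))
  obtain ⟨m1, hm1, m2, hm2, hgen⟩ := exists_two_gens h hea hZ M hZM hMab
  have hcent : ∀ x : X, x * m1 = m1 * x → x * m2 = m2 * x → x ∈ M := by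
    intro x h1 h2
    apply hself
    intro m hm
    have hle : Subgroup.closure ((Subgroup.center X : Set X) ∪ {m1, m2}) ≤
        Subgroup.centralizer {x} := by
      rw [Subgroup.closure_le]
      rintro g (hg | hg)
      · rw [SetLike.mem_coe, Subgroup.mem_centralizer_singleton_iff]
        exact (Subgroup.mem_center_iff.mp hg x).symm
      · rw [SetLike.mem_coe, Subgroup.mem_centralizer_singleton_iff]
        rcases hg with rfl | hg
        · exact h1.symm
        · rw [Set.mem_singleton_iff] at hg; rw [hg]; exact h2.symm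
    have h3 := hle (hgen hm)
    rw [Subgroup.mem_centralizer_singleton_iff] at h3
    exact h3.symm
  have hX1 : Nat.card (⊤ : Subgroup X) ≤ 2 * Nat.card (Subgroup.centralizer ({m1} : Set X)) :=
    card_le_two_mul_of_cent hea hZ ⊤ _ m1 (fun x _ hx => by
      rw [Subgroup.mem_centralizer_singleton_iff]; exact hx)
  have hX2 : Nat.card (Subgroup.centralizer ({m1} : Set X)) ≤ 2 * Nat.card M :=
    card_le_two_mul_of_cent hea hZ _ M m2 (fun x hx hx2 => by
      rw [Subgroup.mem_centralizer_singleton_iff] at hx
      exact hcent x hx hx2)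
  have hM8 := card_le_eight h hea hZ M hZM hMab
  rw [Subgroup.card_top] at hX1
  have hX32 : Nat.card X ≤ 32 := by omega
  obtain ⟨n, hn⟩ := h.h2.exists_card_eq
  have hn5 : n ≤ 5 := by
    by_contra hc
    have h64 : 2 ^ 6 ≤ 2 ^ n := Nat.pow_le_pow_right (by norm_num) (by omega)
    norm_num at h64
    omega
  have hZX : Nat.card (Subgroup.center X) ≤ Nat.card X := Subgroup.card_le_card_group _
  have hab_of_le : Nat.card X ≤ 2 → False := by
    intro hle
    have htop : Subgroup.center X = ⊤ := Subgroup.eq_top_of_le_card _ (by omega)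
    apply hna
    refine ⟨⟨fun a b => ?_⟩⟩
    have ha : a ∈ Subgroup.center X := htop ▸ Subgroup.mem_top a
    exact (Subgroup.mem_center_iff.mp ha b).symm
  interval_cases n
  · exact (hab_of_le (by omega)).elim
  · exact (hab_of_le (by omega)).elim
  · exfalso
    apply hna
    exact IsPGroup.isMulCommutative_of_card_eq_prime_sq (p := 2) hn
  · left; rw [hn]; norm_num
  · right; left; rw [hn]; norm_num
  · right; right; rw [hn]; norm_num

end Cfsg.Agent.Lib.Helper81.T1904
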